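import Groth.Agent.Lib.FlatCA.FibreAss
import Groth.Agent.H19.FlatLocus.Basic
import Mathlib.RingTheory.Ideal.GoingUp
import Mathlib.RingTheory.Unramified.Finite
import Mathlib.RingTheory.Unramified.Field

/-!
# Socle points and regular points of fibre modules, and their transfer along a dévissage
-/

set_option autoImplicit false
set_option linter.style.haveILetI false

universe u

open scoped TensorProduct

attribute [local instance] Algebra.TensorProduct.rightAlgebra

namespace Groth.Agent.Lib.RG.FibrePoint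

section Notions

variable {R S : Type u} [CommRing R] [CommRing S] [Algebra R S] (p : Ideal R) [p.IsPrime]
  (q : Ideal S) (N : Type u) [AddCommGroup N] [Module S N] [Module R N] [IsScalarTower R S N]

/-- Some element of the prime is regular on the fibre module at the prime. -/
def NzdAt : Prop :=
  ∃ g ∈ q, ∀ z : N ⊗[R] p.ResidueField, g • z = 0 → ∃ w ∉ q, w • z = 0

/-- The fibre module has a nonzero element at the prime killed there by the prime. -/
def SocAt : Prop :=
  ∃ ξ : N ⊗[R] p.ResidueField, (∀ d ∈ q, ∃ w ∉ q, w • d • ξ = 0) ∧ ∀ w ∉ q, w • ξ ≠ 0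

/-- Every element of the fibre module vanishes at the prime. -/
def ZeroAt : Prop :=
  ∀ z : N ⊗[R] p.ResidueField, ∃ w ∉ q, w • z = 0

variable {p q N}

theorem not_nzdAt_of_socAt [q.IsPrime] (h : SocAt p q N) : ¬ NzdAt p q N := by
  rintro ⟨g, hg, hreg⟩
  obtain ⟨ξ, hξ, hne⟩ := h
  obtain ⟨w, hw, hwξ⟩ := hξ g hg
  obtain ⟨w', hw', hw'ξ⟩ := hreg (w • ξ) (by rw [smul_comm]; exact hwξ)
  exact hne (w' * w) (fun h => (Ideal.IsPrime.mem_or_mem inferInstance h).elim hw' hw) (by rwa [mul_smul])

variable [Algebra.FiniteType R S] [Module.Finite S N] [q.IsPrime] [q.LiesOver p]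

/-- Away from the associated points some element of the prime is regular on the fibre. -/
theorem nzdAt_of_not_assoc
    (hass : _root_.FlatCA.fiberIdeal p q ∉ associatedPrimes (p.Fiber S) (_root_.FlatCA.fiberMod p S N)) :
    NzdAt p q N := by
  classical
  haveI : IsNoetherianRing (p.Fiber S) := Algebra.FiniteType.isNoetherianRing p.ResidueField _
  haveI := (FlatCA.WeakAss.fiberIdeal_prime p q).1
  haveI : Module.Finite (p.Fiber S) (_root_.FlatCA.fiberMod p S N) := Module.Finite.base_change S (p.Fiber S) N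
  let rs := {r ∈ associatedPrimes (p.Fiber S) (_root_.FlatCA.fiberMod p S N) | r ≤ _root_.FlatCA.fiberIdeal p q}
  have hrs : rs.Finite := (associatedPrimes.finite (p.Fiber S) _).subset fun r hr => hr.1
  obtain ⟨g, hgq, hg⟩ : ∃ g ∈ q, ∀ r ∈ rs, FlatCA.Impurity.incl p g ∉ r := by
    by_contra hcon
    push Not at hcon
    have hsub : (q : Set S) ⊆
        ⋃ r ∈ (↑hrs.toFinset : Set (Ideal (p.Fiber S))), (r.comap (FlatCA.Impurity.incl p) : Set S) := by
      intro g hg
      obtain ⟨r, hr, hgr⟩ := hcon g hg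
      exact Set.mem_iUnion₂.2 ⟨r, hrs.mem_toFinset.2 hr, hgr⟩
    obtain ⟨r, hr, hle⟩ := (Ideal.subset_union_prime ⊥ ⊥ fun r hr _ _ =>
      haveI := (hrs.mem_toFinset.1 hr).1.1
      Ideal.IsPrime.comap _).1 hsub
    have hr' := hrs.mem_toFinset.1 hr
    refine hass ((le_antisymm ?_ hr'.2) ▸ hr'.1)
    exact (Ideal.map_mono hle).trans Ideal.map_comap_le
  exact ⟨g, hgq, FlatCA.WeakAss.killed_fibre_of_avoid p q g fun r hr hrq => hg r ⟨hr, hrq⟩⟩

theorem socAt_of_not_nzdAt (h : ¬ NzdAt p q N) : SocAt p q N := by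
  classical
  haveI : IsNoetherianRing (p.Fiber S) := Algebra.FiniteType.isNoetherianRing p.ResidueField _
  haveI := (FlatCA.WeakAss.fiberIdeal_prime p q).1
  have hcomap := (FlatCA.WeakAss.fiberIdeal_prime p q).2
  haveI : Module.Finite (p.Fiber S) (_root_.FlatCA.fiberMod p S N) := Module.Finite.base_change S (p.Fiber S) N
  let e := FlatCA.FiberMod.fiberModEquiv p S N
  by_cases hass : _root_.FlatCA.fiberIdeal p q ∈ associatedPrimes (p.Fiber S) (_root_.FlatCA.fiberMod p S N)
  · obtain ⟨-, x, hx⟩ := hass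
    have hmin : _root_.FlatCA.fiberIdeal p q ∈
        (Submodule.colon (⊥ : Submodule (p.Fiber S) (_root_.FlatCA.fiberMod p S N)) {x}).minimalPrimes :=
      ⟨⟨inferInstance, hx ▸ Ideal.le_radical⟩, fun P hP _ => hx ▸ hP.1.radical_le_iff.2 hP.2⟩
    obtain ⟨y, hy⟩ := Submodule.exists_eq_colon_of_mem_minimalPrimes hmin
    have hiff : ∀ d : S, d • y = 0 ↔ d ∈ q := fun d => by
      conv_rhs => rw [← hcomap, Ideal.mem_comap, hy, Submodule.mem_colon_singleton, Submodule.mem_bot,
        FlatCA.Impurity.incl_smul]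
    refine ⟨e y, fun d hd => ⟨1, fun h1 => Ideal.IsPrime.ne_top inferInstance ((Ideal.eq_top_iff_one q).2 h1), ?_⟩,
      fun w hw h0 => hw ((hiff w).1 ?_)⟩
    · rw [one_smul, ← map_smul, (hiff d).2 hd, map_zero]
    · apply e.injective
      rw [map_smul, map_zero]; exact h0
  · exact absurd (nzdAt_of_not_assoc hass) h

omit [Algebra.FiniteType R S] in
/-- Nakayama: a module with fibre module zero at a prime is zero there. -/
theorem eq_zero_of_zeroAt (h : ZeroAt p q N) (n : N) : ∃ w ∉ q, w • n = 0 := by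
  have hsupp : (⟨q, inferInstance⟩ : PrimeSpectrum S) ∉ Module.support S N := by
    rw [Module.mem_support_iff_nontrivial_residueField_tensorProduct, not_nontrivial_iff_subsingleton]
    show Subsingleton (q.ResidueField ⊗[S] N)
    refine subsingleton_of_forall_eq 0 fun z => ?_
    induction z using TensorProduct.induction_on with
    | zero => rfl
    | add a b ha hb => rw [ha, hb, add_zero]
    | tmul c n =>
      let φ := Ideal.ResidueField.mapₐ p q (Algebra.ofId R S) (q.over_def p)
      letI : Module R (q.ResidueField ⊗[S] N) := inferInstance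
      let Ψ : N ⊗[R] p.ResidueField →ₗ[S] q.ResidueField ⊗[S] N :=
        TensorProduct.AlgebraTensorModule.lift
          { toFun := fun n => ((TensorProduct.mk S q.ResidueField N).flip n).restrictScalars R ∘ₗ φ.toLinearMap
            map_add' := fun a b => LinearMap.ext fun c => by simp [TensorProduct.tmul_add]
            map_smul' := fun s a => LinearMap.ext fun c => by simp [TensorProduct.tmul_smul] }
      obtain ⟨w, hw, hwn⟩ := h (n ⊗ₜ[R] (1 : p.ResidueField))
      have h1 := congrArg Ψ hwn
      rw [map_smul, map_zero] at h1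
      have h2 : algebraMap S q.ResidueField w • ((1 : q.ResidueField) ⊗ₜ[S] n) = 0 := by
        rw [algebraMap_smul]
        simpa [Ψ] using h1
      have h3 := (smul_eq_zero.1 h2).resolve_left fun h0 => hw (Ideal.algebraMap_residueField_eq_zero.1 h0)
      rw [show c ⊗ₜ[S] n = c • ((1 : q.ResidueField) ⊗ₜ[S] n) from by
        rw [TensorProduct.smul_tmul', smul_eq_mul, mul_one], h3, smul_zero]
  rw [Module.notMem_support_iff'] at hsupp
  obtain ⟨w, hw, hwn⟩ := hsupp n
  exact ⟨w, hw, hwn⟩

end Notions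

section Flat

variable {R S : Type u} [CommRing R] [CommRing S] [Algebra R S] {S' : Type u} [CommRing S'] [Algebra S S']

/-- Flat base change preserves a kernel supported away from the prime. -/
theorem killed_lTensor [Module.Flat S S'] (q : Ideal S) (q' : Ideal S') [q'.IsPrime]
    (hq : q'.comap (algebraMap S S') = q) {X Y : Type u} [AddCommGroup X] [Module S X] [AddCommGroup Y]
    [Module S Y] (g : X →ₗ[S] Y) (h : ∀ x, g x = 0 → ∃ w ∉ q, w • x = 0) (ξ : S' ⊗[S] X)
    (hξ : g.lTensor S' ξ = 0) : ∃ w' ∉ q', w' • ξ = 0 := by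
  obtain ⟨η, rfl⟩ := (Module.Flat.lTensor_exact S' (LinearMap.exact_subtype_ker_map g) ξ).1 hξ
  induction η using TensorProduct.induction_on with
  | zero => exact ⟨1, fun h1 => Ideal.IsPrime.ne_top inferInstance ((Ideal.eq_top_iff_one q').2 h1), by simp⟩
  | tmul c x =>
    obtain ⟨w, hw, hwx⟩ := h x.1 x.2
    refine ⟨algebraMap S S' w, fun h1 => hw (hq ▸ h1), ?_⟩
    rw [LinearMap.lTensor_tmul, algebraMap_smul, ← TensorProduct.tmul_smul,
      show w • (LinearMap.ker g).subtype x = 0 from hwx, TensorProduct.tmul_zero]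
  | add a b ha hb =>
    have h0 : ∀ η, g.lTensor S' ((LinearMap.ker g).subtype.lTensor S' η) = 0 := fun η =>
      ((Module.Flat.lTensor_exact S' (LinearMap.exact_subtype_ker_map g)) _).2 ⟨η, rfl⟩
    obtain ⟨wa, hwa, ha'⟩ := ha (h0 a)
    obtain ⟨wb, hwb, hb'⟩ := hb (h0 b)
    refine ⟨wa * wb, fun h1 => (Ideal.IsPrime.mem_or_mem inferInstance h1).elim hwa hwb, ?_⟩
    rw [map_add, smul_add, mul_smul, mul_smul wa wb (_ : S' ⊗[S] X), hb', smul_zero, add_zero, smul_comm, ha',
      smul_zero]

/-- An element killed near a prime after a flat base change is killed near the prime below. -/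
theorem kill_descend [Module.Flat S S'] (q : Ideal S) (q' : Ideal S') [q'.IsPrime]
    (hq : q'.comap (algebraMap S S') = q) {X : Type u} [AddCommGroup X] [Module S X] (x : X)
    {w' : S'} (hw' : w' ∉ q') (h : w' • ((1 : S') ⊗ₜ[S] x) = 0) : ∃ v ∉ q, v • x = 0 := by
  let C' := Localization.AtPrime q'
  haveI : Module.Flat S C' := Module.Flat.trans S S' C'
  have h2 : (1 : C') ⊗ₜ[S] x = 0 := by
    have := congrArg ((IsScalarTower.toAlgHom S S' C').toLinearMap.rTensor X) h
    rw [map_zero, TensorProduct.smul_tmul', smul_eq_mul, mul_one, LinearMap.rTensor_tmul] at this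
    obtain ⟨u, hu⟩ := IsLocalization.map_units C' (⟨w', hw'⟩ : q'.primeCompl)
    have h3 := congrArg (fun m => (↑u⁻¹ : C') • m) this
    simp only [smul_zero, TensorProduct.smul_tmul', smul_eq_mul] at h3
    rwa [show (↑u⁻¹ : C') * (IsScalarTower.toAlgHom S S' C').toLinearMap w' = 1 from by
      show (↑u⁻¹ : C') * algebraMap S' C' w' = 1
      rw [← hu]; exact Units.inv_mul u] at h3
  refine FlatCA.WeakAss.exists_kill_of_flat _ h2 q (q'.map (algebraMap S' C')) ?_
  rw [IsScalarTower.algebraMap_eq S S' C', ← Ideal.comap_comap]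
  show (Ideal.under S' (q'.map (algebraMap S' C'))).comap _ = q
  rw [IsLocalization.under_map_of_isPrime_disjoint q'.primeCompl C' ‹_› disjoint_compl_left, hq]

end Flat

section BaseChange

variable {R S : Type u} [CommRing R] [CommRing S] [Algebra R S] {S' : Type u} [CommRing S'] [Algebra S S']
  [Algebra R S'] [IsScalarTower R S S']
  {N : Type u} [AddCommGroup N] [Module S N] [Module R N] [IsScalarTower R S N]
  {G : Type u} [AddCommGroup G] [Module S' G] [Module S G] [IsScalarTower S S' G] [Module R G]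
  [IsScalarTower R S' G] [IsScalarTower R S G]
  (f : N →ₗ[S] G) (hf : IsBaseChange S' f)

/-- The base change of a tensor product with a module over the base. -/
noncomputable def tensorEquiv (Q : Type u) [AddCommGroup Q] [Module R Q] :
    G ⊗[R] Q ≃ₗ[S'] S' ⊗[S] (N ⊗[R] Q) :=
  (TensorProduct.AlgebraTensorModule.congr hf.equiv.symm (LinearEquiv.refl R Q)).trans
    (TensorProduct.AlgebraTensorModule.assoc R S S' S' N Q)

omit [IsScalarTower R S G] in
theorem tensorEquiv_symm_tmul (Q : Type u) [AddCommGroup Q] [Module R Q] (c : S') (n : N) (x : Q) :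
    (tensorEquiv f hf Q).symm (c ⊗ₜ[S] (n ⊗ₜ[R] x)) = (c • f n) ⊗ₜ[R] x := by
  simp [tensorEquiv, IsBaseChange.equiv_tmul]

omit [IsScalarTower R S G] in
theorem tensorEquiv_natural {Q P : Type u} [AddCommGroup Q] [Module R Q] [AddCommGroup P] [Module R P]
    (g : Q →ₗ[R] P) (ξ : S' ⊗[S] (N ⊗[R] Q)) :
    g.lTensor G ((tensorEquiv f hf Q).symm ξ) =
      (tensorEquiv f hf P).symm ((TensorProduct.AlgebraTensorModule.lTensor S N g).lTensor S' ξ) := by
  induction ξ using TensorProduct.induction_on with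
  | zero => simp
  | add a b ha hb => simp only [map_add, ha, hb]
  | tmul c x =>
    induction x using TensorProduct.induction_on with
    | zero => simp
    | add a b ha hb => simp only [TensorProduct.tmul_add, map_add, ha, hb]
    | tmul n x =>
      rw [tensorEquiv_symm_tmul, LinearMap.lTensor_tmul, LinearMap.lTensor_tmul,
        TensorProduct.AlgebraTensorModule.lTensor_tmul, tensorEquiv_symm_tmul]

variable [Module.Flat S S'] (q : Ideal S) (q' : Ideal S') [q'.IsPrime] (hq : q'.comap (algebraMap S S') = q)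

include hf hq

omit [IsScalarTower R S G] in
/-- Flatness at a prime passes up along flat base change. -/
theorem flatAt_up [q.IsPrime] (h : Module.Flat R (LocalizedModule q.primeCompl N)) :
    Module.Flat R (LocalizedModule q'.primeCompl G) := by
  refine (H19.FlatLocus.flat_iff_killed q'.primeCompl (LocalizedModule.mkLinearMap q'.primeCompl G)).2
    fun J ξ hξ => ?_
  obtain ⟨η, rfl⟩ := (tensorEquiv f hf J).symm.surjective ξ
  rw [tensorEquiv_natural, LinearEquiv.map_eq_zero_iff] at hξ
  obtain ⟨w, hw, hwη⟩ := killed_lTensor q q' hq _ (fun x hx =>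
    (H19.FlatLocus.flat_iff_killed q.primeCompl (LocalizedModule.mkLinearMap q.primeCompl N)).1 h J x hx) η hξ
  exact ⟨w, hw, by rw [← map_smul, hwη, map_zero]⟩

omit [IsScalarTower R S G] in
/-- Flatness at a prime descends along flat base change. -/
theorem flatAt_down [q.IsPrime] (h : Module.Flat R (LocalizedModule q'.primeCompl G)) :
    Module.Flat R (LocalizedModule q.primeCompl N) := by
  refine (H19.FlatLocus.flat_iff_killed q.primeCompl (LocalizedModule.mkLinearMap q.primeCompl N)).2
    fun J y hy => ?_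
  have h0 : (J.subtype).lTensor G ((tensorEquiv f hf J).symm ((1 : S') ⊗ₜ[S] y)) = 0 := by
    rw [tensorEquiv_natural, LinearMap.lTensor_tmul]
    show (tensorEquiv f hf R).symm ((1 : S') ⊗ₜ[S] (J.subtype.lTensor N y)) = 0
    rw [hy, TensorProduct.tmul_zero, map_zero]
  obtain ⟨w, hw, hwy⟩ := (H19.FlatLocus.flat_iff_killed q'.primeCompl
    (LocalizedModule.mkLinearMap q'.primeCompl G)).1 h J _ h0
  rw [← map_smul, LinearEquiv.map_eq_zero_iff] at hwy
  exact kill_descend q q' hq y hw hwy

end BaseChange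

section Etale

variable {R : Type u} [CommRing R] (p : Ideal R) [p.IsPrime] {R' : Type u} [CommRing R'] [Algebra R R']
  [Algebra.Etale R R'] (p' : Ideal R') [p'.IsPrime] [p'.LiesOver p]

/-- The residue map of an étale point, extended to the fibre. -/
noncomputable def resMap : R' ⊗[R] p.ResidueField →ₗ[R'] p'.ResidueField :=
  LinearMap.liftBaseChange R' (Ideal.ResidueField.mapₐ p p' (Algebra.ofId R R') (p'.over_def p)).toLinearMap

/-- The kernel of the residue map of an étale point vanishes at the point. -/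
theorem kill_resMap (k : R' ⊗[R] p.ResidueField) (hk : resMap p p' k = 0) : ∃ s ∉ p', s • k = 0 := by
  classical
  let φ := Ideal.ResidueField.mapₐ p p' (Algebra.ofId R R') (p'.over_def p)
  let π : p.Fiber R' →ₐ[R] p'.ResidueField :=
    Algebra.TensorProduct.lift φ (IsScalarTower.toAlgHom R R' p'.ResidueField) fun _ _ => Commute.all _ _
  let ρ : R' ⊗[R] p.ResidueField ≃ₐ[R] p.Fiber R' := Algebra.TensorProduct.comm R R' p.ResidueField
  have hπ : ∀ x, π (ρ x) = resMap p p' x := by
    intro x
    induction x using TensorProduct.induction_on with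
    | zero => simp
    | add a b ha hb => simp only [map_add, ha, hb]
    | tmul a b => simp [π, ρ, resMap, φ, Algebra.smul_def, mul_comm]
  haveI : Algebra.Etale p.ResidueField (p.Fiber R') := inferInstance
  haveI : IsReduced (p.Fiber R') := Algebra.FormallyUnramified.isReduced_of_field p.ResidueField _
  haveI : Module.Finite p.ResidueField (p.Fiber R') := Algebra.FormallyUnramified.finite_of_free _ _
  haveI : IsArtinianRing (p.Fiber R') := IsArtinianRing.of_finite p.ResidueField _
  let m : Ideal (p.Fiber R') := RingHom.ker π.toRingHom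
  haveI : m.IsPrime := RingHom.ker_isPrime _
  have hsep : ∀ P : PrimeSpectrum (p.Fiber R'), P.asIdeal ≠ m → ∃ c ∈ P.asIdeal, c ∉ m := fun P hP =>
    SetLike.not_le_iff_exists.1 fun hle => hP ((IsArtinianRing.isMaximal_of_isPrime P.asIdeal).eq_of_le
      (Ideal.IsPrime.ne_top inferInstance) hle)
  choose c hc1 hc2 using hsep
  haveI : Fintype (PrimeSpectrum (p.Fiber R')) := Fintype.ofFinite _
  let C : p.Fiber R' := ∏ P : {P : PrimeSpectrum (p.Fiber R') // P.asIdeal ≠ m}, c P.1 P.2
  have hCm : C ∉ m := fun h => by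
    obtain ⟨P, -, hP⟩ := (Ideal.IsPrime.prod_mem_iff (p := m)).1 h
    exact hc2 P.1 P.2 hP
  have hCk : C * ρ k = 0 := by
    apply IsReduced.eq_zero
    rw [← mem_nilradical, nilradical_eq_sInf]
    refine Submodule.mem_sInf.2 fun P hP => ?_
    by_cases hPm : P = m
    · subst hPm
      exact m.mul_mem_left _ ((hπ k).trans hk)
    · exact Ideal.mul_mem_right (I := P) _ (Ideal.mem_of_dvd _ (Finset.dvd_prod_of_mem _
        (Finset.mem_univ (⟨⟨P, hP⟩, hPm⟩ : {P : PrimeSpectrum (p.Fiber R') // P.asIdeal ≠ m}))) (hc1 ⟨P, hP⟩ hPm))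
  obtain ⟨s, hs, b, hb⟩ := FlatCA.WeakAss.exists_smul_eq_incl p C
  refine ⟨b, fun hbp => hCm ?_, ?_⟩
  · have h1 : π (FlatCA.Impurity.incl p b) = 0 := by
      show π ((1 : p.ResidueField) ⊗ₜ[R] b) = 0
      rw [Algebra.TensorProduct.lift_tmul, map_one, one_mul]
      exact Ideal.algebraMap_residueField_eq_zero.2 hbp
    rw [← hb] at h1
    exact ((RingHom.ker_isPrime π.toRingHom).mem_or_mem (show algebraMap R (p.Fiber R') s * C ∈ m from h1)).resolve_left
      fun h => Ideal.IsPrime.ne_top (inferInstance : m.IsPrime)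
        (Ideal.eq_top_of_isUnit_mem _ h (FlatCA.WeakAss.isUnit_algebraMap_fiber p hs))
  · apply ρ.injective
    rw [map_zero, Algebra.smul_def, map_mul,
      show ρ (algebraMap R' (R' ⊗[R] p.ResidueField) b) = FlatCA.Impurity.incl p b from rfl, ← hb, mul_assoc, hCk,
      mul_zero]

variable {S' : Type u} [CommRing S'] [Algebra R' S'] {G : Type u} [AddCommGroup G] [Module S' G] [Module R' G]
  [IsScalarTower R' S' G] [Module R G] [IsScalarTower R R' G] [Algebra R S'] [IsScalarTower R S' G]

/-- The fibre of a module over the étale neighbourhood of the base is a localization of the fibre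
over the base. -/
theorem exists_fibreMap
    (hbij : Function.Bijective (Ideal.ResidueField.mapₐ p p' (Algebra.ofId R R') (p'.over_def p))) :
    ∃ Φ : G ⊗[R] p.ResidueField →ₗ[S'] G ⊗[R'] p'.ResidueField, Function.Surjective Φ ∧
      ∀ z, Φ z = 0 → ∃ s ∉ p', algebraMap R' S' s • z = 0 := by
  let e : G ⊗[R'] (R' ⊗[R] p.ResidueField) ≃ₗ[S'] G ⊗[R] p.ResidueField :=
    TensorProduct.AlgebraTensorModule.cancelBaseChange R R' S' G p.ResidueField
  let L : G ⊗[R'] (R' ⊗[R] p.ResidueField) →ₗ[S'] G ⊗[R'] p'.ResidueField :=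
    TensorProduct.AlgebraTensorModule.lTensor S' G (resMap p p')
  have hπ : Function.Surjective (resMap p p') := fun c => by
    obtain ⟨c₀, rfl⟩ := hbij.2 c
    exact ⟨1 ⊗ₜ c₀, by simp [resMap]⟩
  refine ⟨L.comp e.symm.toLinearMap, (LinearMap.lTensor_surjective G hπ).comp e.symm.surjective, fun z hz => ?_⟩
  obtain ⟨η, hη⟩ := (lTensor_exact G (LinearMap.exact_subtype_ker_map (resMap p p')) hπ _).1
    (show (resMap p p').lTensor G (e.symm z) = 0 from hz)
  have key : ∀ η, ∃ s ∉ p', algebraMap R' S' s •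
      (LinearMap.ker (resMap p p')).subtype.lTensor G η = 0 := by
    intro η
    induction η using TensorProduct.induction_on with
    | zero => exact ⟨1, fun h1 => Ideal.IsPrime.ne_top inferInstance ((Ideal.eq_top_iff_one p').2 h1), by simp⟩
    | tmul g k =>
      obtain ⟨s, hs, hsk⟩ := kill_resMap p p' k.1 k.2
      refine ⟨s, hs, ?_⟩
      rw [algebraMap_smul, LinearMap.lTensor_tmul, ← TensorProduct.tmul_smul]
      show g ⊗ₜ[R'] (s • k.1) = 0
      rw [hsk, TensorProduct.tmul_zero]
    | add a b ha hb =>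
      obtain ⟨sa, hsa, ha'⟩ := ha
      obtain ⟨sb, hsb, hb'⟩ := hb
      refine ⟨sa * sb, fun h1 => (Ideal.IsPrime.mem_or_mem inferInstance h1).elim hsa hsb, ?_⟩
      rw [map_add, smul_add, map_mul, mul_smul, mul_smul (algebraMap R' S' sa) (algebraMap R' S' sb), hb',
        smul_zero, add_zero, smul_comm, ha', smul_zero]
  obtain ⟨s, hs, hsη⟩ := key η
  refine ⟨s, hs, ?_⟩
  apply e.symm.injective
  rw [map_smul, map_zero, ← hη, hsη]

end Etale

end Groth.Agent.Lib.RG.FibrePoint
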