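import Groth.Agent.Lib.FlatCA.WeakAss
import Groth.Agent.H19.FlatLocus.Basic
import Mathlib.RingTheory.Ideal.GoingUp
import Mathlib.RingTheory.Unramified.Finite
import Mathlib.RingTheory.Flat.Localization
import Mathlib.Algebra.Module.FinitePresentation
import Mathlib.RingTheory.Etale.Field

/-!
# Tools for dévissage: presentations, flatness and regularity at a prime, stated with elements
-/

set_option autoImplicit false
set_option linter.style.haveILetI false

universe u

open scoped TensorProduct

namespace Groth.Agent.Lib.RG.DevTools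

section FP

variable {S : Type u} [CommRing S]

/-- A module is finitely presented at a prime: the kernel of every presentation is finitely
generated at the prime. -/
def FPAt (q : Ideal S) (N : Type u) [AddCommGroup N] [Module S N] : Prop :=
  ∀ (k : ℕ) (π : (Fin k → S) →ₗ[S] N), Function.Surjective π →
    ∃ T : Finset (Fin k → S), (∀ t ∈ T, π t = 0) ∧
      ∀ x, π x = 0 → ∃ w, w ∉ q ∧ w • x ∈ Submodule.span S (T : Set (Fin k → S))

variable (q : Ideal S) {N : Type u} [AddCommGroup N] [Module S N]

theorem finitePresentation_of_fpAt [q.IsPrime] [Module.Finite S N] (h : FPAt q N) :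
    Module.FinitePresentation (Localization.AtPrime q) (LocalizedModule q.primeCompl N) := by
  obtain ⟨k, π, hπ⟩ := Module.Finite.exists_fin' S N
  obtain ⟨T, hT, hgen⟩ := h k π hπ
  let F := LocalizedModule q.primeCompl (Fin k → S)
  let πq : F →ₗ[Localization.AtPrime q] LocalizedModule q.primeCompl N := LocalizedModule.map q.primeCompl π
  haveI : Module.Free (Localization.AtPrime q) F :=
    Module.free_of_isLocalizedModule q.primeCompl (LocalizedModule.mkLinearMap q.primeCompl (Fin k → S))
  haveI : Module.Finite (Localization.AtPrime q) F := inferInstance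
  haveI : Module.FinitePresentation (Localization.AtPrime q) F := Module.finitePresentation_of_projective _ _
  refine Module.finitePresentation_of_surjective πq (LocalizedModule.map_surjective _ _ hπ) ?_
  classical
  refine ⟨T.image (LocalizedModule.mkLinearMap q.primeCompl (Fin k → S)), le_antisymm ?_ ?_⟩
  · rw [Submodule.span_le, Finset.coe_image]
    rintro _ ⟨t, ht, rfl⟩
    show LocalizedModule.map q.primeCompl π (LocalizedModule.mk t 1) = 0
    rw [LocalizedModule.map_mk, hT t ht, LocalizedModule.zero_mk]
  · intro z hz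
    induction z using LocalizedModule.induction_on with
    | h x s =>
      have h0 : LocalizedModule.mk (π x) s = 0 := by
        rw [← LocalizedModule.map_mk]; exact hz
      rw [← LocalizedModule.zero_mk s, LocalizedModule.mk_eq] at h0
      obtain ⟨c, hc⟩ := h0
      simp only [smul_zero] at hc
      have hcx : π (((c : S) * (s : S)) • x) = 0 := by
        rw [map_smul, mul_smul]; exact hc
      obtain ⟨w, hw, hwx⟩ := hgen _ hcx
      have h2 : LocalizedModule.mk x s =
          (Localization.mk (1 : S) (⟨w, hw⟩ * c * s * s) : Localization.AtPrime q) •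
            LocalizedModule.mkLinearMap q.primeCompl (Fin k → S) (w • (((c : S) * (s : S)) • x)) := by
        rw [LocalizedModule.mkLinearMap_apply, LocalizedModule.mk_smul_mk, LocalizedModule.mk_eq]
        exact ⟨1, by simp [Submonoid.smul_def, smul_smul]; ring_nf⟩
      rw [h2]
      refine Submodule.smul_mem _ _ ?_
      rw [Finset.coe_image, ← Submodule.span_span_of_tower S (Localization.AtPrime q), ← Submodule.map_span]
      exact Submodule.subset_span (Submodule.mem_map_of_mem hwx)

theorem fpAt_of_finitePresentation [q.IsPrime]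
    [Module.FinitePresentation (Localization.AtPrime q) (LocalizedModule q.primeCompl N)] : FPAt q N := by
  classical
  intro k π hπ
  let πq : LocalizedModule q.primeCompl (Fin k → S) →ₗ[Localization.AtPrime q] LocalizedModule q.primeCompl N :=
    LocalizedModule.map q.primeCompl π
  haveI : Module.Finite (Localization.AtPrime q) (LocalizedModule q.primeCompl (Fin k → S)) := inferInstance
  obtain ⟨T₀, hT₀⟩ := Module.FinitePresentation.fg_ker πq (LocalizedModule.map_surjective _ _ hπ)
  have hlift : ∀ z ∈ T₀, ∃ t : Fin k → S, π t = 0 ∧ ∃ u : Localization.AtPrime q,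
      z = u • LocalizedModule.mkLinearMap q.primeCompl (Fin k → S) t := by
    intro z hz
    have hz0 : πq z = 0 := LinearMap.mem_ker.1 (hT₀ ▸ Submodule.subset_span hz)
    induction z using LocalizedModule.induction_on with
    | h x s =>
      change LocalizedModule.map q.primeCompl π (LocalizedModule.mk x s) = 0 at hz0
      rw [LocalizedModule.map_mk, ← LocalizedModule.zero_mk s, LocalizedModule.mk_eq] at hz0
      obtain ⟨c, hc⟩ := hz0
      simp only [smul_zero] at hc
      refine ⟨((c : S) * (s : S)) • x, by rw [map_smul, mul_smul]; exact hc, Localization.mk 1 (c * s * s), ?_⟩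
      rw [LocalizedModule.mkLinearMap_apply, LocalizedModule.mk_smul_mk, LocalizedModule.mk_eq]
      exact ⟨1, by simp [Submonoid.smul_def, smul_smul]; ring_nf⟩
  choose g hg u hu using hlift
  refine ⟨T₀.attach.image (fun z => g z.1 z.2), fun t ht => ?_, fun x hx => ?_⟩
  · obtain ⟨z, -, rfl⟩ := Finset.mem_image.1 ht
    exact hg _ _
  · let L := Submodule.span S ((T₀.attach.image (fun z => g z.1 z.2) : Finset (Fin k → S)) : Set (Fin k → S))
    have hmem : LocalizedModule.mkLinearMap q.primeCompl (Fin k → S) x ∈
        Submodule.span (Localization.AtPrime q) (T₀ : Set (LocalizedModule q.primeCompl (Fin k → S))) := by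
      rw [hT₀, LinearMap.mem_ker]
      show LocalizedModule.map q.primeCompl π (LocalizedModule.mk x 1) = 0
      rw [LocalizedModule.map_mk, hx, LocalizedModule.zero_mk]
    have hle : Submodule.span (Localization.AtPrime q) (T₀ : Set (LocalizedModule q.primeCompl (Fin k → S))) ≤
        L.localized' (Localization.AtPrime q) q.primeCompl (LocalizedModule.mkLinearMap q.primeCompl (Fin k → S)) := by
      rw [Submodule.span_le]
      intro z hz
      rw [hu z hz]
      refine Submodule.smul_mem _ _ ?_
      rw [← IsLocalizedModule.mk'_one q.primeCompl]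
      exact ⟨g z hz, Submodule.subset_span (Finset.mem_coe.2 (Finset.mem_image.2 ⟨⟨z, hz⟩, Finset.mem_attach _ _, rfl⟩)), 1, rfl⟩
    obtain ⟨t, ht, s, hts⟩ := hle hmem
    rw [← IsLocalizedModule.mk'_one q.primeCompl, IsLocalizedModule.mk'_eq_mk'_iff] at hts
    obtain ⟨c, hc⟩ := hts
    refine ⟨c * s, q.primeCompl.mul_mem c.2 s.2, ?_⟩
    have : ((c : S) * (s : S)) • x ∈ L := by
      rw [mul_smul]
      simp only [one_smul, Submonoid.smul_def] at hc
      first
        | (rw [hc]; exact L.smul_mem _ ht)
        | (rw [← hc]; exact L.smul_mem _ ht)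
    exact this

/-- Finite presentation passes to extensions by finite free modules. -/
theorem FPAt.extension [q.IsPrime] {r : ℕ} (α : (Fin r → S) →ₗ[S] N)
    (hα : ∀ v, α v = 0 → ∃ w, w ∉ q ∧ w • v = 0)
    (h : FPAt q (N ⧸ LinearMap.range α)) : FPAt q N := by
  classical
  intro k π hπ
  obtain ⟨T, hT, hgen⟩ := h k ((LinearMap.range α).mkQ.comp π) ((Submodule.mkQ_surjective _).comp hπ)
  choose u hu using fun i => hπ (α (Pi.single i (1 : S)))
  have hv : ∀ t : Fin k → S, t ∈ T → ∃ v, α v = π t := fun t ht => by
    have h1 : π t ∈ LinearMap.range α := by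
      rw [← Submodule.Quotient.mk_eq_zero]; exact hT t ht
    exact h1
  choose v hv using hv
  let c : (Fin r → S) →ₗ[S] (Fin k → S) := Fintype.linearCombination S u
  have hc : ∀ w, π (c w) = α w := by
    intro w
    rw [Fintype.linearCombination_apply, map_sum]
    simp only [map_smul, hu]
    simp only [← map_smul, ← map_sum]
    congr 1
    rw [← Finset.univ_sum_single w]
    refine Finset.sum_congr rfl fun i _ => ?_
    rw [← Pi.single_smul, smul_eq_mul, mul_one]
    simp
  refine ⟨T.attach.image fun t => t.1 - c (v t.1 t.2), fun t ht => ?_, fun x hx => ?_⟩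
  · obtain ⟨t, -, rfl⟩ := Finset.mem_image.1 ht
    rw [map_sub, hc, hv, sub_self]
  · obtain ⟨w, hw, hwx⟩ := hgen x (by rw [LinearMap.comp_apply, hx, map_zero])
    let L := Submodule.span S ((T.attach.image fun t => t.1 - c (v t.1 t.2) : Finset (Fin k → S)) : Set (Fin k → S))
    have key : ∀ z ∈ Submodule.span S (T : Set (Fin k → S)), ∃ a, α a = π z ∧ z - c a ∈ L := by
      intro z hz
      induction hz using Submodule.span_induction with
      | mem z hz => exact ⟨v z hz, hv z hz, Submodule.subset_span (Finset.mem_coe.2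
          (Finset.mem_image.2 ⟨⟨z, hz⟩, Finset.mem_attach _ _, rfl⟩))⟩
      | zero => exact ⟨0, by simp, by simp⟩
      | add a b _ _ ha hb =>
        obtain ⟨a', ha1, ha2⟩ := ha
        obtain ⟨b', hb1, hb2⟩ := hb
        exact ⟨a' + b', by rw [map_add, map_add, ha1, hb1],
          by rw [map_add, add_sub_add_comm]; exact add_mem ha2 hb2⟩
      | smul s z _ hz =>
        obtain ⟨a, ha1, ha2⟩ := hz
        exact ⟨s • a, by rw [map_smul, map_smul, ha1], by rw [map_smul, ← smul_sub]; exact L.smul_mem s ha2⟩
    obtain ⟨a, ha1, ha2⟩ := key _ hwx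
    rw [map_smul, hx, smul_zero] at ha1
    obtain ⟨w₂, hw₂, hw₂a⟩ := hα a ha1
    refine ⟨w₂ * w, fun h => (Ideal.IsPrime.mem_or_mem inferInstance h).elim hw₂ hw, ?_⟩
    have h3 := L.smul_mem w₂ ha2
    rwa [smul_sub, ← map_smul, hw₂a, map_zero, sub_zero, smul_smul] at h3

variable {C : Type u} [CommRing C] [Algebra S C] {G : Type u} [AddCommGroup G] [Module C G] [Module S G]
  [IsScalarTower S C G]

/-- Finite presentation at a prime passes along finite ring maps. -/
theorem FPAt.of_finite [Module.Finite S C] (z : Ideal C) (hz : ∀ w, algebraMap S C w ∈ z → w ∈ q)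
    (h : FPAt q G) : FPAt z G := by
  classical
  intro k π hπ
  obtain ⟨l, ρ, hρ⟩ := Module.Finite.exists_fin' S (Fin k → C)
  obtain ⟨T, hT, hgen⟩ := h l ((π.restrictScalars S).comp ρ) (hπ.comp hρ)
  refine ⟨T.image ρ, fun t ht => ?_, fun x hx => ?_⟩
  · obtain ⟨t', ht', rfl⟩ := Finset.mem_image.1 ht
    exact hT t' ht'
  · obtain ⟨x', rfl⟩ := hρ x
    obtain ⟨w, hw, hwx⟩ := hgen x' hx
    refine ⟨algebraMap S C w, fun h => hw (hz w h), ?_⟩
    rw [algebraMap_smul, ← map_smul, Finset.coe_image, ← Submodule.span_span_of_tower S C, ← Submodule.map_span]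
    exact Submodule.subset_span (Submodule.mem_map_of_mem hwx)

/-- Finite presentation at a prime passes along surjections with finitely generated kernel. -/
theorem FPAt.of_surjective (hsurj : Function.Surjective (algebraMap S C))
    (hker : (RingHom.ker (algebraMap S C)).FG) (z : Ideal C) (hz : ∀ w, w ∈ q → algebraMap S C w ∈ z)
    (h : FPAt z G) : FPAt q G := by
  classical
  intro k π hπ
  let ρ : (Fin k → S) →ₗ[S] (Fin k → C) := (Algebra.linearMap S C).compLeft (Fin k)
  have hρ : Function.Surjective ρ := fun c => ⟨fun i => (hsurj (c i)).choose, funext fun i => (hsurj (c i)).choose_spec⟩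
  let g : Fin k → G := fun i => π (Pi.single i 1)
  let π' : (Fin k → C) →ₗ[C] G := Fintype.linearCombination C g
  have hπ' : ∀ x, π' (ρ x) = π x := by
    intro x
    conv_rhs => rw [← Finset.univ_sum_single x, map_sum]
    rw [Fintype.linearCombination_apply]
    refine Finset.sum_congr rfl fun i _ => ?_
    show algebraMap S C (x i) • π (Pi.single i 1) = π (Pi.single i (x i))
    rw [algebraMap_smul, ← map_smul, ← Pi.single_smul, smul_eq_mul, mul_one]
  obtain ⟨T, hT, hgen⟩ := h k π' (fun y => by obtain ⟨x, rfl⟩ := hπ y; exact ⟨ρ x, hπ' x⟩)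
  choose lift hlift using hρ
  obtain ⟨K, hK⟩ := hker
  let T₂ : Finset (Fin k → S) := (Finset.univ ×ˢ K).image fun ia => Pi.single ia.1 ia.2
  have hkerρ : ∀ x, ρ x = 0 → x ∈ Submodule.span S (T₂ : Set (Fin k → S)) := by
    intro x hx
    rw [← Finset.univ_sum_single x]
    refine Submodule.sum_mem _ fun i _ => ?_
    have hxi : x i ∈ Submodule.span S (K : Set S) := by
      rw [← Ideal.span, hK, RingHom.mem_ker]; exact congrFun hx i
    have h1 : Pi.single i (x i) ∈ (Submodule.span S (K : Set S)).map (LinearMap.single S (fun _ : Fin k => S) i) :=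
      Submodule.mem_map_of_mem hxi
    rw [Submodule.map_span] at h1
    refine Submodule.span_mono ?_ h1
    rintro _ ⟨a, ha, rfl⟩
    exact Finset.mem_coe.2 (Finset.mem_image.2 ⟨(i, a), Finset.mem_product.2 ⟨Finset.mem_univ i, ha⟩, rfl⟩)
  refine ⟨T.image lift ∪ T₂, fun t ht => ?_, fun x hx => ?_⟩
  · rcases Finset.mem_union.1 ht with h1 | h1
    · obtain ⟨t', ht', rfl⟩ := Finset.mem_image.1 h1
      rw [← hπ', hlift]; exact hT t' ht'
    · obtain ⟨⟨i, a⟩, hia, rfl⟩ := Finset.mem_image.1 h1
      rw [← hπ', show ρ (Pi.single i a) = 0 from funext fun j => ?_, map_zero]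
      show algebraMap S C ((Pi.single i a : Fin k → S) j) = 0
      by_cases hij : j = i
      · subst hij
        rw [Pi.single_eq_same, ← RingHom.mem_ker, ← hK]
        exact Ideal.subset_span (Finset.mem_product.1 hia).2
      · rw [Pi.single_eq_of_ne hij, map_zero]
  · obtain ⟨c, hc, hcx⟩ := hgen (ρ x) (by rw [hπ', hx])
    obtain ⟨w, rfl⟩ := hsurj c
    refine ⟨w, fun h => hc (hz w h), ?_⟩
    let L := Submodule.span S ((T.image lift ∪ T₂ : Finset (Fin k → S)) : Set (Fin k → S))
    have key : ∀ z ∈ Submodule.span C (T : Set (Fin k → C)), ∃ b ∈ L, ρ b = z := by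
      intro z hz
      induction hz using Submodule.span_induction with
      | mem z hz => exact ⟨lift z, Submodule.subset_span (Finset.mem_coe.2 (Finset.mem_union_left _
          (Finset.mem_image_of_mem _ hz))), hlift z⟩
      | zero => exact ⟨0, L.zero_mem, map_zero _⟩
      | add a b _ _ ha hb =>
        obtain ⟨a', ha1, ha2⟩ := ha
        obtain ⟨b', hb1, hb2⟩ := hb
        exact ⟨a' + b', add_mem ha1 hb1, by rw [map_add, ha2, hb2]⟩
      | smul c z _ hz =>
        obtain ⟨s, rfl⟩ := hsurj c
        obtain ⟨a, ha1, ha2⟩ := hz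
        exact ⟨s • a, L.smul_mem s ha1, by rw [map_smul, ha2, algebraMap_smul]⟩
    obtain ⟨b, hb, hbx⟩ := key _ hcx
    have h2 : w • x - b ∈ L := by
      refine Submodule.span_mono (Finset.coe_subset.2 Finset.subset_union_right) (hkerρ _ ?_)
      rw [map_sub, map_smul, hbx, algebraMap_smul, sub_self]
    have h3 := add_mem h2 hb
    rwa [sub_add_cancel] at h3

/-- Finite presentation at a prime descends along flat maps. -/
theorem FPAt.descend [Module.Flat S C] (q' : Ideal C) [q'.IsPrime] (hq : q'.comap (algebraMap S C) = q)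
    (f : N →ₗ[S] G) (hf : IsBaseChange C f) (h : FPAt q' G) : FPAt q N := by
  classical
  intro k π hπ
  let e : C ⊗[S] (Fin k → S) ≃ₗ[C] (Fin k → C) := TensorProduct.piScalarRight S C C (Fin k)
  let π' : (Fin k → C) →ₗ[C] G :=
    hf.equiv.toLinearMap.comp ((π.baseChange C).comp e.symm.toLinearMap)
  have hbc : Function.Surjective (π.baseChange C) := LinearMap.lTensor_surjective C hπ
  obtain ⟨T', hT', hgen⟩ := h k π' (hf.equiv.surjective.comp (hbc.comp e.symm.surjective))
  let K := LinearMap.ker π
  have hT'K : ∀ t ∈ T', e.symm t ∈ LinearMap.range (K.subtype.lTensor C) := by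
    intro t ht
    have h0 : π.lTensor C (e.symm t) = 0 := hf.equiv.injective ((hT' t ht).trans (map_zero _).symm)
    exact (lTensor_exact C (LinearMap.exact_subtype_ker_map π) hπ _).1 h0
  choose ζ hζ using hT'K
  choose s hs using fun t ht => TensorProduct.exists_finset (R := S) (ζ t ht)
  let T : Finset (Fin k → S) := T'.attach.biUnion fun t => (s t.1 t.2).image fun cx => (cx.2 : Fin k → S)
  refine ⟨T, fun t ht => ?_, fun x hx => ?_⟩
  · obtain ⟨t', -, ht'⟩ := Finset.mem_biUnion.1 ht
    obtain ⟨cx, -, rfl⟩ := Finset.mem_image.1 ht'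
    exact cx.2.2
  · obtain ⟨w, hw, hwx⟩ := hgen (e ((1 : C) ⊗ₜ[S] x)) (by
      show hf.equiv (π.baseChange C (e.symm (e ((1 : C) ⊗ₜ[S] x)))) = 0
      rw [LinearEquiv.symm_apply_apply, LinearMap.baseChange_tmul, hx, TensorProduct.tmul_zero, map_zero])
    let L := Submodule.span S (T : Set (Fin k → S))
    let μ := (Submodule.mkQ L).baseChange C
    have hμT : ∀ z ∈ Submodule.span C (T' : Set (Fin k → C)), μ (e.symm z) = 0 := by
      intro z hz
      induction hz using Submodule.span_induction with
      | mem z hz =>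
        rw [← hζ z hz, hs z hz, map_sum, map_sum]
        refine Finset.sum_eq_zero fun cx hcx => ?_
        rw [LinearMap.lTensor_tmul, LinearMap.baseChange_tmul]
        show cx.1 ⊗ₜ[S] (Submodule.Quotient.mk (cx.2 : Fin k → S) : (Fin k → S) ⧸ L) = 0
        rw [          (Submodule.Quotient.mk_eq_zero L).2 (Submodule.subset_span (Finset.mem_coe.2
            (Finset.mem_biUnion.2 ⟨⟨z, hz⟩, Finset.mem_attach _ _, Finset.mem_image_of_mem _ hcx⟩))),
          TensorProduct.tmul_zero]
      | zero => simp
      | add a b _ _ ha hb => simp only [map_add, ha, hb, add_zero]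
      | smul c z _ hz => simp only [map_smul, hz, smul_zero]
    have h1 : w • ((1 : C) ⊗ₜ[S] (Submodule.Quotient.mk x : (Fin k → S) ⧸ L)) = 0 := by
      have := hμT _ hwx
      rwa [map_smul, LinearEquiv.symm_apply_apply, map_smul, LinearMap.baseChange_tmul] at this
    let C' := Localization.AtPrime q'
    haveI : Module.Flat S C' := Module.Flat.trans S C C'
    have h2 : (1 : C') ⊗ₜ[S] (Submodule.Quotient.mk x : (Fin k → S) ⧸ L) = 0 := by
      have := congrArg ((IsScalarTower.toAlgHom S C C').toLinearMap.rTensor ((Fin k → S) ⧸ L)) h1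
      rw [map_zero, TensorProduct.smul_tmul', smul_eq_mul, mul_one, LinearMap.rTensor_tmul] at this
      obtain ⟨u, hu⟩ := IsLocalization.map_units C' (⟨w, hw⟩ : q'.primeCompl)
      have h3 := congrArg (fun m => (↑u⁻¹ : C') • m) this
      simp only [smul_zero, TensorProduct.smul_tmul', smul_eq_mul] at h3
      rwa [show (↑u⁻¹ : C') * (IsScalarTower.toAlgHom S C C').toLinearMap w = 1 from by
        show (↑u⁻¹ : C') * algebraMap C C' w = 1
        rw [← hu]; exact Units.inv_mul u] at h3
    obtain ⟨v, hv, hvx⟩ := FlatCA.WeakAss.exists_kill_of_flat _ h2 q (q'.map (algebraMap C C')) (by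
      rw [IsScalarTower.algebraMap_eq S C C', ← Ideal.comap_comap]
      show (Ideal.under C (q'.map (algebraMap C C'))).comap _ = q
      rw [IsLocalization.under_map_of_isPrime_disjoint q'.primeCompl C' ‹_› disjoint_compl_left, hq])
    exact ⟨v, hv, by rwa [← Submodule.Quotient.mk_smul, Submodule.Quotient.mk_eq_zero] at hvx⟩

end FP

section Finite

variable {D C : Type u} [CommRing D] [CommRing C] [Algebra D C] [Algebra.IsIntegral D C]
  (Q : Ideal D) [Q.IsPrime]

/-- An ideal of an integral extension contained in no prime over `Q` meets the complement of `Q`. -/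
theorem exists_notMem_algebraMap_mem (I : Ideal C)
    (h : ∀ z : Ideal C, z.IsPrime → z.comap (algebraMap D C) = Q → ¬ I ≤ z) :
    ∃ w, w ∉ Q ∧ algebraMap D C w ∈ I := by
  by_contra hc
  push Not at hc
  have hd : Disjoint ((Q.primeCompl.map (algebraMap D C) : Submonoid C) : Set C) (I : Set C) := by
    rw [Set.disjoint_left]
    rintro _ ⟨w, hw, rfl⟩ hI
    exact hc w hw hI
  obtain ⟨P, hP, hIP, hPd⟩ := Ideal.exists_le_prime_disjoint I (Q.primeCompl.map (algebraMap D C)) hd.symm
  have hle : P.comap (algebraMap D C) ≤ Q := fun w hw => by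
    by_contra hwQ
    exact Set.disjoint_left.1 hPd hw ⟨w, hwQ, rfl⟩
  obtain ⟨z, hPz, hz, hzQ⟩ := Ideal.exists_ideal_over_prime_of_isIntegral Q P hle
  exact h z hz hzQ (hIP.trans hPz)

/-- Primes over a generization of a prime with a single prime over it generize that prime. -/
theorem le_of_unique (y : Ideal D) [y.IsPrime] (z : Ideal C)
    (hu : ∀ z₁ : Ideal C, z₁.IsPrime → z₁.comap (algebraMap D C) = y → z₁ = z)
    (P : Ideal C) [P.IsPrime] (hP : P.comap (algebraMap D C) ≤ y) : P ≤ z := by
  obtain ⟨z₁, hPz, hz₁, hzy⟩ := Ideal.exists_ideal_over_prime_of_isIntegral y P hP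
  exact hu z₁ hz₁ hzy ▸ hPz

variable {R : Type u} [CommRing R] [Algebra R C] {G : Type u} [AddCommGroup G] [Module C G] [Module D G]
  [IsScalarTower D C G] [Module R G] [IsScalarTower R C G]

/-- Flatness at all primes over `Q` gives flatness at `Q`. -/
theorem flatAt_of_forall_over [Algebra R D] [IsScalarTower R D G]
    (h : ∀ z : Ideal C, ∀ _ : z.IsPrime, z.comap (algebraMap D C) = Q →
      Module.Flat R (LocalizedModule z.primeCompl G)) :
    Module.Flat R (LocalizedModule Q.primeCompl G) := by
  rw [H19.FlatLocus.flat_iff_killed Q.primeCompl (LocalizedModule.mkLinearMap Q.primeCompl G)]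
  intro J ξ hξ
  obtain ⟨w, hw, hwξ⟩ := exists_notMem_algebraMap_mem Q ((Submodule.span C {ξ}).annihilator) (fun z hz hzQ hle => by
    haveI := hz
    obtain ⟨c, hc, hcξ⟩ := (H19.FlatLocus.flat_iff_killed z.primeCompl
      (LocalizedModule.mkLinearMap z.primeCompl G)).1 (h z hz hzQ) J ξ hξ
    exact hc (hle ((Submodule.mem_annihilator_span_singleton _ _).2 hcξ)))
  refine ⟨w, hw, ?_⟩
  rw [Submodule.mem_annihilator_span_singleton] at hwξ
  have : ∀ η : G ⊗[R] J, algebraMap D C w • η = w • η := fun η => by
    induction η with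
    | zero => simp
    | tmul a b => rw [TensorProduct.smul_tmul', TensorProduct.smul_tmul', algebraMap_smul]
    | add a b ha hb => rw [smul_add, smul_add, ha, hb]
  rw [← this]; exact hwξ

end Finite

end Groth.Agent.Lib.RG.DevTools
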