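import Groth.Prelude.Def_FlatCA
import Groth.Agent.Lib.FlatCA.NzdLimit
import Groth.Agent.Lib.Flat55.JetContent
import Mathlib.RingTheory.Ideal.GoingDown
import Mathlib.RingTheory.LocalRing.Module
import Mathlib.RingTheory.Smooth.Locus
import Mathlib.RingTheory.Smooth.StandardSmoothOfFree
import Mathlib.RingTheory.Smooth.Flat

/-!
# Algebras with geometrically integral fibres: the flatness engine

For a local ring `R` and a flat finitely presented algebra `D` with geometrically integral fibres,
the closed fibre being given by the prime `𝔭 = m D`: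
* multiplication by elements outside `𝔭` is universally injective over `R`;
* the local ring of `D` at `𝔭` has content ideals (if `D` is smooth at `𝔭`);
* a map from a finite free `D`-module to a finite module, bijective at `κ(𝔭)`, is bijective at `𝔭`
  as soon as the target is flat there, and is then universally injective.
-/

set_option autoImplicit false
set_option linter.style.haveILetI false

universe u

open scoped TensorProduct
open IsLocalRing
open Groth.Agent.Lib.Flat55

namespace Groth.Agent.Lib.RG.Engine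

/-- Every geometric fibre ring has no zero divisors. -/
def GIF (R D : Type u) [CommRing R] [CommRing D] [Algebra R D] : Prop :=
  ∀ (K : Type u) [Field K] [Algebra R K], NoZeroDivisors (K ⊗[R] D)

/-- Every element has a content ideal. -/
def HasContent (R M : Type u) [CommRing R] [AddCommGroup M] [Module R M] : Prop :=
  ∀ x : M, ∃ J : Ideal R, J.FG ∧ x ∈ J • (⊤ : Submodule R M) ∧
    ∀ I : Ideal R, x ∈ I • (⊤ : Submodule R M) → J ≤ I

section Fibre

variable {R D : Type u} [CommRing R] [CommRing D] [Algebra R D]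

theorem GIF.baseChange (h : GIF R D) (A : Type u) [CommRing A] [Algebra R A] : GIF A (A ⊗[R] D) := by
  intro K _ _
  letI : Algebra R K := ((algebraMap A K).comp (algebraMap R A)).toAlgebra
  haveI : IsScalarTower R A K := IsScalarTower.of_algebraMap_eq fun _ => rfl
  haveI := h K
  let e := Algebra.TensorProduct.cancelBaseChange R A K K D
  exact Function.Injective.noZeroDivisors e e.injective (map_zero e) (map_mul e)

/-- An element vanishing in the fibre at `p` lies in every prime over `p`. -/
theorem mem_of_tmul_eq_zero (p : Ideal R) [p.IsPrime] (Q : Ideal D) [Q.IsPrime] [Q.LiesOver p]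
    {u : D} (h : (1 : p.ResidueField) ⊗ₜ[R] u = 0) : u ∈ Q := by
  let φ : p.ResidueField ⊗[R] D →ₐ[R] Q.ResidueField :=
    Algebra.TensorProduct.lift (Ideal.ResidueField.mapₐ p Q (Algebra.ofId R D) (Q.over_def p))
      (IsScalarTower.toAlgHom R D Q.ResidueField) fun _ _ => Commute.all _ _
  have := congrArg φ h
  rw [map_zero] at this
  rw [← Ideal.algebraMap_residueField_eq_zero (I := Q)]
  simpa [φ] using this

/-- An element nonzero in an integral fibre is regular on it. -/
theorem fibre_regular (h : GIF R D) (p : Ideal R) [p.IsPrime] {u : D}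
    (hu : (1 : p.ResidueField) ⊗ₜ[R] u ≠ 0) (z : D ⊗[R] p.ResidueField) (hz : u • z = 0) : z = 0 := by
  have := h p.ResidueField
  let e := Algebra.TensorProduct.comm R D p.ResidueField
  have he : ∀ w : D ⊗[R] p.ResidueField, e (u • w) = ((1 : p.ResidueField) ⊗ₜ[R] u) * e w := by
    intro w
    induction w with
    | zero => simp
    | add a b ha hb => simp [smul_add, map_add, ha, hb, mul_add]
    | tmul d c => simp [e, TensorProduct.smul_tmul', smul_eq_mul]
  have h2 := he z
  rw [hz, map_zero] at h2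
  exact e.injective (((mul_eq_zero.1 h2.symm).resolve_left hu).trans (map_zero e).symm)

theorem GIF.localization (h : GIF R D) (M : Submonoid D) (B : Type u) [CommRing B] [Algebra R B]
    [Algebra D B] [IsScalarTower R D B] [IsLocalization M B] : GIF R B := by
  intro K _ _
  haveI := h K
  let φ : K ⊗[R] D →ₐ[K] K ⊗[R] B :=
    Algebra.TensorProduct.map (AlgHom.id K K) (IsScalarTower.toAlgHom R D B)
  have hden : ∀ z : K ⊗[R] B, ∃ (t : M) (w : K ⊗[R] D), z * (1 ⊗ₜ algebraMap D B t) = φ w := by
    intro z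
    induction z with
    | zero => exact ⟨1, 0, by rw [zero_mul, map_zero]⟩
    | tmul k b =>
      obtain ⟨⟨d, t⟩, htd⟩ := IsLocalization.surj M b
      exact ⟨t, k ⊗ₜ d, by simp [φ, htd]⟩
    | add a b ha hb =>
      obtain ⟨t₁, w₁, h₁⟩ := ha
      obtain ⟨t₂, w₂, h₂⟩ := hb
      refine ⟨t₁ * t₂, w₁ * (1 ⊗ₜ (t₂ : D)) + w₂ * (1 ⊗ₜ (t₁ : D)), ?_⟩
      rw [map_add, map_mul φ, map_mul φ, ← h₁, ← h₂,
        show (1 : K) ⊗ₜ[R] algebraMap D B ((t₁ * t₂ : M) : D) =
          (1 ⊗ₜ algebraMap D B t₁) * (1 ⊗ₜ algebraMap D B t₂) by simp,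
        show φ (1 ⊗ₜ (t₂ : D)) = 1 ⊗ₜ algebraMap D B t₂ by simp [φ],
        show φ (1 ⊗ₜ (t₁ : D)) = 1 ⊗ₜ algebraMap D B t₁ by simp [φ]]
      ring
  have hker : ∀ w : K ⊗[R] D, φ w = 0 → ∃ t : M, ((1 : K) ⊗ₜ[R] (t : D)) * w = 0 := by
    intro w hw
    haveI := IsLocalizedModule.rTensor M (R := R) (A := D) (N := K) (Algebra.linearMap D B)
    let ec := Algebra.TensorProduct.comm R K D
    have hc : ∀ v : K ⊗[R] D, TensorProduct.AlgebraTensorModule.rTensor R K (Algebra.linearMap D B) (ec v) =
        Algebra.TensorProduct.comm R K B (φ v) := by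
      intro v
      induction v with
      | zero => simp
      | add a b ha hb => simp [map_add, ha, hb]
      | tmul k d => simp [ec, φ]
    obtain ⟨t, ht⟩ := (IsLocalizedModule.eq_zero_iff M
      (TensorProduct.AlgebraTensorModule.rTensor R K (Algebra.linearMap D B))).1
      (show _ = 0 by rw [hc w, hw, map_zero])
    refine ⟨t, ec.injective ?_⟩
    rw [map_mul, map_zero, ← ht]
    show ec ((1 : K) ⊗ₜ[R] (t : D)) * ec w = (t : D) • ec w
    rw [Algebra.smul_def]
    simp [ec]
  refine ⟨fun {x y} hxy => ?_⟩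
  obtain ⟨tx, wx, hx⟩ := hden x
  obtain ⟨ty, wy, hy⟩ := hden y
  obtain ⟨t, ht⟩ := hker (wx * wy) (by
    rw [map_mul, ← hx, ← hy,
      show x * ((1 : K) ⊗ₜ[R] algebraMap D B tx) * (y * ((1 : K) ⊗ₜ[R] algebraMap D B ty)) =
        x * y * (((1 : K) ⊗ₜ[R] algebraMap D B tx) * ((1 : K) ⊗ₜ[R] algebraMap D B ty)) by ring,
      hxy, zero_mul])
  have hu : ∀ t : M, IsUnit ((1 : K) ⊗ₜ[R] algebraMap D B t) := fun t =>
    (IsLocalization.map_units B t).map (Algebra.TensorProduct.includeRight : B →ₐ[R] K ⊗[R] B)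
  rcases mul_eq_zero.1 ht with h1 | h1
  · have h2 := congrArg φ h1
    rw [map_zero] at h2
    simp [φ] at h2
    have h3 := h2 ▸ hu t
    exact Or.inl (by
      haveI := subsingleton_of_zero_eq_one (isUnit_zero_iff.1 h3)
      exact Subsingleton.elim _ _)
  · rcases mul_eq_zero.1 h1 with h4 | h4
    · exact Or.inl ((hu tx).mul_left_eq_zero.1 (by rw [hx, h4, map_zero]))
    · exact Or.inr ((hu ty).mul_left_eq_zero.1 (by rw [hy, h4, map_zero]))

/-- A smooth point has a basic open neighbourhood that is standard smooth. -/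
theorem exists_notMem_isStandardSmooth [Algebra.FinitePresentation R D] (P : Ideal D) [P.IsPrime]
    [Algebra.IsSmoothAt R P] : ∃ F ∉ P, Algebra.IsStandardSmooth R (Localization.Away F) := by
  obtain ⟨f, hf, hsm⟩ := Algebra.IsSmoothAt.exists_notMem_smooth (R := R) P
  haveI := hsm
  obtain ⟨s, hs, hss⟩ := Algebra.Smooth.exists_span_eq_top_isStandardSmooth R (Localization.Away f)
  have hd : Disjoint (Submonoid.powers f : Set D) (P : Set D) :=
    Ideal.disjoint_powers_iff_notMem f (Ideal.IsPrime.isRadical ‹P.IsPrime›) |>.2 hf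
  haveI hP₁ : (P.map (algebraMap D (Localization.Away f))).IsPrime :=
    IsLocalization.isPrime_of_isPrime_disjoint _ _ P inferInstance hd
  obtain ⟨g, hgs, hg⟩ : ∃ g ∈ s, g ∉ P.map (algebraMap D (Localization.Away f)) := by
    by_contra hc
    push Not at hc
    exact hP₁.ne_top (top_le_iff.1 (hs ▸ Ideal.span_le.2 hc))
  obtain ⟨⟨g₀, m⟩, hgm⟩ := IsLocalization.surj (Submonoid.powers f) g
  simp only at hgm
  haveI : Algebra.IsStandardSmooth R (Localization.Away g) := hss g hgs
  have hassoc : Associated g (algebraMap D (Localization.Away f) g₀) :=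
    ⟨(IsLocalization.map_units _ m).unit, hgm⟩
  haveI : IsLocalization.Away (algebraMap D (Localization.Away f) g₀) (Localization.Away g) :=
    IsLocalization.Away.of_associated hassoc
  haveI : IsLocalization.Away (f * g₀) (Localization.Away g) :=
    IsLocalization.Away.mul' (Localization.Away f) (Localization.Away g) f g₀
  refine ⟨f * g₀, fun h => (Ideal.IsPrime.mem_or_mem ‹P.IsPrime› h).elim hf fun h' => hg ?_, ?_⟩
  · have h1 : g * algebraMap D (Localization.Away f) (m : D) ∈ P.map (algebraMap D (Localization.Away f)) :=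
      hgm ▸ Ideal.mem_map_of_mem _ h'
    exact (Ideal.mul_unit_mem_iff_mem _ (IsLocalization.map_units _ m)).1 h1
  · exact Algebra.IsStandardSmooth.of_algEquiv ((IsLocalization.algEquiv (Submonoid.powers (f * g₀))
      (Localization.Away g) (Localization.Away (f * g₀))).restrictScalars R)

variable [Algebra.FinitePresentation R D] [Module.Flat R D]

/-- An element nonzero in every fibre is regular on every `D ⊗ Q`. -/
theorem eq_zero_of_forall_fibre (h : GIF R D) {u : D}
    (hu : ∀ (𝔔 : Ideal D) [𝔔.IsPrime],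
      (1 : (𝔔.comap (algebraMap R D)).ResidueField) ⊗ₜ[R] u ≠ 0)
    {Q : Type u} [AddCommGroup Q] [Module R Q] {z : D ⊗[R] Q} (hz : u • z = 0) : z = 0 := by
  by_contra hne
  let I : Ideal D := (Submodule.span D {z}).annihilator
  have hI : I ≠ ⊤ := fun h => hne (by
    have h1 := (Submodule.mem_annihilator_span_singleton z (1 : D)).1
      (show (1 : D) ∈ I by rw [h]; trivial)
    simpa using h1)
  obtain ⟨𝔔, h𝔔, hI𝔔⟩ := Ideal.exists_le_maximal I hI
  haveI : 𝔔.IsPrime := h𝔔.isPrime
  let p := 𝔔.comap (algebraMap R D)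
  haveI : 𝔔.LiesOver p := ⟨rfl⟩
  obtain ⟨w, hw, hwz⟩ := FlatCA.NzdLimit.killed_of_fibre (N := D) p 𝔔 u
    (fun z hz => ⟨1, fun h1 => Ideal.IsPrime.ne_top ‹_› ((Ideal.eq_top_iff_one _).2 h1), by
      rw [one_smul]; exact fibre_regular h p (hu 𝔔) z hz⟩) Q z hz
  exact hw (hI𝔔 ((Submodule.mem_annihilator_span_singleton z w).2 hwz))

end Fibre

section Local

variable {R : Type u} [CommRing R] [IsLocalRing R] {D : Type u} [CommRing D] [Algebra R D]

theorem liesOver_map [h : ((maximalIdeal R).map (algebraMap R D)).IsPrime] :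
    ((maximalIdeal R).map (algebraMap R D)).LiesOver (maximalIdeal R) :=
  ⟨(((maximalIdeal.isMaximal R).eq_of_le (Ideal.IsPrime.ne_top inferInstance) Ideal.le_comap_map))⟩

variable [Algebra.FinitePresentation R D] [Module.Flat R D]
  [((maximalIdeal R).map (algebraMap R D)).IsPrime]

/-- Multiplication by an element outside the prime of the closed fibre is universally injective. -/
theorem eq_zero_of_smul (h : GIF R D) {s : D} (hs : s ∉ (maximalIdeal R).map (algebraMap R D))
    {Q : Type u} [AddCommGroup Q] [Module R Q] {z : D ⊗[R] Q} (hz : s • z = 0) : z = 0 := by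
  refine eq_zero_of_forall_fibre h (fun 𝔔 _ h0 => hs ?_) hz
  haveI := liesOver_map (R := R) (D := D)
  obtain ⟨P, hP, hPp, hPover⟩ := Ideal.exists_ideal_le_liesOver_of_le
    (p := 𝔔.comap (algebraMap R D)) (q := maximalIdeal R) ((maximalIdeal R).map (algebraMap R D))
    (le_maximalIdeal (Ideal.IsPrime.ne_top inferInstance))
  haveI := hPp
  haveI := hPover
  exact hP (mem_of_tmul_eq_zero (𝔔.comap (algebraMap R D)) P h0)

/-- The same, for membership in `I D`. -/
theorem mem_of_mul_mem (h : GIF R D) {s : D} (hs : s ∉ (maximalIdeal R).map (algebraMap R D))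
    (I : Ideal R) {a : D} (ha : s * a ∈ I • (⊤ : Submodule R D)) :
    a ∈ I • (⊤ : Submodule R D) := by
  let e := TensorProduct.tensorQuotEquivQuotSMul D I
  have he : ∀ x : D, e (x ⊗ₜ[R] Ideal.Quotient.mk I 1) = Submodule.Quotient.mk x := fun x => by
    rw [TensorProduct.tensorQuotEquivQuotSMul_tmul_mk, one_smul]
  have h1 : (a ⊗ₜ[R] Ideal.Quotient.mk I (1 : R)) = 0 := by
    refine eq_zero_of_smul h hs (e.injective ?_)
    rw [TensorProduct.smul_tmul', smul_eq_mul, he, map_zero, Submodule.Quotient.mk_eq_zero]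
    exact ha
  have h2 := congrArg e h1
  rwa [he, map_zero, Submodule.Quotient.mk_eq_zero] at h2

theorem exists_content (h : GIF R D)
    [Algebra.IsSmoothAt R ((maximalIdeal R).map (algebraMap R D))] (a : D) :
    ∃ J : Ideal R, J.FG ∧ a ∈ J • (⊤ : Submodule R D) ∧
      ∀ I : Ideal R, a ∈ I • (⊤ : Submodule R D) → J ≤ I := by
  classical
  obtain ⟨F, hF, hss⟩ := exists_notMem_isStandardSmooth (R := R) ((maximalIdeal R).map (algebraMap R D))
  let B := Localization.Away F
  haveI : Algebra.IsStandardSmooth R B := hss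
  haveI : Algebra.Smooth R B := inferInstance
  haveI : Algebra.FinitePresentation R B := inferInstance
  haveI : Module.FaithfullyFlat R B := by
    refine Module.FaithfullyFlat.of_comap_surjective fun q => ?_
    haveI := liesOver_map (R := R) (D := D)
    obtain ⟨P, hP, hPp, hPover⟩ := Ideal.exists_ideal_le_liesOver_of_le
      (p := q.asIdeal) (q := maximalIdeal R) ((maximalIdeal R).map (algebraMap R D))
      (le_maximalIdeal q.isPrime.ne_top)
    haveI := hPp
    have hd : Disjoint (Submonoid.powers F : Set D) (P : Set D) :=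
      Ideal.disjoint_powers_iff_notMem F hPp.isRadical |>.2 fun h1 => hF (hP h1)
    refine ⟨⟨P.map (algebraMap D B), IsLocalization.isPrime_of_isPrime_disjoint _ _ P inferInstance hd⟩,
      PrimeSpectrum.ext ?_⟩
    show (P.map (algebraMap D B)).comap (algebraMap R B) = q.asIdeal
    rw [IsScalarTower.algebraMap_eq R D B, ← Ideal.comap_comap]
    rw [show (P.map (algebraMap D B)).comap (algebraMap D B) = P from
      IsLocalization.under_map_of_isPrime_disjoint (Submonoid.powers F) _ inferInstance hd]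
    exact hPover.over.symm
  obtain ⟨ι, σ, hσ, hι, ⟨P⟩⟩ := ‹Algebra.IsStandardSmooth R B›.out
  haveI : Algebra.IsStandardSmoothOfRelativeDimension P.dimension R B :=
    P.isStandardSmoothOfRelativeDimension rfl
  have hB : GIF R B := h.localization (Submonoid.powers F) B
  have H : ∀ (A : Type u) [CommRing A] [Algebra R A] (σ : A ⊗[R] B →ₐ[A] A) (c u : A ⊗[R] B),
      σ u = 1 → u * c = 0 → c = 0 := by
    intro A _ _ σ c u hu huc
    have hc : (u : A ⊗[R] B) • (c ⊗ₜ[A] (1 : A)) = (0 : (A ⊗[R] B) ⊗[A] A) := by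
      rw [TensorProduct.smul_tmul', smul_eq_mul, huc, TensorProduct.zero_tmul]
    have := eq_zero_of_forall_fibre (hB.baseChange A) (u := u) (fun 𝔔 _ h0 => ?_) hc
    · simpa using congrArg (TensorProduct.rid A (A ⊗[R] B)) this
    · let t := 𝔔.comap (algebraMap A (A ⊗[R] B))
      let ψ : t.ResidueField ⊗[A] (A ⊗[R] B) →ₐ[A] t.ResidueField :=
        Algebra.TensorProduct.lift (AlgHom.id A _) ((IsScalarTower.toAlgHom A A t.ResidueField).comp σ)
          fun _ _ => Commute.all _ _
      have h2 := congrArg ψ h0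
      rw [map_zero] at h2
      simp [ψ, hu] at h2
  obtain ⟨J, hJ, hJc⟩ := JetContent.exists_content P.dimension H (algebraMap D B a)
  have hiff : ∀ I : Ideal R, algebraMap D B a ∈ I • (⊤ : Submodule R B) ↔ J ≤ I := by
    intro I
    have e := TensorProduct.quotTensorEquivQuotSMul B I
    rw [← Submodule.Quotient.mk_eq_zero,
      ← one_smul R (algebraMap D B a), ← TensorProduct.quotTensorEquivQuotSMul_mk_tmul,
      LinearEquiv.map_eq_zero_iff]
    show ((1 : R ⧸ I) ⊗ₜ[R] algebraMap D B a = 0) ↔ _
    rw [hJc (R ⧸ I), Ideal.map_eq_bot_iff_le_ker, Ideal.Quotient.algebraMap_eq, Ideal.mk_ker]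
  have himg : ∀ I : Ideal R, a ∈ I • (⊤ : Submodule R D) ↔ algebraMap D B a ∈ I • (⊤ : Submodule R B) := by
    intro I
    rw [Ideal.smul_top_eq_map, Ideal.smul_top_eq_map, Submodule.restrictScalars_mem,
      Submodule.restrictScalars_mem, IsScalarTower.algebraMap_eq R D B, ← Ideal.map_map]
    refine ⟨Ideal.mem_map_of_mem _, fun hmem => ?_⟩
    obtain ⟨t, ht, hta⟩ := (IsLocalization.algebraMap_mem_map_algebraMap_iff (Submonoid.powers F) B _ a).1 hmem
    obtain ⟨k, rfl⟩ := ht
    have h2 := mem_of_mul_mem h (s := F ^ k) (fun h1 => hF (Ideal.IsPrime.mem_of_pow_mem ‹_› k h1)) I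
      (a := a) (by rwa [Ideal.smul_top_eq_map, Submodule.restrictScalars_mem])
    rwa [Ideal.smul_top_eq_map, Submodule.restrictScalars_mem] at h2
  exact ⟨J, hJ, (himg J).2 ((hiff J).2 le_rfl), fun I hI => (hiff I).1 ((himg I).1 hI)⟩

theorem hasContent_localization (h : GIF R D)
    [Algebra.IsSmoothAt R ((maximalIdeal R).map (algebraMap R D))] :
    HasContent R (Localization.AtPrime ((maximalIdeal R).map (algebraMap R D))) := by
  intro x
  let 𝔭 := (maximalIdeal R).map (algebraMap R D)
  let L := Localization.AtPrime 𝔭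
  obtain ⟨⟨a, s⟩, hs⟩ := IsLocalization.surj 𝔭.primeCompl x
  obtain ⟨J, hJ, ha, hmin⟩ := exists_content h a
  have key : ∀ (I : Ideal R) (y : D), algebraMap D L y ∈ (I.map (algebraMap R L)) ↔
      ∃ t ∈ 𝔭.primeCompl, t * y ∈ I.map (algebraMap R D) := by
    intro I y
    rw [IsScalarTower.algebraMap_eq R D L, ← Ideal.map_map,
      IsLocalization.algebraMap_mem_map_algebraMap_iff 𝔭.primeCompl L]
  refine ⟨J, hJ, ?_, fun I hI => hmin I ?_⟩
  · rw [Ideal.smul_top_eq_map, Submodule.restrictScalars_mem]
    have hmem : algebraMap D L a ∈ J.map (algebraMap R L) := by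
      rw [IsScalarTower.algebraMap_eq R D L, ← Ideal.map_map]
      refine Ideal.mem_map_of_mem _ ?_
      rwa [Ideal.smul_top_eq_map, Submodule.restrictScalars_mem] at ha
    simp only at hs
    rw [← hs] at hmem
    exact (Ideal.mul_unit_mem_iff_mem _ (IsLocalization.map_units L s)).1 hmem
  · rw [Ideal.smul_top_eq_map, Submodule.restrictScalars_mem] at hI
    simp only at hs
    have hmem : algebraMap D L a ∈ I.map (algebraMap R L) := by
      rw [← hs]; exact Ideal.mul_mem_right _ _ hI
    obtain ⟨t, ht, hta⟩ := (key I a).1 hmem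
    exact mem_of_mul_mem h ht I (by rwa [Ideal.smul_top_eq_map, Submodule.restrictScalars_mem])

end Local

end Groth.Agent.Lib.RG.Engine
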