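import Groth.Agent.Lib.RG.Residue
import Groth.Agent.Lib.FlatCx.RightExact

/-!
# One step of dévissage: flatness of `N` and of the cokernel
-/

set_option autoImplicit false
set_option linter.style.haveILetI false

universe u

open scoped TensorProduct
open IsLocalRing

namespace Groth.Agent.Lib.RG.FlatStep

open Engine

section General

variable {R D : Type u} [CommRing R] [CommRing D] [Algebra R D] {F N : Type u}
  [AddCommGroup F] [Module D F] [Module R F] [IsScalarTower R D F]
  [AddCommGroup N] [Module D N] [Module R N] [IsScalarTower R D N] (α : F →ₗ[D] N)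

/-- The cokernel of a universally injective map to a flat module is flat. -/
theorem flat_coker_of_univInj [Module.Flat R N]
    (h : _root_.FlatCA.UnivInj R (α.restrictScalars R)) :
    Module.Flat R (N ⧸ LinearMap.range (α.restrictScalars R)) := by
  rw [Module.Flat.iff_lTensor_preserves_injective_linearMap]
  intro A B _ _ _ _ i hi
  refine lTensor_injective_of_exact_of_exact_of_rTensor_injective (f₁ := α.restrictScalars R)
    (f₂ := (LinearMap.range (α.restrictScalars R)).mkQ) (g₁ := i) (g₂ := (LinearMap.range i).mkQ)
    (LinearMap.exact_map_mkQ_range _) (Submodule.mkQ_surjective _) (LinearMap.exact_map_mkQ_range _)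
    (Submodule.mkQ_surjective _) ?_ (Module.Flat.lTensor_preserves_injective_linearMap i hi)
  exact (LinearMap.lTensor_inj_iff_rTensor_inj _ _).1 (h _)

variable (W : Submonoid D)

theorem exists_exact :
    ∃ (f : LocalizedModule W F →ₗ[R] LocalizedModule W N)
      (g : LocalizedModule W N →ₗ[R] LocalizedModule W (N ⧸ LinearMap.range α)),
      f = (LocalizedModule.map W α).restrictScalars R ∧
      Function.Surjective g ∧ Function.Exact f g :=
  ⟨(LocalizedModule.map W α).restrictScalars R,
    (LocalizedModule.map W (LinearMap.range α).mkQ).restrictScalars R, rfl,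
    LocalizedModule.map_surjective W _ (Submodule.mkQ_surjective _),
    LocalizedModule.map_exact W _ _ (LinearMap.exact_map_mkQ_range α)⟩

/-- An injective localized map with flat cokernel and flat source has flat target. -/
theorem flat_target [Module.Flat R (LocalizedModule W F)]
    (hinj : Function.Injective (LocalizedModule.map W α))
    [Module.Flat R (LocalizedModule W (N ⧸ LinearMap.range α))] :
    Module.Flat R (LocalizedModule W N) := by
  obtain ⟨f, g, rfl, hg, hex⟩ := exists_exact (R := R) α W
  exact FlatCx.RightExact.flat_extension _ g hinj hg hex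

/-- A map universally injective up to `W` is universally injective after localization. -/
theorem univInj_localized (h : ∀ (Q : Type u) [AddCommGroup Q] [Module R Q] (z : F ⊗[R] Q),
      (α.restrictScalars R).rTensor Q z = 0 → ∃ s ∈ W, s • z = 0) :
    _root_.FlatCA.UnivInj R ((LocalizedModule.map W α).restrictScalars R) := by
  intro Q _ _
  rw [LinearMap.lTensor_inj_iff_rTensor_inj, injective_iff_map_eq_zero]
  intro z hz
  have hF := IsLocalizedModule.rTensor W (R := R) (A := D) (N := Q) (LocalizedModule.mkLinearMap W F)
  have hN := IsLocalizedModule.rTensor W (R := R) (A := D) (N := Q) (LocalizedModule.mkLinearMap W N)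
  let gF := TensorProduct.AlgebraTensorModule.rTensor R Q (LocalizedModule.mkLinearMap W F)
  let gN := TensorProduct.AlgebraTensorModule.rTensor R Q (LocalizedModule.mkLinearMap W N)
  let αW : LocalizedModule W F ⊗[R] Q →ₗ[D] LocalizedModule W N ⊗[R] Q :=
    TensorProduct.AlgebraTensorModule.rTensor R Q ((LocalizedModule.map W α).restrictScalars D)
  let αQ : F ⊗[R] Q →ₗ[D] N ⊗[R] Q := TensorProduct.AlgebraTensorModule.rTensor R Q α
  have hcomm : ∀ w, αW (gF w) = gN (αQ w) := by
    intro w
    induction w with
    | zero => simp
    | add a b ha hb => simp only [map_add, ha, hb]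
    | tmul a b =>
      simp only [αW, gF, gN, αQ, TensorProduct.AlgebraTensorModule.rTensor_tmul,
        LinearMap.coe_restrictScalars, LocalizedModule.mkLinearMap_apply, LocalizedModule.map_mk]
  obtain ⟨⟨w, s⟩, hws⟩ := IsLocalizedModule.surj W gF z
  simp only at hws
  have h1 : αW (gF w) = 0 := by
    rw [← hws, Submonoid.smul_def, map_smul]
    rw [show αW z = 0 from hz, smul_zero]
  rw [hcomm] at h1
  obtain ⟨t, ht⟩ := (IsLocalizedModule.eq_zero_iff W gN).1 h1
  rw [Submonoid.smul_def, ← map_smul] at ht
  obtain ⟨c, hc, hcw⟩ := h Q ((t : D) • w) ht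
  rw [smul_smul] at hcw
  have h3 : (c * t : D) • gF w = 0 := by rw [← map_smul, hcw, map_zero]
  rw [← hws, Submonoid.smul_def, smul_smul] at h3
  refine ((Module.End.isUnit_iff _).1 (IsLocalizedModule.map_units gF (⟨c, hc⟩ * t * s))).1 ?_
  simpa [Module.algebraMap_end_apply, smul_smul, mul_comm] using h3

/-- For a map universally injective up to `W`, flatness of the localized target passes to the cokernel. -/
theorem flat_coker_localized (h : ∀ (Q : Type u) [AddCommGroup Q] [Module R Q] (z : F ⊗[R] Q),
      (α.restrictScalars R).rTensor Q z = 0 → ∃ s ∈ W, s • z = 0)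
    [Module.Flat R (LocalizedModule W N)] :
    Module.Flat R (LocalizedModule W (N ⧸ LinearMap.range α)) := by
  obtain ⟨f, g, rfl, hg, hex⟩ := exists_exact (R := R) α W
  haveI : Module.Flat R (LocalizedModule W N ⧸ LinearMap.range ((LocalizedModule.map W α).restrictScalars R)) :=
    flat_coker_of_univInj (R := R) (D := D) ((LocalizedModule.map W α).restrictScalars D)
      (univInj_localized α W h)
  exact Module.Flat.of_linearEquiv ((Function.Exact.linearEquivOfSurjective hex hg).symm)

/-- Flatness passes to generizations. -/
theorem flat_of_le {P q : Ideal D} [P.IsPrime] [q.IsPrime] (hPq : P ≤ q)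
    (h : Module.Flat R (LocalizedModule q.primeCompl N)) :
    Module.Flat R (LocalizedModule P.primeCompl N) := by
  rw [H19.FlatLocus.flat_iff_killed P.primeCompl (LocalizedModule.mkLinearMap P.primeCompl N)]
  rw [H19.FlatLocus.flat_iff_killed q.primeCompl (LocalizedModule.mkLinearMap q.primeCompl N)] at h
  intro I z hz
  obtain ⟨s, hs, hsz⟩ := h I z hz
  exact ⟨s, fun h => hs (hPq h), hsz⟩

end General

section Step

variable {R : Type u} [CommRing R] [IsLocalRing R] {D : Type u} [CommRing D] [Algebra R D]
  [((maximalIdeal R).map (algebraMap R D)).IsPrime]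
  [Algebra.FinitePresentation R D] [Module.Flat R D] (hD : GIF R D)
  {N : Type u} [AddCommGroup N] [Module D N] [Module R N] [IsScalarTower R D N]
  {r : ℕ} {α : (Fin r → D) →ₗ[D] N}

include hD

/-- A map from a free module which is injective at the prime of the closed fibre is universally
injective. -/
theorem univInj_of_injective_localized
    (hbij : Function.Bijective (LocalizedModule.map (Ideal.primeCompl ((maximalIdeal R).map (algebraMap R D))) α)) :
    _root_.FlatCA.UnivInj R (α.restrictScalars R) := by
  set W := Ideal.primeCompl ((maximalIdeal R).map (algebraMap R D))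
  intro Q _ _
  rw [LinearMap.lTensor_inj_iff_rTensor_inj, injective_iff_map_eq_zero]
  intro z hz
  have hF := IsLocalizedModule.rTensor W (R := R) (A := D) (N := Q) (LocalizedModule.mkLinearMap W (Fin r → D))
  let gF := TensorProduct.AlgebraTensorModule.rTensor R Q (LocalizedModule.mkLinearMap W (Fin r → D))
  let gN := TensorProduct.AlgebraTensorModule.rTensor R Q (LocalizedModule.mkLinearMap W N)
  let αW : LocalizedModule W (Fin r → D) ⊗[R] Q →ₗ[D] LocalizedModule W N ⊗[R] Q :=
    TensorProduct.AlgebraTensorModule.rTensor R Q ((LocalizedModule.map W α).restrictScalars D)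
  have hcomm : ∀ w, αW (gF w) = gN ((α.restrictScalars R).rTensor Q w) := by
    intro w
    induction w with
    | zero => simp
    | add a b ha hb => simp only [map_add, ha, hb]
    | tmul a b =>
      simp only [αW, gF, gN, TensorProduct.AlgebraTensorModule.rTensor_tmul, LinearMap.rTensor_tmul,
        LinearMap.coe_restrictScalars, LocalizedModule.mkLinearMap_apply, LocalizedModule.map_mk]
  have hinj : Function.Injective αW := by
    let e : LocalizedModule W (Fin r → D) ≃ₗ[D] LocalizedModule W N :=
      (LinearEquiv.ofBijective (LocalizedModule.map W α) hbij).restrictScalars D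
    exact (TensorProduct.AlgebraTensorModule.congr e (LinearEquiv.refl R Q)).injective
  have h1 : gF z = 0 := hinj (by rw [hcomm, hz, map_zero, map_zero])
  obtain ⟨s, hs⟩ := (IsLocalizedModule.eq_zero_iff W gF).1 h1
  have h2 : ∀ i, TensorProduct.AlgebraTensorModule.rTensor R Q (LinearMap.proj (R := D) (φ := fun _ : Fin r => D) i) z = 0 := by
    intro i
    refine eq_zero_of_smul hD s.2 ?_
    rw [← map_smul, ← Submonoid.smul_def, hs, map_zero]
  have h3 : ∀ w : (Fin r → D) ⊗[R] Q, w = ∑ i, TensorProduct.AlgebraTensorModule.rTensor R Q
      (LinearMap.single D (fun _ : Fin r => D) i)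
      (TensorProduct.AlgebraTensorModule.rTensor R Q (LinearMap.proj (R := D) (φ := fun _ : Fin r => D) i) w) := by
    intro w
    induction w with
    | zero => simp
    | add a b ha hb => simp only [map_add, Finset.sum_add_distrib, ← ha, ← hb]
    | tmul a b =>
      simp only [TensorProduct.AlgebraTensorModule.rTensor_tmul, LinearMap.proj_apply, ← TensorProduct.sum_tmul,
        LinearMap.single_apply, Finset.univ_sum_single]
  rw [h3 z]
  simp [h2]

variable [Module.Finite D N] [Algebra.IsSmoothAt R ((maximalIdeal R).map (algebraMap R D))]
  (hα : Function.Bijective (α.baseChange (Ideal.ResidueField ((maximalIdeal R).map (algebraMap R D)))))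

include hα

theorem bijective_localized
    [Module.Flat R (LocalizedModule (Ideal.primeCompl ((maximalIdeal R).map (algebraMap R D))) N)] :
    Function.Bijective (LocalizedModule.map (Ideal.primeCompl ((maximalIdeal R).map (algebraMap R D))) α) :=
  ⟨Residue.injective_localized hα hD, Residue.surjective_localized hα⟩

theorem univInj_of_flat
    [Module.Flat R (LocalizedModule (Ideal.primeCompl ((maximalIdeal R).map (algebraMap R D))) N)] :
    _root_.FlatCA.UnivInj R (α.restrictScalars R) :=
  univInj_of_injective_localized hD (bijective_localized hD hα)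

omit hα

theorem le_prime (q : Ideal D) [q.IsPrime] [q.LiesOver (maximalIdeal R)] :
    (maximalIdeal R).map (algebraMap R D) ≤ q :=
  Ideal.map_le_iff_le_comap.2 (q.over_def (maximalIdeal R)).le

end Step

end Groth.Agent.Lib.RG.FlatStep
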