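import Groth.Agent.Lib.RG.GoodDef
import Groth.Agent.Lib.RG.Engine
import Groth.Agent.Lib.RG.FlatStep
import Groth.Agent.Lib.RG.DevTools
import Groth.Agent.Lib.RG57.ContentProj
import Groth.Agent.Lib.LocalFlat.UnivInjective

/-!
# Universal injectivity along a complete dévissage

A map from a localized module with a complete dévissage into a flat module over the local ring of the
base, which is injective on the fibre, is universally injective, and its source is flat.
-/

set_option autoImplicit false
set_option linter.style.haveILetI false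

universe u

open scoped TensorProduct

namespace Groth.Agent.Lib.RG.GoodUI

open Engine GoodDev

/-- Universal injectivity, tested on the right. -/
def RUI (R : Type u) [CommRing R] {M N : Type u} [AddCommGroup M] [AddCommGroup N] [Module R M] [Module R N]
    (f : M →ₗ[R] N) : Prop :=
  ∀ (Q : Type u) [AddCommGroup Q] [Module R Q], Function.Injective (f.rTensor Q)

section Kill

/-- A map from a projective module to a flat `p`-local module which is injective on the fibre at `p`
has, after any tensor product, kernel killed outside `p`. -/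
theorem exists_kill_of_proj {R : Type u} [CommRing R] (p : Ideal R) [p.IsPrime] {X M : Type u} [AddCommGroup X]
    [Module R X] [Module.Projective R X] [AddCommGroup M] [Module R M] [Module.Flat R M]
    (hM : ∀ t : R, t ∉ p → Function.Bijective fun m : M => t • m) (ψ : X →ₗ[R] M)
    (hψ : Function.Injective (ψ.rTensor p.ResidueField)) (Q : Type u) [AddCommGroup Q] [Module R Q]
    (w : X ⊗[R] Q) (hw : ψ.rTensor Q w = 0) : ∃ t ∉ p, t • w = 0 := by
  let A := Localization.AtPrime p
  let M' := LocalizedModule p.primeCompl M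
  let ι : M →ₗ[R] M' := LocalizedModule.mkLinearMap p.primeCompl M
  have hι : Function.Bijective ι := by
    refine ⟨(injective_iff_map_eq_zero ι).2 fun m hm => ?_, fun y => ?_⟩
    · obtain ⟨⟨t, ht⟩, htm⟩ := (IsLocalizedModule.eq_zero_iff p.primeCompl ι).1 hm
      exact (hM t ht).1 ((show t • m = 0 from htm).trans (smul_zero t).symm)
    · induction y using LocalizedModule.induction_on with
      | h m s =>
        obtain ⟨m', hm'⟩ := (hM s s.2).2 m
        refine ⟨m', ?_⟩
        show LocalizedModule.mk m' 1 = LocalizedModule.mk m s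
        rw [LocalizedModule.mk_eq]
        exact ⟨1, by simpa [Submonoid.smul_def] using hm'⟩
  haveI : Module.Flat A M' := inferInstance
  let ψ' : X →ₗ[R] M' := ι.comp ψ
  let ψA : A ⊗[R] X →ₗ[A] M' := ψ'.liftBaseChange A
  let κ := p.ResidueField
  have hψ' : Function.Injective (ψ'.lTensor κ) := by
    refine (LinearMap.lTensor_inj_iff_rTensor_inj _ _).2 ?_
    rw [LinearMap.rTensor_comp]
    exact (LinearEquiv.rTensor κ (LinearEquiv.ofBijective ι hι)).injective.comp hψ
  have hres : Function.Injective (ψA.lTensor κ) := by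
    let e1 := TensorProduct.AlgebraTensorModule.cancelBaseChange R A A κ X
    let e2 : κ ⊗[A] M' ≃ₗ[R] κ ⊗[R] M' := TensorProduct.equivOfCompatibleSMul R A R κ M'
    have hc : ∀ z, e2 (ψA.lTensor κ z) = ψ'.lTensor κ (e1 z) := by
      intro z
      induction z using TensorProduct.induction_on with
      | zero => simp
      | add a b ha hb => simp only [map_add, ha, hb]
      | tmul c y =>
        induction y using TensorProduct.induction_on with
        | zero => simp
        | add a b ha hb => simp only [TensorProduct.tmul_add, map_add, ha, hb]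
        | tmul a x =>
          rw [LinearMap.lTensor_tmul, LinearMap.liftBaseChange_tmul,
            TensorProduct.AlgebraTensorModule.cancelBaseChange_tmul, LinearMap.lTensor_tmul, TensorProduct.smul_tmul]
          rfl
    intro z z' h
    exact e1.injective (hψ' (by rw [← hc, ← hc, h]))
  have hui := LocalFlat.UnivInjective.rTensor_injective_of_projective ψA hres (A ⊗[R] Q)
  let G : M' ⊗[R] Q ≃ₗ[A] M' ⊗[A] (A ⊗[R] Q) := (TensorProduct.AlgebraTensorModule.cancelBaseChange R A A M' Q).symm
  have hnat : ∀ v : X ⊗[R] Q,
      ψA.rTensor (A ⊗[R] Q) (TensorProduct.AlgebraTensorModule.distribBaseChange R A X Q ((1 : A) ⊗ₜ[R] v)) =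
        G (ψ'.rTensor Q v) := by
    intro v
    induction v using TensorProduct.induction_on with
    | zero => simp
    | add a b ha hb => simp only [TensorProduct.tmul_add, map_add, ha, hb]
    | tmul x q =>
      rw [TensorProduct.AlgebraTensorModule.distribBaseChange_tmul, LinearMap.rTensor_tmul,
        LinearMap.liftBaseChange_tmul, one_smul, LinearMap.rTensor_tmul]
      rfl
  have h1 : (1 : A) ⊗ₜ[R] w = 0 := by
    refine (TensorProduct.AlgebraTensorModule.distribBaseChange R A X Q).injective (hui ?_)
    rw [hnat, LinearMap.rTensor_comp, LinearMap.comp_apply, hw, map_zero, map_zero, map_zero, map_zero]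
  haveI : IsLocalizedModule p.primeCompl (TensorProduct.mk R A (X ⊗[R] Q) 1) :=
    (isLocalizedModule_iff_isBaseChange p.primeCompl A _).2 (TensorProduct.isBaseChange R (X ⊗[R] Q) A)
  obtain ⟨⟨t, ht⟩, htw⟩ := (IsLocalizedModule.eq_zero_iff p.primeCompl (TensorProduct.mk R A (X ⊗[R] Q) 1)).1 h1
  exact ⟨t, ht, htw⟩

end Kill

section Residue

/-- Elements of a tensor product with a residue field have a common denominator. -/
theorem exists_tmul_one {R : Type u} [CommRing R] (p : Ideal R) [p.IsPrime] {X : Type u} [AddCommGroup X]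
    [Module R X] (z : X ⊗[R] p.ResidueField) :
    ∃ t ∉ p, ∃ x : X, t • z = x ⊗ₜ[R] (1 : p.ResidueField) := by
  induction z using TensorProduct.induction_on with
  | zero => exact ⟨1, p.primeCompl.one_mem, 0, by simp⟩
  | tmul x c =>
    obtain ⟨l, rfl⟩ := IsLocalRing.residue_surjective c
    obtain ⟨a, ⟨t, ht⟩, rfl⟩ := IsLocalization.exists_mk'_eq p.primeCompl l
    refine ⟨t, ht, a • x, ?_⟩
    rw [TensorProduct.smul_tmul, ← TensorProduct.tmul_smul]
    congr 1
    rw [Algebra.smul_def, Algebra.smul_def, mul_one, IsScalarTower.algebraMap_apply R (Localization.AtPrime p) p.ResidueField t,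
      IsScalarTower.algebraMap_apply R (Localization.AtPrime p) p.ResidueField a]
    show IsLocalRing.residue _ _ * IsLocalRing.residue _ _ = IsLocalRing.residue _ _
    rw [← map_mul]
    exact congrArg _ (IsLocalization.mk'_spec' (Localization.AtPrime p) a ⟨t, ht⟩)
  | add u v hu hv =>
    obtain ⟨s, hs, x, hx⟩ := hu
    obtain ⟨t, ht, y, hy⟩ := hv
    refine ⟨s * t, p.primeCompl.mul_mem hs ht, t • x + s • y, ?_⟩
    rw [smul_add, TensorProduct.add_tmul, ← TensorProduct.smul_tmul', ← TensorProduct.smul_tmul', ← hx, ← hy,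
      smul_smul, smul_smul, mul_comm t s]

/-- Elements outside `p` act injectively on tensor products with the residue field. -/
theorem eq_zero_of_smul_residue {R : Type u} [CommRing R] (p : Ideal R) [p.IsPrime] {X : Type u} [AddCommGroup X]
    [Module R X] {t : R} (ht : t ∉ p) {z : X ⊗[R] p.ResidueField} (h : t • z = 0) : z = 0 := by
  have hu : IsUnit (algebraMap R p.ResidueField t) :=
    isUnit_iff_ne_zero.2 fun h0 => ht (Ideal.algebraMap_residueField_eq_zero.1 h0)
  let e : X ⊗[R] p.ResidueField ≃ₗ[R] X ⊗[R] p.ResidueField := LinearEquiv.lTensor X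
    ((LinearEquiv.smulOfUnit hu.unit (R := p.ResidueField) (M := p.ResidueField)).restrictScalars R)
  have he : ∀ y, e y = t • y := fun y => by
    induction y using TensorProduct.induction_on with
    | zero => simp
    | add a b ha hb => rw [map_add, ha, hb, smul_add]
    | tmul a b => rw [← TensorProduct.tmul_smul, Algebra.smul_def]; rfl
  exact e.injective (by rw [he, h, map_zero])

variable {R B : Type u} [CommRing R] [CommRing B] [Algebra R B] (p : Ideal R) [p.IsPrime]
  [hP : (p.map (algebraMap R B)).IsPrime] [(p.map (algebraMap R B)).LiesOver p]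
  {M : Type u} [AddCommGroup M] [Module B M] [Module R M] [IsScalarTower R B M]

/-- A map bijective at the generic point of an integral fibre is injective on the fibre. -/
theorem injective_fibre {r : ℕ} (α : (Fin r → B) →ₗ[B] M)
    (hα : Function.Bijective (α.baseChange (p.map (algebraMap R B)).ResidueField))
    (z : (Fin r → B) ⊗[R] p.ResidueField) (hz : (α.restrictScalars R).rTensor p.ResidueField z = 0) : z = 0 := by
  classical
  let P := p.map (algebraMap R B)
  obtain ⟨t, ht, x, hx⟩ := exists_tmul_one p z
  refine eq_zero_of_smul_residue p ht ?_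
  have h1 : α x ⊗ₜ[R] (1 : p.ResidueField) = 0 := by
    have h := congrArg ((α.restrictScalars R).rTensor p.ResidueField) hx
    rw [map_smul, hz, smul_zero, LinearMap.rTensor_tmul] at h
    exact h.symm
  let φ := Ideal.ResidueField.mapₐ p P (Algebra.ofId R B) (P.over_def p)
  let Ψ : M ⊗[R] p.ResidueField →ₗ[R] P.ResidueField ⊗[B] M :=
    TensorProduct.lift
      { toFun := fun m => ((TensorProduct.mk B P.ResidueField M).flip m).restrictScalars R ∘ₗ φ.toLinearMap
        map_add' := fun a b => LinearMap.ext fun c => by simp [TensorProduct.tmul_add]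
        map_smul' := fun s a => LinearMap.ext fun c => by
          simp only [LinearMap.coe_comp, LinearMap.coe_restrictScalars, Function.comp_apply, LinearMap.flip_apply,
            TensorProduct.mk_apply, RingHom.id_apply, LinearMap.smul_apply]
          rw [← algebraMap_smul B s a, TensorProduct.tmul_smul, algebraMap_smul] }
  have h2 : (1 : P.ResidueField) ⊗ₜ[B] α x = 0 := by
    have h := congrArg Ψ h1
    rw [map_zero] at h
    simpa [Ψ] using h
  have h3 : (1 : P.ResidueField) ⊗ₜ[B] x = 0 := hα.1 (by rw [map_zero, LinearMap.baseChange_tmul, h2])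
  have hxi : ∀ i, x i ∈ P := fun i => by
    have h := congrFun (congrArg (TensorProduct.piScalarRight B P.ResidueField P.ResidueField (Fin r)) h3) i
    rw [map_zero, Pi.zero_apply, TensorProduct.piScalarRight_apply, TensorProduct.piScalarRightHom_tmul] at h
    simp only [Algebra.smul_def, mul_one] at h
    exact Ideal.algebraMap_residueField_eq_zero.1 h
  have hkill : ∀ b ∈ P, b ⊗ₜ[R] (1 : p.ResidueField) = (0 : B ⊗[R] p.ResidueField) := by
    intro b hb
    rw [show P = Ideal.span (algebraMap R B '' (p : Set R)) from rfl] at hb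
    induction hb using Submodule.span_induction with
    | mem y hy =>
      obtain ⟨a, ha, rfl⟩ := hy
      rw [Algebra.algebraMap_eq_smul_one, TensorProduct.smul_tmul, Algebra.smul_def, mul_one,
        Ideal.algebraMap_residueField_eq_zero.2 ha, TensorProduct.tmul_zero]
    | zero => rw [TensorProduct.zero_tmul]
    | add a b _ _ ha hb => rw [TensorProduct.add_tmul, ha, hb, add_zero]
    | smul c y _ hy =>
      rw [show (c • y) ⊗ₜ[R] (1 : p.ResidueField) = c • (y ⊗ₜ[R] (1 : p.ResidueField)) from
        (TensorProduct.smul_tmul' c y _).symm, hy, smul_zero]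
  rw [hx, ← Finset.univ_sum_single x, TensorProduct.sum_tmul]
  refine Finset.sum_eq_zero fun i _ => ?_
  have h := congrArg ((LinearMap.single R (fun _ : Fin r => B) i).rTensor p.ResidueField) (hkill _ (hxi i))
  rwa [map_zero, LinearMap.rTensor_tmul, LinearMap.single_apply] at h

omit hP [(p.map (algebraMap R B)).LiesOver p] in
/-- Elements outside a prime over `p` are regular on the fibres of free modules. -/
theorem regular_fibre (hB : GIF R B) (y : Ideal B) [y.IsPrime] [y.LiesOver p] {w : B} (hw : w ∉ y) {r : ℕ}
    (z : (Fin r → B) ⊗[R] p.ResidueField) (hz : w • z = 0) : z = 0 := by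
  classical
  have hw' : (1 : p.ResidueField) ⊗ₜ[R] w ≠ 0 := fun h => hw (mem_of_tmul_eq_zero p y h)
  let pr : ∀ _ : Fin r, (Fin r → B) ⊗[R] p.ResidueField →ₗ[B] B ⊗[R] p.ResidueField := fun i =>
    TensorProduct.AlgebraTensorModule.rTensor R p.ResidueField (LinearMap.proj (R := B) (φ := fun _ : Fin r => B) i)
  have h2 : ∀ i, pr i z = 0 := fun i => fibre_regular hB p hw' _ (by rw [← map_smul, hz, map_zero])
  have h3 : ∀ v : (Fin r → B) ⊗[R] p.ResidueField, v = ∑ i, TensorProduct.AlgebraTensorModule.rTensor R p.ResidueField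
      (LinearMap.single B (fun _ : Fin r => B) i) (pr i v) := by
    intro v
    induction v with
    | zero => simp
    | add a b ha hb => simp only [map_add, Finset.sum_add_distrib, ← ha, ← hb]
    | tmul a b =>
      simp only [pr, TensorProduct.AlgebraTensorModule.rTensor_tmul, LinearMap.proj_apply, ← TensorProduct.sum_tmul,
        LinearMap.single_apply, Finset.univ_sum_single]
  rw [h3 z]
  simp [h2]

end Residue

section Localized

variable {R D : Type u} [CommRing R] [CommRing D] [Algebra R D] (W : Submonoid D)
  {F F' N N' : Type u} [AddCommGroup F] [Module D F] [Module R F] [IsScalarTower R D F]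
  [AddCommGroup F'] [Module D F'] [Module R F'] [IsScalarTower R D F']
  [AddCommGroup N] [Module D N] [Module R N] [IsScalarTower R D N]
  [AddCommGroup N'] [Module D N'] [Module R N'] [IsScalarTower R D N']

/-- Injectivity of a localized map after tensoring, from torsion of the kernel. -/
theorem rTensor_injective_localized (lF : F →ₗ[D] F') [IsLocalizedModule W lF] (lN : N →ₗ[D] N')
    [IsLocalizedModule W lN] (g : F →ₗ[D] N) (g' : F' →ₗ[D] N') (hcomm : ∀ x, g' (lF x) = lN (g x))
    (Q : Type u) [AddCommGroup Q] [Module R Q]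
    (h : ∀ z, (g.restrictScalars R).rTensor Q z = 0 → ∃ s ∈ W, s • z = 0) :
    Function.Injective ((g'.restrictScalars R).rTensor Q) := by
  rw [injective_iff_map_eq_zero]
  intro z hz
  haveI := IsLocalizedModule.rTensor W (R := R) (A := D) (N := Q) lF
  haveI := IsLocalizedModule.rTensor W (R := R) (A := D) (N := Q) lN
  let gF := TensorProduct.AlgebraTensorModule.rTensor R Q lF
  let gN := TensorProduct.AlgebraTensorModule.rTensor R Q lN
  let αW : F' ⊗[R] Q →ₗ[D] N' ⊗[R] Q := TensorProduct.AlgebraTensorModule.rTensor R Q g'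
  let αQ : F ⊗[R] Q →ₗ[D] N ⊗[R] Q := TensorProduct.AlgebraTensorModule.rTensor R Q g
  have hc : ∀ w, αW (gF w) = gN (αQ w) := by
    intro w
    induction w with
    | zero => simp
    | add a b ha hb => simp only [map_add, ha, hb]
    | tmul a b => simp only [αW, gF, gN, αQ, TensorProduct.AlgebraTensorModule.rTensor_tmul, hcomm]
  obtain ⟨⟨w, s⟩, hws⟩ := IsLocalizedModule.surj W gF z
  simp only at hws
  have h1 : αW (gF w) = 0 := by
    rw [← hws, Submonoid.smul_def, map_smul, show αW z = 0 from hz, smul_zero]
  rw [hc] at h1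
  obtain ⟨t, ht⟩ := (IsLocalizedModule.eq_zero_iff W gN).1 h1
  rw [Submonoid.smul_def, ← map_smul] at ht
  obtain ⟨c, hc', hcw⟩ := h ((t : D) • w) ht
  rw [smul_smul] at hcw
  have h3 : (c * t : D) • gF w = 0 := by rw [← map_smul, hcw, map_zero]
  rw [← hws, Submonoid.smul_def, smul_smul] at h3
  refine ((Module.End.isUnit_iff _).1 (IsLocalizedModule.map_units gF (⟨c, hc'⟩ * t * s))).1 ?_
  simpa [Module.algebraMap_end_apply, smul_smul, mul_comm] using h3

omit [Module R F'] [IsScalarTower R D F'] [Module R N] [IsScalarTower R D N] [Module R N']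
  [IsScalarTower R D N'] [Algebra R D] [Module R F] [IsScalarTower R D F] in
/-- Localizations at a cofinal image of a submonoid. -/
theorem isLocalizedModule_of_cofinal {A : Type u} [CommRing A] [Algebra D A] {G G' : Type u} [AddCommGroup G]
    [Module A G] [Module D G] [IsScalarTower D A G] [AddCommGroup G'] [Module A G'] [Module D G']
    [IsScalarTower D A G'] (W' : Submonoid A) (l : G →ₗ[A] G') [IsLocalizedModule W' l]
    (hW : ∀ b ∈ W, algebraMap D A b ∈ W') (hcof : ∀ a ∈ W', ∃ c : A, ∃ b ∈ W, a * c = algebraMap D A b) :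
    IsLocalizedModule W (l.restrictScalars D) := by
  refine { map_units := fun b => ?_, surj := fun y => ?_, exists_of_eq := fun {x y} h => ?_ }
  · rw [Module.End.isUnit_iff]
    convert (Module.End.isUnit_iff _).1 (IsLocalizedModule.map_units l (⟨_, hW b b.2⟩ : W')) using 1
    funext z
    exact (algebraMap_smul A (b : D) z).symm
  · obtain ⟨⟨g, a⟩, hg⟩ := IsLocalizedModule.surj W' l y
    obtain ⟨c, b, hb, hab⟩ := hcof a a.2
    refine ⟨⟨c • g, ⟨b, hb⟩⟩, ?_⟩
    show b • y = l (c • g)
    rw [← algebraMap_smul A b y, ← hab, mul_comm, mul_smul, map_smul]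
    exact congrArg (c • ·) hg
  · obtain ⟨a, ha⟩ := IsLocalizedModule.exists_of_eq (S := W') (f := l) h
    obtain ⟨c, b, hb, hab⟩ := hcof a a.2
    refine ⟨⟨b, hb⟩, ?_⟩
    show b • x = b • y
    rw [← algebraMap_smul A b x, ← algebraMap_smul A b y, ← hab, mul_comm, mul_smul, mul_smul]
    exact congrArg (c • ·) ha

end Localized

section Step

variable {R : Type u} [CommRing R] (p : Ideal R) [p.IsPrime] {B : Type u} [CommRing B] [Algebra R B]
  (y : Ideal B) [y.IsPrime] [hy : y.LiesOver p]

/-- The free piece of a step: universal injectivity from injectivity on the fibre. -/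
theorem ui_free (hB : GIF R B) [Module.Projective R B] {r : ℕ} {L₀ M : Type u} [AddCommGroup L₀] [Module B L₀]
    [Module R L₀] [IsScalarTower R B L₀] (l₀ : (Fin r → B) →ₗ[B] L₀) [IsLocalizedModule y.primeCompl l₀]
    [AddCommGroup M] [Module R M] [Module.Flat R M] (hM : ∀ t : R, t ∉ p → Function.Bijective fun m : M => t • m)
    (ψ : L₀ →ₗ[R] M) (hψ : Function.Injective (ψ.rTensor p.ResidueField)) : RUI R ψ := by
  intro Q _ _
  rw [injective_iff_map_eq_zero]
  intro z hz
  haveI := IsLocalizedModule.rTensor y.primeCompl (R := R) (A := B) (N := Q) l₀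
  let gF := TensorProduct.AlgebraTensorModule.rTensor R Q l₀
  obtain ⟨⟨w, s⟩, hws⟩ := IsLocalizedModule.surj y.primeCompl gF z
  simp only at hws
  let U : L₀ →ₗ[B] L₀ := ((IsLocalizedModule.map_units l₀ s).unit⁻¹.1 : Module.End B L₀)
  have hU : ∀ m, U ((s : B) • m) = m := fun m => by
    exact LinearMap.congr_fun (IsLocalizedModule.map_units l₀ s).val_inv_mul m
  let g : (Fin r → B) →ₗ[R] L₀ := (U.comp l₀).restrictScalars R
  have hUb : Function.Injective U := fun a b hab => by
    obtain ⟨a', rfl⟩ := ((Module.End.isUnit_iff _).1 (IsLocalizedModule.map_units l₀ s)).2 a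
    obtain ⟨b', rfl⟩ := ((Module.End.isUnit_iff _).1 (IsLocalizedModule.map_units l₀ s)).2 b
    simp only [Module.algebraMap_end_apply, hU] at hab
    simp only [Module.algebraMap_end_apply, hab]
  have hUs : Function.Surjective U := fun m => ⟨(s : B) • m, hU m⟩
  have hg : Function.Injective (g.rTensor p.ResidueField) := by
    have hl : Function.Injective ((l₀.restrictScalars R).rTensor p.ResidueField) := by
      haveI := IsLocalizedModule.rTensor y.primeCompl (R := R) (A := B) (N := p.ResidueField) l₀
      rw [injective_iff_map_eq_zero]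
      intro v hv
      obtain ⟨⟨c, hc⟩, hcv⟩ := (IsLocalizedModule.eq_zero_iff y.primeCompl
        (TensorProduct.AlgebraTensorModule.rTensor R p.ResidueField l₀)).1 hv
      exact regular_fibre p hB y hc v hcv
    rw [show g = (LinearEquiv.ofBijective (U.restrictScalars R) ⟨hUb, hUs⟩).toLinearMap.comp (l₀.restrictScalars R)
      from rfl, LinearMap.rTensor_comp]
    exact (LinearEquiv.rTensor _ _).injective.comp hl
  have hgw : g.rTensor Q w = z := by
    have h1 : (U.restrictScalars R).rTensor Q (gF w) = g.rTensor Q w := by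
      rw [show g = (U.restrictScalars R).comp (l₀.restrictScalars R) from rfl, LinearMap.rTensor_comp]
      rfl
    rw [← h1, ← hws, Submonoid.smul_def]
    have h2 : ∀ v : L₀ ⊗[R] Q, (U.restrictScalars R).rTensor Q ((s : B) • v) = v := fun v => by
      induction v using TensorProduct.induction_on with
      | zero => simp
      | add a b ha hb => simp only [smul_add, map_add, ha, hb]
      | tmul a b => rw [TensorProduct.smul_tmul', LinearMap.rTensor_tmul, LinearMap.coe_restrictScalars, hU]
    exact h2 z
  haveI : Module.Projective R (Fin r → B) :=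
    Module.Projective.of_equiv (DFinsupp.linearEquivFunOnFintype (R := R) (M := fun _ : Fin r => B))
  obtain ⟨t, ht, htw⟩ := exists_kill_of_proj p hM (ψ.comp g)
    (by rw [LinearMap.rTensor_comp]; exact hψ.comp hg) Q w
    (by rw [LinearMap.rTensor_comp, LinearMap.comp_apply, hgw, hz])
  have hts : algebraMap R B t * (s : B) ∈ y.primeCompl :=
    y.primeCompl.mul_mem (fun h => ht ((hy.over).ge h)) s.2
  refine ((Module.End.isUnit_iff _).1 (IsLocalizedModule.map_units gF ⟨_, hts⟩)).1 ?_
  simp only [Module.algebraMap_end_apply, smul_zero]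
  rw [mul_smul, ← Submonoid.smul_def, hws, algebraMap_smul, ← LinearMap.map_smul_of_tower, htw, map_zero]

end Step

set_option maxHeartbeats 1600000 in
/-- Universal injectivity and flatness along a complete dévissage. -/
theorem ui_good : ∀ (k : ℕ) (R S : Type u) [CommRing R] [CommRing S] [Algebra R S] (N : Type u) [AddCommGroup N]
    [Module S N] (p : Ideal R) [p.IsPrime] (q : Ideal S) [q.IsPrime] (_ : Good k R S N p q)
    (L : Type u) [AddCommGroup L] [Module S L] [Module R L] [IsScalarTower R S L] (lN : N →ₗ[S] L)
    [IsLocalizedModule q.primeCompl lN] (M : Type u) [AddCommGroup M] [Module R M] [Module.Flat R M]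
    (_ : ∀ t : R, t ∉ p → Function.Bijective fun m : M => t • m) (v : L →ₗ[R] M),
    Function.Injective (v.rTensor p.ResidueField) → RUI R v ∧ Module.Flat R L
  | 0, _, _, _, _, _, _, _, _, _, _, _, _, h, _, _, _, _, _, _, _, _, _, _, _, _, _ => h.elim
  | k + 1, R, S, _, _, _, N, _, _, p, _, q, _, h, L, _, _, _, _, lN, _, M, _, _, _, hM, v => by
    intro hv
    obtain ⟨s, hs⟩ := h
    haveI := s.smooth
    haveI := s.finiteBA
    haveI := s.finiteM
    haveI : Module.Finite s.B s.M := Module.Finite.trans s.A s.M
    haveI : IsScalarTower R s.A s.M := IsScalarTower.of_algebraMap_smul fun a m => by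
      rw [IsScalarTower.algebraMap_apply R s.B s.A, algebraMap_smul, algebraMap_smul]
    have hgif := Fibres.gif_of_smooth_of_geomIrred s.geomIrred
    haveI : Module.Projective R s.B := RG57.ContentProj.projective fun K _ _ =>
      Fibres.isDomain_of_smooth_of_geomIrred s.geomIrred K
    haveI : (p.map (algebraMap R s.B)).LiesOver p := ⟨le_antisymm Ideal.le_comap_map fun a ha =>
      (s.qB.over_def p).ge (Ideal.map_le_iff_le_comap.2 (s.qB.over_def p).le ha)⟩
    -- the localizations at the three primes agree
    let L' := LocalizedModule s.qA.primeCompl s.M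
    let lA : s.M →ₗ[s.A] L' := LocalizedModule.mkLinearMap _ _
    haveI : IsScalarTower S s.A L' := inferInstance
    haveI : IsScalarTower s.B s.A L' := inferInstance
    haveI hlS : IsLocalizedModule q.primeCompl (lA.restrictScalars S) := by
      refine isLocalizedModule_of_cofinal q.primeCompl s.qA.primeCompl lA (fun b hb hm => hb (s.q0.le hm))
        fun a ha => ?_
      obtain ⟨b, rfl⟩ := s.surjSA a
      exact ⟨1, b, fun hb => ha (s.q0.ge hb), mul_one _⟩
    haveI hlB : IsLocalizedModule s.qB.primeCompl (lA.restrictScalars s.B) := by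
      refine isLocalizedModule_of_cofinal s.qB.primeCompl s.qA.primeCompl lA
        (fun b hb hm => hb ((s.qA.over_def s.qB).ge hm)) fun a ha => ?_
      obtain ⟨w, hw, hwa⟩ := DevTools.exists_notMem_algebraMap_mem s.qB (Ideal.span {a}) fun z hz hzq hle => by
        haveI := hz
        exact ha (s.uniq z ⟨hzq.symm⟩ ▸ hle (Ideal.mem_span_singleton_self a))
      obtain ⟨c, hc⟩ := Ideal.mem_span_singleton'.1 hwa
      exact ⟨c, w, hw, (mul_comm a c).trans hc⟩
    haveI : IsLocalizedModule q.primeCompl ((lA.restrictScalars S).comp s.isoN.toLinearMap) :=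
      IsLocalizedModule.of_linearEquiv_right q.primeCompl (lA.restrictScalars S) s.isoN
    let e : L ≃ₗ[S] L' := IsLocalizedModule.linearEquiv q.primeCompl lN ((lA.restrictScalars S).comp s.isoN.toLinearMap)
    haveI : IsScalarTower R S L' := IsScalarTower.of_algebraMap_smul fun a m => by
      rw [← algebraMap_smul s.A (algebraMap R S a) m, ← IsScalarTower.algebraMap_apply, algebraMap_smul]
    haveI : IsScalarTower R s.B L' := IsScalarTower.of_algebraMap_smul fun a m => by
      rw [← algebraMap_smul s.A (algebraMap R s.B a) m, ← IsScalarTower.algebraMap_apply, algebraMap_smul]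
    let eR : L ≃ₗ[R] L' := e.restrictScalars R
    let v' : L' →ₗ[R] M := v.comp eR.symm.toLinearMap
    have hv' : Function.Injective (v'.rTensor p.ResidueField) := by
      rw [LinearMap.rTensor_comp]
      exact hv.comp (LinearEquiv.rTensor p.ResidueField eR.symm).injective
    suffices H : RUI R v' ∧ Module.Flat R L' by
      haveI := H.2
      refine ⟨fun Q _ _ => ?_, Module.Flat.of_linearEquiv eR⟩
      have h1 : v = v'.comp eR.toLinearMap := LinearMap.ext fun x => by simp [v']
      rw [h1, LinearMap.rTensor_comp]
      exact (H.1 Q).comp (LinearEquiv.rTensor Q eR).injective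
    -- the exact sequence of the step
    let lB := lA.restrictScalars s.B
    let L₀ := LocalizedModule s.qB.primeCompl (Fin s.r → s.B)
    let l₀ : (Fin s.r → s.B) →ₗ[s.B] L₀ := LocalizedModule.mkLinearMap _ _
    let L₁ := LocalizedModule s.qB.primeCompl s.coker
    let l₁ : s.coker →ₗ[s.B] L₁ := LocalizedModule.mkLinearMap _ _
    let α' : L₀ →ₗ[s.B] L' := IsLocalizedModule.map s.qB.primeCompl l₀ lB s.α
    let π' : L' →ₗ[s.B] L₁ := IsLocalizedModule.map s.qB.primeCompl lB l₁ (LinearMap.range s.α).mkQ
    have hπ : Function.Surjective π' := IsLocalizedModule.map_surjective _ _ _ _ (Submodule.mkQ_surjective _)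
    have hex : Function.Exact α' π' :=
      IsLocalizedModule.map_exact s.qB.primeCompl l₀ lB l₁ _ _ (LinearMap.exact_map_mkQ_range s.α)
    let f : L₀ →ₗ[R] L' := α'.restrictScalars R
    let g : L' →ₗ[R] L₁ := π'.restrictScalars R
    have hf : Function.Injective (f.rTensor p.ResidueField) :=
      rTensor_injective_localized s.qB.primeCompl l₀ lB s.α α'
        (fun x => IsLocalizedModule.map_apply s.qB.primeCompl l₀ lB s.α x) p.ResidueField
        fun z hz => ⟨1, s.qB.primeCompl.one_mem, by rw [one_smul]; exact injective_fibre p s.α s.fibreIso z hz⟩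
    let ψ : L₀ →ₗ[R] M := v'.comp f
    have hψ : RUI R ψ := ui_free p s.qB hgif l₀ hM ψ (by rw [LinearMap.rTensor_comp]; exact hv'.comp hf)
    haveI : Module.Projective R (Fin s.r → s.B) :=
      Module.Projective.of_equiv (DFinsupp.linearEquivFunOnFintype (R := R) (M := fun _ : Fin s.r => s.B))
    haveI hflat₀ : Module.Flat R L₀ := (H19.FlatLocus.flat_iff_killed s.qB.primeCompl l₀).2 fun J ξ hξ =>
      ⟨1, s.qB.primeCompl.one_mem, by
        rw [one_smul]
        exact Module.Flat.lTensor_preserves_injective_linearMap _ J.injective_subtype (hξ.trans (map_zero _).symm)⟩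
    have hfinj : Function.Injective f := by
      refine (injective_iff_map_eq_zero f).2 fun x hx => ?_
      have h1 : x ⊗ₜ[R] (1 : R) = 0 :=
        hψ R (by rw [map_zero, LinearMap.rTensor_tmul, LinearMap.comp_apply, hx, map_zero, TensorProduct.zero_tmul])
      simpa using congrArg (TensorProduct.rid R L₀) h1
    have hπ' : Function.Surjective g := hπ
    have hex' : Function.Exact f g := hex
    let M' := M ⧸ LinearMap.range ψ
    haveI : Module.Flat R M' := FlatStep.flat_coker_of_univInj (R := R) (D := R) ψ fun Q _ _ =>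
      (LinearMap.lTensor_inj_iff_rTensor_inj _ _).2 (hψ Q)
    have hL₀ : ∀ t : R, t ∉ p → ∀ l : L₀, ∃ l', t • l' = l := fun t ht l => by
      obtain ⟨l', hl'⟩ := ((Module.End.isUnit_iff _).1 (IsLocalizedModule.map_units l₀
        (⟨algebraMap R s.B t, fun h => ht ((s.qB.over_def p).ge h)⟩ : s.qB.primeCompl))).2 l
      exact ⟨l', (algebraMap_smul s.B t l').symm.trans hl'⟩
    have hM' : ∀ t : R, t ∉ p → Function.Bijective fun m : M' => t • m := by
      intro t ht
      refine ⟨fun a b hab => ?_, fun y => ?_⟩
      · obtain ⟨m, rfl⟩ := Submodule.Quotient.mk_surjective _ a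
        obtain ⟨n, rfl⟩ := Submodule.Quotient.mk_surjective _ b
        change t • Submodule.Quotient.mk m = t • Submodule.Quotient.mk n at hab
        rw [← Submodule.Quotient.mk_smul, ← Submodule.Quotient.mk_smul, Submodule.Quotient.eq, ← smul_sub] at hab
        obtain ⟨l, hl⟩ := hab
        obtain ⟨l', rfl⟩ := hL₀ t ht l
        rw [map_smul] at hl
        exact (Submodule.Quotient.eq _).2 ⟨l', (hM t ht).1 hl⟩
      · obtain ⟨m, rfl⟩ := Submodule.Quotient.mk_surjective _ y
        obtain ⟨n, rfl⟩ := (hM t ht).2 m
        exact ⟨Submodule.Quotient.mk n, rfl⟩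
    have hker : LinearMap.ker g ≤ LinearMap.ker ((LinearMap.range ψ).mkQ.comp v') := fun x hx => by
      obtain ⟨l, rfl⟩ := (hex x).1 hx
      exact (Submodule.Quotient.mk_eq_zero _).2 ⟨l, rfl⟩
    let v'' : L₁ →ₗ[R] M' :=
      ((LinearMap.ker g).liftQ _ hker).comp (LinearMap.quotKerEquivOfSurjective g hπ).symm.toLinearMap
    have hv''g : ∀ x, v'' (g x) = Submodule.Quotient.mk (v' x) := fun x => by
      have h1 : (LinearMap.quotKerEquivOfSurjective g hπ).symm (g x) = Submodule.Quotient.mk x :=
        (LinearEquiv.symm_apply_eq _).2 (LinearMap.quotKerEquivOfSurjective_apply_mk g hπ x).symm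
      simp only [v'', LinearMap.comp_apply, LinearEquiv.coe_coe, h1]
      rfl
    have hexQ : ∀ (Q : Type u) [AddCommGroup Q] [Module R Q], Function.Exact (f.rTensor Q) (g.rTensor Q) :=
      fun Q _ _ => rTensor_exact Q hex' hπ'
    have hcompat : ∀ (Q : Type u) [AddCommGroup Q] [Module R Q] (x : L' ⊗[R] Q),
        v''.rTensor Q (g.rTensor Q x) = (LinearMap.range ψ).mkQ.rTensor Q (v'.rTensor Q x) := by
      intro Q _ _ x
      induction x using TensorProduct.induction_on with
      | zero => simp
      | add a b ha hb => simp only [map_add, ha, hb]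
      | tmul a b => simp [hv''g]
    have hv'' : Function.Injective (v''.rTensor p.ResidueField) := by
      rw [injective_iff_map_eq_zero]
      intro y hy
      obtain ⟨x, rfl⟩ := LinearMap.rTensor_surjective p.ResidueField hπ' y
      rw [hcompat] at hy
      obtain ⟨l, hl⟩ := (rTensor_exact p.ResidueField (LinearMap.exact_map_mkQ_range ψ)
        (Submodule.mkQ_surjective _) _).1 hy
      rw [LinearMap.rTensor_comp, LinearMap.comp_apply] at hl
      rw [← hv' hl]
      exact (hexQ p.ResidueField).apply_apply_eq_zero l
    obtain ⟨hui₁, hflat₁⟩ : RUI R v'' ∧ Module.Flat R L₁ := by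
      rcases hs with hsurj | hgood
      · haveI : Subsingleton s.coker := Submodule.Quotient.subsingleton_iff.2 (LinearMap.range_eq_top.2 hsurj)
        haveI : Subsingleton L₁ := subsingleton_of_forall_eq 0 fun z => by
          induction z using LocalizedModule.induction_on with
          | h x t => rw [Subsingleton.elim x 0, LocalizedModule.zero_mk]
        exact ⟨fun Q _ _ a b _ => Subsingleton.elim a b, inferInstance⟩
      · exact ui_good k R s.B s.coker p s.qB hgood L₁ l₁ M' hM' v'' hv''
    haveI := hflat₁
    refine ⟨fun Q _ _ => ?_, FlatCx.RightExact.flat_extension f g hfinj hπ hex⟩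
    rw [injective_iff_map_eq_zero]
    intro z hz
    have h1 : g.rTensor Q z = 0 := hui₁ Q (by rw [hcompat, hz, map_zero, map_zero])
    obtain ⟨l, rfl⟩ := (hexQ Q z).1 h1
    have h2 : l = 0 := hψ Q (by rw [LinearMap.rTensor_comp, LinearMap.comp_apply, hz, map_zero])
    rw [h2, map_zero]

end Groth.Agent.Lib.RG.GoodUI
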