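import Groth.Agent.Lib.RG.OpenMain
import Groth.Agent.Lib.RG.GoodUI
import Groth.Agent.Lib.Pure.Decomp
import Groth.Agent.S1963

/-!
# Contents over valuation rings of elements of flat finite modules at a point
-/

set_option autoImplicit false
set_option linter.style.haveILetI false

universe u

open scoped TensorProduct

attribute [local instance] Algebra.TensorProduct.rightAlgebra

namespace Groth.Agent.Lib.RG.ValContent

open NhdPoint (inR)

/-- A finite nonempty family in a valuation ring has a member dividing all. -/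
theorem exists_dvd_all {A : Type u} [CommRing A] [IsDomain A] [ValuationRing A] {ι : Type u} (s : Finset ι)
    (hs : s.Nonempty) (a : ι → A) : ∃ i ∈ s, ∀ j ∈ s, a i ∣ a j := by
  induction hs using Finset.Nonempty.cons_induction with
  | singleton i => exact ⟨i, Finset.mem_singleton_self i, fun j hj => by rw [Finset.mem_singleton.1 hj]⟩
  | cons k t hk ht ih =>
    obtain ⟨i, hi, hall⟩ := ih
    rcases ValuationRing.dvd_total (a k) (a i) with h | h
    · refine ⟨k, Finset.mem_cons_self k t, fun j hj => ?_⟩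
      rcases Finset.mem_cons.1 hj with rfl | hj
      · exact dvd_rfl
      · exact h.trans (hall j hj)
    · refine ⟨i, Finset.mem_cons.2 (Or.inr hi), fun j hj => ?_⟩
      rcases Finset.mem_cons.1 hj with rfl | hj
      · exact h
      · exact hall j hj

set_option maxHeartbeats 1600000 in
/-- An element of a flat module at a point is a scalar times an element outside the maximal ideal. -/
theorem exists_div {A P : Type u} [CommRing A] [IsDomain A] [ValuationRing A] [CommRing P] [Algebra A P]
    [Algebra.FinitePresentation A P] (q : Ideal P) [q.IsPrime] [q.LiesOver (IsLocalRing.maximalIdeal A)]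
    {N₁ N : Type u} [AddCommGroup N₁] [Module P N₁] [Module A N₁] [IsScalarTower A P N₁]
    [Module.FinitePresentation P N₁] [Module.Flat A N₁] [AddCommGroup N] [Module P N] [Module A N]
    [IsScalarTower A P N] (f : N₁ →ₗ[P] N) [IsLocalizedModule q.primeCompl f] (n : N₁) (hn : f n ≠ 0) :
    ∃ (a : A) (y : N), a ≠ 0 ∧ f n = a • y ∧ y ∉ (IsLocalRing.maximalIdeal A) • (⊤ : Submodule A N) := by
  classical
  let m := IsLocalRing.maximalIdeal A
  have hflat : Module.Flat A (LocalizedModule q.primeCompl N₁) :=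
    (H19.FlatLocus.flat_iff_killed q.primeCompl (LocalizedModule.mkLinearMap q.primeCompl N₁)).2 fun J ξ hξ =>
      ⟨1, q.primeCompl.one_mem, by
        rw [one_smul]
        exact Module.Flat.lTensor_preserves_injective_linearMap _ J.injective_subtype (hξ.trans (map_zero _).symm)⟩
  obtain ⟨R, _, _, r, hr, het, w, hgood⟩ := OpenMain.exists_chart (N := N₁) m q hflat
  obtain ⟨hw, hproj, hreg⟩ := hgood
  obtain ⟨Q, hQ, hQq, hQr⟩ := NhdPoint.exists_point (S := P) m r q het
  haveI := het.1
  haveI := het.2.choose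
  haveI := hQ
  haveI := hproj
  have hwQ := hw Q hQ hQq hQr
  -- the point on the basic open
  let Su := Localization.Away w
  let Y := OpenProj.Model N₁ w
  have hdisj : Disjoint (Submonoid.powers w : Set (P ⊗[A] R)) (Q : Set (P ⊗[A] R)) :=
    Ideal.disjoint_powers_iff_notMem _ (Ideal.IsPrime.isRadical inferInstance) |>.2 hwQ
  let Q' := Q.map (algebraMap (P ⊗[A] R) Su)
  haveI : Q'.IsPrime := IsLocalization.isPrime_of_isPrime_disjoint _ Su _ inferInstance hdisj
  have hQ'Q : Q'.comap (algebraMap (P ⊗[A] R) Su) = Q :=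
    IsLocalization.under_map_of_isPrime_disjoint _ Su inferInstance hdisj
  have hQ'q : Q'.comap (algebraMap P Su) = q := by
    rw [IsScalarTower.algebraMap_eq P (P ⊗[A] R) Su, ← Ideal.comap_comap, hQ'Q, hQq]
  have hQ't : ∀ t : R, t ∉ r → algebraMap R Su t ∉ Q' := fun t ht h => ht (by
    rw [← hQr]
    show inR t ∈ Q
    rw [← hQ'Q]
    exact h)
  haveI : Module.Flat P Su := Module.Flat.trans P (P ⊗[A] R) Su
  have hbase : ∀ c : A, algebraMap R Su (algebraMap A R c) = algebraMap P Su (algebraMap A P c) := fun c => by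
    rw [IsScalarTower.algebraMap_apply P (P ⊗[A] R) Su]
    show algebraMap (P ⊗[A] R) Su (inR (algebraMap A R c)) = _
    rw [NhdPoint.inR_algebraMap]
  -- descending divisibility
  have hdiv : ∀ (n : N₁) (c : A) (t : R) (η : Y), t ∉ r →
      t • ((1 : Su) ⊗ₜ[P] n) = algebraMap A R c • η → ∃ v ∉ q, ∃ n' : N₁, v • n = c • n' := by
    intro n c t η ht hc
    let K : Submodule P N₁ := LinearMap.range (LinearMap.lsmul P N₁ (algebraMap A P c))
    have h1 := congrArg (K.mkQ.baseChange Su) hc
    rw [← algebraMap_smul Su t ((1 : Su) ⊗ₜ[P] n), ← algebraMap_smul Su (algebraMap A R c) η, map_smul, map_smul,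
      LinearMap.baseChange_tmul, hbase, algebraMap_smul Su (algebraMap A P c)] at h1
    have h0 : ∀ z : Su ⊗[P] (N₁ ⧸ K), algebraMap A P c • z = 0 := fun z => by
      induction z using TensorProduct.induction_on with
      | zero => rw [smul_zero]
      | add a b ha hb => rw [smul_add, ha, hb, add_zero]
      | tmul s x =>
        obtain ⟨x, rfl⟩ := Submodule.Quotient.mk_surjective _ x
        rw [← TensorProduct.tmul_smul, ← Submodule.Quotient.mk_smul,
          show (Submodule.Quotient.mk (algebraMap A P c • x) : N₁ ⧸ K) = 0 from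
            (Submodule.Quotient.mk_eq_zero K).2 ⟨x, rfl⟩, TensorProduct.tmul_zero]
    rw [h0] at h1
    obtain ⟨v, hv, hvn⟩ := FibrePoint.kill_descend q Q' hQ'q (Submodule.Quotient.mk n : N₁ ⧸ K) (hQ't t ht) h1
    rw [← Submodule.Quotient.mk_smul, Submodule.Quotient.mk_eq_zero] at hvn
    obtain ⟨n', hn'⟩ := hvn
    exact ⟨v, hv, n', by rw [← hn', LinearMap.lsmul_apply, algebraMap_smul]⟩
  -- coordinates on the free localized chart
  let Rr := Localization.AtPrime r
  obtain ⟨hdom, -, hinjA, -, hunits⟩ := S1963.result A R r (r.over_def m).symm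
  haveI := hdom
  let Yr := LocalizedModule r.primeCompl Y
  let mk : Y →ₗ[R] Yr := LocalizedModule.mkLinearMap r.primeCompl Y
  haveI : Module.Projective Rr Yr := inferInstanceAs (Module.Projective (Localization r.primeCompl) (LocalizedModule r.primeCompl Y))
  haveI : Module.Free Rr Yr := Pure.Decomp.free_of_local (R := Rr) (M := Yr)
  let b := Module.Free.chooseBasis Rr Yr
  let y₀ : Y := (1 : Su) ⊗ₜ[P] n
  have hy₀ : mk y₀ ≠ 0 := by
    intro h
    obtain ⟨⟨t, ht⟩, hty⟩ := (IsLocalizedModule.eq_zero_iff r.primeCompl mk).1 h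
    obtain ⟨v, hv, n', hn'⟩ := hdiv n 0 t 0 ht (by rw [show t • y₀ = 0 from hty, smul_zero])
    exact hn ((IsLocalizedModule.eq_zero_iff q.primeCompl f).2 ⟨⟨v, hv⟩, hn'.trans (zero_smul A n')⟩)
  let c := b.repr (mk y₀)
  have hsupp : c.support.Nonempty := Finsupp.support_nonempty_iff.2 fun h =>
    hy₀ (b.repr.injective (h.trans (map_zero _).symm))
  have hau : ∀ i, ∃ (a : A) (u : Rr), c i = u * algebraMap A Rr a ∧ (i ∈ c.support → IsUnit u ∧ a ≠ 0) := fun i => by
    by_cases hi : c i = 0
    · exact ⟨0, 0, by rw [hi, zero_mul], fun h => absurd hi (Finsupp.mem_support_iff.1 h)⟩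
    · obtain ⟨a, u, hu⟩ := hunits _ hi
      exact ⟨a, u, hu, fun _ => ⟨u.isUnit, fun h0 => hi (by rw [hu, h0, map_zero, mul_zero])⟩⟩
  choose a u hau hunit using hau
  obtain ⟨i₀, hi₀, hmin⟩ := exists_dvd_all c.support hsupp a
  have he : ∀ i, ∃ e : A, i ∈ c.support → a i = a i₀ * e := fun i => by
    by_cases hi : i ∈ c.support
    · obtain ⟨e, he⟩ := hmin i hi
      exact ⟨e, fun _ => he⟩
    · exact ⟨0, fun h => absurd h hi⟩
  choose e he using he
  let η : Yr := ∑ i ∈ c.support, (u i * algebraMap A Rr (e i)) • b i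
  have hη : mk y₀ = algebraMap A Rr (a i₀) • η := by
    rw [Finset.smul_sum]
    conv_lhs => rw [← b.linearCombination_repr (mk y₀), Finsupp.linearCombination_apply]
    refine Finset.sum_congr rfl fun i hi => ?_
    show c i • b i = _
    rw [smul_smul, show c i • b i = (u i * algebraMap A Rr (a i)) • b i from by rw [hau], he i hi, map_mul]
    congr 1
    ring
  have ha₀ : a i₀ ≠ 0 := (hunit i₀ hi₀).2
  have hu₀ : IsUnit (b.repr η i₀) := by
    have h1 : b.repr η i₀ = u i₀ * algebraMap A Rr (e i₀) := by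
      simp [η, Finsupp.single_apply, hi₀]
    have h2 : e i₀ = 1 := mul_left_cancel₀ ha₀ ((he i₀ hi₀).symm.trans (mul_one _).symm)
    rw [h1, h2, map_one, mul_one]
    exact (hunit i₀ hi₀).1
  -- clearing denominators
  obtain ⟨⟨η', s⟩, hs⟩ := IsLocalizedModule.surj r.primeCompl mk η
  change (s : R) • η = mk η' at hs
  have hbase' : algebraMap A Rr (a i₀) = algebraMap R Rr (algebraMap A R (a i₀)) :=
    IsScalarTower.algebraMap_apply A R Rr _
  have h4 : mk ((s : R) • y₀) = mk (algebraMap A R (a i₀) • η') := by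
    rw [map_smul, map_smul, hη, ← hs, hbase', algebraMap_smul, smul_comm]
  obtain ⟨t', ht'⟩ := IsLocalizedModule.exists_of_eq (S := r.primeCompl) (f := mk) h4
  change (t' : R) • ((s : R) • y₀) = (t' : R) • (algebraMap A R (a i₀) • η') at ht'
  rw [smul_smul, smul_comm (t' : R)] at ht'
  have hts : (t' : R) * s ∉ r := (t' * s).2
  obtain ⟨v, hv, n', hn'⟩ := hdiv n (a i₀) _ _ hts ht'
  obtain ⟨U, hU⟩ := ((Module.End.isUnit_iff _).1 (IsLocalizedModule.map_units f (⟨v, hv⟩ : q.primeCompl))).2 (f n')
  change v • U = f n' at hU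
  refine ⟨a i₀, U, ha₀, ((Module.End.isUnit_iff _).1 (IsLocalizedModule.map_units f (⟨v, hv⟩ : q.primeCompl))).1 ?_,
    fun hy => ?_⟩
  · show v • f n = v • (a i₀ • U)
    rw [← map_smul, hn', smul_comm, hU, LinearMap.map_smul_of_tower]
  -- the quotient is not in the maximal ideal
  obtain ⟨c', hc', U', hU'⟩ : ∃ c' ∈ m, ∃ U' : N, U = c' • U' := by
    refine Submodule.smul_induction_on (p := fun U => ∃ c' ∈ m, ∃ U' : N, U = c' • U') hy
      (fun c' hc' x _ => ⟨c', hc', x, rfl⟩) fun x y hx hy => ?_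
    obtain ⟨c₁, hc₁, x, rfl⟩ := hx
    obtain ⟨c₂, hc₂, y, rfl⟩ := hy
    rcases ValuationRing.dvd_total c₁ c₂ with ⟨d, rfl⟩ | ⟨d, rfl⟩
    · exact ⟨c₁, hc₁, x + d • y, by rw [smul_add, mul_smul]⟩
    · exact ⟨c₂, hc₂, d • x + y, by rw [smul_add, mul_smul]⟩
  obtain ⟨⟨n'', v'⟩, hn''⟩ := IsLocalizedModule.surj q.primeCompl f U'
  change (v' : P) • U' = f n'' at hn''
  have h5 : f ((v' : P) • n') = f (c' • (v • n'')) := by
    rw [map_smul, LinearMap.map_smul_of_tower, map_smul, ← hU, ← hn'', hU', smul_comm v c' U', smul_comm (v' : P) c',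
      smul_comm (v' : P) v]
  obtain ⟨z, hz⟩ := IsLocalizedModule.exists_of_eq (S := q.primeCompl) (f := f) h5
  change (z : P) • ((v' : P) • n') = (z : P) • (c' • (v • n'')) at hz
  let V : P := (z : P) * v' * v
  have hV : V ∉ q := q.primeCompl.mul_mem (q.primeCompl.mul_mem z.2 v'.2) hv
  have key : V • n = a i₀ • c' • (((z : P) * v) • n'') := by
    rw [mul_smul ((z : P) * v'), hn', smul_comm, mul_smul (z : P) (v' : P), hz, smul_comm (z : P) c', ← mul_smul (z : P)]
  let g : N₁ →ₗ[P] Y := TensorProduct.mk P Su N₁ 1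
  have hgA : ∀ (k : A) (x : N₁), g (k • x) = algebraMap R Su (algebraMap A R k) • g x := fun k x => by
    rw [hbase, algebraMap_smul, ← map_smul, algebraMap_smul]
  have h6 := congrArg g key
  rw [map_smul, ← algebraMap_smul Su V, hgA, hgA] at h6
  let x₀ : Y := g (((z : P) * v) • n'')
  let η'' : Y := (t' : R) • η'
  let aS : Su := algebraMap R Su (algebraMap A R (a i₀))
  let cS : Su := algebraMap R Su (algebraMap A R c')
  let T : Su := algebraMap R Su ((t' : R) * s)
  let Vs : Su := algebraMap P Su V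
  change Vs • g n = aS • cS • x₀ at h6
  have h7 : T • g n = aS • η'' := by
    show algebraMap R Su ((t' : R) * s) • ((1 : Su) ⊗ₜ[P] n) = algebraMap R Su (algebraMap A R (a i₀)) • η''
    rw [algebraMap_smul, algebraMap_smul]
    exact ht'
  have h8 : aS • (Vs • η'') = aS • (cS • T • x₀) := by
    rw [smul_comm aS Vs, ← h7, smul_comm Vs T, h6, smul_comm T aS, smul_comm T cS]
  have h9 : mk (Vs • η'') = mk (cS • T • x₀) := by
    have h := congrArg mk h8
    rw [show aS = algebraMap R Su (algebraMap A R (a i₀)) from rfl, algebraMap_smul Su (algebraMap A R (a i₀)),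
      algebraMap_smul Su (algebraMap A R (a i₀)), mk.map_smul, mk.map_smul] at h
    rw [← algebraMap_smul Rr (algebraMap A R (a i₀)) (mk (Vs • η'')),
      ← algebraMap_smul Rr (algebraMap A R (a i₀)) (mk (cS • T • x₀)), ← hbase'] at h
    refine b.repr.injective (Finsupp.ext fun i => ?_)
    have h' := congrArg (fun y => b.repr y i) h
    simp only [map_smul, Finsupp.smul_apply, smul_eq_mul] at h'
    exact mul_left_cancel₀ (fun h0 => ha₀ (hinjA (h0.trans (map_zero _).symm))) h'
  obtain ⟨t₂, ht₂⟩ := IsLocalizedModule.exists_of_eq (S := r.primeCompl) (f := mk) h9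
  change (t₂ : R) • (Vs • η'') = (t₂ : R) • (cS • T • x₀) at ht₂
  have h10 : (Vs • η'') ⊗ₜ[R] (1 : r.ResidueField) = 0 := by
    refine GoodUI.eq_zero_of_smul_residue r t₂.2 ?_
    rw [TensorProduct.smul_tmul', ht₂]
    rw [show cS = algebraMap R Su (algebraMap A R c') from rfl, algebraMap_smul Su (algebraMap A R c')]
    rw [smul_comm, TensorProduct.smul_tmul, Algebra.smul_def, mul_one,
      (Ideal.algebraMap_residueField_eq_zero (I := r)).2 (show algebraMap A R c' ∈ r from (r.over_def m).le hc'),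
      TensorProduct.tmul_zero]
  have h11 : η'' ⊗ₜ[R] (1 : r.ResidueField) = 0 := by
    refine hreg Q hQ hQq hQr (algebraMap P (P ⊗[A] R) V) (fun h => hV (hQq.le h)) _ ?_
    rw [← IsScalarTower.algebraMap_apply P (P ⊗[A] R) Su, TensorProduct.smul_tmul']
    exact h10
  -- a coordinate that is a unit
  let ψ : Y →ₗ[R] r.ResidueField :=
    ((Algebra.linearMap Rr r.ResidueField).restrictScalars R).comp (((b.coord i₀).restrictScalars R).comp mk)
  let μ : r.ResidueField ⊗[R] r.ResidueField →ₗ[R] r.ResidueField := LinearMap.mul' R r.ResidueField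
  have h12 : ψ η'' = 0 := by
    simpa [μ] using congrArg (μ.comp (ψ.rTensor r.ResidueField)) h11
  have h13 : b.coord i₀ (mk η'') = algebraMap R Rr ((t' : R) * s) * b.repr η i₀ := by
    show b.repr (mk ((t' : R) • η')) i₀ = _
    rw [map_smul, ← hs, smul_smul, ← algebraMap_smul Rr ((t' : R) * (s : R)), map_smul, Finsupp.smul_apply, smul_eq_mul]
  have h14 : IsUnit (b.coord i₀ (mk η'')) := by
    rw [h13]
    exact (IsLocalization.map_units Rr (⟨_, hts⟩ : r.primeCompl)).mul hu₀
  exact ((h14.map (algebraMap Rr r.ResidueField)).ne_zero) h12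

end Groth.Agent.Lib.RG.ValContent
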