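import Groth.Agent.H19.FlatLocus.Main
import Groth.Agent.H19.FlatLocus.Model

/-!
# Flatness on basic opens
-/

set_option autoImplicit false
set_option linter.style.haveILetI false

universe u

open scoped TensorProduct

namespace Groth.Agent.Lib.RG.OpenFlat

variable {R S M : Type u} [CommRing R] [CommRing S] [Algebra R S] [AddCommGroup M] [Module R M]
  [Module S M] [IsScalarTower R S M]

/-- Flatness at all primes of a basic open gives flatness of the localization. -/
theorem flat_away_of_forall (g : S)
    (h : ∀ (q : Ideal S) [q.IsPrime], g ∉ q → Module.Flat R (LocalizedModule q.primeCompl M)) :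
    Module.Flat R (LocalizedModule (Submonoid.powers g) M) := by
  refine (H19.FlatLocus.flat_iff_killed (Submonoid.powers g)
    (LocalizedModule.mkLinearMap (Submonoid.powers g) M)).2 fun J y hy => ?_
  by_contra hcon
  push Not at hcon
  obtain ⟨P, hP, hle, hd⟩ := Ideal.exists_le_prime_disjoint (Submodule.span S {y}).annihilator (Submonoid.powers g)
    (Set.disjoint_left.2 fun c hc hc' => hcon c hc' ((Submodule.mem_annihilator_span_singleton _ _).1 hc))
  haveI := hP
  obtain ⟨s, hs, hsy⟩ := (H19.FlatLocus.flat_iff_killed P.primeCompl (LocalizedModule.mkLinearMap P.primeCompl M)).1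
    (h P fun hg => Set.disjoint_left.1 hd hg (Submonoid.mem_powers g)) J y hy
  exact hs (hle ((Submodule.mem_annihilator_span_singleton _ _).2 hsy))

/-- A finitely presented module flat at a prime is flat on a basic open around it. -/
theorem exists_flat_away [Algebra.FinitePresentation R S] [Module.FinitePresentation S M] (q : Ideal S) [q.IsPrime]
    (h : Module.Flat R (LocalizedModule q.primeCompl M)) :
    ∃ g : S, g ∉ q ∧ Module.Flat R (LocalizedModule (Submonoid.powers g) M) := by
  obtain ⟨_, ⟨g, rfl⟩, hgq, hsub⟩ := PrimeSpectrum.isTopologicalBasis_basic_opens.exists_subset_of_mem_open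
    (show (⟨q, inferInstance⟩ : PrimeSpectrum S) ∈
      {x : PrimeSpectrum S | Module.Flat R (LocalizedModule x.asIdeal.primeCompl M)} from h)
    H19.FlatLocus.isOpen_flat_of_finitePresentation
  exact ⟨g, hgq, flat_away_of_forall g fun P hP hgP => hsub (show (⟨P, hP⟩ : PrimeSpectrum S) ∈ _ from hgP)⟩

/-- Flatness on a basic open gives flatness at its primes. -/
theorem flatAt_of_away (g : S) (q : Ideal S) [q.IsPrime] (hg : g ∉ q)
    (h : Module.Flat R (LocalizedModule (Submonoid.powers g) M)) :
    Module.Flat R (LocalizedModule q.primeCompl M) := by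
  refine (H19.FlatLocus.flat_iff_killed q.primeCompl (LocalizedModule.mkLinearMap q.primeCompl M)).2 fun J y hy => ?_
  obtain ⟨_, ⟨k, rfl⟩, hsy⟩ := (H19.FlatLocus.flat_iff_killed (Submonoid.powers g)
    (LocalizedModule.mkLinearMap (Submonoid.powers g) M)).1 h J y hy
  exact ⟨g ^ k, fun hk => hg (Ideal.IsPrime.mem_of_pow_mem inferInstance k hk), hsy⟩

end Groth.Agent.Lib.RG.OpenFlat
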