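import Groth.Agent.Lib.RG.Induct
import Groth.Agent.Lib.RG.OpenFlat
import Mathlib.RingTheory.MvPolynomial.Localization
import Mathlib.RingTheory.Flat.TorsionFree

/-!
# Flat modules of finite type over a domain are finitely presented
-/

set_option autoImplicit false
set_option linter.style.haveILetI false

universe u

open scoped TensorProduct

namespace Groth.Agent.Lib.RG.DomainFP

attribute [local instance] MvPolynomial.algebraMvPolynomial

variable {R : Type u} [CommRing R] [IsDomain R] {n : ℕ}

/-- Over a domain, the relations of a presentation are finitely generated up to torsion. -/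
theorem exists_finset_torsion {k : ℕ} (Kr : Submodule (MvPolynomial (Fin n) R) (Fin k → MvPolynomial (Fin n) R)) :
    ∃ T : Finset (Fin k → MvPolynomial (Fin n) R), (T : Set (Fin k → MvPolynomial (Fin n) R)) ⊆ Kr ∧
      ∀ x ∈ Kr, ∃ r : R, r ≠ 0 ∧
        r • x ∈ Submodule.span (MvPolynomial (Fin n) R) (T : Set (Fin k → MvPolynomial (Fin n) R)) := by
  classical
  let P := MvPolynomial (Fin n) R
  let K := FractionRing R
  let PK := MvPolynomial (Fin n) K
  let W : Submonoid P := (nonZeroDivisors R).map (MvPolynomial.C (σ := Fin n))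
  haveI : IsLocalization W PK := MvPolynomial.isLocalization (nonZeroDivisors R) K
  haveI : IsNoetherianRing PK := inferInstance
  let l : (Fin k → P) →ₗ[P] (Fin k → PK) := LinearMap.pi fun i => (Algebra.linearMap P PK).comp (LinearMap.proj i)
  haveI : IsLocalizedModule W l := IsLocalizedModule.pi W (fun _ : Fin k => Algebra.linearMap P PK)
  obtain ⟨T, hTsub, hT⟩ := Submodule.fg_span_iff_fg_span_finset_subset (R := PK) (s := l '' (Kr : Set (Fin k → P))) |>.1
    (IsNoetherian.noetherian _)
  choose g hg1 hg2 using fun t : (T : Set (Fin k → PK)) => hTsub t.2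
  refine ⟨T.attach.image fun t => g ⟨t.1, t.2⟩, fun x hx => ?_, fun x hx => ?_⟩
  · obtain ⟨t, -, rfl⟩ := Finset.mem_image.1 (Finset.mem_coe.1 hx)
    exact hg1 _
  · let L := Submodule.span P ((T.attach.image fun t => g ⟨t.1, t.2⟩ : Finset (Fin k → P)) : Set (Fin k → P))
    have hle : Submodule.span PK (l '' (Kr : Set (Fin k → P))) ≤ L.localized' PK W l := by
      rw [hT, Submodule.span_le]
      intro t ht
      show t ∈ L.localized' PK W l
      rw [show t = l (g ⟨t, ht⟩) from (hg2 ⟨t, ht⟩).symm, ← IsLocalizedModule.mk'_one W]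
      exact ⟨g ⟨t, ht⟩, Submodule.subset_span (Finset.mem_coe.2 (Finset.mem_image.2
        ⟨⟨t, ht⟩, Finset.mem_attach _ _, rfl⟩)), 1, rfl⟩
    obtain ⟨a, ha, s, has⟩ := hle (Submodule.subset_span (Set.mem_image_of_mem l hx))
    rw [← IsLocalizedModule.mk'_one W, IsLocalizedModule.mk'_eq_mk'_iff] at has
    obtain ⟨c, hc⟩ := has
    obtain ⟨rc, hrc, hrc'⟩ := c.2
    obtain ⟨rs, hrs, hrs'⟩ := s.2
    refine ⟨rc * rs, mul_ne_zero (nonZeroDivisors.ne_zero hrc) (nonZeroDivisors.ne_zero hrs), ?_⟩
    have h1 : (rc * rs) • x = (c : P) • (s : P) • x := by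
      rw [← algebraMap_smul P (rc * rs) x, map_mul, mul_smul, ← hrc', ← hrs']
      rfl
    rw [h1]
    simp only [one_smul, Submonoid.smul_def] at hc
    first
      | (rw [hc]; exact L.smul_mem _ ha)
      | (rw [← hc]; exact L.smul_mem _ ha)

/-- A flat module of finite type over a polynomial ring over a domain is finitely presented. -/
theorem finitePresentation_polynomial (M : Type u) [AddCommGroup M] [Module (MvPolynomial (Fin n) R) M] [Module R M]
    [IsScalarTower R (MvPolynomial (Fin n) R) M] [Module.Finite (MvPolynomial (Fin n) R) M] [Module.Flat R M] :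
    Module.FinitePresentation (MvPolynomial (Fin n) R) M := by
  classical
  let P := MvPolynomial (Fin n) R
  obtain ⟨k, π, hπ⟩ := Module.Finite.exists_fin' P M
  haveI : Module.FinitePresentation P (Fin k → P) := Module.finitePresentation_of_projective _ _
  refine Module.finitePresentation_of_surjective π hπ ?_
  let Kr := LinearMap.ker π
  obtain ⟨T₀, hT₀, htor⟩ := exists_finset_torsion Kr
  -- near each prime the relations are finitely generated
  let Good : Set P := {g | ∃ T : Finset (Fin k → P), (T : Set (Fin k → P)) ⊆ Kr ∧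
    ∀ x ∈ Kr, ∃ N : ℕ, g ^ N • x ∈ Submodule.span P (T : Set (Fin k → P))}
  have hgood : ∀ q : Ideal P, q.IsPrime → ∃ g ∈ Good, g ∉ q := by
    intro q hq
    haveI : q.LiesOver (q.under R) := ⟨rfl⟩
    have hflatq : Module.Flat R (LocalizedModule q.primeCompl M) :=
      H19.FlatLocus.Model.flat_localized q.primeCompl (LocalizedModule.mkLinearMap q.primeCompl M)
    obtain ⟨T₁, hT₁, hgen⟩ := Induct.fpAt_of_flat (q.under R) q hflatq k π hπ
    let T := T₀ ∪ T₁
    let L := Submodule.span P (T : Set (Fin k → P))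
    have hLK : L ≤ Kr := Submodule.span_le.2 fun t ht => by
      rcases Finset.mem_union.1 (Finset.mem_coe.1 ht) with h | h
      · exact hT₀ h
      · exact hT₁ t h
    let M' := (Fin k → P) ⧸ L
    haveI : Module.FinitePresentation P M' :=
      Module.finitePresentation_of_surjective L.mkQ (Submodule.mkQ_surjective _)
        (by rw [Submodule.ker_mkQ]; exact ⟨T, rfl⟩)
    let φ : M' →ₗ[P] M := Submodule.liftQ L π hLK
    have hflat' : Module.Flat R (LocalizedModule q.primeCompl M') := by
      refine (H19.FlatLocus.flat_iff_killed q.primeCompl (LocalizedModule.mkLinearMap q.primeCompl M')).2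
        fun J ξ hξ => ?_
      have h0 : (J.subtype).lTensor M ((φ.restrictScalars R).rTensor J ξ) = 0 := by
        rw [← LinearMap.comp_apply, LinearMap.lTensor_comp_rTensor, ← LinearMap.rTensor_comp_lTensor,
          LinearMap.comp_apply, hξ, map_zero]
      obtain ⟨w, hw, hwξ⟩ := (H19.FlatLocus.flat_iff_killed q.primeCompl
        (LocalizedModule.mkLinearMap q.primeCompl M)).1 hflatq J _ h0
      have h1 : (φ.restrictScalars R).rTensor J (w • ξ) = 0 :=
        ((TensorProduct.AlgebraTensorModule.rTensor R J φ).map_smul w ξ).trans hwξ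
      have hex : Function.Exact ((LinearMap.ker φ).subtype.restrictScalars R) (φ.restrictScalars R) :=
        LinearMap.exact_subtype_ker_map φ
      have hφ : Function.Surjective (φ.restrictScalars R) := fun m => by
        obtain ⟨v, rfl⟩ := hπ m
        exact ⟨Submodule.Quotient.mk v, rfl⟩
      obtain ⟨ζ, hζ⟩ := (rTensor_exact J hex hφ _).1 h1
      have hker : ∀ z : LinearMap.ker φ, ∃ v ∉ q, v • z = 0 := by
        rintro ⟨z, hz⟩
        obtain ⟨x, rfl⟩ := Submodule.Quotient.mk_surjective L z
        obtain ⟨v, hv, hvx⟩ := hgen x hz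
        refine ⟨v, hv, Subtype.ext ?_⟩
        show v • (Submodule.Quotient.mk x : M') = 0
        rw [← Submodule.Quotient.mk_smul, Submodule.Quotient.mk_eq_zero]
        exact Submodule.span_mono (Finset.coe_subset.2 Finset.subset_union_right) hvx
      obtain ⟨v, hv, hvζ⟩ : ∃ v ∉ q, v • ζ = 0 := by
        clear hζ
        induction ζ with
        | zero => exact ⟨1, fun h1 => hq.ne_top ((Ideal.eq_top_iff_one q).2 h1), smul_zero _⟩
        | tmul a b =>
          obtain ⟨v, hv, hva⟩ := hker a
          exact ⟨v, hv, by rw [TensorProduct.smul_tmul', hva, TensorProduct.zero_tmul]⟩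
        | add a b ha hb =>
          obtain ⟨va, hva, ha'⟩ := ha
          obtain ⟨vb, hvb, hb'⟩ := hb
          exact ⟨va * vb, fun h => (hq.mem_or_mem h).elim hva hvb, by
            rw [smul_add, mul_smul, mul_smul va vb b, hb', smul_zero, add_zero, smul_comm, ha', smul_zero]⟩
      refine ⟨v * w, fun h => (hq.mem_or_mem h).elim hv hw, ?_⟩
      rw [mul_smul, ← hζ]
      refine ((TensorProduct.AlgebraTensorModule.rTensor R J (LinearMap.ker φ).subtype).map_smul v ζ).symm.trans ?_
      rw [hvζ, map_zero]
    obtain ⟨g, hg, hflatg⟩ := OpenFlat.exists_flat_away q hflat'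
    refine ⟨g, ⟨T, fun t ht => hLK (Submodule.subset_span ht), fun x hx => ?_⟩, hg⟩
    obtain ⟨r, hr, hrx⟩ := htor x hx
    have h0 : r • (LocalizedModule.mk (Submodule.Quotient.mk x : M') 1 : LocalizedModule (Submonoid.powers g) M') = 0 := by
      rw [← algebraMap_smul P r, LocalizedModule.smul'_mk, ← Submodule.Quotient.mk_smul,
        (Submodule.Quotient.mk_eq_zero L).2 (Submodule.span_mono (Finset.coe_subset.2 Finset.subset_union_left)
          (by rwa [algebraMap_smul])), LocalizedModule.zero_mk]
    haveI := hflatg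
    have h1 : (LocalizedModule.mk (Submodule.Quotient.mk x : M') 1 : LocalizedModule (Submonoid.powers g) M') = 0 :=
      Module.IsTorsionFree.isSMulRegular (IsRegular.of_ne_zero hr) (h0.trans (smul_zero r).symm)
    rw [← LocalizedModule.zero_mk (1 : Submonoid.powers g), LocalizedModule.mk_eq] at h1
    obtain ⟨⟨_, N, rfl⟩, hc⟩ := h1
    simp only [one_smul, smul_zero, Submonoid.smul_def] at hc
    exact ⟨N, by rwa [← Submodule.Quotient.mk_smul, Submodule.Quotient.mk_eq_zero] at hc⟩
  have htop : Ideal.span Good = ⊤ := by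
    by_contra hne
    obtain ⟨m, hm, hle⟩ := Ideal.exists_le_maximal _ hne
    obtain ⟨g, hg, hgm⟩ := hgood m hm.isPrime
    exact hgm (hle (Ideal.subset_span hg))
  obtain ⟨G, hGsub, hG⟩ := Submodule.mem_span_finite_of_mem_span ((Ideal.eq_top_iff_one _).1 htop)
  choose! Tg hTg hgenT using fun g (hg : g ∈ Good) => hg
  refine ⟨G.biUnion Tg, le_antisymm (Submodule.span_le.2 fun t ht => ?_) fun x hx => ?_⟩
  · obtain ⟨g, hgG, htg⟩ := Finset.mem_biUnion.1 (Finset.mem_coe.1 ht)
    exact hTg g (hGsub hgG) htg
  · let I : Ideal P := (Submodule.span P ((G.biUnion Tg : Finset (Fin k → P)) : Set (Fin k → P))).comap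
      (LinearMap.toSpanSingleton P _ x)
    suffices hI : (1 : P) ∈ I by
      have := Submodule.mem_comap.1 hI
      rwa [LinearMap.toSpanSingleton_apply, one_smul] at this
    by_contra hne
    obtain ⟨m, hm, hle⟩ := Ideal.exists_le_maximal I fun h => hne (h ▸ trivial)
    refine hm.ne_top ((Ideal.eq_top_iff_one m).2 ?_)
    refine (Ideal.span_le.2 fun g hg => ?_) hG
    obtain ⟨N, hN⟩ := hgenT g (hGsub hg) x hx
    exact hm.isPrime.mem_of_pow_mem N (hle (Submodule.mem_comap.2
      (Submodule.span_mono (Finset.coe_subset.2 (Finset.subset_biUnion_of_mem Tg hg)) hN)))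

end Groth.Agent.Lib.RG.DomainFP
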