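import Groth.Agent.Lib.RG.Engine
import Groth.Agent.Lib.JacCrit.Minimal
import Mathlib.AlgebraicGeometry.Geometrically.Integral

/-!
# Fibre conditions of dévissage in ring form
-/

set_option autoImplicit false
set_option linter.style.haveILetI false

universe u

open scoped TensorProduct
open AlgebraicGeometry CategoryTheory

namespace Groth.Agent.Lib.RG.Fibres

open Engine

variable {R D : Type u} [CommRing R] [CommRing D] [Algebra R D]

theorem isPullback_fibre (K : Type u) [Field K] [Algebra R K] :
    IsPullback (Spec.map (CommRingCat.ofHom (Algebra.TensorProduct.includeRight : D →ₐ[R] K ⊗[R] D).toRingHom))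
      (Spec.map (CommRingCat.ofHom (Algebra.TensorProduct.includeLeftRingHom : K →+* K ⊗[R] D)))
      (Spec.map (CommRingCat.ofHom (algebraMap R D))) (Spec.map (CommRingCat.ofHom (algebraMap R K))) :=
  (isPullback_SpecMap_of_isPushout _ _ _ _ (CommRingCat.isPushout_tensorProduct R K D)).flip

theorem isDomain_of_geomIntegral (h : _root_.FlatCA.GeomIntegralFibres R D) (K : Type u) [Field K]
    [Algebra R K] : IsDomain (K ⊗[R] D) :=
  (affine_isIntegral_iff (CommRingCat.of (K ⊗[R] D))).1
    (h.geometrically_isIntegral _ _ _ (isPullback_fibre K))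

theorem gif_of_geomIntegral (h : _root_.FlatCA.GeomIntegralFibres R D) : GIF R D := fun K _ _ => by
  haveI := isDomain_of_geomIntegral h K
  infer_instance

theorem isDomain_of_smooth_of_geomIrred [Algebra.Smooth R D] (h : _root_.FlatCA.GeomIrredFibres R D)
    (K : Type u) [Field K] [Algebra R K] : IsDomain (K ⊗[R] D) := by
  have hirr : IrreducibleSpace (PrimeSpectrum (K ⊗[R] D)) :=
    h.geometrically_irreducibleSpace _ _ _ (isPullback_fibre K)
  haveI : IsReduced (K ⊗[R] D) := JacCrit.Minimal.isReduced_of_smooth K (B := K ⊗[R] D)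
  have hp := (PrimeSpectrum.irreducibleSpace_iff_isPrime_nilradical).1 hirr
  rw [nilradical_eq_zero] at hp
  exact (Ideal.Quotient.isDomain_iff_prime (⊥ : Ideal (K ⊗[R] D))).2 hp |> fun h =>
    (RingEquiv.quotientBot (K ⊗[R] D)).symm.toMulEquiv.isDomain _

theorem gif_of_smooth_of_geomIrred [Algebra.Smooth R D] (h : _root_.FlatCA.GeomIrredFibres R D) :
    GIF R D := fun K _ _ => by
  haveI := isDomain_of_smooth_of_geomIrred h K
  infer_instance

theorem geomIntegralFibres_of_isDomain
    (h : ∀ (K : Type u) [Field K] [Algebra R K], IsDomain (K ⊗[R] D)) :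
    _root_.FlatCA.GeomIntegralFibres R D := by
  refine ⟨fun K _ y Z fst snd hZ => ?_⟩
  obtain ⟨φ, rfl⟩ := Spec.map_surjective y
  letI : Algebra R K := φ.hom.toAlgebra
  haveI := h K
  haveI : IsIntegral (Spec (CommRingCat.of (K ⊗[R] D))) := (affine_isIntegral_iff _).2 inferInstance
  exact IsIntegral.of_isIso ((isPullback_fibre (R := R) (D := D) K).isoPullback.hom ≫ (hZ.isoPullback).inv)

theorem prime_closedFibre [IsLocalRing R]
    (h : IsDomain ((IsLocalRing.maximalIdeal R).ResidueField ⊗[R] D)) :
    ((IsLocalRing.maximalIdeal R).map (algebraMap R D)).IsPrime := by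
  let k := (IsLocalRing.maximalIdeal R).ResidueField
  let φ : D →ₐ[R] k ⊗[R] D := Algebra.TensorProduct.includeRight
  have hk : Function.Surjective (algebraMap R k) := Ideal.algebraMap_residueField_surjective _
  suffices hker : RingHom.ker φ.toRingHom = (IsLocalRing.maximalIdeal R).map (algebraMap R D) by
    rw [← hker]; exact RingHom.ker_isPrime _
  refine le_antisymm (fun x hx => ?_) (Ideal.map_le_iff_le_comap.2 fun r hr => ?_)
  · let e := TensorProduct.quotTensorEquivQuotSMul D (IsLocalRing.maximalIdeal R)
    let q : R ⧸ IsLocalRing.maximalIdeal R →ₐ[R] k := IsScalarTower.toAlgHom R _ k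
    have hq : Function.Bijective q := Ideal.bijective_algebraMap_quotient_residueField _
    have h0 : ((1 : R ⧸ IsLocalRing.maximalIdeal R) ⊗ₜ[R] x) = 0 := by
      apply (TensorProduct.congr (LinearEquiv.ofBijective q.toLinearMap hq) (LinearEquiv.refl R D)).injective
      rw [map_zero, TensorProduct.congr_tmul, LinearEquiv.ofBijective_apply, AlgHom.toLinearMap_apply, map_one]
      exact hx
    have h1 := congrArg e h0
    rw [show (1 : R ⧸ IsLocalRing.maximalIdeal R) = Ideal.Quotient.mk _ 1 from rfl,
      TensorProduct.quotTensorEquivQuotSMul_mk_tmul, one_smul, map_zero, Submodule.Quotient.mk_eq_zero,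
      Ideal.smul_top_eq_map] at h1
    exact h1
  · show φ (algebraMap R D r) = 0
    rw [AlgHom.commutes, IsScalarTower.algebraMap_apply R k (k ⊗[R] D),
      Ideal.algebraMap_residueField_eq_zero.2 hr, map_zero]

end Groth.Agent.Lib.RG.Fibres
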