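import Groth.Agent.Lib.RG.Near
import Groth.Agent.Lib.RG.OpenFlat
import Mathlib.RingTheory.Flat.Stability

/-!
# Applying goodness near a point or along a fibre
-/

set_option autoImplicit false
set_option linter.style.haveILetI false

universe u

open scoped TensorProduct

attribute [local instance] Algebra.TensorProduct.rightAlgebra

namespace Groth.Agent.Lib.RG.NearApply

open FPOn NhdPoint Near

variable {R S : Type u} [CommRing R] [CommRing S] [Algebra R S]
  {N : Type u} [AddCommGroup N] [Module S N] [Module R N] [IsScalarTower R S N]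

section Refine

variable {R₁ R₂ : Type u} [CommRing R₁] [Algebra R R₁] [CommRing R₂] [Algebra R R₂]

theorem map_algebraMap (g : R₁ →ₐ[R] R₂) (s : S) :
    Algebra.TensorProduct.map (AlgHom.id R S) g (algebraMap S (S ⊗[R] R₁) s) = algebraMap S (S ⊗[R] R₂) s := by
  show Algebra.TensorProduct.map (AlgHom.id R S) g (s ⊗ₜ[R] (1 : R₁)) = s ⊗ₜ[R] (1 : R₂)
  rw [Algebra.TensorProduct.map_tmul, map_one]
  rfl

theorem map_inR (g : R₁ →ₐ[R] R₂) (r : R₁) :
    Algebra.TensorProduct.map (AlgHom.id R S) g (inR r) = inR (g r) := by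
  show Algebra.TensorProduct.map (AlgHom.id R S) g ((1 : S) ⊗ₜ[R] r) = (1 : S) ⊗ₜ[R] g r
  rw [Algebra.TensorProduct.map_tmul, map_one]

/-- Goodness passes to finer neighbourhoods. -/
theorem good_push (g : R₁ →ₐ[R] R₂) (p₁ : Ideal R₁) (p₂ : Ideal R₂) (hg : p₂.comap g.toRingHom = p₁)
    (h : S ⊗[R] R₁) (hgood : Good R (shadow p₁ h) N) :
    Good R (shadow p₂ (Algebra.TensorProduct.map (AlgHom.id R S) g h)) N := by
  have hsub : shadow p₂ (Algebra.TensorProduct.map (AlgHom.id R S) g h) ⊆ shadow p₁ h := by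
    rintro Q ⟨P, hP, hhP, hPp, rfl⟩
    refine ⟨P.comap (Algebra.TensorProduct.map (AlgHom.id R S) g).toRingHom, hP.comap _, hhP, fun r hr => ?_,
      Ideal.ext fun s => ?_⟩
    · rw [← hg]
      exact hPp (show inR (g r) ∈ P by rw [← map_inR]; exact hr)
    · show Algebra.TensorProduct.map (AlgHom.id R S) g _ ∈ P ↔ _
      rw [map_algebraMap]
      rfl
  exact ⟨fun Q _ hQ => hgood.1 Q inferInstance (hsub hQ), hgood.2.mono hsub⟩

end Refine

/-- Finitely many étale neighbourhoods have a common refinement. -/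
theorem exists_common {ι : Type u} (s : Finset ι) (p : Ideal R) [p.IsPrime] (T : ι → Type u) [∀ i, CommRing (T i)]
    [∀ i, Algebra R (T i)] (t : ∀ i, Ideal (T i)) [∀ i, (t i).IsPrime]
    (ht : ∀ i, _root_.FlatCA.IsEtaleNhd R (T i) p (t i)) :
    ∃ (R' : Type u) (_ : CommRing R') (_ : Algebra R R') (p' : Ideal R') (_ : p'.IsPrime),
      _root_.FlatCA.IsEtaleNhd R R' p p' ∧ ∀ i ∈ s, ∃ g : T i →ₐ[R] R', p'.comap g.toRingHom = t i := by
  classical
  induction s using Finset.induction_on with
  | empty => exact ⟨R, inferInstance, inferInstance, p, inferInstance, NhdPoint.refl p, fun i hi => absurd hi (Finset.notMem_empty i)⟩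
  | insert i s hi ih =>
    obtain ⟨R', cR', aR', p', hp', hnhd, hg⟩ := ih
    haveI := hnhd.2.choose
    obtain ⟨P, hP, hPS, hPR⟩ := exists_point (S := R') p (t i) p' (hnhd := ht i)
    haveI := hP
    refine ⟨R' ⊗[R] T i, inferInstance, inferInstance, P, hP,
      NhdPoint.trans hnhd (NhdPoint.isEtaleNhd p (t i) p' (ht i) P hPS hPR), fun j hj => ?_⟩
    rcases Finset.mem_insert.1 hj with rfl | hj
    · exact ⟨Algebra.TensorProduct.includeRight, hPR⟩
    · obtain ⟨g, hgp⟩ := hg j hj
      exact ⟨Algebra.TensorProduct.includeLeft.comp g, by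
        rw [← hgp, ← hPS]
        rfl⟩

/-- The point map of a fibre into the base change by a neighbourhood. -/
theorem exists_fibreHom {R' : Type u} [CommRing R'] [Algebra R R'] (p : Ideal R) [p.IsPrime] (p' : Ideal R')
    [p'.IsPrime] (hnhd : _root_.FlatCA.IsEtaleNhd R R' p p') :
    ∃ χ : S ⊗[R] R' →+* p.Fiber S, (∀ s, χ (algebraMap S _ s) = FlatCA.Impurity.incl p s) ∧
      ∀ x : PrimeSpectrum (p.Fiber S), (x.asIdeal.comap χ).comap inR = p' := by
  obtain ⟨-, hover, hbij⟩ := hnhd
  haveI := hover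
  let e := AlgEquiv.ofBijective (Ideal.ResidueField.mapₐ p p' (Algebra.ofId R R') hover.over) hbij
  let χ₂ : R' →ₐ[R] p.Fiber S :=
    ((IsScalarTower.toAlgHom R p.ResidueField (p.Fiber S)).comp e.symm.toAlgHom).comp
      (IsScalarTower.toAlgHom R R' p'.ResidueField)
  let χ : S ⊗[R] R' →ₐ[R] p.Fiber S := Algebra.TensorProduct.lift
    (Algebra.TensorProduct.includeRight : S →ₐ[R] p.Fiber S) χ₂ fun _ _ => Commute.all _ _
  refine ⟨χ.toRingHom, fun s => ?_, fun x => Ideal.ext fun r => ?_⟩
  · show χ (s ⊗ₜ[R] (1 : R')) = _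
    rw [Algebra.TensorProduct.lift_tmul, map_one, mul_one]
    rfl
  · show χ ((1 : S) ⊗ₜ[R] r) ∈ x.asIdeal ↔ _
    rw [Algebra.TensorProduct.lift_tmul, map_one, one_mul]
    show algebraMap p.ResidueField (p.Fiber S) (e.symm (algebraMap R' p'.ResidueField r)) ∈ x.asIdeal ↔ _
    refine ⟨fun h => ?_, fun h => ?_⟩
    · rw [← Ideal.algebraMap_residueField_eq_zero, ← map_eq_zero_iff e.symm e.symm.injective]
      by_contra h0
      exact x.2.ne_top (Ideal.eq_top_of_isUnit_mem _ h ((isUnit_iff_ne_zero.2 h0).map _))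
    · rw [Ideal.algebraMap_residueField_eq_zero.2 h, map_zero, map_zero]
      exact x.asIdeal.zero_mem

/-- Flatness along a fibre: one neighbourhood serves all points. -/
theorem exists_near_fibre [Algebra.FiniteType R S] [Module.Finite S N] (p : Ideal R) [p.IsPrime]
    (hflat : ∀ (q : Ideal S) [q.IsPrime], q.LiesOver p → Module.Flat R (LocalizedModule q.primeCompl N)) :
    ∃ (R' : Type u) (_ : CommRing R') (_ : Algebra R R') (p' : Ideal R') (_ : p'.IsPrime),
      _root_.FlatCA.IsEtaleNhd R R' p p' ∧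
        ∀ P : Ideal (S ⊗[R] R'), P.IsPrime → P.comap inR = p' → ∃ h, h ∉ P ∧ Good R (shadow p' h) N := by
  classical
  let i : PrimeSpectrum (p.Fiber S) → Ideal S := fun x => x.asIdeal.comap (FlatCA.Impurity.incl p)
  have hover : ∀ x : PrimeSpectrum (p.Fiber S), (i x).LiesOver p := fun x => ⟨by
    ext r
    show r ∈ p ↔ FlatCA.Impurity.incl p (algebraMap R S r) ∈ x.asIdeal
    rw [show FlatCA.Impurity.incl p (algebraMap R S r) = algebraMap R (p.Fiber S) r from
      AlgHom.commutes (Algebra.TensorProduct.includeRight : S →ₐ[R] p.Fiber S) r]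
    refine ⟨fun h => ?_, fun h => ?_⟩
    · rw [IsScalarTower.algebraMap_apply R p.ResidueField (p.Fiber S), Ideal.algebraMap_residueField_eq_zero.2 h,
        map_zero]
      exact x.asIdeal.zero_mem
    · by_contra hr
      exact x.2.ne_top (Ideal.eq_top_of_isUnit_mem _ h (FlatCA.WeakAss.isUnit_algebraMap_fiber p hr))⟩
  have hnear : ∀ x : PrimeSpectrum (p.Fiber S), Near R S N p (i x) := fun x =>
    haveI := hover x
    near_of_flat p (i x) (hflat (i x) (hover x))
  choose T cT aT t ht hnhd h hh hgood using hnear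
  choose χ hχS hχR using fun x => exists_fibreHom (S := S) p (t x) (hnhd x)
  have hcov : (Set.univ : Set (PrimeSpectrum (p.Fiber S))) ⊆
      ⋃ x, (PrimeSpectrum.basicOpen (χ x (h x)) : Set (PrimeSpectrum (p.Fiber S))) := fun x _ => by
    refine Set.mem_iUnion.2 ⟨x, hh x (x.asIdeal.comap (χ x)) (Ideal.IsPrime.comap _) (Ideal.ext fun s => ?_) (hχR x x)⟩
    show χ x (algebraMap S _ s) ∈ x.asIdeal ↔ _
    rw [hχS]
    rfl
  obtain ⟨s, hs⟩ := isCompact_univ.elim_finite_subcover _ (fun x => (PrimeSpectrum.basicOpen _).isOpen) hcov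
  obtain ⟨R', cR', aR', p', hp', hR', hg⟩ := exists_common s p T t hnhd
  refine ⟨R', cR', aR', p', hp', hR', fun P hP hPR => ?_⟩
  haveI := hP
  haveI := hR'.2.choose
  let q := P.comap (algebraMap S (S ⊗[R] R'))
  haveI : q.LiesOver p := ⟨by
    show p = q.comap (algebraMap R S)
    rw [← comap_inR_under, hPR]
    exact p'.over_def p⟩
  obtain ⟨hx, hxq⟩ := FlatCA.WeakAss.fiberIdeal_prime p q
  obtain ⟨x, hxs, hxh⟩ := Set.mem_iUnion₂.1 (hs (Set.mem_univ (⟨_, hx⟩ : PrimeSpectrum (p.Fiber S))))
  obtain ⟨g, hgp⟩ := hg x hxs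
  refine ⟨Algebra.TensorProduct.map (AlgHom.id R S) g (h x), fun hmem => hxh ?_,
    good_push g (t x) p' hgp (h x) (hgood x)⟩
  let P₁ := P.comap (Algebra.TensorProduct.map (AlgHom.id R S) g).toRingHom
  let P₂ := (_root_.FlatCA.fiberIdeal p q).comap (χ x)
  haveI : P₁.IsPrime := Ideal.IsPrime.comap _
  haveI : P₂.IsPrime := Ideal.IsPrime.comap _
  have h12 : P₁ = P₂ := by
    refine point_unique p (t x) q (hnhd x) P₁ P₂ (Ideal.ext fun s => ?_) (Ideal.ext fun r => ?_) (Ideal.ext fun s => ?_)
      (hχR x ⟨_, hx⟩)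
    · show Algebra.TensorProduct.map (AlgHom.id R S) g _ ∈ P ↔ _
      rw [map_algebraMap]
      rfl
    · show Algebra.TensorProduct.map (AlgHom.id R S) g (inR r) ∈ P ↔ _
      rw [map_inR, ← hgp]
      show _ ↔ g r ∈ p'
      rw [← hPR]
      rfl
    · show χ x (algebraMap S _ s) ∈ _root_.FlatCA.fiberIdeal p q ↔ _
      rw [hχS]
      exact SetLike.ext_iff.1 hxq s
  show h x ∈ P₂
  rw [← h12]
  exact hmem

section Model

variable {R' : Type u} [CommRing R'] [Algebra R R'] (p' : Ideal R') [p'.IsPrime]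
  {SA : Type u} [CommRing SA] [Algebra R SA] [Algebra S SA] [Algebra (Localization.AtPrime p') SA]
  [IsScalarTower R S SA] [IsScalarTower R (Localization.AtPrime p') SA]

/-- The map to a base change by the local ring of the neighbourhood. -/
theorem exists_toModel : ∃ φ : S ⊗[R] R' →+* SA, (∀ s, φ (algebraMap S _ s) = algebraMap S SA s) ∧
    ∀ r, φ (inR r) = algebraMap (Localization.AtPrime p') SA (algebraMap R' (Localization.AtPrime p') r) := by
  let φ : S ⊗[R] R' →ₐ[R] SA := Algebra.TensorProduct.lift (IsScalarTower.toAlgHom R S SA)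
    ((IsScalarTower.toAlgHom R (Localization.AtPrime p') SA).comp
      (IsScalarTower.toAlgHom R R' (Localization.AtPrime p'))) fun _ _ => Commute.all _ _
  refine ⟨φ.toRingHom, fun s => ?_, fun r => ?_⟩
  · show φ (s ⊗ₜ[R] (1 : R')) = _
    rw [Algebra.TensorProduct.lift_tmul, map_one, mul_one]
    rfl
  · show φ ((1 : S) ⊗ₜ[R] r) = _
    rw [Algebra.TensorProduct.lift_tmul, map_one, one_mul]
    rfl

variable {φ : S ⊗[R] R' →+* SA} (hφS : ∀ s, φ (algebraMap S _ s) = algebraMap S SA s)
  (hφR : ∀ r, φ (inR r) = algebraMap (Localization.AtPrime p') SA (algebraMap R' (Localization.AtPrime p') r))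

include hφS hφR

omit [Algebra R SA] [IsScalarTower R S SA] [IsScalarTower R (Localization.AtPrime p') SA] in
theorem mem_shadow (h : S ⊗[R] R') (Q : Ideal SA) [Q.IsPrime] (hQ : φ h ∉ Q) :
    Q.comap (algebraMap S SA) ∈ shadow p' h := by
  refine ⟨Q.comap φ, Ideal.IsPrime.comap _, hQ, fun r hr => ?_, Ideal.ext fun s => ?_⟩
  · have h1 : algebraMap R' (Localization.AtPrime p') r ∈
        Q.comap (algebraMap (Localization.AtPrime p') SA) := by
      show algebraMap (Localization.AtPrime p') SA _ ∈ Q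
      rw [← hφR]
      exact hr
    exact (IsLocalization.AtPrime.to_map_mem_maximal_iff (Localization.AtPrime p') p' r).1
      (IsLocalRing.le_maximalIdeal (Ideal.IsPrime.ne_top (Ideal.IsPrime.comap _)) h1)
  · show φ (algebraMap S _ s) ∈ Q ↔ _
    rw [hφS]
    rfl

omit [Algebra R SA] [IsScalarTower R S SA] [IsScalarTower R (Localization.AtPrime p') SA] in
theorem point_over (Q : Ideal SA) [Q.IsPrime] [Q.LiesOver (IsLocalRing.maximalIdeal (Localization.AtPrime p'))] :
    (Q.comap φ).comap (algebraMap S _) = Q.comap (algebraMap S SA) ∧ (Q.comap φ).comap inR = p' := by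
  refine ⟨Ideal.ext fun s => ?_, Ideal.ext fun r => ?_⟩
  · show φ (algebraMap S _ s) ∈ Q ↔ _
    rw [hφS]
    rfl
  · show φ (inR r) ∈ Q ↔ _
    rw [hφR, ← IsLocalization.AtPrime.to_map_mem_maximal_iff (Localization.AtPrime p') p' r,
      Q.over_def (IsLocalRing.maximalIdeal (Localization.AtPrime p'))]
    rfl

omit [Algebra R SA] [IsScalarTower R S SA] [IsScalarTower R (Localization.AtPrime p') SA] in
theorem notMem_of_point (q : Ideal S) (h : S ⊗[R] R')
    (hh : ∀ P : Ideal (S ⊗[R] R'), P.IsPrime → P.comap (algebraMap S _) = q → P.comap inR = p' → h ∉ P)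
    (Q : Ideal SA) [Q.IsPrime] (hQq : Q.LiesOver q)
    [Q.LiesOver (IsLocalRing.maximalIdeal (Localization.AtPrime p'))] : φ h ∉ Q :=
  hh (Q.comap φ) (Ideal.IsPrime.comap _) ((point_over p' hφS hφR Q).1.trans hQq.over.symm)
    (point_over p' hφS hφR Q).2

variable [Algebra.IsPushout R S (Localization.AtPrime p') SA] [Algebra.Etale R R']
  {NA : Type u} [AddCommGroup NA] [Module SA NA] [Module S NA] [IsScalarTower S SA NA]
  [Module (Localization.AtPrime p') NA] [IsScalarTower (Localization.AtPrime p') SA NA]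
  (f : N →ₗ[S] NA) (hf : IsBaseChange SA f)

include hf

/-- Goodness gives flatness of the base change on a basic open. -/
theorem flat_model (h : S ⊗[R] R') (hgood : Good R (shadow p' h) N) :
    Module.Flat (Localization.AtPrime p') (LocalizedModule (Submonoid.powers (φ h)) NA) := by
  refine OpenFlat.flat_away_of_forall (φ h) fun Q _ hQ => ?_
  let A := Localization.AtPrime p'
  letI : Module R NA := Module.compHom NA (algebraMap R A)
  haveI : IsScalarTower R A NA := IsScalarTower.of_algebraMap_smul fun _ _ => rfl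
  haveI : IsScalarTower R SA NA := IsScalarTower.of_algebraMap_smul fun r x => by
    rw [IsScalarTower.algebraMap_apply R A SA, algebraMap_smul]
    rfl
  haveI : IsScalarTower R S NA := IsScalarTower.of_algebraMap_smul fun r x => by
    rw [← algebraMap_smul SA (algebraMap R S r) x, ← IsScalarTower.algebraMap_apply, algebraMap_smul]
  haveI : Module.Flat R' A := IsLocalization.flat A p'.primeCompl
  haveI : Module.Flat R A := Module.Flat.trans R R' A
  haveI : Module.Flat S SA := Module.Flat.isBaseChange R S A SA (Algebra.IsPushout.out (R := R) (S := S) (R' := A) (S' := SA))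
  have h1 : Module.Flat R (LocalizedModule Q.primeCompl NA) :=
    FibrePoint.flatAt_up f hf (Q.comap (algebraMap S SA)) Q rfl
      (hgood.1 _ inferInstance (mem_shadow p' hφS hφR h Q hQ))
  haveI : Algebra.FormallyUnramified R A := inferInstance
  haveI : IsScalarTower R A (LocalizedModule Q.primeCompl NA) := IsScalarTower.of_algebraMap_smul fun r x => by
    rw [← algebraMap_smul SA (algebraMap R A r) x, ← IsScalarTower.algebraMap_apply, algebraMap_smul]
  exact Algebra.FormallyUnramified.flat_of_restrictScalars (R := R) (S := A) _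

end Model

section FP

variable {SA : Type u} [CommRing SA]

/-- A presentation exact on a basic open gives finite presentation there. -/
theorem finitePresentation_away {NA : Type u} [AddCommGroup NA] [Module SA NA] {k : ℕ}
    (π : (Fin k → SA) →ₗ[SA] NA) (hπ : Function.Surjective π) (T : Finset (Fin k → SA)) (hT : ∀ t ∈ T, π t = 0)
    (g : SA) (hgen : ∀ x, π x = 0 → ∃ n : ℕ, g ^ n • x ∈ Submodule.span SA (T : Set (Fin k → SA))) :
    Module.FinitePresentation (Localization.Away g) (LocalizedModule (Submonoid.powers g) NA) := by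
  let L := Submodule.span SA (T : Set (Fin k → SA))
  let M' := (Fin k → SA) ⧸ L
  haveI : Module.FinitePresentation SA M' :=
    Module.finitePresentation_of_surjective L.mkQ (Submodule.mkQ_surjective _)
      (by rw [Submodule.ker_mkQ]; exact ⟨T, rfl⟩)
  let φ : M' →ₗ[SA] NA := Submodule.liftQ L π (Submodule.span_le.2 fun t ht => hT t ht)
  let Φ : LocalizedModule (Submonoid.powers g) M' →ₗ[Localization.Away g] LocalizedModule (Submonoid.powers g) NA :=
    LocalizedModule.map (Submonoid.powers g) φ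
  have hΦ : Function.Bijective Φ := by
    refine ⟨(injective_iff_map_eq_zero _).2 fun z hz => ?_, LocalizedModule.map_surjective _ _ fun m => ?_⟩
    · induction z using LocalizedModule.induction_on with
      | h z s =>
        change LocalizedModule.map (Submonoid.powers g) φ (LocalizedModule.mk z s) = 0 at hz
        obtain ⟨x, rfl⟩ := Submodule.Quotient.mk_surjective L z
        rw [LocalizedModule.map_mk, ← LocalizedModule.zero_mk s, LocalizedModule.mk_eq] at hz
        obtain ⟨⟨_, j, rfl⟩, hc⟩ := hz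
        simp only [smul_zero, Submonoid.smul_def] at hc
        obtain ⟨m, hm⟩ := hgen ((g ^ j * (s : SA)) • x) (by rw [map_smul, mul_smul]; exact hc)
        rw [← LocalizedModule.zero_mk s, LocalizedModule.mk_eq]
        refine ⟨⟨g ^ m * g ^ j, Submonoid.mul_mem _ ⟨m, rfl⟩ ⟨j, rfl⟩⟩, ?_⟩
        simp only [smul_zero, Submonoid.smul_def]
        rw [← Submodule.Quotient.mk_smul, ← Submodule.Quotient.mk_smul, Submodule.Quotient.mk_eq_zero, smul_smul,
          mul_assoc, ← smul_smul]
        exact hm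
    · obtain ⟨v, rfl⟩ := hπ m
      exact ⟨Submodule.Quotient.mk v, rfl⟩
  exact Module.FinitePresentation.of_equiv (LinearEquiv.ofBijective Φ hΦ)

variable [Algebra S SA] {NA : Type u} [AddCommGroup NA] [Module SA NA] [Module S NA] [IsScalarTower S SA NA]

omit [Module R N] [IsScalarTower R S N] in
/-- Uniform finite presentation on a set gives finite presentation of a base change on a basic open. -/
theorem fp_model [Module.Finite S N] (U : Set (Ideal S)) (hU : FPOn U N) (f : N →ₗ[S] NA) (hf : IsBaseChange SA f)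
    (g : SA) (hg : ∀ Q : Ideal SA, Q.IsPrime → g ∉ Q → Q.comap (algebraMap S SA) ∈ U) :
    Module.FinitePresentation (Localization.Away g) (LocalizedModule (Submonoid.powers g) NA) := by
  classical
  obtain ⟨k, π, hπ⟩ := Module.Finite.exists_fin' S N
  obtain ⟨T, hT, hgen⟩ := hU k π hπ
  let e : SA ⊗[S] (Fin k → S) ≃ₗ[SA] (Fin k → SA) := TensorProduct.piScalarRight S SA SA (Fin k)
  let π' : (Fin k → SA) →ₗ[SA] NA := hf.equiv.toLinearMap.comp ((π.baseChange SA).comp e.symm.toLinearMap)
  have hbc : Function.Surjective (π.baseChange SA) := LinearMap.lTensor_surjective SA hπ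
  let ρ : (Fin k → S) → (Fin k → SA) := fun x => e ((1 : SA) ⊗ₜ[S] x)
  have hπρ : ∀ x, π' (ρ x) = f (π x) := fun x => by
    show hf.equiv (π.baseChange SA (e.symm (e ((1 : SA) ⊗ₜ[S] x)))) = _
    rw [LinearEquiv.symm_apply_apply, LinearMap.baseChange_tmul, IsBaseChange.equiv_tmul, one_smul]
  refine finitePresentation_away π' (hf.equiv.surjective.comp (hbc.comp e.symm.surjective)) (T.image ρ)
    (fun t ht => ?_) g fun x hx => ?_
  · obtain ⟨t', ht', rfl⟩ := Finset.mem_image.1 ht
    rw [hπρ, hT t' ht', map_zero]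
  · let L' := Submodule.span SA ((T.image ρ : Finset (Fin k → SA)) : Set (Fin k → SA))
    have hker : π.lTensor SA (e.symm x) = 0 := hf.equiv.injective (hx.trans (map_zero _).symm)
    obtain ⟨ζ, hζ⟩ := (lTensor_exact SA (LinearMap.exact_subtype_ker_map π) hπ _).1 hker
    have key : ∀ ζ, ∀ Q : Ideal SA, Q.IsPrime → g ∉ Q →
        ∃ w, w ∉ Q ∧ w • e ((LinearMap.ker π).subtype.lTensor SA ζ) ∈ L' := by
      intro ζ Q hQ hgQ
      induction ζ using TensorProduct.induction_on with
      | zero => exact ⟨1, fun h => hQ.ne_top ((Ideal.eq_top_iff_one Q).2 h), by simp⟩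
      | tmul a y =>
        obtain ⟨w, hw, hwy⟩ := hgen y.1 y.2 _ (hg Q hQ hgQ)
        refine ⟨algebraMap S SA w, hw, ?_⟩
        rw [algebraMap_smul, LinearMap.lTensor_tmul, show a ⊗ₜ[S] (LinearMap.ker π).subtype y =
          a • ((1 : SA) ⊗ₜ[S] y.1) by rw [TensorProduct.smul_tmul', smul_eq_mul, mul_one]; rfl,
          map_smul, smul_comm]
        refine L'.smul_mem a ?_
        have hmem : ∀ z ∈ Submodule.span S (T : Set (Fin k → S)), ρ z ∈ L' := by
          intro z hz
          induction hz using Submodule.span_induction with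
          | mem z hz => exact Submodule.subset_span (Finset.mem_coe.2 (Finset.mem_image_of_mem ρ hz))
          | zero =>
            show e ((1 : SA) ⊗ₜ[S] (0 : Fin k → S)) ∈ L'
            rw [TensorProduct.tmul_zero, map_zero]
            exact L'.zero_mem
          | add a b _ _ ha hb =>
            show e ((1 : SA) ⊗ₜ[S] (a + b)) ∈ L'
            rw [TensorProduct.tmul_add, map_add]
            exact L'.add_mem ha hb
          | smul c a _ ha =>
            show e ((1 : SA) ⊗ₜ[S] (c • a)) ∈ L'
            rw [TensorProduct.tmul_smul, ← algebraMap_smul SA c, map_smul]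
            exact L'.smul_mem _ ha
        have h1 := hmem _ hwy
        show w • ρ y.1 ∈ L'
        rw [← algebraMap_smul SA w (ρ y.1)]
        show algebraMap S SA w • e ((1 : SA) ⊗ₜ[S] y.1) ∈ L'
        rw [← map_smul, algebraMap_smul, ← TensorProduct.tmul_smul]
        exact h1
      | add a b ha hb =>
        obtain ⟨va, hva, ha'⟩ := ha
        obtain ⟨vb, hvb, hb'⟩ := hb
        refine ⟨va * vb, fun h => (hQ.mem_or_mem h).elim hva hvb, ?_⟩
        rw [map_add, map_add, smul_add]
        refine L'.add_mem ?_ ?_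
        · rw [mul_comm, mul_smul]; exact L'.smul_mem _ ha'
        · rw [mul_smul]; exact L'.smul_mem _ hb'
    by_contra hcon
    push Not at hcon
    let I : Ideal SA := L'.comap (LinearMap.toSpanSingleton SA _ x)
    have hI : ∀ a, a ∈ I ↔ a • x ∈ L' := fun a => by
      rw [Submodule.mem_comap, LinearMap.toSpanSingleton_apply]
    obtain ⟨Q, hQ, hle, hd⟩ := Ideal.exists_le_prime_disjoint I (Submonoid.powers g)
      (Set.disjoint_left.2 fun a ha ha' => by
        obtain ⟨n, rfl⟩ := ha'
        exact hcon n ((hI _).1 ha))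
    obtain ⟨w, hw, hwx⟩ := key ζ Q hQ fun hgQ => Set.disjoint_left.1 hd hgQ (Submonoid.mem_powers g)
    rw [hζ, LinearEquiv.apply_symm_apply] at hwx
    exact hw (hle ((hI w).2 hwx))

end FP

end Groth.Agent.Lib.RG.NearApply
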