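import Groth.Agent.S4621
import Groth.Agent.S2280
import Groth.Agent.H54.SectionComp
import Groth.Agent.Lib.Cyc.SmoothReg
import Groth.Agent.Lib.Regular.Quotient

/-!
# Geometrically connected components of fibres
-/

set_option autoImplicit false
set_option linter.style.haveILetI false

universe u

open CategoryTheory CategoryTheory.Limits AlgebraicGeometry

namespace Groth.Agent.Lib.RG.GeomComp

/-- A connected smooth scheme over a field is integral. -/
theorem isIntegral_of_smooth_connected {K : Type u} [Field K] {X : Scheme.{u}}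
    (f : X ⟶ Spec (CommRingCat.of K)) [Smooth f] [ConnectedSpace X] : IsIntegral X := by
  haveI : IsLocallyNoetherian X := LocallyOfFiniteType.isLocallyNoetherian f
  refine (Groth.Agent.S2280.result X).2.2 ⟨inferInstance, fun x => ?_⟩
  haveI := Cyc.SmoothReg.isRegularLocalRing_stalk f x
  exact Regular.Quotient.isDomain _

/-- If the residue field of `x` is geometrically connected over that of its image, then the
preimage, in any base change to a field, of the connected component of `x` in its fibre is
connected. -/
theorem isPreconnected_preimage_component {X S : Scheme.{u}} (f : X ⟶ S) (x : X)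
    [GeometricallyConnected (Spec.map (f.residueFieldMap x))]
    {K : Type u} [Field K] (y : Spec (CommRingCat.of K) ⟶ S) (pt : ↥(Spec (CommRingCat.of K)))
    (hy : y pt = f x) :
    _root_.IsPreconnected ((pullback.fst f y) ⁻¹' connectedComponentIn (f ⁻¹' {f x}) x) := by
  obtain ⟨⟨s, φ⟩, hφ⟩ := (Scheme.SpecToEquivOfField _ _).symm.surjective y
  obtain rfl : y = Spec.map φ ≫ S.fromSpecResidueField s := hφ.symm.trans rfl
  rw [Scheme.Hom.comp_apply, Scheme.fromSpecResidueField_apply] at hy
  subst hy
  letI : Algebra (S.residueField (f x)) K := φ.hom.toAlgebra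
  letI : Algebra (IsLocalRing.ResidueField (S.presheaf.stalk (f x))) K := φ.hom.toAlgebra
  let F : f.fiber (f x) ⟶ Spec (S.residueField (f x)) := f.fiberToSpecResidueField (f x)
  let h : Spec (X.residueField x) ⟶ f.fiber (f x) :=
    pullback.lift (X.fromSpecResidueField x) (Spec.map (f.residueFieldMap x))
      (f.SpecMap_residueFieldMap_fromSpecResidueField x).symm
  obtain ⟨y₀⟩ : Nonempty ↥(Spec (X.residueField x)) := inferInstance
  have hh : f.fiberι (f x) (h y₀) = x := by
    rw [← Scheme.Hom.comp_apply, show h ≫ f.fiberι (f x) = X.fromSpecResidueField x from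
      pullback.lift_fst _ _ _]
    exact Scheme.fromSpecResidueField_apply x y₀
  have hc := Groth.Agent.S4621.result (k := S.residueField (f x)) (K := K) F (Spec.map (f.residueFieldMap x)) h
    (pullback.lift_snd _ _ _) y₀
  let ψ : FBase.bc F K ⟶ pullback f (Spec.map φ ≫ S.fromSpecResidueField (f x)) :=
    pullback.lift (FBase.bcπ F K ≫ f.fiberι (f x)) (FBase.bcStr F K) (by
      rw [Category.assoc, show f.fiberι (f x) ≫ f = F ≫ S.fromSpecResidueField (f x) from pullback.condition]
      exact pullback.condition_assoc (f := F) _)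
  have hψ : ψ ≫ pullback.fst f (Spec.map φ ≫ S.fromSpecResidueField (f x)) = FBase.bcπ F K ≫ f.fiberι (f x) :=
    pullback.lift_fst _ _ _
  have heq : ψ '' (FBase.bcπ F K ⁻¹' connectedComponent (h y₀)) =
      (pullback.fst f (Spec.map φ ≫ S.fromSpecResidueField (f x))) ⁻¹' connectedComponentIn (f ⁻¹' {f x}) x := by
    refine Set.Subset.antisymm ?_ fun w hw => ?_
    · rintro _ ⟨b, hb, rfl⟩
      rw [Set.mem_preimage, ← Scheme.Hom.comp_apply, hψ, Scheme.Hom.comp_apply]
      have := (Groth.Agent.H54.SectionComp.fiberι_mem_iff f (f x) (FBase.bcπ F K b) (h y₀)).2 hb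
      rwa [hh] at this
    · let e : FBase.bc F K ≅ pullback f (Spec.map φ ≫ S.fromSpecResidueField (f x)) :=
        pullbackLeftPullbackSndIso f (S.fromSpecResidueField (f x)) (Spec.map φ)
      have he : e.hom = ψ := by
        apply pullback.hom_ext
        · rw [hψ]; exact pullbackLeftPullbackSndIso_hom_fst _ _ _
        · rw [show ψ ≫ pullback.snd _ _ = FBase.bcStr F K from pullback.lift_snd _ _ _]
          exact pullbackLeftPullbackSndIso_hom_snd _ _ _
      refine ⟨e.inv w, ?_, by rw [← he, ← Scheme.Hom.comp_apply, e.inv_hom_id]; rfl⟩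
      refine (Groth.Agent.H54.SectionComp.fiberι_mem_iff f (f x) (FBase.bcπ F K (e.inv w)) (h y₀)).1 ?_
      rw [hh, ← Scheme.Hom.comp_apply (FBase.bcπ F K), ← hψ, Scheme.Hom.comp_apply ψ, ← he,
        ← Scheme.Hom.comp_apply e.inv, e.inv_hom_id]
      exact hw
  rw [← heq]
  exact hc.isPreconnected.image ψ ψ.continuous.continuousOn

/-- In a base change, two points over the component of `x` in the same fibre are connected in it. -/
theorem mem_component_of_base_change {X S T : Scheme.{u}} (f : X ⟶ S) (x : X)
    [GeometricallyConnected (Spec.map (f.residueFieldMap x))] (π : T ⟶ S) (t : T) (ht : π t = f x)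
    (a b : ↑(pullback f π)) (ha : pullback.snd f π a = t) (hb : pullback.snd f π b = t)
    (hxa : pullback.fst f π a ∈ connectedComponentIn (f ⁻¹' {f x}) x)
    (hxb : pullback.fst f π b ∈ connectedComponentIn (f ⁻¹' {f x}) x) :
    b ∈ connectedComponentIn ((pullback.snd f π) ⁻¹' {t}) a := by
  let y := T.fromSpecResidueField t ≫ π
  obtain ⟨pt⟩ : Nonempty ↥(Spec (T.residueField t)) := inferInstance
  have hy : y pt = f x := by
    rw [Scheme.Hom.comp_apply, Scheme.fromSpecResidueField_apply, ht]
  have hP := isPreconnected_preimage_component f x (K := T.residueField t) y pt hy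
  let m : pullback f y ⟶ pullback f π :=
    pullback.lift (pullback.fst f y) (pullback.snd f y ≫ T.fromSpecResidueField t)
      (by rw [pullback.condition, Category.assoc])
  have hm : m ≫ pullback.fst f π = pullback.fst f y := pullback.lift_fst _ _ _
  have hpb : IsPullback m (pullback.snd f y) (pullback.snd f π) (T.fromSpecResidueField t) := by
    refine IsPullback.of_right ?_ (pullback.lift_snd _ _ _) (IsPullback.of_hasPullback f π)
    rw [hm]
    exact IsPullback.of_hasPullback f y
  have hmem : ∀ c : ↑(pullback f π), pullback.snd f π c = t → ∃ z, m z = c := by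
    intro c hc
    obtain ⟨z, hz, -⟩ := Scheme.Pullback.exists_preimage_pullback (f := pullback.snd f π)
      (g := T.fromSpecResidueField t) c pt (by rw [hc, Scheme.fromSpecResidueField_apply])
    exact ⟨hpb.isoPullback.inv z, by rw [← Scheme.Hom.comp_apply, hpb.isoPullback_inv_fst, hz]⟩
  obtain ⟨a', rfl⟩ := hmem a ha
  obtain ⟨b', rfl⟩ := hmem b hb
  refine (hP.image m m.continuous.continuousOn).subset_connectedComponentIn ⟨a', ?_, rfl⟩ ?_ ⟨b', ?_, rfl⟩
  · rw [Set.mem_preimage, ← hm, Scheme.Hom.comp_apply]; exact hxa
  · rintro _ ⟨c, -, rfl⟩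
    rw [Set.mem_preimage, Set.mem_singleton_iff, ← Scheme.Hom.comp_apply,
      show m ≫ pullback.snd f π = pullback.snd f y ≫ T.fromSpecResidueField t from pullback.lift_snd _ _ _,
      Scheme.Hom.comp_apply, Scheme.fromSpecResidueField_apply]
  · rw [Set.mem_preimage, ← hm, Scheme.Hom.comp_apply]; exact hxb

end Groth.Agent.Lib.RG.GeomComp
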