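import Groth.Agent.S2150
import Mathlib.AlgebraicGeometry.Geometrically.Connected
import Mathlib.AlgebraicGeometry.Fiber
import Mathlib.RingTheory.AlgebraicIndependent.Adjoin
import Mathlib.FieldTheory.IsAlgClosed.AlgebraicClosure
import Mathlib.FieldTheory.SeparableClosure
import Mathlib.Algebra.MvPolynomial.Funext
import Mathlib.RingTheory.Polynomial.RationalRoot
import Mathlib.RingTheory.Polynomial.UniqueFactorization
import Groth.Agent.H56.EtaleNbhd

/-!
# Purely transcendental residue field extensions
-/

set_option autoImplicit false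
set_option linter.style.haveILetI false

universe u

open scoped TensorProduct
open AlgebraicGeometry CategoryTheory

namespace Groth.Agent.Lib.RG.PureTrans

section Fields

variable {k K : Type u} [Field k] [Field K] [Algebra k K] {ι : Type u} {x : ι → K}

theorem exists_aeval_div (hgen : IntermediateField.adjoin k (Set.range x) = ⊤) (a : K) :
    ∃ F G : MvPolynomial ι k, a = MvPolynomial.aeval x F / MvPolynomial.aeval x G := by
  have : a ∈ IntermediateField.adjoin k (Set.range x) := by rw [hgen]; trivial
  obtain ⟨F, G, h⟩ := (IntermediateField.mem_adjoin_range_iff k x a).1 this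
  exact ⟨F, G, h⟩

theorem exists_aeval_div_ne_zero (hind : AlgebraicIndependent k x)
    (hgen : IntermediateField.adjoin k (Set.range x) = ⊤) (a : K) :
    ∃ F G : MvPolynomial ι k, G ≠ 0 ∧ a * MvPolynomial.aeval x G = MvPolynomial.aeval x F := by
  obtain ⟨F, G, h⟩ := exists_aeval_div hgen a
  by_cases hG : G = 0
  · exact ⟨0, 1, one_ne_zero, by simp [h, hG]⟩
  · refine ⟨F, G, hG, ?_⟩
    rw [h, div_mul_cancel₀]
    exact fun h0 => hG (hind.eq_zero_of_aeval_eq_zero G h0)

/-- In a purely transcendental extension the ground field is algebraically closed. -/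
theorem mem_range_of_isIntegral (hind : AlgebraicIndependent k x)
    (hgen : IntermediateField.adjoin k (Set.range x) = ⊤) {a : K} (ha : IsIntegral k a) :
    a ∈ Set.range (algebraMap k K) := by
  classical
  letI : Algebra (MvPolynomial ι k) K := (MvPolynomial.aeval x).toRingHom.toAlgebra
  haveI : IsScalarTower k (MvPolynomial ι k) K :=
    IsScalarTower.of_algebraMap_eq' (MvPolynomial.aeval x).comp_algebraMap.symm
  haveI : FaithfulSMul (MvPolynomial ι k) K := (faithfulSMul_iff_algebraMap_injective _ _).2 hind
  haveI : IsFractionRing (MvPolynomial ι k) K := IsFractionRing.of_field _ _ fun z => by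
    obtain ⟨F, G, h⟩ := exists_aeval_div hgen z
    exact ⟨F, G, h⟩
  obtain ⟨f, hf⟩ := IsIntegrallyClosed.algebraMap_eq_of_integral (ha.tower_top (A := MvPolynomial ι k))
  have hfint : IsIntegral k f := by
    refine (isIntegral_algHom_iff (MvPolynomial.aeval x) hind).1 ?_
    exact (show MvPolynomial.aeval x f = a from hf).symm ▸ ha
  let L := AlgebraicClosure k
  let φ : MvPolynomial ι k →ₐ[k] MvPolynomial ι L := MvPolynomial.mapAlgHom (Algebra.ofId k L)
  have h1 : IsIntegral L (φ f) := (hfint.map φ).tower_top
  let A := Algebra.adjoin L {φ f}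
  haveI : Algebra.IsIntegral L A :=
    le_integralClosure_iff_isIntegral.1 (adjoin_le_integralClosure h1)
  obtain ⟨c, hc⟩ := (IsAlgClosed.algebraMap_bijective_of_isIntegral (k := L) (K := A)).2
    ⟨φ f, Algebra.self_mem_adjoin_singleton L _⟩
  have hc' : MvPolynomial.C c = φ f := congrArg Subtype.val hc
  refine ⟨f.coeff 0, ?_⟩
  have hfC : f = MvPolynomial.C (f.coeff 0) := by
    refine MvPolynomial.ext _ _ fun m => ?_
    by_cases hm : 0 = m
    · subst hm; simp
    · rw [MvPolynomial.coeff_C, if_neg hm]
      apply (algebraMap k L).injective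
      rw [map_zero]
      have : MvPolynomial.coeff m (φ f) = 0 := by rw [← hc', MvPolynomial.coeff_C, if_neg hm]
      rw [show φ f = MvPolynomial.map (algebraMap k L) f from rfl, MvPolynomial.coeff_map] at this
      exact this
  rw [← hf, hfC, IsScalarTower.algebraMap_apply k (MvPolynomial ι k) K]
  simp [MvPolynomial.algebraMap_eq]

theorem geometricallyConnected (hind : AlgebraicIndependent k x)
    (hgen : IntermediateField.adjoin k (Set.range x) = ⊤) :
    GeometricallyConnected (Spec.map (CommRingCat.ofHom (algebraMap k K))) := by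
  refine ⟨fun L _ y Z fst snd hZ => ?_⟩
  obtain ⟨φ, rfl⟩ := Spec.map_surjective y
  letI : Algebra k L := φ.hom.toAlgebra
  haveI hirr : IrreducibleSpace (PrimeSpectrum (L ⊗[k] K)) :=
    Groth.Agent.S2150.result.2 (fun α hα => mem_range_of_isIntegral hind hgen hα.isIntegral) L
  have hpb : IsPullback
      (Spec.map (CommRingCat.ofHom (Algebra.TensorProduct.includeRight : K →ₐ[k] L ⊗[k] K).toRingHom))
      (Spec.map (CommRingCat.ofHom (Algebra.TensorProduct.includeLeftRingHom : L →+* L ⊗[k] K)))
      (Spec.map (CommRingCat.ofHom (algebraMap k K))) (Spec.map (CommRingCat.ofHom (algebraMap k L))) :=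
    (isPullback_SpecMap_of_isPushout _ _ _ _ (CommRingCat.isPushout_tensorProduct k L K)).flip
  let e : Spec (CommRingCat.of (L ⊗[k] K)) ≅ Z := hpb.isoPullback ≪≫ hZ.isoPullback.symm
  haveI : IrreducibleSpace ↥(Spec (CommRingCat.of (L ⊗[k] K))) := hirr
  exact Function.Surjective.connectedSpace e.hom.homeomorph.surjective e.hom.continuous

/-- A finitely generated algebra mapping to a purely transcendental extension has a point in a
separable closure compatible with the structure map. -/
theorem exists_hom_sepClosure {R A : Type u} [CommRing R] [CommRing A] [Algebra R A]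
    [Algebra.FiniteType R A] [Algebra R k] [Algebra R K] [IsScalarTower R k K] (ψ : A →ₐ[R] K)
    (hind : AlgebraicIndependent k x) (hgen : IntermediateField.adjoin k (Set.range x) = ⊤) :
    ∃ χ : A →ₐ[R] SeparableClosure k, ∀ a, ψ a = 0 → χ a = 0 := by
  classical
  obtain ⟨s, hs⟩ := (Algebra.FiniteType.out : (⊤ : Subalgebra R A).FG)
  choose F G hG hFG using fun a : A => exists_aeval_div_ne_zero hind hgen (ψ a)
  let Ω := SeparableClosure k
  haveI : Infinite Ω := by
    rcases finite_or_infinite Ω with h | h
    · haveI := IsSepClosed.isAlgClosed_of_perfectField Ω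
      infer_instance
    · exact h
  let H : MvPolynomial ι k := ∏ a ∈ s, G a
  have hH : H ≠ 0 := Finset.prod_ne_zero_iff.2 fun a _ => hG a
  obtain ⟨v, hv⟩ : ∃ v : ι → Ω, MvPolynomial.aeval v H ≠ 0 := by
    by_contra hc
    push Not at hc
    apply hH
    apply MvPolynomial.map_injective (algebraMap k Ω) (algebraMap k Ω).injective
    rw [map_zero]
    refine MvPolynomial.funext fun v => ?_
    rw [map_zero, MvPolynomial.eval_map]
    exact hc v
  let m : Ideal (MvPolynomial ι k) := RingHom.ker (MvPolynomial.aeval v : MvPolynomial ι k →ₐ[k] Ω)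
  haveI : m.IsPrime := RingHom.ker_isPrime _
  let j : Localization.AtPrime m →ₐ[k] K :=
    IsLocalization.liftAlgHom (M := m.primeCompl) (f := (MvPolynomial.aeval x : MvPolynomial ι k →ₐ[k] K))
      fun y => isUnit_iff_ne_zero.2 fun h0 => y.2 (by
        rw [hind.eq_zero_of_aeval_eq_zero _ h0]; exact m.zero_mem)
  let ev : Localization.AtPrime m →ₐ[k] Ω :=
    IsLocalization.liftAlgHom (M := m.primeCompl) (f := (MvPolynomial.aeval v : MvPolynomial ι k →ₐ[k] Ω))
      fun y => isUnit_iff_ne_zero.2 fun h0 => y.2 h0
  have hj : Function.Injective j := by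
    intro a b hab
    rw [← sub_eq_zero] at hab ⊢
    rw [← map_sub] at hab
    obtain ⟨⟨z, w⟩, hz⟩ := IsLocalization.surj m.primeCompl (a - b)
    have h1 : MvPolynomial.aeval x z = 0 := by
      have := congrArg j hz
      rw [map_mul, hab, zero_mul] at this
      simpa [j] using this.symm
    rw [hind.eq_zero_of_aeval_eq_zero z h1, map_zero] at hz
    exact (IsLocalization.map_units (Localization.AtPrime m) w).mul_left_eq_zero.1 hz
  have hmem : ∀ a, ψ a ∈ j.range.restrictScalars R := by
    intro a
    have ha : a ∈ Algebra.adjoin R (s : Set A) := by rw [hs]; trivial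
    refine (Algebra.adjoin_le (S := (j.range.restrictScalars R).comap ψ) ?_) ha
    intro b hb
    have hGm : G b ∈ m.primeCompl := fun h0 =>
      hv (by rw [map_prod]; exact Finset.prod_eq_zero hb h0)
    refine ⟨IsLocalization.mk' _ (F b) ⟨G b, hGm⟩, ?_⟩
    have h2 := congrArg j (IsLocalization.mk'_spec (Localization.AtPrime m) (F b) ⟨G b, hGm⟩)
    rw [map_mul] at h2
    have h3 : MvPolynomial.aeval x (G b) ≠ 0 := fun h0 => hG b (hind.eq_zero_of_aeval_eq_zero _ h0)
    refine mul_right_cancel₀ h3 ?_
    refine Eq.trans ?_ (hFG b).symm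
    simpa [j] using h2
  let e : Localization.AtPrime m ≃ₐ[k] j.range := AlgEquiv.ofInjective j hj
  let ψ' : A →+* j.range := ψ.toRingHom.codRestrict j.range hmem
  refine ⟨{ (ev.toRingHom.comp (e.symm.toRingEquiv.toRingHom.comp ψ')) with
    commutes' := fun r => ?_ }, fun a ha => ?_⟩
  · have h1 : ψ' (algebraMap R A r) = algebraMap k j.range (algebraMap R k r) := by
      apply Subtype.ext
      show ψ (algebraMap R A r) = algebraMap k K (algebraMap R k r)
      rw [ψ.commutes, ← IsScalarTower.algebraMap_apply]
    show ev (e.symm (ψ' (algebraMap R A r))) = _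
    rw [h1, AlgEquiv.commutes, AlgHom.commutes, ← IsScalarTower.algebraMap_apply]
  · have h1 : ψ' a = 0 := Subtype.ext ha
    show ev (e.symm (ψ' a)) = 0
    rw [h1, map_zero, map_zero]

end Fields

section Bridge

variable {R A : Type u} [CommRing R] [CommRing A] [Algebra R A]

/-- Residue field maps of `Spec A ⟶ Spec R` are the maps of ideal residue fields. -/
theorem residueFieldMap_eq (x : PrimeSpectrum A) (p : Ideal R) [p.IsPrime] (h : p = x.asIdeal.under R) :
    (Scheme.Spec.residueFieldIso (CommRingCat.of R) ((Spec.map (CommRingCat.ofHom (algebraMap R A))) x)).inv ≫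
        (Spec.map (CommRingCat.ofHom (algebraMap R A))).residueFieldMap x =
      CommRingCat.ofHom (Ideal.ResidueField.mapₐ _ x.asIdeal (Algebra.ofId R A) rfl).toRingHom ≫
        (Scheme.Spec.residueFieldIso (CommRingCat.of A) x).inv := by
  subst h
  let f := Spec.map (CommRingCat.ofHom (algebraMap R A))
  haveI : IsPreimmersion (Spec.map (CommRingCat.ofHom (algebraMap R (f x).asIdeal.ResidueField))) :=
    Groth.Agent.H56.EtaleNbhd.isPreimmersion_residueField (CommRingCat.of R) (f x).asIdeal
  apply Spec.map_injective
  rw [← cancel_mono (Spec.map (CommRingCat.ofHom (algebraMap R (f x).asIdeal.ResidueField)))]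
  simp only [Spec.map_comp, Category.assoc]
  rw [Scheme.Spec.map_residueFieldIso_inv_eq_fromSpecResidueField,
    f.SpecMap_residueFieldMap_fromSpecResidueField, ← Scheme.Spec.map_residueFieldIso_inv_eq_fromSpecResidueField,
    Category.assoc]
  refine Eq.trans ?_ (congrArg (fun t => t ≫ Spec.map (CommRingCat.ofHom (algebraMap R (f x).asIdeal.ResidueField))) (Spec.map_comp _ _).symm)
  refine Eq.trans ?_ (Category.assoc _ _ _).symm
  refine congrArg (fun t => Spec.map (Scheme.Spec.residueFieldIso (CommRingCat.of A) x).inv ≫ t) ?_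
  refine (Spec.map_comp _ _).symm.trans (Eq.trans ?_ (Spec.map_comp _ _))
  congr 1
  ext r
  exact ((Ideal.ResidueField.mapₐ _ x.asIdeal (Algebra.ofId R A) rfl).commutes r).symm

/-- Geometric connectedness and a separable specialization, for a point with purely transcendental
residue field extension. -/
theorem gc_and_separable [Algebra.FiniteType R A] (p : Ideal R) [p.IsPrime] (x : PrimeSpectrum A)
    [x.asIdeal.LiesOver p] {ι : Type u} (t : ι → x.asIdeal.ResidueField)
    (halg : letI := (Ideal.ResidueField.mapₐ p x.asIdeal (Algebra.ofId R A) (x.asIdeal.over_def p)).toRingHom.toAlgebra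
      AlgebraicIndependent p.ResidueField t ∧ IntermediateField.adjoin p.ResidueField (Set.range t) = ⊤) :
    GeometricallyConnected (Spec.map ((Spec.map (CommRingCat.ofHom (algebraMap R A))).residueFieldMap x)) ∧
    ∃ c : ↑(Spec (CommRingCat.of A)), (x : ↑(Spec (CommRingCat.of A))) ⤳ c ∧
      (Spec.map (CommRingCat.ofHom (algebraMap R A))) c = (Spec.map (CommRingCat.ofHom (algebraMap R A))) x ∧
      @Algebra.IsSeparable ((Spec (CommRingCat.of R)).residueField ((Spec.map (CommRingCat.ofHom (algebraMap R A))) c))
        ((Spec (CommRingCat.of A)).residueField c) _ _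
        ((Spec.map (CommRingCat.ofHom (algebraMap R A))).residueFieldMap c).hom.toAlgebra := by
  obtain rfl : p = x.asIdeal.under R := x.asIdeal.over_def p
  let f := Spec.map (CommRingCat.ofHom (algebraMap R A))
  letI := (Ideal.ResidueField.mapₐ (x.asIdeal.under R) x.asIdeal (Algebra.ofId R A) (x.asIdeal.over_def _)).toRingHom.toAlgebra
  obtain ⟨hind, hgen⟩ := halg
  refine ⟨?_, ?_⟩
  · have h0 : GeometricallyConnected (Spec.map
        (CommRingCat.ofHom (algebraMap (x.asIdeal.under R).ResidueField x.asIdeal.ResidueField))) :=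
      geometricallyConnected hind hgen
    have h2 := residueFieldMap_eq x (x.asIdeal.under R) rfl
    rw [Iso.inv_comp_eq] at h2
    rw [h2]
    exact (Spec.map_comp _ _).symm ▸ (MorphismProperty.cancel_right_of_respectsIso @GeometricallyConnected _
      (Spec.map (Scheme.Spec.residueFieldIso (CommRingCat.of R) (f x)).hom)).2
      ((Spec.map_comp _ _).symm ▸ (MorphismProperty.cancel_left_of_respectsIso @GeometricallyConnected
      (Spec.map (Scheme.Spec.residueFieldIso (CommRingCat.of A) x).inv) _).2 h0)
  · haveI : IsScalarTower R (x.asIdeal.under R).ResidueField x.asIdeal.ResidueField :=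
      IsScalarTower.of_algebraMap_eq' (Ideal.ResidueField.mapₐ (x.asIdeal.under R) x.asIdeal
        (Algebra.ofId R A) (x.asIdeal.over_def _)).comp_algebraMap.symm
    obtain ⟨χ, hχ⟩ := exists_hom_sepClosure (IsScalarTower.toAlgHom R A x.asIdeal.ResidueField) hind hgen
    let c : PrimeSpectrum A := ⟨RingHom.ker χ.toRingHom, RingHom.ker_isPrime _⟩
    have hxc : x.asIdeal ≤ c.asIdeal := fun a ha =>
      hχ a (Ideal.algebraMap_residueField_eq_zero.2 ha)
    have hcp : c.asIdeal.under R = x.asIdeal.under R := by
      ext r
      show χ (algebraMap R A r) = 0 ↔ _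
      rw [χ.commutes, IsScalarTower.algebraMap_apply R (x.asIdeal.under R).ResidueField,
        map_eq_zero_iff _ (algebraMap (x.asIdeal.under R).ResidueField _).injective,
        Ideal.algebraMap_residueField_eq_zero]
    haveI : c.asIdeal.IsPrime := c.isPrime
    haveI : c.asIdeal.LiesOver (x.asIdeal.under R) := ⟨hcp.symm⟩
    refine ⟨c, (PrimeSpectrum.le_iff_specializes x c).1 hxc, PrimeSpectrum.ext hcp, ?_⟩
    have key : ∀ (P : Ideal R) [P.IsPrime] [c.asIdeal.LiesOver P] (Ω : Type u) [Field Ω] [Algebra P.ResidueField Ω]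
        [Algebra R Ω] [IsScalarTower R P.ResidueField Ω] [Algebra.IsSeparable P.ResidueField Ω]
        (χ : A →ₐ[R] Ω), c.asIdeal = RingHom.ker χ.toRingHom →
        @Algebra.IsSeparable ((Spec (CommRingCat.of R)).residueField (f c))
          ((Spec (CommRingCat.of A)).residueField c) _ _ (f.residueFieldMap c).hom.toAlgebra := by
      intro P _ _ Ω _ _ _ _ _ χ hker
      obtain rfl : P = c.asIdeal.under R := c.asIdeal.over_def P
      letI := (Ideal.ResidueField.mapₐ (c.asIdeal.under R) c.asIdeal (Algebra.ofId R A) (c.asIdeal.over_def _)).toRingHom.toAlgebra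
      let θ : c.asIdeal.ResidueField →+* Ω :=
        Ideal.ResidueField.lift c.asIdeal χ.toRingHom hker.le (fun s hs => isUnit_iff_ne_zero.2 fun h0 =>
          hs (hker.symm ▸ h0))
      let θ' : c.asIdeal.ResidueField →ₐ[(c.asIdeal.under R).ResidueField] Ω :=
        { θ with
          commutes' := fun a => by
            refine congrFun (congrArg DFunLike.coe (?_ : θ.comp (algebraMap (c.asIdeal.under R).ResidueField
              c.asIdeal.ResidueField) = algebraMap (c.asIdeal.under R).ResidueField Ω)) a
            apply Ideal.ResidueField.ringHom_ext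
            ext r
            simp only [RingHom.comp_apply, RingHom.algebraMap_toAlgebra]
            show θ (Ideal.ResidueField.mapₐ (c.asIdeal.under R) c.asIdeal (Algebra.ofId R A)
              (c.asIdeal.over_def _) (algebraMap R _ r)) = _
            rw [AlgHom.commutes, IsScalarTower.algebraMap_apply R A c.asIdeal.ResidueField]
            show θ (algebraMap A _ (algebraMap R A r)) = _
            rw [Ideal.ResidueField.lift_algebraMap, AlgHom.toRingHom_eq_coe, RingHom.coe_coe, χ.commutes]
            exact IsScalarTower.algebraMap_apply R (c.asIdeal.under R).ResidueField Ω r }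
      haveI : Algebra.IsSeparable (c.asIdeal.under R).ResidueField c.asIdeal.ResidueField :=
        Algebra.IsSeparable.of_algHom _ _ θ'
      letI := (f.residueFieldMap c).hom.toAlgebra
      refine Algebra.IsSeparable.of_equiv_equiv (A₁ := (c.asIdeal.under R).ResidueField) (B₁ := c.asIdeal.ResidueField)
        (Scheme.Spec.residueFieldIso (CommRingCat.of R) (f c)).symm.commRingCatIsoToRingEquiv
        (Scheme.Spec.residueFieldIso (CommRingCat.of A) c).symm.commRingCatIsoToRingEquiv ?_
      exact congrArg CommRingCat.Hom.hom (residueFieldMap_eq c (c.asIdeal.under R) rfl)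
    exact key (x.asIdeal.under R) _ χ rfl

end Bridge

end Groth.Agent.Lib.RG.PureTrans
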