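import Groth.Agent.Lib.RG.FibrePoint
import Groth.Agent.Lib.RG.DevTools
import Groth.Agent.Lib.TopDim.Basic
import Groth.Agent.Lib.FibreDim.Basic
import Mathlib.RingTheory.KrullDimension.NonZeroDivisors

/-!
# The dimension bookkeeping of the induction
-/

set_option autoImplicit false
set_option linter.style.haveILetI false

universe u

open scoped TensorProduct

attribute [local instance] Algebra.TensorProduct.rightAlgebra

namespace Groth.Agent.Lib.RG.Below

open FibrePoint DevTools

variable {R S : Type u} [CommRing R] [CommRing S] [Algebra R S]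
  {N : Type u} [AddCommGroup N] [Module S N] [Module R N] [IsScalarTower R S N]

/-- The fibre support has local dimension less than `n` at the prime. -/
def DimLT (p : Ideal R) [p.IsPrime] (q : Ideal S) (N : Type u) [AddCommGroup N] [Module S N] [Module R N]
    [IsScalarTower R S N] (n : ℕ) : Prop :=
  ∀ (x : PrimeSpectrum (p.Fiber S)), x.asIdeal = _root_.FlatCA.fiberIdeal p q →
    ∀ hx : x ∈ Module.support (p.Fiber S) (_root_.FlatCA.fiberMod p S N),
      FlatMor.localDim (Module.support (p.Fiber S) (_root_.FlatCA.fiberMod p S N)) ⟨x, hx⟩ < (n : WithBot ℕ∞)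

variable {p : Ideal R} [p.IsPrime] {q : Ideal S}

theorem DimLT.mono {m n : ℕ} (h : DimLT p q N m) (hmn : m ≤ n) : DimLT p q N n :=
  fun x hx hxs => (h x hx hxs).trans_le (by exact_mod_cast hmn)

theorem DimLT.of_le [q.IsPrime] [q.LiesOver p] {q₀ : Ideal S} [q₀.IsPrime] [q₀.LiesOver p] {n : ℕ}
    (h : DimLT p q N n) (hle : q₀ ≤ q) : DimLT p q₀ N n := by
  intro x hx hxs
  haveI := (FlatCA.WeakAss.fiberIdeal_prime p q).1
  let x' : PrimeSpectrum (p.Fiber S) := ⟨_root_.FlatCA.fiberIdeal p q, inferInstance⟩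
  have hxx' : x ≤ x' := hx.le.trans (Ideal.map_mono hle)
  have hx's : x' ∈ Module.support (p.Fiber S) (_root_.FlatCA.fiberMod p S N) := Module.mem_support_mono hxx' hxs
  refine lt_of_le_of_lt (FibreDim.Basic.localDim_mono (z := (⟨x, hxs⟩ : Module.support (p.Fiber S) _))
    (a := ⟨x', hx's⟩) ?_) (h x' rfl hx's)
  exact (subtype_specializes_iff _ _).2 ((PrimeSpectrum.le_iff_specializes x x').1 hxx')

/-- Outside the support of the fibre the fibre module vanishes at the prime. -/
theorem zeroAt_of_notMem [q.IsPrime] [q.LiesOver p] (x : PrimeSpectrum (p.Fiber S))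
    (hx : x.asIdeal = _root_.FlatCA.fiberIdeal p q)
    (hxs : x ∉ Module.support (p.Fiber S) (_root_.FlatCA.fiberMod p S N)) : ZeroAt p q N := by
  intro z
  let e := FlatCA.FiberMod.fiberModEquiv p S N
  rw [Module.notMem_support_iff'] at hxs
  obtain ⟨c, hc, hcz⟩ := hxs (e.symm z)
  obtain ⟨s, hs, b, hb⟩ := FlatCA.WeakAss.exists_smul_eq_incl p c
  refine ⟨b, fun hbq => hc ?_, ?_⟩
  · refine (Ideal.unit_mul_mem_iff_mem _ (FlatCA.WeakAss.isUnit_algebraMap_fiber p hs)).1 ?_
    rw [hb, hx]
    exact Ideal.mem_map_of_mem _ hbq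
  · apply e.symm.injective
    rw [map_smul, map_zero, ← FlatCA.Impurity.incl_smul, ← hb, mul_smul, hcz, smul_zero]

theorem zeroAt_of_dimLT_zero [q.IsPrime] [q.LiesOver p] (h : DimLT p q N 0) : ZeroAt p q N := by
  haveI := (FlatCA.WeakAss.fiberIdeal_prime p q).1
  refine zeroAt_of_notMem ⟨_root_.FlatCA.fiberIdeal p q, inferInstance⟩ rfl fun hxs => ?_
  exact absurd (h _ rfl hxs) (not_lt.2 (by exact_mod_cast TopDim.Basic.localDim_nonneg _))

/-- The alternative used in the induction step. -/
theorem zeroAt_or_exists_dim [q.IsPrime] [q.LiesOver p] {n : ℕ} (h : DimLT p q N (n + 1)) :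
    ZeroAt p q N ∨ ∃ (x : PrimeSpectrum (p.Fiber S)) (hx : x ∈ Module.support (p.Fiber S)
      (_root_.FlatCA.fiberMod p S N)) (m : ℕ), x.asIdeal = _root_.FlatCA.fiberIdeal p q ∧ m ≤ n ∧
        FlatMor.localDim (Module.support (p.Fiber S) (_root_.FlatCA.fiberMod p S N)) ⟨x, hx⟩ = m := by
  haveI := (FlatCA.WeakAss.fiberIdeal_prime p q).1
  let x : PrimeSpectrum (p.Fiber S) := ⟨_root_.FlatCA.fiberIdeal p q, inferInstance⟩
  by_cases hxs : x ∈ Module.support (p.Fiber S) (_root_.FlatCA.fiberMod p S N)
  · refine Or.inr ?_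
    have h1 := h x rfl hxs
    have h0 := TopDim.Basic.localDim_nonneg (⟨x, hxs⟩ : Module.support (p.Fiber S) (_root_.FlatCA.fiberMod p S N))
    revert h1 h0
    generalize hd : FlatMor.localDim (Module.support (p.Fiber S) (_root_.FlatCA.fiberMod p S N)) ⟨x, hxs⟩ = d
    intro h1 h0
    induction d with
    | bot => exact absurd h0 (by simp)
    | coe d =>
      induction d with
      | top => exact absurd h1 (by simp)
      | coe m => exact ⟨x, hxs, m, rfl, by
          have h1' : (m : ℕ∞) < ((n + 1 : ℕ) : ℕ∞) := WithBot.coe_lt_coe.1 h1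
          have h2' : m < n + 1 := Nat.cast_lt.1 h1'
          omega, hd⟩
  · exact Or.inl (zeroAt_of_notMem x rfl hxs)

/-- A module killed by an element nonzero in an integral fibre has small fibre dimension. -/
theorem dimLT_of_killed [IsDomain (p.Fiber S)] {m : ℕ} (hdim : ringKrullDim (p.Fiber S) ≤ m)
    (d : S) (hd : FlatCA.Impurity.incl p d ≠ 0) (hkill : ∀ n : N, d • n = 0) : DimLT p q N m := by
  intro x _ hxs
  refine lt_of_le_of_lt (FibreDim.Basic.localDim_le_topologicalKrullDim _) ?_
  let I : Ideal (p.Fiber S) := Ideal.span {FlatCA.Impurity.incl p d}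
  have hI : Module.support (p.Fiber S) (_root_.FlatCA.fiberMod p S N) ⊆ PrimeSpectrum.zeroLocus (I : Set (p.Fiber S)) := by
    intro P hP
    rw [PrimeSpectrum.zeroLocus_span, PrimeSpectrum.mem_zeroLocus, Set.singleton_subset_iff]
    by_contra hn
    refine absurd hP (Module.notMem_support_iff'.2 fun w => ⟨FlatCA.Impurity.incl p d, hn, ?_⟩)
    rw [FlatCA.Impurity.incl_smul]
    apply (FlatCA.FiberMod.fiberModEquiv p S N).injective
    rw [map_smul, map_zero]
    generalize (FlatCA.FiberMod.fiberModEquiv p S N) w = ζ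
    induction ζ with
    | zero => simp
    | add a b ha hb => rw [smul_add, ha, hb, add_zero]
    | tmul a b => rw [TensorProduct.smul_tmul', hkill, TensorProduct.zero_tmul]
  have h1 : ringKrullDim (p.Fiber S ⧸ I) + 1 ≤ m :=
    (ringKrullDim_quotient_succ_le_of_nonZeroDivisor (mem_nonZeroDivisors_of_ne_zero hd)).trans hdim
  have h2 : topologicalKrullDim (Module.support (p.Fiber S) (_root_.FlatCA.fiberMod p S N)) ≤
      ringKrullDim (p.Fiber S ⧸ I) := by
    have hf := PrimeSpectrum.isClosedEmbedding_comap_of_surjective (p.Fiber S ⧸ I)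
      (algebraMap (p.Fiber S) (p.Fiber S ⧸ I)) Ideal.Quotient.mk_surjective
    have hr : Set.range (PrimeSpectrum.comap (algebraMap (p.Fiber S) (p.Fiber S ⧸ I))) =
        PrimeSpectrum.zeroLocus (I : Set (p.Fiber S)) := by
      rw [Ideal.Quotient.algebraMap_eq, range_comap_of_surjective _ _ Ideal.Quotient.mk_surjective,
        Ideal.mk_ker]
    rw [← PrimeSpectrum.topologicalKrullDim_eq_ringKrullDim]
    refine ((Topology.IsEmbedding.inclusion hI).isInducing.topologicalKrullDim_le).trans (le_of_eq ?_)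
    exact (IsHomeomorph.topologicalKrullDim_eq _
      (hf.isEmbedding.toHomeomorph.trans (Homeomorph.setCongr hr)).isHomeomorph).symm
  refine lt_of_le_of_lt h2 ?_
  generalize ringKrullDim (p.Fiber S ⧸ I) = k at h1
  induction k with
  | bot => exact WithBot.bot_lt_coe _
  | coe k =>
    have h1' : k + 1 ≤ (m : ℕ∞) := WithBot.coe_le_coe.1 h1
    induction k with
    | top => simp at h1'
    | coe k =>
      have : k + 1 ≤ m := by exact_mod_cast h1'
      exact_mod_cast (show k < m by omega)

/-- A module with fibre module zero at the prime is flat there. -/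
theorem flat_of_zeroAt [q.IsPrime] [q.LiesOver p] [Algebra.FiniteType R S] [Module.Finite S N]
    (h : ZeroAt p q N) : Module.Flat R (LocalizedModule q.primeCompl N) := by
  refine (H19.FlatLocus.flat_iff_killed q.primeCompl (LocalizedModule.mkLinearMap q.primeCompl N)).2
    fun J ξ h0 => ?_
  clear h0
  induction ξ with
  | zero => exact ⟨1, q.primeCompl.one_mem, smul_zero _⟩
  | tmul a b =>
    obtain ⟨w, hw, hwa⟩ := eq_zero_of_zeroAt h a
    exact ⟨w, hw, by rw [TensorProduct.smul_tmul', hwa, TensorProduct.zero_tmul]⟩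
  | add a b ha hb =>
    obtain ⟨wa, hwa, ha'⟩ := ha
    obtain ⟨wb, hwb, hb'⟩ := hb
    exact ⟨wa * wb, q.primeCompl.mul_mem hwa hwb, by
      rw [smul_add, mul_smul, mul_smul wa wb b, hb', smul_zero, add_zero, smul_comm, ha', smul_zero]⟩

/-- A module with fibre module zero at the prime is finitely presented there. -/
theorem fpAt_of_zeroAt [q.IsPrime] [q.LiesOver p] [Algebra.FiniteType R S] [Module.Finite S N]
    (h : ZeroAt p q N) : FPAt q N := by
  classical
  intro k π _
  choose w hw hwπ using fun i : Fin k => eq_zero_of_zeroAt h (π (Pi.single i 1))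
  refine ⟨Finset.univ.image fun i => w i • Pi.single i (1 : S), fun t ht => ?_, fun x _ => ?_⟩
  · obtain ⟨i, -, rfl⟩ := Finset.mem_image.1 ht
    rw [map_smul, hwπ]
  · refine ⟨∏ i, w i, fun hp => ?_, ?_⟩
    · obtain ⟨i, -, hi⟩ := (Ideal.IsPrime.prod_mem_iff (p := q)).1 hp
      exact hw i hi
    · rw [← Finset.univ_sum_single x, Finset.smul_sum]
      refine Submodule.sum_mem _ fun i _ => ?_
      rw [← Finset.prod_erase_mul _ _ (Finset.mem_univ i), mul_smul,
        show Pi.single i (x i) = x i • Pi.single (M := fun _ : Fin k => S) i (1 : S) from by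
          rw [← Pi.single_smul, smul_eq_mul, mul_one], smul_comm (w i) (x i)]
      exact Submodule.smul_mem _ _ (Submodule.smul_mem _ _ (Submodule.subset_span
        (Finset.mem_coe.2 (Finset.mem_image_of_mem _ (Finset.mem_univ i)))))

end Groth.Agent.Lib.RG.Below
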