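import Groth.Agent.Lib.RG.DimRank
import Groth.Agent.H25.FittingFlatten

/-!
# Freeness near fibres after blowing up a content of a Fitting ideal
-/

set_option autoImplicit false
set_option linter.style.haveILetI false

universe u

open scoped TensorProduct

namespace Groth.Agent.Lib.RG.BlowFree

open H25.Fitting Engine

theorem gid_model {R S A S' : Type u} [CommRing R] [CommRing S] [CommRing A] [CommRing S'] [Algebra R S] [Algebra R A]
    [Algebra S S'] [Algebra A S'] [Algebra R S'] [IsScalarTower R S S'] [IsScalarTower R A S']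
    [h : Algebra.IsPushout R S A S'] (hS : RG57.ContentProj.GID R S) : RG57.ContentProj.GID A S' := by
  intro K _ _
  haveI := RG57.ContentProj.gid_baseChange hS A K
  haveI : Algebra.IsPushout R A S S' := h.symm
  exact (Algebra.TensorProduct.congr (AlgEquiv.refl (R := A) (A₁ := K))
    (Algebra.IsPushout.equiv R A S S')).toRingEquiv.symm.toMulEquiv.isDomain (K ⊗[A] (A ⊗[R] S))

theorem map_isPrime {A S' : Type u} [CommRing A] [CommRing S'] [Algebra A S'] [Module.Flat A S']
    (h : RG57.ContentProj.GID A S') (p : Ideal A) [p.IsPrime] :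
    (p.map (algebraMap A S')).IsPrime ∧ (p.map (algebraMap A S')).LiesOver p := by
  haveI := h p.ResidueField
  rw [GoodDev.map_eq_genPrime]
  refine ⟨RingHom.ker_isPrime _, ⟨?_⟩⟩
  ext a
  show _ ↔ Algebra.TensorProduct.includeRight (R := A) (A := p.ResidueField) (algebraMap A S' a) = 0
  rw [AlgHom.commutes, IsScalarTower.algebraMap_apply A p.ResidueField (p.ResidueField ⊗[A] S'),
    map_eq_zero_iff _ (RingHom.injective _), Ideal.algebraMap_residueField_eq_zero]

/-- A content is small inside every ideal whose extension contains the extended ideal. -/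
theorem map_content_le {R S A S' : Type u} [CommRing R] [CommRing S] [CommRing A] [CommRing S'] [Algebra R S]
    [Algebra R A] [Algebra S S'] [Algebra A S'] [Algebra R S'] [IsScalarTower R S S'] [IsScalarTower R A S']
    [h : Algebra.IsPushout R S A S'] {J : Ideal S} {K : Ideal R} (hK : DimRank.IsContent J K) (I : Ideal A)
    (hle : J.map (algebraMap S S') ≤ I.map (algebraMap A S')) : K.map (algebraMap R A) ≤ I := by
  haveI : Algebra.IsPushout R A S S' := h.symm
  rw [Ideal.map_le_iff_le_comap]
  refine hK.min _ fun ℓ x hx => ?_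
  let ℓ' : S' →ₗ[A] A := ((TensorProduct.AlgebraTensorModule.rid R A A).toLinearMap.comp (ℓ.baseChange A)).comp
    (Algebra.IsPushout.equiv R A S S').symm.toLinearMap
  have h1 : ℓ' (algebraMap S S' x) = algebraMap R A (ℓ x) := by
    have he : (Algebra.IsPushout.equiv R A S S').symm (algebraMap S S' x) = (1 : A) ⊗ₜ[R] x := by
      rw [AlgEquiv.symm_apply_eq, Algebra.IsPushout.equiv_tmul, map_one, one_mul]
    show TensorProduct.AlgebraTensorModule.rid R A A (ℓ.baseChange A
      ((Algebra.IsPushout.equiv R A S S').symm (algebraMap S S' x))) = _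
    rw [he]
    simp [Algebra.smul_def]
  show algebraMap R A (ℓ x) ∈ I
  rw [← h1]
  have hx' : algebraMap S S' x ∈ I • (⊤ : Submodule A S') := by
    rw [Ideal.smul_top_eq_map]
    exact hle (Ideal.mem_map_of_mem _ hx)
  refine Submodule.smul_induction_on (p := fun y => ℓ' y ∈ I) hx' ?_ ?_
  · intro a ha y _
    rw [map_smul]
    exact I.mul_mem_right _ ha
  · intro y z hy hz
    rw [map_add]
    exact add_mem hy hz

/-- Regular elements act regularly modulo the torsion of a principal Fitting ideal. -/
theorem mem_ker_of_smul_eq_zero {L N : Type u} [CommRing L] [AddCommGroup N] [Module L N] [Module.Finite L N] {k : ℕ}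
    {β : L} (h : Principal N k β) {b : L} (hb : b ∈ nonZeroDivisors L) (v : N) (hv : b • v = 0) :
    v ∈ LinearMap.ker (β • (LinearMap.id : N →ₗ[L] N)) := by
  haveI := h.projective_quot
  have hr : IsSMulRegular (N ⧸ LinearMap.ker (β • (LinearMap.id : N →ₗ[L] N))) b :=
    Module.Flat.isSMulRegular_of_nonZeroDivisors hb
  rw [← Submodule.Quotient.mk_eq_zero]
  exact hr ((by rw [← Submodule.Quotient.mk_smul, hv, Submodule.Quotient.mk_zero] :
    b • Submodule.Quotient.mk v = (0 : N ⧸ LinearMap.ker (β • (LinearMap.id : N →ₗ[L] N)))).trans (smul_zero _).symm)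

variable {R S : Type u} [CommRing R] [CommRing S] [Algebra R S] [Algebra.FinitePresentation R S] [Module.Flat R S]
  {M : Type u} [AddCommGroup M] [Module S M] [Module.Finite S M]

set_option maxHeartbeats 4000000 in
theorem exists_ideal (hS : RG57.ContentProj.GID R S) (f : R) (r : ℕ)
    (hfp : Module.FinitePresentation (Localization.Away (algebraMap R S f))
      (LocalizedModule (Submonoid.powers (algebraMap R S f)) M))
    (hfree : ∀ (p : Ideal R) [p.IsPrime] [(p.map (algebraMap R S)).IsPrime], f ∉ p →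
      Module.Free (Localization.AtPrime (p.map (algebraMap R S))) (LocalizedModule (p.map (algebraMap R S)).primeCompl M) ∧
      Module.rank (Localization.AtPrime (p.map (algebraMap R S))) (LocalizedModule (p.map (algebraMap R S)).primeCompl M) = r) :
    ∃ I : Ideal R, I.FG ∧ I.radical = (Ideal.span {f}).radical ∧ ∀ a ∈ I,
      ∀ (R₁ : Type u) [CommRing R₁] [Algebra R R₁] (_ : R₁ ≃ₐ[R] ↥(BlowUp.affineAlgebra R I a))
        (S' M' : Type u) [CommRing S'] [Algebra S S'] [Algebra R₁ S'] [Algebra R S']
        [IsScalarTower R S S'] [IsScalarTower R R₁ S'] [Algebra.IsPushout R S R₁ S']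
        [AddCommGroup M'] [Module S' M'] [Module S M'] [IsScalarTower S S' M']
        (φ : M →ₗ[S] M'), IsBaseChange S' φ → ∀ (p' : Ideal R₁) [p'.IsPrime],
          ∃ g : S', g ∉ p'.map (algebraMap R₁ S') ∧
            Module.Free (Localization.Away g)
              (LocalizedModule (Submonoid.powers g) (M' ⧸ FlatCA.powTorsion S' (algebraMap R S' a) M')) ∧
            Module.rank (Localization.Away g)
              (LocalizedModule (Submonoid.powers g) (M' ⧸ FlatCA.powTorsion S' (algebraMap R S' a) M')) = r := by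
  classical
  haveI : Module.Projective R S := RG57.ContentProj.projective hS
  have hgif : GIF R S := RG57.ContentProj.gif_of_gid hS
  obtain ⟨n, x, hx⟩ := Module.Finite.exists_fin (R := S) (M := M)
  let fS := algebraMap R S f
  obtain ⟨Z, hZfin, hZs, hZpow⟩ := exists_finite_rel_away (R := S) fS x hx
  let J : Ideal S := Mn Z (n - r)
  have hprime : ∀ (p : Ideal R) [p.IsPrime], (p.map (algebraMap R S)).IsPrime ∧ (p.map (algebraMap R S)).LiesOver p :=
    fun p _ => map_isPrime hS p
  have hfin : ∀ (p : Ideal R) [p.IsPrime] [(p.map (algebraMap R S)).IsPrime], f ∉ p →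
      Module.Free (Localization (p.map (algebraMap R S)).primeCompl) (LocalizedModule (p.map (algebraMap R S)).primeCompl M) ∧
      Module.finrank (Localization (p.map (algebraMap R S)).primeCompl) (LocalizedModule (p.map (algebraMap R S)).primeCompl M) = r := by
    intro p _ _ hfp'
    obtain ⟨h1, h2⟩ := hfree p hfp'
    exact ⟨h1, Module.finrank_eq_of_rank_eq h2⟩
  -- the lower minors are killed by a power of the element
  have hlow : ∀ i, i < r → ∀ d ∈ Mn Z (n - i), ∃ N : ℕ, fS ^ N * d = 0 := by
    intro i hi d hd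
    let Ad : Ideal R := LinearMap.ker (LinearMap.toSpanSingleton R S d)
    suffices f ∈ Ad.radical by
      obtain ⟨N, hN⟩ := this
      refine ⟨N, ?_⟩
      rw [← map_pow, ← Algebra.smul_def]
      exact hN
    rw [Ideal.radical_eq_sInf, Submodule.mem_sInf]
    rintro (p : Ideal R) ⟨hle, hp⟩
    by_contra hfp'
    obtain ⟨hP, hPo⟩ := hprime p
    obtain ⟨hfr, hrank⟩ := hfin p hfp'
    haveI := hfr
    obtain ⟨w, hw, hwd⟩ := exists_mul_eq_zero_of_free (M := M) (p.map (algebraMap R S)).primeCompl (k := i)
      (by rw [hrank]; exact hi) ((ideal_eq x hx i).ge (Mn_mono hZs _ hd))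
    haveI := hPo
    have hwt : (1 : p.ResidueField) ⊗ₜ[R] w ≠ 0 := fun h => hw (mem_of_tmul_eq_zero p (p.map (algebraMap R S)) h)
    obtain ⟨c, hc, hcd⟩ := ProjMod.killed_of_regular p w (fun z hz => fibre_regular hgif p hwt z hz) R
      (d ⊗ₜ[R] (1 : R)) (by rw [TensorProduct.smul_tmul', smul_eq_mul, hwd, TensorProduct.zero_tmul])
    refine hc (hle ?_)
    have h1 := congrArg (TensorProduct.rid R S) hcd
    rw [map_zero, map_smul, TensorProduct.rid_tmul, one_smul] at h1
    exact h1
  obtain ⟨K, hK⟩ := DimRank.exists_content (A := R) J (Mn_fg hZfin _)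
  have hfK : f ∈ K.radical := by
    rw [Ideal.radical_eq_sInf, Submodule.mem_sInf]
    rintro (p : Ideal R) ⟨hle, hp⟩
    by_contra hfp'
    obtain ⟨hP, hPo⟩ := hprime p
    obtain ⟨hfr, hrank⟩ := hfin p hfp'
    haveI := hfr
    haveI : Module.Finite (Localization (p.map (algebraMap R S)).primeCompl)
        (LocalizedModule (p.map (algebraMap R S)).primeCompl M) :=
      Module.Finite.of_isLocalizedModule (p.map (algebraMap R S)).primeCompl (LocalizedModule.mkLinearMap _ M)
    obtain ⟨d, hd, hdF⟩ := exists_mem_of_map_ideal_eq_top (p.map (algebraMap R S)).primeCompl _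
      ((ideal_localization (M := M) (p.map (algebraMap R S)).primeCompl r).symm.trans
        (ideal_eq_top _ (Module.finBasis _ _).span_eq hrank.le))
    obtain ⟨N, hN⟩ := exists_pow_mul_mem_Mn fS (fun v hv => hZpow v hv) ((ideal_eq x hx r).le hdF)
    have hmem : fS ^ N * d ∈ p.map (algebraMap R S) := Ideal.map_mono hle (hK.le hN)
    rcases hP.mem_or_mem hmem with h | h
    · exact hfp' (hPo.over.ge (hP.mem_of_pow_mem N h))
    · exact hd h
  refine ⟨Ideal.span {f} * K, (Submodule.fg_span_singleton f).mul hK.fg, le_antisymm ?_ ?_, ?_⟩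
  · exact Ideal.radical_mono Ideal.mul_le_left
  · rw [Ideal.radical_le_radical_iff, Ideal.span_singleton_le_iff_mem]
    obtain ⟨N, hN⟩ := hfK
    exact ⟨N + 1, by rw [pow_succ']; exact Ideal.mul_mem_mul (Ideal.mem_span_singleton_self f) hN⟩
  intro a ha R₁ _ _ e S' M' _ _ _ _ _ _ _ _ _ _ _ φ hφ p' _
  obtain ⟨j, hj, rfl⟩ := Ideal.mem_span_singleton_mul.mp ha
  set b := algebraMap R S' (f * j) with hbdef
  have hb₁ := blowUp_nzd e
  have hφj : algebraMap R R₁ f ∈ nonZeroDivisors R₁ ∧ algebraMap R R₁ j ∈ nonZeroDivisors R₁ := by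
    rw [← mul_mem_nonZeroDivisors, ← map_mul]; exact hb₁
  haveI : Module.Flat R₁ S' := by
    haveI : Algebra.IsPushout R R₁ S S' := Algebra.IsPushout.symm inferInstance
    exact Module.Flat.of_linearEquiv (Algebra.IsPushout.equiv R R₁ S S').toLinearEquiv.symm
  obtain ⟨hP', hP'o⟩ := map_isPrime (gid_model (R := R) (S := S) hS) p' (A := R₁) (S' := S')
  have hKR : K.map (algebraMap R R₁) = Ideal.span {algebraMap R R₁ j} := by
    refine le_antisymm (Ideal.map_le_iff_le_comap.mpr fun y hy => ?_)
      ((Ideal.span_singleton_le_iff_mem _).mpr (Ideal.mem_map_of_mem _ hj))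
    have h1 := blowUp_map_le e (Ideal.mem_map_of_mem (algebraMap R R₁)
      (Ideal.mul_mem_mul (Ideal.mem_span_singleton_self f) hy))
    rw [map_mul, map_mul, Ideal.mem_span_singleton] at h1
    obtain ⟨t, ht⟩ := h1
    rw [Ideal.mem_comap, Ideal.mem_span_singleton]
    exact ⟨t, (mul_cancel_left_mem_nonZeroDivisors hφj.1).mp (by rw [ht, mul_assoc])⟩
  let β := algebraMap R S' j
  have hJle : J.map (algebraMap S S') ≤ Ideal.span {β} := by
    refine (Ideal.map_mono hK.le).trans ?_
    rw [Ideal.map_map, ← IsScalarTower.algebraMap_eq, IsScalarTower.algebraMap_eq R R₁ S', ← Ideal.map_map, hKR,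
      Ideal.map_span, Set.image_singleton, ← IsScalarTower.algebraMap_apply]
  obtain ⟨y, hyJ, hyP⟩ : ∃ y : S', β * y ∈ J.map (algebraMap S S') ∧ y ∉ p'.map (algebraMap R₁ S') := by
    by_contra hne
    push Not at hne
    have hle : J.map (algebraMap S S') ≤ (Ideal.span {algebraMap R R₁ j} * p').map (algebraMap R₁ S') := by
      intro z hz
      obtain ⟨y, rfl⟩ := Ideal.mem_span_singleton.1 (hJle hz)
      rw [Ideal.map_mul, Ideal.map_span, Set.image_singleton, ← IsScalarTower.algebraMap_apply]
      exact Ideal.mul_mem_mul (Ideal.mem_span_singleton_self _) (hne y hz)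
    have h1 := map_content_le (A := R₁) hK _ hle (Ideal.mem_map_of_mem _ hj)
    obtain ⟨π, hπ, hπ1⟩ := Ideal.mem_span_singleton_mul.1 h1
    have h2 : π = 1 := (mul_cancel_left_mem_nonZeroDivisors hφj.2).mp (by rw [hπ1, mul_one])
    exact Ideal.IsPrime.ne_top inferInstance ((Ideal.eq_top_iff_one p').2 (h2 ▸ hπ))
  -- the finitely presented cover of `M`
  let N₀ := (Fin n → S) ⧸ Submodule.span S Z
  let xN : Fin n → N₀ := fun i => Submodule.Quotient.mk (Pi.single i 1)
  have hsum : ∀ v : Fin n → S, ∑ i, v i • xN i = Submodule.Quotient.mk v := by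
    intro v
    conv_rhs => rw [pi_eq_sum_univ' v]
    rw [← Submodule.mkQ_apply, map_sum]
    simp [xN]
  have hxN : Submodule.span S (Set.range xN) = ⊤ := by
    rw [eq_top_iff]
    intro z _
    obtain ⟨v, rfl⟩ := (Submodule.span S Z).mkQ_surjective z
    exact (Submodule.mem_span_range_iff_exists_fun S).mpr ⟨v, hsum v⟩
  have hrN : rel (R := S) xN = Submodule.span S Z := by
    ext v
    rw [mem_rel, hsum, Submodule.Quotient.mk_eq_zero]
  let N₁ := S' ⊗[S] N₀
  let π0 : N₀ →ₗ[S] M :=
    (Submodule.span S Z).liftQ (Fintype.linearCombination S x) (Submodule.span_le.mpr hZs)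
  have hπ0 : Function.Surjective π0 := fun z => by
    obtain ⟨v, hv⟩ := (Submodule.mem_span_range_iff_exists_fun S).mp (hx ▸ Submodule.mem_top : z ∈ _)
    exact ⟨Submodule.Quotient.mk v, hv⟩
  let q : N₁ →ₗ[S'] M' := hφ.equiv.toLinearMap.comp (π0.baseChange S')
  have hq : Function.Surjective q := hφ.equiv.surjective.comp (LinearMap.lTensor_surjective S' hπ0)
  have hex := lTensor_exact S' (LinearMap.exact_subtype_ker_map π0) hπ0
  have hb_eq : b = algebraMap S S' fS * β := by
    rw [hbdef, map_mul, ← IsScalarTower.algebraMap_apply]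
  have hkq : ∀ z, q z = 0 → ∃ N : ℕ, b ^ N • z = 0 := by
    intro z hz
    obtain ⟨s, rfl⟩ := (hex z).mp (hφ.equiv.map_eq_zero_iff.1 hz)
    clear hz
    induction s using TensorProduct.induction_on with
    | zero => exact ⟨0, by simp⟩
    | add s t hs ht =>
      obtain ⟨N, hN⟩ := hs
      obtain ⟨N', hN'⟩ := ht
      refine ⟨N + N', ?_⟩
      rw [map_add, smul_add, pow_add, mul_smul, mul_smul, hN', smul_zero, add_zero, smul_comm, hN, smul_zero]
    | tmul t v =>
      obtain ⟨w, hw⟩ := (Submodule.span S Z).mkQ_surjective v.1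
      have hw0 : w ∈ rel (R := S) x := by
        have := v.2
        rw [← hw] at this
        exact this
      obtain ⟨N, hN⟩ := hZpow w hw0
      refine ⟨N, ?_⟩
      have : fS ^ N • (v : N₀) = 0 := by
        rw [← hw, Submodule.mkQ_apply, ← Submodule.Quotient.mk_smul, Submodule.Quotient.mk_eq_zero]
        exact hN
      rw [LinearMap.lTensor_tmul, Submodule.subtype_apply, hb_eq, mul_pow, mul_comm ((algebraMap S S') fS ^ N), mul_smul,
        ← map_pow (algebraMap S S'), algebraMap_smul (A := S') (fS ^ N) (t ⊗ₜ[S] (v : N₀)), ← TensorProduct.tmul_smul, this,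
        TensorProduct.tmul_zero, smul_zero]
  -- the structure over the open set of `y`
  let W := Submonoid.powers y
  obtain ⟨c₀, hc₀, g₀, hspan₀, hind₀⟩ : ∃ c₀ : S', c₀ ∉ p'.map (algebraMap R₁ S') ∧ ∃ g₀ : Fin r → N₁,
      (∀ z : N₁, ∃ m : ℕ, (y ^ m * c₀) • (Submodule.Quotient.mk (q z) : M' ⧸ FlatCA.powTorsion S' b M') ∈
        Submodule.span S' (Set.range fun i => (Submodule.Quotient.mk (q (g₀ i)) : M' ⧸ FlatCA.powTorsion S' b M'))) ∧
      ∀ a' : Fin r → S', ∑ i, a' i • (Submodule.Quotient.mk (q (g₀ i)) : M' ⧸ FlatCA.powTorsion S' b M') = 0 →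
        ∀ i, ∃ m : ℕ, y ^ m * (c₀ * a' i) = 0 := by
    let L := Localization W
    let NL := LocalizedModule W N₁
    let l := LocalizedModule.mkLinearMap W N₁
    haveI : Module.Finite S' N₁ := inferInstance
    haveI : Module.Finite L NL := Module.Finite.of_isLocalizedModule W l
    have hFit : ∀ i, Fitt.ideal L NL i = ((Mn Z (n - i)).map (algebraMap S S')).map (algebraMap S' L) := fun i => by
      rw [ideal_localization, ideal_baseChange, ideal_eq_of_rel xN hxN Z hrN i]
    haveI : Module.Flat R₁ L := Module.Flat.trans R₁ S' L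
    have hnzd : ∀ z : R₁, z ∈ nonZeroDivisors R₁ → algebraMap S' L (algebraMap R₁ S' z) ∈ nonZeroDivisors L := by
      intro z hz
      rw [← IsScalarTower.algebraMap_apply, mem_nonZeroDivisors_iff_right]
      intro t ht
      have hreg : IsSMulRegular L z := Module.Flat.isSMulRegular_of_nonZeroDivisors hz
      exact hreg ((by rw [Algebra.smul_def, mul_comm, ht] : z • t = 0).trans (smul_zero _).symm)
    let βL := algebraMap S' L β
    have hβL : βL ∈ nonZeroDivisors L := by
      have := hnzd _ hφj.2
      rwa [← IsScalarTower.algebraMap_apply R R₁ S'] at this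
    have hbL : algebraMap S' L b ∈ nonZeroDivisors L := by
      have := hnzd _ hb₁
      rwa [← IsScalarTower.algebraMap_apply R R₁ S'] at this
    have hP : Principal NL r βL := by
      refine ⟨hβL, ?_, fun i hi => ?_⟩
      · rw [hFit]
        refine le_antisymm ((Ideal.map_mono hJle).trans ?_) ((Ideal.span_singleton_le_iff_mem _).2 ?_)
        · rw [Ideal.map_span, Set.image_singleton]
        · have h1 := Ideal.mem_map_of_mem (algebraMap S' L) hyJ
          rw [map_mul] at h1
          exact (Ideal.mul_unit_mem_iff_mem _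
            (IsLocalization.map_units L (⟨y, Submonoid.mem_powers y⟩ : W))).1 h1
      · rw [hFit, eq_bot_iff, Ideal.map_map, Ideal.map_le_iff_le_comap]
        intro d hd
        obtain ⟨N, hN⟩ := hlow i (by omega) d hd
        have h1 := congrArg ((algebraMap S' L).comp (algebraMap S S')) hN
        rw [map_mul, map_zero, map_pow] at h1
        have hbN : algebraMap S' L b ^ N * algebraMap S' L (algebraMap S S' d) = 0 := by
          rw [hb_eq, map_mul, mul_pow, mul_right_comm, ← RingHom.comp_apply (algebraMap S' L) (algebraMap S S') fS,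
            ← RingHom.comp_apply (algebraMap S' L) (algebraMap S S') d, h1, zero_mul]
        exact Ideal.mem_bot.2 ((mul_left_mem_nonZeroDivisors_eq_zero_iff (pow_mem hbL N)).mp hbN)
    have hdis : Disjoint (W : Set S') (p'.map (algebraMap R₁ S') : Set S') :=
      Set.disjoint_left.2 fun s hs hs' => by
        obtain ⟨k, rfl⟩ := hs
        exact hyP (hP'.mem_of_pow_mem k hs')
    haveI := IsLocalization.isPrime_of_isPrime_disjoint W L _ hP' hdis
    obtain ⟨c, hc, g, hg1, hg2⟩ := hP.approx ((p'.map (algebraMap R₁ S')).map (algebraMap S' L))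
    obtain ⟨⟨c₀, w⟩, hcw⟩ := IsLocalization.surj W c
    have hwu := IsLocalization.map_units L w
    choose nw hnw using fun i => IsLocalizedModule.surj W l (g i)
    refine ⟨c₀, fun h => hc ?_, fun i => (nw i).1, fun z => ?_, fun a' ha' i => ?_⟩
    · refine (Ideal.mul_unit_mem_iff_mem _ hwu).1 ?_
      rw [hcw]
      exact Ideal.mem_map_of_mem _ h
    · -- spanning
      have hTL : LinearMap.ker (βL • (LinearMap.id : NL →ₗ[L] NL)) ≤
          ((FlatCA.powTorsion S' b M').comap q).localized' L W l := by
        intro t ht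
        obtain ⟨⟨t₀, w'⟩, ht'⟩ := IsLocalizedModule.surj W l t
        have h0 : l (β • t₀) = 0 := by
          rw [map_smul, ← ht', ← algebraMap_smul L β, Submonoid.smul_def, ← algebraMap_smul L (w' : S') t, smul_smul,
            mul_comm, mul_smul, show βL • t = 0 from ht, smul_zero]
        obtain ⟨w'', hw''⟩ := (IsLocalizedModule.eq_zero_iff W l).1 h0
        refine (Submodule.mem_localized' L W l _ _).2 ⟨(w'' : S') • t₀, ?_, w'' * w', ?_⟩
        · refine ker_le_powTorsion b ?_
          change b • q ((w'' : S') • t₀) = 0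
          rw [← map_smul, hb_eq, mul_smul, smul_comm β, show (w'' : S') • β • t₀ = 0 from hw'', smul_zero, map_zero]
        · rw [IsLocalizedModule.mk'_eq_iff, map_smul, ← ht', Submonoid.smul_def, Submonoid.smul_def, Submonoid.coe_mul,
            mul_smul]
      have hspanL : Submodule.span L (Set.range g) ≤
          (Submodule.span S' (Set.range fun i => (nw i).1)).localized' L W l := by
        rw [Submodule.span_le]
        rintro _ ⟨i, rfl⟩
        exact (Submodule.mem_localized' L W l _ _).2
          ⟨(nw i).1, Submodule.subset_span ⟨i, rfl⟩, (nw i).2, IsLocalizedModule.mk'_eq_iff.2 (hnw i).symm⟩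
      have hle : Submodule.span L (Set.range g) ⊔ LinearMap.ker (βL • (LinearMap.id : NL →ₗ[L] NL)) ≤
          (Submodule.span S' (Set.range fun i => (nw i).1) ⊔ (FlatCA.powTorsion S' b M').comap q).localized' L W l := by
        refine sup_le (hspanL.trans ?_) (hTL.trans ?_)
        all_goals
          intro t ht
          obtain ⟨m, hm, s, hs⟩ := (Submodule.mem_localized' L W l _ _).1 ht
          first
          | exact (Submodule.mem_localized' L W l _ _).2 ⟨m, Submodule.mem_sup_left hm, s, hs⟩
          | exact (Submodule.mem_localized' L W l _ _).2 ⟨m, Submodule.mem_sup_right hm, s, hs⟩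
      obtain ⟨m, hm, s, hs⟩ := (Submodule.mem_localized' L W l _ _).1 (hle (hg1 (l z)))
      rw [IsLocalizedModule.mk'_eq_iff] at hs
      have h1 : l ((s : S') • c₀ • z) = l ((w : S') • m) := by
        rw [map_smul, map_smul, map_smul, hs, Submonoid.smul_def, ← algebraMap_smul L c₀ (l z), ← hcw, mul_comm, mul_smul,
          algebraMap_smul, smul_comm]
      obtain ⟨u, hu⟩ := (IsLocalizedModule.eq_iff_exists W l).1 h1
      obtain ⟨k, hk⟩ : ∃ k, y ^ k = (u : S') * s := (u * s).2
      refine ⟨k, ?_⟩
      rw [hk, ← Submodule.Quotient.mk_smul, ← map_smul, mul_smul, mul_smul,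
        show (u : S') • (s : S') • c₀ • z = (u : S') • (w : S') • m from hu, map_smul, map_smul,
        Submodule.Quotient.mk_smul, Submodule.Quotient.mk_smul]
      refine Submodule.smul_mem _ _ (Submodule.smul_mem _ _ ?_)
      obtain ⟨m₁, hm₁, m₂, hm₂, rfl⟩ := Submodule.mem_sup.1 hm
      rw [map_add, Submodule.Quotient.mk_add, (Submodule.Quotient.mk_eq_zero _).2 (show q m₂ ∈ FlatCA.powTorsion S' b M' from hm₂), add_zero]
      have h2 := Submodule.mem_map_of_mem (f := (FlatCA.powTorsion S' b M').mkQ.comp q) hm₁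
      rw [Submodule.map_span, ← Set.range_comp] at h2
      exact h2
    · -- independence
      have h0 : q (∑ i, a' i • (nw i).1) ∈ FlatCA.powTorsion S' b M' := by
        rw [← Submodule.Quotient.mk_eq_zero, ← Submodule.mkQ_apply, map_sum, map_sum]
        simpa using ha'
      obtain ⟨N, hN⟩ := (Submodule.mem_iSup_of_directed _
        (Monotone.directed_le fun m m' hmm z hz => by
          rw [Submodule.mem_torsionBy_iff] at hz ⊢
          rw [← Nat.sub_add_cancel hmm, pow_add, mul_smul, hz, smul_zero])).mp h0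
      obtain ⟨N', hN'⟩ := hkq (b ^ N • ∑ i, a' i • (nw i).1) (by rw [map_smul]; exact hN)
      let v := ∑ i, (algebraMap S' L (a' i * ((nw i).2 : S'))) • g i
      have hv : (algebraMap S' L b) ^ (N' + N) • v = 0 := by
        have h1 := congrArg l hN'
        rw [← mul_smul, ← pow_add, map_zero, map_smul, map_sum] at h1
        rw [← map_pow, algebraMap_smul]
        refine Eq.trans ?_ h1
        congr 1
        refine Finset.sum_congr rfl fun i _ => ?_
        rw [algebraMap_smul, mul_smul, map_smul, ← hnw, Submonoid.smul_def]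
      have hvker := mem_ker_of_smul_eq_zero hP (pow_mem hbL (N' + N)) v hv
      have h1 := hg2 _ hvker i
      have h2 : algebraMap S' L (c₀ * (a' i * ((nw i).2 : S'))) = 0 := by
        rw [map_mul, ← hcw, mul_right_comm, h1, zero_mul]
      obtain ⟨u, hu⟩ := (IsLocalization.map_eq_zero_iff W L _).1 h2
      obtain ⟨k, hk⟩ : ∃ k, y ^ k = (u : S') * ((nw i).2 : S') := (u * (nw i).2).2
      refine ⟨k, ?_⟩
      rw [hk]
      calc _ = (u : S') * (c₀ * (a' i * ((nw i).2 : S'))) := by ring
        _ = 0 := hu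
  refine ⟨y * c₀, fun h => (hP'.mem_or_mem h).elim hyP hc₀, ?_⟩
  let gg : Fin r → M' ⧸ FlatCA.powTorsion S' b M' := fun i => Submodule.Quotient.mk (q (g₀ i))
  have hpow : ∀ m : ℕ, ∀ z : S', y ^ m * z = 0 → (y * c₀) ^ m * z = 0 := fun m z hz => by
    rw [mul_pow, mul_right_comm, hz, zero_mul]
  have hli := linearIndependent_localized (Submonoid.powers (y * c₀)) gg fun a' ha' i => by
    obtain ⟨m, hm⟩ := hind₀ a' ha' i
    refine ⟨(y * c₀) ^ (m + 1), ⟨m + 1, rfl⟩, ?_⟩
    calc (y * c₀) ^ (m + 1) * a' i = (y * c₀ ^ m) * (y ^ m * (c₀ * a' i)) := by ring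
      _ = 0 := by rw [hm, mul_zero]
  have hsp := span_localized (Submonoid.powers (y * c₀)) gg fun z => by
    obtain ⟨z, rfl⟩ := Submodule.Quotient.mk_surjective _ z
    obtain ⟨z, rfl⟩ := hq z
    obtain ⟨m, hm⟩ := hspan₀ z
    refine ⟨(y * c₀) ^ (m + 1), ⟨m + 1, rfl⟩, ?_⟩
    rw [show (y * c₀) ^ (m + 1) = (y * c₀ ^ m) * (y ^ m * c₀) by ring, mul_smul]
    exact Submodule.smul_mem _ _ hm
  haveI : Nontrivial (Localization.Away (y * c₀)) := by
    rw [nontrivial_iff]
    refine ⟨1, 0, fun h => ?_⟩
    obtain ⟨⟨_, k, rfl⟩, hk⟩ := (IsLocalization.map_eq_zero_iff (Submonoid.powers (y * c₀))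
      (Localization.Away (y * c₀)) (1 : S')).mp (by rw [map_one, h])
    rw [mul_one] at hk
    exact (hP'.mem_or_mem (hP'.mem_of_pow_mem k (by rw [show (y * c₀) ^ k = 0 from hk]; exact zero_mem _))).elim hyP hc₀
  let B := Module.Basis.mk hli hsp.ge
  refine ⟨Module.Free.of_basis B, ?_⟩
  rw [rank_eq_card_basis B, Fintype.card_fin]

end Groth.Agent.Lib.RG.BlowFree
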