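import Groth.Agent.S2100
import Groth.Agent.Lib.Dim.Integral
import Groth.Agent.Lib.Dim.Basic
import Mathlib.RingTheory.NoetherNormalization
import Mathlib.RingTheory.QuasiFinite.Basic
import Mathlib.RingTheory.ZariskisMainTheorem
import Mathlib.RingTheory.AlgebraicIndependent.TranscendenceBasis

/-!
# Relative coordinates adapted to a point of a fibre
-/

set_option autoImplicit false
set_option linter.style.haveILetI false

universe u

open scoped TensorProduct

namespace Groth.Agent.Lib.RG.Coords

section Field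

variable {k B : Type u} [Field k] [CommRing B] [Algebra k B]

/-- Noether normalisation adapted to a prime. -/
theorem exists_normalization [Algebra.FiniteType k B] (Q : Ideal B) [Q.IsPrime] (n : ℕ)
    (hn : ringKrullDim B = n) :
    ∃ (φ : MvPolynomial (Fin n) k →ₐ[k] B) (r : ℕ), φ.toRingHom.Finite ∧
      Q.comap φ = Ideal.span (Set.range fun i : {i : Fin n // r ≤ (i : ℕ)} => MvPolynomial.X (i : Fin n)) := by
  haveI : Nontrivial B := ⟨⟨0, 1, fun h => ‹Q.IsPrime›.ne_top ((Ideal.eq_top_iff_one Q).2 (h ▸ Q.zero_mem))⟩⟩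
  obtain ⟨s, g, hinj, hfin⟩ := exists_finite_inj_algHom_of_fg k B
  obtain rfl : s = n := by
    letI := g.toRingHom.toAlgebra
    haveI : Module.Finite (MvPolynomial (Fin s) k) B := hfin
    haveI : FaithfulSMul (MvPolynomial (Fin s) k) B :=
      (faithfulSMul_iff_algebraMap_injective _ _).2 hinj
    have h := Dim.Integral.ringKrullDim_eq_of_isIntegral (R := MvPolynomial (Fin s) k) (A := B)
    rw [hn, Dim.Basic.ringKrullDim_mvPolynomial (k := k) (Fin s)] at h
    simpa using h.symm
  let q0 : Ideal (MvPolynomial (Fin s) k) := Q.comap g.toRingHom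
  haveI : q0.IsPrime := Ideal.comap_isPrime _ _
  obtain ⟨φ, hφ, hq⟩ := Groth.Agent.S2100.result s (Dim.Basic.dimQ k q0) q0 (Dim.Basic.trdeg_residueField k q0)
  exact ⟨g.comp φ, _, hfin.comp hφ, hq⟩

end Field

variable {R B : Type u} [CommRing R] [CommRing B] [Algebra R B]

theorem exists_div {R : Type u} [CommRing R] (p : Ideal R) [p.IsPrime] (x : p.ResidueField) :
    ∃ y z : R, z ∉ p ∧ algebraMap R p.ResidueField y / algebraMap R p.ResidueField z = x := by
  obtain ⟨a, b, hb, h⟩ := IsFractionRing.div_surjective (R ⧸ p) x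
  obtain ⟨y, rfl⟩ := Ideal.Quotient.mk_surjective a
  obtain ⟨z, rfl⟩ := Ideal.Quotient.mk_surjective b
  exact ⟨y, z, fun hz => nonZeroDivisors.ne_zero hb (Ideal.Quotient.eq_zero_iff_mem.2 hz),
    by simpa using h⟩

section Rescale

variable {k A : Type u} [Field k] [CommRing A] [Algebra k A] {n r : ℕ}

theorem exists_rescale (φ : MvPolynomial (Fin n) k →ₐ[k] A) (hφ : φ.toRingHom.Finite) (Q : Ideal A)
    (hQ : Q.comap φ = Ideal.span (Set.range fun i : {i : Fin n // r ≤ (i : ℕ)} => MvPolynomial.X (i : Fin n)))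
    (c : Fin n → k) (hc : ∀ i, c i ≠ 0) :
    (MvPolynomial.aeval fun i => c i • φ (MvPolynomial.X i) : MvPolynomial (Fin n) k →ₐ[k] A).toRingHom.Finite ∧
    Q.comap (MvPolynomial.aeval fun i => c i • φ (MvPolynomial.X i) : MvPolynomial (Fin n) k →ₐ[k] A) =
      Ideal.span (Set.range fun i : {i : Fin n // r ≤ (i : ℕ)} => MvPolynomial.X (i : Fin n)) := by
  let σ : MvPolynomial (Fin n) k →ₐ[k] MvPolynomial (Fin n) k :=
    MvPolynomial.aeval fun i => c i • MvPolynomial.X i
  let σ' : MvPolynomial (Fin n) k →ₐ[k] MvPolynomial (Fin n) k :=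
    MvPolynomial.aeval fun i => (c i)⁻¹ • MvPolynomial.X i
  have h1 : σ.comp σ' = AlgHom.id k _ := MvPolynomial.algHom_ext fun i => by simp [σ, σ', smul_smul, hc i]
  have h2 : σ'.comp σ = AlgHom.id k _ := MvPolynomial.algHom_ext fun i => by simp [σ, σ', smul_smul, hc i]
  let e : MvPolynomial (Fin n) k ≃ₐ[k] MvPolynomial (Fin n) k := AlgEquiv.ofAlgHom σ σ' h1 h2
  have hcomp : (MvPolynomial.aeval fun i => c i • φ (MvPolynomial.X i) : MvPolynomial (Fin n) k →ₐ[k] A) =
      φ.comp σ := MvPolynomial.algHom_ext fun i => by simp [σ]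
  rw [hcomp]
  refine ⟨hφ.comp (RingHom.Finite.of_surjective _ e.surjective), ?_⟩
  show (Q.comap φ).comap σ = _
  rw [hQ]
  refine le_antisymm ?_ (Ideal.span_le.2 ?_)
  · intro f hf
    have hf' : σ' (σ f) ∈ Ideal.span (Set.range fun i : {i : Fin n // r ≤ (i : ℕ)} => MvPolynomial.X (i : Fin n)) := by
      refine (le_of_eq_of_le (Ideal.map_span σ' _) (Ideal.span_le.2 ?_)) (Ideal.mem_map_of_mem σ' (I := Ideal.span _) hf)
      rintro _ ⟨_, ⟨i, rfl⟩, rfl⟩
      rw [MvPolynomial.aeval_X]
      exact Submodule.smul_of_tower_mem _ _ (Ideal.subset_span ⟨i, rfl⟩)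
    rwa [← AlgHom.comp_apply, h2, AlgHom.id_apply] at hf'
  · rintro _ ⟨i, rfl⟩
    rw [SetLike.mem_coe, Ideal.mem_comap]
    rw [MvPolynomial.aeval_X]
    exact Submodule.smul_of_tower_mem _ _ (Ideal.subset_span ⟨i, rfl⟩)

end Rescale

/-- Coordinates on a fibre of dimension `n`: a map from affine `n`-space, quasi-finite at the given
point, such that the residue field of the image is purely transcendental. -/
theorem exists_coords [Algebra.FiniteType R B] (p : Ideal R) [p.IsPrime] (q : Ideal B) [q.IsPrime]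
    [q.LiesOver p] (n : ℕ) (hn : ringKrullDim (p.Fiber B) = n) :
    ∃ ψ : MvPolynomial (Fin n) R →ₐ[R] B,
      (letI := ψ.toRingHom.toAlgebra; Algebra.QuasiFiniteAt (MvPolynomial (Fin n) R) q) ∧
      ∃ (a : Ideal (MvPolynomial (Fin n) R)) (_ : a.IsPrime) (_ : a.LiesOver p),
        a = q.comap ψ.toRingHom ∧
        ∃ (ι : Type u) (t : ι → a.ResidueField),
          letI := (Ideal.ResidueField.mapₐ p a (Algebra.ofId R (MvPolynomial (Fin n) R)) (a.over_def p)).toRingHom.toAlgebra
          AlgebraicIndependent p.ResidueField t ∧ IntermediateField.adjoin p.ResidueField (Set.range t) = ⊤ := by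
  classical
  let κ := p.ResidueField
  let P0 := MvPolynomial (Fin n) R
  let incl : B →ₐ[R] p.Fiber B := Algebra.TensorProduct.includeRight
  let Q : Ideal (p.Fiber B) := (PrimeSpectrum.primesOverOrderIsoFiber R B p ⟨q, ‹_›, ‹_›⟩).asIdeal
  have hQ : Q.comap incl.toRingHom = q :=
    congr($((PrimeSpectrum.primesOverOrderIsoFiber R B p).symm_apply_apply ⟨q, ‹_›, ‹_›⟩).1)
  haveI : Algebra.FiniteType p.ResidueField (p.Fiber B) := inferInstance
  obtain ⟨φ, r, hφ, hφQ⟩ := exists_normalization (k := κ) (B := p.Fiber B) Q n hn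
  choose s hs b hb using fun i => Ideal.Fiber.exists_smul_eq_one_tmul p (φ (MvPolynomial.X i))
  let c : Fin n → κ := fun i => algebraMap R κ (s i)
  have hc : ∀ i, c i ≠ 0 := fun i h0 => hs i (Ideal.algebraMap_residueField_eq_zero.1 h0)
  obtain ⟨hfinc, hQc⟩ := exists_rescale φ hφ Q hφQ c hc
  let ψ : P0 →ₐ[R] B := MvPolynomial.aeval b
  let ψb : MvPolynomial (Fin n) κ →ₐ[κ] p.Fiber B := MvPolynomial.aeval fun i => incl (b i)
  have hψb : (MvPolynomial.aeval fun i => c i • φ (MvPolynomial.X i) : MvPolynomial (Fin n) κ →ₐ[κ] p.Fiber B) = ψb :=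
    MvPolynomial.algHom_ext fun i => by
      simp only [ψb, MvPolynomial.aeval_X, c, algebraMap_smul]
      exact hb i
  rw [hψb] at hfinc hQc
  have hcomm : ∀ f : P0, incl (ψ f) = ψb (MvPolynomial.map (algebraMap R κ) f) := by
    intro f
    have : incl.comp ψ = (ψb.restrictScalars R).comp (MvPolynomial.mapAlgHom (Algebra.ofId R κ)) :=
      MvPolynomial.algHom_ext fun i => by simp [ψ, ψb]
    exact congrFun (congrArg DFunLike.coe this) f
  let a : Ideal P0 := q.comap ψ.toRingHom
  haveI : a.IsPrime := Ideal.comap_isPrime _ _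
  haveI : a.LiesOver p := ⟨by
    rw [Ideal.under_def, Ideal.comap_comap]
    rw [show ψ.toRingHom.comp (algebraMap R P0) = algebraMap R B from ψ.comp_algebraMap]
    exact q.over_def p⟩
  have ha : ∀ f : P0, f ∈ a ↔ MvPolynomial.map (algebraMap R κ) f ∈
      Ideal.span (Set.range fun i : {i : Fin n // r ≤ (i : ℕ)} => (MvPolynomial.X (i : Fin n) : MvPolynomial (Fin n) κ)) := by
    intro f
    show ψ f ∈ q ↔ _
    rw [← hQc, ← hQ]
    show incl (ψ f) ∈ Q ↔ ψb _ ∈ Q
    rw [hcomm]
  refine ⟨ψ, ?_, a, inferInstance, inferInstance, rfl, ULift.{u} {i : Fin n // (i : ℕ) < r},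
    fun i => algebraMap P0 a.ResidueField (MvPolynomial.X (i.down : Fin n)), ?_⟩
  · letI := ψ.toRingHom.toAlgebra
    haveI : IsScalarTower R P0 B := IsScalarTower.of_algebraMap_eq' ψ.comp_algebraMap.symm
    haveI : Algebra.FiniteType P0 B := Algebra.FiniteType.of_restrictScalars_finiteType R P0 B
    haveI : q.LiesOver a := ⟨rfl⟩
    letI aκ : Algebra p.ResidueField a.ResidueField :=
      (Ideal.ResidueField.mapₐ p a (Algebra.ofId R P0) (a.over_def p)).toRingHom.toAlgebra
    haveI : IsScalarTower R p.ResidueField a.ResidueField :=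
      IsScalarTower.of_algebraMap_eq' (Ideal.ResidueField.mapₐ p a (Algebra.ofId R P0) (a.over_def p)).comp_algebraMap.symm
    haveI : IsScalarTower κ a.ResidueField (a.Fiber B) := inferInstance
    haveI : IsScalarTower R κ (a.Fiber B) := IsScalarTower.of_algebraMap_eq fun x => by
      rw [IsScalarTower.algebraMap_apply κ a.ResidueField (a.Fiber B),
        ← IsScalarTower.algebraMap_apply R κ a.ResidueField, ← IsScalarTower.algebraMap_apply]
    let Φ : p.Fiber B →ₐ[κ] a.Fiber B :=
      Algebra.TensorProduct.lift (Algebra.ofId κ (a.Fiber B))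
        ((Algebra.TensorProduct.includeRight : B →ₐ[P0] a.Fiber B).restrictScalars R) fun _ _ => .all _ _
    let Φ0 : MvPolynomial (Fin n) κ →ₐ[κ] a.Fiber B :=
      MvPolynomial.aeval fun i => algebraMap a.ResidueField (a.Fiber B) (algebraMap P0 a.ResidueField (MvPolynomial.X i))
    have hΦ0 : Φ.comp ψb = Φ0 := MvPolynomial.algHom_ext fun i => by
      simp only [ψb, Φ, Φ0, AlgHom.comp_apply, MvPolynomial.aeval_X, incl,
        Algebra.TensorProduct.includeRight_apply, Algebra.TensorProduct.lift_tmul, map_one, one_mul]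
      show (1 : a.ResidueField) ⊗ₜ[P0] b i = _
      rw [show b i = algebraMap P0 B (MvPolynomial.X i) from (MvPolynomial.aeval_X b i).symm]
      rw [Algebra.TensorProduct.algebraMap_apply, ← Algebra.TensorProduct.algebraMap_apply']
      exact (Algebra.TensorProduct.algebraMap_apply _).trans rfl
    have hrange : ∀ f, Φ (ψb f) ∈ Set.range (algebraMap a.ResidueField (a.Fiber B)) := by
      intro f
      rw [← AlgHom.comp_apply, hΦ0]
      refine ⟨MvPolynomial.aeval (fun i => algebraMap P0 a.ResidueField (MvPolynomial.X i)) f, ?_⟩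
      exact (MvPolynomial.aeval_algebraMap_apply _ _ _).symm
    haveI : Module.Finite a.ResidueField (a.Fiber B) := by
      letI := ψb.toRingHom.toAlgebra
      obtain ⟨T, hT⟩ := (hfinc : Module.Finite (MvPolynomial (Fin n) κ) (p.Fiber B)).fg_top
      refine ⟨⟨T.image Φ, top_le_iff.1 fun x _ => ?_⟩⟩
      have hspan : ∀ y : p.Fiber B, Φ y ∈ Submodule.span a.ResidueField ((T.image Φ : Finset (a.Fiber B)) : Set (a.Fiber B)) := by
        intro y
        have hy : y ∈ Submodule.span (MvPolynomial (Fin n) κ) (T : Set (p.Fiber B)) := by rw [hT]; trivial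
        induction hy using Submodule.span_induction with
        | mem z hz => exact Submodule.subset_span (Finset.mem_coe.2 (Finset.mem_image_of_mem _ hz))
        | zero => rw [map_zero]; exact Submodule.zero_mem _
        | add z w _ _ hz hw => rw [map_add]; exact Submodule.add_mem _ hz hw
        | smul f z _ hz =>
          rw [Algebra.smul_def, map_mul]
          obtain ⟨c', hc'⟩ := hrange f
          rw [show Φ (algebraMap (MvPolynomial (Fin n) κ) (p.Fiber B) f) = _ from hc'.symm, ← Algebra.smul_def]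
          exact Submodule.smul_mem _ _ hz
      induction x using TensorProduct.induction_on with
      | zero => exact Submodule.zero_mem _
      | tmul u v =>
        have : u ⊗ₜ[P0] v = u • Φ (incl v) := by
          simp [Φ, incl, TensorProduct.smul_tmul']
        rw [this]
        exact Submodule.smul_mem _ _ (hspan _)
      | add y z hy hz => exact Submodule.add_mem _ (hy trivial) (hz trivial)
    let Qa : Ideal (a.Fiber B) := (PrimeSpectrum.primesOverOrderIsoFiber P0 B a ⟨q, ‹_›, ‹_›⟩).asIdeal
    haveI : Algebra.QuasiFiniteAt a.ResidueField Qa := Algebra.QuasiFinite.of_isLocalization Qa.primeCompl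
    exact Algebra.QuasiFiniteAt.of_quasiFiniteAt_residueField a q Qa
      congr($((PrimeSpectrum.primesOverOrderIsoFiber P0 B a).symm_apply_apply ⟨q, ‹_›, ‹_›⟩).1)
  · letI aκ : Algebra p.ResidueField a.ResidueField :=
      (Ideal.ResidueField.mapₐ p a (Algebra.ofId R P0) (a.over_def p)).toRingHom.toAlgebra
    haveI : IsScalarTower R p.ResidueField a.ResidueField :=
      IsScalarTower.of_algebraMap_eq' (Ideal.ResidueField.mapₐ p a (Algebra.ofId R P0) (a.over_def p)).comp_algebraMap.symm
    let τ : Fin n → a.ResidueField := fun i => algebraMap P0 a.ResidueField (MvPolynomial.X i)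
    have hτ : ∀ f : P0, algebraMap P0 a.ResidueField f = MvPolynomial.aeval τ (MvPolynomial.map (algebraMap R p.ResidueField) f) := by
      intro f
      rw [MvPolynomial.aeval_map_algebraMap]
      have : IsScalarTower.toAlgHom R P0 a.ResidueField = MvPolynomial.aeval τ :=
        MvPolynomial.algHom_ext fun i => by rw [MvPolynomial.aeval_X]; rfl
      exact congrFun (congrArg DFunLike.coe this) f
    have hz : ∀ i : Fin n, r ≤ (i : ℕ) → τ i = 0 := fun i hi =>
      Ideal.algebraMap_residueField_eq_zero.2 ((ha _).2 (by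
        rw [MvPolynomial.map_X]; exact Ideal.subset_span ⟨⟨i, hi⟩, rfl⟩))
    refine ⟨?_, top_le_iff.1 fun z _ => ?_⟩
    · rw [algebraicIndependent_iff]
      intro F hF
      let j : ULift.{u} {i : Fin n // (i : ℕ) < r} → Fin n := fun i => i.down.1
      let G := MvPolynomial.rename j F
      have hG : MvPolynomial.aeval τ G = 0 := by rw [MvPolynomial.aeval_rename]; exact hF
      -- clear denominators
      obtain ⟨⟨d, hd⟩, g, hg⟩ : ∃ (d : {d : R // d ∉ p}) (g : P0),
          algebraMap R p.ResidueField d.1 • G = MvPolynomial.map (algebraMap R p.ResidueField) g := by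
        clear_value G
        clear hG
        induction G using MvPolynomial.induction_on with
        | C x =>
          obtain ⟨y, z, hz', rfl⟩ : ∃ y z : R, z ∉ p ∧ algebraMap R p.ResidueField y / algebraMap R p.ResidueField z = x :=
            exists_div p x
          refine ⟨⟨z, hz'⟩, MvPolynomial.C y, ?_⟩
          rw [MvPolynomial.map_C, MvPolynomial.smul_eq_C_mul, ← map_mul,
            mul_div_cancel₀ _ (fun h0 => hz' (Ideal.algebraMap_residueField_eq_zero.1 h0))]
        | add G₁ G₂ h1 h2 =>
          obtain ⟨⟨d1, hd1⟩, g1, e1⟩ := h1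
          obtain ⟨⟨d2, hd2⟩, g2, e2⟩ := h2
          refine ⟨⟨d1 * d2, fun h => (‹p.IsPrime›.mem_or_mem h).elim hd1 hd2⟩,
            MvPolynomial.C d2 * g1 + MvPolynomial.C d1 * g2, ?_⟩
          simp only [Algebra.smul_def, MvPolynomial.algebraMap_eq, smul_add, map_add, map_mul, MvPolynomial.map_C] at e1 e2 ⊢
          linear_combination MvPolynomial.C (algebraMap R p.ResidueField d2) * e1 +
            MvPolynomial.C (algebraMap R p.ResidueField d1) * e2
        | mul_X G₁ i h1 =>
          obtain ⟨d1, g1, e1⟩ := h1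
          exact ⟨d1, g1 * MvPolynomial.X i, by rw [map_mul, MvPolynomial.map_X, ← e1, smul_mul_assoc]⟩
      have hga : g ∈ a := by
        rw [← Ideal.algebraMap_residueField_eq_zero, hτ, ← hg, map_smul, hG, smul_zero]
      let K : MvPolynomial (Fin n) p.ResidueField →ₐ[p.ResidueField]
          MvPolynomial (ULift.{u} {i : Fin n // (i : ℕ) < r}) p.ResidueField :=
        MvPolynomial.aeval fun i => if h : (i : ℕ) < r then MvPolynomial.X ⟨⟨i, h⟩⟩ else 0
      have hK : K G = F := by
        rw [MvPolynomial.aeval_rename]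
        conv_rhs => rw [← MvPolynomial.aeval_X_left_apply F]
        congr 2
        funext i
        simp [j, i.down.2]
      have hK0 : K (algebraMap R p.ResidueField d • G) = 0 := by
        rw [hg]
        refine (Ideal.span_le (I := RingHom.ker K.toRingHom)).2 ?_ ((ha g).1 hga)
        rintro _ ⟨⟨i, hi⟩, rfl⟩
        simp [K, Nat.not_lt.2 hi]
      rw [map_smul, hK, smul_eq_zero] at hK0
      exact hK0.resolve_left fun h0 => hd (Ideal.algebraMap_residueField_eq_zero.1 h0)
    · let L := IntermediateField.adjoin p.ResidueField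
        (Set.range fun i : ULift.{u} {i : Fin n // (i : ℕ) < r} => algebraMap P0 a.ResidueField (MvPolynomial.X (i.down : Fin n)))
      have hL : ∀ f : P0, algebraMap P0 a.ResidueField f ∈ L := by
        intro f
        rw [hτ]
        induction (MvPolynomial.map (algebraMap R p.ResidueField) f) using MvPolynomial.induction_on with
        | C x => rw [MvPolynomial.aeval_C]; exact L.algebraMap_mem x
        | add f g hf hg => rw [map_add]; exact add_mem hf hg
        | mul_X f i hf =>
          rw [map_mul, MvPolynomial.aeval_X]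
          refine mul_mem hf ?_
          by_cases hi : (i : ℕ) < r
          · exact IntermediateField.subset_adjoin _ _ ⟨⟨⟨i, hi⟩⟩, rfl⟩
          · rw [hz i (Nat.not_lt.1 hi)]; exact zero_mem _
      obtain ⟨x, y, -, rfl⟩ := exists_div a z
      exact div_mem (hL x) (hL y)

end Groth.Agent.Lib.RG.Coords
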