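import Groth.Agent.Lib.RG.StepLemmas
import Groth.Agent.Lib.RG.Fibres
import Groth.Agent.Lib.RG57.ContentProj
import Groth.Agent.Lib.RG57.DevissageProj
import Groth.Agent.Lib.Pure.Decomp

/-!
# Complete dévissages over a local base: freeness and finite presentation
-/

set_option autoImplicit false
set_option linter.style.haveILetI false

universe u

open scoped TensorProduct

namespace Groth.Agent.Lib.RG.DevChain

open Engine StepModel RG57.DevissageProj IsLocalRing

/-- Flatness at a prime of an algebra follows from flatness at its trace. -/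
theorem flatAt_of_comap {R B A M : Type u} [CommRing R] [CommRing B] [CommRing A] [Algebra R B] [Algebra R A]
    [Algebra B A] [IsScalarTower R B A] [AddCommGroup M] [Module A M] [Module B M] [IsScalarTower B A M]
    [Module R M] [IsScalarTower R B M] [IsScalarTower R A M] (Q : Ideal A) [Q.IsPrime] (y : Ideal B) [y.IsPrime]
    (hy : Q.comap (algebraMap B A) = y) (h : Module.Flat R (LocalizedModule y.primeCompl M)) :
    Module.Flat R (LocalizedModule Q.primeCompl M) := by
  refine (H19.FlatLocus.flat_iff_killed Q.primeCompl (LocalizedModule.mkLinearMap Q.primeCompl M)).2 fun J ξ hξ => ?_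
  obtain ⟨s, hs, hsξ⟩ := (H19.FlatLocus.flat_iff_killed y.primeCompl
    (LocalizedModule.mkLinearMap y.primeCompl M)).1 h J ξ hξ
  exact ⟨algebraMap B A s, fun hm => hs (hy.le hm), by rw [algebraMap_smul]; exact hsξ⟩

/-- Flatness at a trace from flatness at a prime of a quotient. -/
theorem flatAt_of_surjective {R B A M : Type u} [CommRing R] [CommRing B] [CommRing A] [Algebra R B] [Algebra R A]
    [Algebra B A] [IsScalarTower R B A] [AddCommGroup M] [Module A M] [Module B M] [IsScalarTower B A M]
    [Module R M] [IsScalarTower R B M] [IsScalarTower R A M] (hs : Function.Surjective (algebraMap B A))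
    (Q : Ideal A) [Q.IsPrime] (y : Ideal B) [y.IsPrime] (hy : Q.comap (algebraMap B A) = y)
    (h : Module.Flat R (LocalizedModule Q.primeCompl M)) : Module.Flat R (LocalizedModule y.primeCompl M) := by
  refine (H19.FlatLocus.flat_iff_killed y.primeCompl (LocalizedModule.mkLinearMap y.primeCompl M)).2 fun J ξ hξ => ?_
  obtain ⟨s, hs', hsξ⟩ := (H19.FlatLocus.flat_iff_killed Q.primeCompl
    (LocalizedModule.mkLinearMap Q.primeCompl M)).1 h J ξ hξ
  obtain ⟨b, rfl⟩ := hs s
  exact ⟨b, fun hm => hs' (hy.ge hm), by rw [← algebraMap_smul A b ξ]; exact hsξ⟩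

/-- Finite presentation passes up to a finite algebra. -/
theorem finitePresentation_up {B A M : Type u} [CommRing B] [CommRing A] [Algebra B A] [Module.Finite B A]
    [AddCommGroup M] [Module A M] [Module B M] [IsScalarTower B A M] [Module.FinitePresentation B M] :
    Module.FinitePresentation A M := by
  haveI : Module.Finite A M := Module.Finite.of_restrictScalars_finite B A M
  obtain ⟨k, g, hg⟩ := Module.Finite.exists_fin' A M
  refine Module.finitePresentation_of_surjective g hg ?_
  obtain ⟨T, hT⟩ := Module.FinitePresentation.fg_ker (g.restrictScalars B) hg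
  refine ⟨T, le_antisymm (Submodule.span_le.2 fun x hx => ?_) fun x hx => ?_⟩
  · have h1 : x ∈ Submodule.span B (T : Set (Fin k → A)) := Submodule.subset_span hx
    rw [hT] at h1
    exact h1
  · have hmem : x ∈ Submodule.span B (T : Set (Fin k → A)) := by rw [hT]; exact hx
    exact Submodule.span_subset_span B A _ hmem

/-- Shifting the index of a finite product. -/
theorem exists_prodShift (R : Type u) [CommRing R] (X : ℕ → Type u) [∀ j, AddCommGroup (X j)] [∀ j, Module R (X j)]
    (i k : ℕ) : Nonempty ((X i × ∀ j : Fin k, X (i + 1 + (j : ℕ))) ≃ₗ[R] ∀ j : Fin (k + 1), X (i + (j : ℕ))) :=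
  ⟨(LinearEquiv.prodCongr (LinearEquiv.refl R (X i))
      (LinearEquiv.piCongrRight fun j : Fin k =>
        LinearEquiv.cast (R := R) (M := X) (show i + 1 + (j : ℕ) = i + ((j : ℕ) + 1) by omega))).trans
    (Fin.consLinearEquiv R fun j : Fin (k + 1) => X (i + (j : ℕ)))⟩

section Step

variable {R B : Type u} [CommRing R] [IsLocalRing R] [CommRing B] [Algebra R B] [Algebra.Smooth R B]
  (hB : _root_.FlatCA.GeomIrredFibres R B) [((maximalIdeal R).map (algebraMap R B)).IsPrime]
  (y : Ideal B) [y.IsPrime] [y.LiesOver (maximalIdeal R)]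
  {M : Type u} [AddCommGroup M] [Module B M] [Module R M] [IsScalarTower R B M] [Module.Finite B M]

include hB in
/-- One step over a local base: injectivity, and flatness of the cokernel at the point. -/
theorem step (hflat : Module.Flat R (LocalizedModule y.primeCompl M)) {r : ℕ} (α : (Fin r → B) →ₗ[B] M)
    (hα : Function.Bijective (α.baseChange ((maximalIdeal R).map (algebraMap R B)).ResidueField)) :
    Function.Injective α ∧ Module.Flat R (LocalizedModule y.primeCompl (M ⧸ LinearMap.range α)) := by
  have hgif := Fibres.gif_of_smooth_of_geomIrred hB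
  let P := (maximalIdeal R).map (algebraMap R B)
  have hPy : P ≤ y := Ideal.map_le_iff_le_comap.2 (y.over_def (maximalIdeal R)).le
  haveI : P.LiesOver (maximalIdeal R) :=
    ⟨le_antisymm Ideal.le_comap_map fun a ha => (y.over_def (maximalIdeal R)).ge (hPy ha)⟩
  have hP : ∀ Q : Ideal B, ∀ _ : Q.IsPrime, Q.LiesOver (maximalIdeal R) → P ≤ Q := fun Q _ hQ =>
    Ideal.map_le_iff_le_comap.2 (Q.over_def (maximalIdeal R)).le
  have hflatP : Module.Flat R (LocalizedModule P.primeCompl M) :=
    FlatStep.flat_of_le (q := y) hPy hflat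
  have hb := StepLemmas.bijAt_of_residue hgif (maximalIdeal R) P hP hflatP α hα
  have hui : ∀ (Q : Type u) [AddCommGroup Q] [Module R Q] (z : (Fin r → B) ⊗[R] Q),
      (α.restrictScalars R).rTensor Q z = 0 → z = 0 := fun Q _ _ z hz => by
    obtain ⟨_, ⟨s, hs, rfl⟩, hsz⟩ := ui_of_bijAt (maximalIdeal R) hgif P hP α hb Q z hz
    have hu : IsUnit s := IsLocalRing.notMem_maximalIdeal.1 hs
    rw [algebraMap_smul] at hsz
    exact hu.smul_eq_zero.1 hsz
  refine ⟨(injective_iff_map_eq_zero α).2 fun v hv => ?_, ?_⟩
  · have h1 := congrArg (TensorProduct.rid R (Fin r → B)) (hui R (v ⊗ₜ[R] (1 : R))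
      (by rw [LinearMap.rTensor_tmul, LinearMap.coe_restrictScalars, hv, TensorProduct.zero_tmul]))
    simpa using h1
  · haveI := hflat
    exact FlatStep.flat_coker_localized α y.primeCompl fun Q _ _ z hz =>
      ⟨1, y.primeCompl.one_mem, by rw [one_smul]; exact hui Q z hz⟩

end Step

section Chain

variable {R S : Type u} [CommRing R] [IsLocalRing R] [CommRing S] [Algebra R S] [Algebra.FinitePresentation R S]
  {N : Type u} [AddCommGroup N] [Module S N] [Module R N] [IsScalarTower R S N]
  {q : Ideal S} [q.IsPrime] (D : _root_.FlatCA.CompleteDevissage R S N (maximalIdeal R))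
  (Dq : _root_.FlatCA.CompleteDevissageAt R S N (maximalIdeal R) q D)

theorem tower_next (i : ℕ) : IsScalarTower R (D.A i) (D.M i) :=
  IsScalarTower.of_algebraMap_smul fun a x => by
    rw [IsScalarTower.algebraMap_apply R (D.B i) (D.A i), algebraMap_smul, algebraMap_smul]

/-- Every module of the chain is flat at its point, and every map of the chain is injective. -/
theorem flat_chain (hflat : Module.Flat R (LocalizedModule q.primeCompl N)) :
    ∀ i, i < D.n → Function.Injective (D.α i) ∧
      (haveI := Dq.hqB i; Module.Flat R (LocalizedModule (Dq.qB i).primeCompl (D.M i))) := by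
  have hstep : ∀ i, i < D.n → (haveI := Dq.hqB i; Module.Flat R (LocalizedModule (Dq.qB i).primeCompl (D.M i))) →
      Function.Injective (D.α i) ∧
        (haveI := Dq.hqB i; Module.Flat R (LocalizedModule (Dq.qB i).primeCompl (D.M i ⧸ LinearMap.range (D.α i)))) := by
    intro i hi hfl
    haveI := Dq.hqB i
    haveI := Dq.overB i
    haveI := D.smooth i hi
    haveI := D.finiteBA i hi
    haveI := D.finiteM i hi
    haveI : Module.Finite (D.B i) (D.M i) := Module.Finite.trans (D.A i) _
    exact step (D.geomIrred i hi) (Dq.qB i) hfl (D.α i) (D.fibreIso i hi)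
  have hdown : ∀ i, i < D.n →
      (haveI := Dq.hqA i; haveI := tower_next D i; Module.Flat R (LocalizedModule (Dq.qA i).primeCompl (D.M i))) →
      (haveI := Dq.hqB i; Module.Flat R (LocalizedModule (Dq.qB i).primeCompl (D.M i))) := by
    intro i hi hfl
    haveI := Dq.hqA i
    haveI := Dq.hqB i
    haveI := D.finiteBA i hi
    haveI := D.finiteM i hi
    haveI := tower_next D i
    refine DevTools.flatAt_of_forall_over (R := R) (C := D.A i) (Dq.qB i) fun z hz h => ?_
    obtain rfl := Dq.uniq i hi z ⟨h.symm⟩
    exact hfl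
  intro i
  induction i with
  | zero =>
    intro hi
    haveI := Dq.hqA 0
    haveI := tower_zero D
    haveI := tower_next D 0
    have h0 : Module.Flat R (LocalizedModule q.primeCompl (D.M 0)) := by
      haveI := hflat
      exact Module.Flat.of_linearEquiv
        (((IsLocalizedModule.mapEquiv q.primeCompl (LocalizedModule.mkLinearMap q.primeCompl (D.M 0))
          (LocalizedModule.mkLinearMap q.primeCompl N) (Localization q.primeCompl) D.isoN.symm)).restrictScalars R)
    have h1 := hdown 0 hi (flatAt_of_comap (B := S) (Dq.qA 0) q Dq.q0 h0)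
    exact ⟨(hstep 0 hi h1).1, h1⟩
  | succ i ih =>
    intro hi
    have hi' : i < D.n := Nat.lt_of_succ_lt hi
    haveI := Dq.hqA (i + 1)
    haveI := Dq.hqB i
    haveI := tower_prev D i
    haveI := tower_next D (i + 1)
    have h0 := (hstep i hi' (ih hi').2).2
    have h1 : Module.Flat R (LocalizedModule (Dq.qB i).primeCompl (D.M (i + 1))) := by
      haveI := h0
      exact Module.Flat.of_linearEquiv
        (((IsLocalizedModule.mapEquiv (Dq.qB i).primeCompl
          (LocalizedModule.mkLinearMap (Dq.qB i).primeCompl (D.M (i + 1)))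
          (LocalizedModule.mkLinearMap (Dq.qB i).primeCompl (D.M i ⧸ LinearMap.range (D.α i)))
          (Localization (Dq.qB i).primeCompl) (D.isoCoker i hi).symm)).restrictScalars R)
    have h2 := hdown (i + 1) hi (flatAt_of_comap (B := D.B i) (Dq.qA (i + 1)) (Dq.qB i) (Dq.qStep i hi) h1)
    exact ⟨(hstep (i + 1) hi h2).1, h2⟩

/-- Finite presentation and the shape of the modules of the chain, from the top down. -/
theorem form_chain (hinj : ∀ i, i < D.n → Function.Injective (D.α i)) :
    ∀ k i, i + k + 1 = D.n → Module.FinitePresentation (D.B i) (D.M i) ∧ Module.Projective R (D.M i) ∧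
      Nonempty (D.M i ≃ₗ[R] ∀ j : Fin (k + 1), (Fin (D.r (i + (j : ℕ))) → D.B (i + (j : ℕ)))) := by
  intro k
  induction k with
  | zero =>
    intro i hi
    have hlt : i < D.n := by omega
    haveI := D.smooth i hlt
    haveI : Module.Projective R (D.B i) := RG57.ContentProj.projective fun K _ _ =>
      Fibres.isDomain_of_smooth_of_geomIrred (D.geomIrred i hlt) K
    have hsurj : Function.Surjective (D.α i) := by
      have h := D.cokerLast
      rwa [show D.n - 1 = i by omega] at h
    let e := LinearEquiv.ofBijective (D.α i) ⟨hinj i hlt, hsurj⟩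
    haveI : Module.Projective R (∀ _ : Fin (D.r i), D.B i) := projective_pi _
    exact ⟨Module.FinitePresentation.of_equiv e, Module.Projective.of_equiv (e.restrictScalars R),
      ⟨(e.restrictScalars R).symm.trans
        (LinearEquiv.piUnique R fun j : Fin 1 => (Fin (D.r (i + (j : ℕ))) → D.B (i + (j : ℕ)))).symm⟩⟩
  | succ k ih =>
    intro i hi
    have hlt : i < D.n := by omega
    have hlt' : i + 1 < D.n := by omega
    obtain ⟨hfp, hproj, ⟨eY⟩⟩ := ih (i + 1) (by omega)
    haveI := hfp
    haveI := hproj
    haveI := D.smooth i hlt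
    haveI := D.smooth (i + 1) hlt'
    haveI := D.finiteBA (i + 1) hlt'
    haveI := D.fpBA' i hlt'
    haveI : Module.Projective R (D.B i) := RG57.ContentProj.projective fun K _ _ =>
      Fibres.isDomain_of_smooth_of_geomIrred (D.geomIrred i hlt) K
    haveI : Module.Projective R (∀ _ : Fin (D.r i), D.B i) := projective_pi _
    haveI := tower_prev D i
    haveI : Algebra.FinitePresentation R (D.A (i + 1)) := Algebra.FinitePresentation.trans R (D.B i) (D.A (i + 1))
    haveI : Module.FinitePresentation (D.A (i + 1)) (D.M (i + 1)) := finitePresentation_up (B := D.B (i + 1))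
    haveI : Module.Finite (D.B i) (D.A (i + 1)) :=
      Module.Finite.of_surjective (Algebra.linearMap (D.B i) (D.A (i + 1))) (D.surjBA' i hlt')
    haveI : Module.FinitePresentation (D.B i) (D.M (i + 1)) := finitePresentation_of_finite (A := D.A (i + 1)) R
    let π : D.M i →ₗ[D.B i] D.M (i + 1) := (D.isoCoker i hlt').toLinearMap.comp (LinearMap.range (D.α i)).mkQ
    have hπ : Function.Surjective π := (D.isoCoker i hlt').surjective.comp (Submodule.mkQ_surjective _)
    have hker : LinearMap.ker π = LinearMap.range (D.α i) := by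
      rw [LinearMap.ker_comp, LinearEquiv.ker, Submodule.comap_bot, Submodule.ker_mkQ]
    have hfpM : Module.FinitePresentation (D.B i) (D.M i) := by
      haveI : Module.FinitePresentation (D.B i) (LinearMap.ker π) :=
        Module.FinitePresentation.of_equiv ((LinearEquiv.ofInjective (D.α i) (hinj i hlt)).trans
          (LinearEquiv.ofEq _ _ hker.symm))
      exact Module.finitePresentation_of_ker π hπ
    obtain ⟨l, hl⟩ := Module.projective_lifting_property (π.restrictScalars R) LinearMap.id hπ
    have hl' : ∀ y, π (l y) = y := fun y => LinearMap.congr_fun hl y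
    have hex : ∀ x, π x = 0 ↔ ∃ v, D.α i v = x := fun x => by
      rw [← LinearMap.mem_ker, hker, LinearMap.mem_range]
    have hbij : Function.Bijective (((D.α i).restrictScalars R).coprod l) := by
      refine ⟨(injective_iff_map_eq_zero _).2 fun ⟨a, b⟩ hab => ?_, fun x => ?_⟩
      · rw [LinearMap.coprod_apply, LinearMap.coe_restrictScalars] at hab
        have hb : b = 0 := by
          have := congrArg π hab
          rwa [map_add, map_zero, (hex _).2 ⟨a, rfl⟩, zero_add, hl'] at this
        subst hb
        rw [map_zero, add_zero] at hab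
        have ha : a = 0 := hinj i hlt (hab.trans (map_zero _).symm)
        rw [ha]
        rfl
      · obtain ⟨a, ha⟩ := (hex (x - l (π x))).1 (by rw [map_sub, hl', sub_self])
        exact ⟨(a, π x), by rw [LinearMap.coprod_apply, LinearMap.coe_restrictScalars, ha, sub_add_cancel]⟩
    let E := LinearEquiv.ofBijective _ hbij
    obtain ⟨sh⟩ := exists_prodShift R (fun j => Fin (D.r j) → D.B j) i (k + 1)
    exact ⟨hfpM, Module.Projective.of_equiv E, ⟨(E.symm.trans (LinearEquiv.prodCongr (LinearEquiv.refl R _) eY)).trans sh⟩⟩

include Dq in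
/-- A module with a complete dévissage, flat at the point. -/
theorem main (hflat : Module.Flat R (LocalizedModule q.primeCompl N)) :
    Module.FinitePresentation S N ∧ Module.Free R N ∧
      Nonempty (N ≃ₗ[R] (∀ i : Fin D.n, Fin (D.r i) → D.B i)) := by
  have hinj := fun i hi => (flat_chain D Dq hflat i hi).1
  have hpos := D.pos
  obtain ⟨hfp, hproj, ⟨e⟩⟩ := form_chain D hinj (D.n - 1) 0 (by omega)
  haveI := hfp
  haveI := hproj
  haveI := D.smooth 0 hpos
  haveI := D.finiteBA 0 hpos
  haveI := D.fpSA
  haveI := tower_zero D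
  haveI : Algebra.FinitePresentation R (D.A 0) := Algebra.FinitePresentation.trans R S (D.A 0)
  haveI : Module.FinitePresentation (D.A 0) (D.M 0) := finitePresentation_up (B := D.B 0)
  haveI : Module.Finite S (D.A 0) := Module.Finite.of_surjective (Algebra.linearMap S (D.A 0)) D.surjSA
  haveI : Module.FinitePresentation S (D.M 0) := finitePresentation_of_finite (A := D.A 0) R
  haveI : Module.Projective R N := Module.Projective.of_equiv (D.isoN.restrictScalars R).symm
  refine ⟨Module.FinitePresentation.of_equiv D.isoN.symm, Pure.Decomp.free_of_local, ?_⟩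
  have hn : D.n - 1 + 1 = D.n := by omega
  exact ⟨((D.isoN.restrictScalars R).trans e).trans
    ((LinearEquiv.piCongrRight fun j : Fin (D.n - 1 + 1) =>
      LinearEquiv.cast (R := R) (M := fun j => Fin (D.r j) → D.B j) (Nat.zero_add (j : ℕ))).trans
    (LinearEquiv.piCongrLeft R (fun i : Fin D.n => Fin (D.r i) → D.B i) (finCongr hn)))⟩

end Chain

end Groth.Agent.Lib.RG.DevChain
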