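import Groth.Agent.Lib.RG.StepModel
import Groth.Agent.Lib.RG.Coords
import Groth.Agent.Lib.RG.FibrePoint
import Groth.Agent.Lib.Synt92.KoszulFlat
import Groth.Agent.Lib.Regular.UFD
import Mathlib.RingTheory.DiscreteValuationRing.TFAE
import Mathlib.RingTheory.IntegralClosure.Algebra.Basic
import Mathlib.LinearAlgebra.FreeModule.PID

/-!
# A socle point of the cokernel only: the fibre is free at the point

If the fibre module has no socle at a point of a smooth fibre but the cokernel of a generically
bijective map from a free module has one, then the local ring of the fibre there is a discrete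
valuation ring and the module needs only as many generators as the rank.
-/

set_option autoImplicit false
set_option linter.style.haveILetI false

universe u

open scoped TensorProduct
open IsLocalRing

attribute [local instance] Algebra.TensorProduct.rightAlgebra

namespace Groth.Agent.Lib.RG.Special

open Engine StepModel FibrePoint

section Helpers

variable {R D : Type u} [CommRing R] [CommRing D] [Algebra R D] (p : Ideal R) [p.IsPrime]
  {M : Type u} [AddCommGroup M] [Module D M] [Module R M] [IsScalarTower R D M]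

/-- Every fibre element is an image after a scalar outside the prime. -/
theorem exists_tmul_one (z : M ⊗[R] p.ResidueField) :
    ∃ s : R, s ∉ p ∧ ∃ g : M, algebraMap R D s • z = g ⊗ₜ[R] (1 : p.ResidueField) := by
  induction z with
  | zero => exact ⟨1, p.primeCompl.one_mem, 0, by simp⟩
  | tmul a c =>
    obtain ⟨u, v, hv, rfl⟩ := Coords.exists_div p c
    have hv' : algebraMap R p.ResidueField v ≠ 0 := fun h => hv (Ideal.algebraMap_residueField_eq_zero.1 h)
    refine ⟨v, hv, u • a, ?_⟩
    rw [algebraMap_smul, ← TensorProduct.tmul_smul, TensorProduct.smul_tmul, Algebra.smul_def v,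
      Algebra.smul_def u, mul_one]
    congr 1
    field_simp
  | add a b ha hb =>
    obtain ⟨sa, hsa, ga, ha'⟩ := ha
    obtain ⟨sb, hsb, gb, hb'⟩ := hb
    refine ⟨sa * sb, p.primeCompl.mul_mem hsa hsb, algebraMap R D sb • ga + algebraMap R D sa • gb, ?_⟩
    rw [TensorProduct.add_tmul, ← TensorProduct.smul_tmul', ← TensorProduct.smul_tmul', ← ha', ← hb', map_mul,
      smul_add, mul_smul, mul_smul, smul_comm (algebraMap R D sa) (algebraMap R D sb) a]

/-- Elements of the generic prime kill fibre modules. -/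
theorem smul_eq_zero_of_mem_genPrime {d : D} (hd : d ∈ genPrime p D) (z : M ⊗[R] p.ResidueField) :
    d • z = 0 := by
  induction z with
  | zero => exact smul_zero _
  | add a b ha hb => rw [smul_add, ha, hb, add_zero]
  | tmul g c =>
    let l : p.ResidueField ⊗[R] D →ₗ[R] M ⊗[R] p.ResidueField :=
      (TensorProduct.map ((LinearMap.toSpanSingleton D M g).restrictScalars R)
        (LinearMap.mulLeft R c)).comp (TensorProduct.comm R p.ResidueField D).toLinearMap
    have h0 : (1 : p.ResidueField) ⊗ₜ[R] d = 0 := hd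
    have h1 := congrArg l h0
    rw [map_zero] at h1
    simpa [l, TensorProduct.smul_tmul'] using h1

theorem tmul_eq_zero_of_tmul_one {g : M} (h : g ⊗ₜ[R] (1 : p.ResidueField) = 0) (c : p.ResidueField) :
    g ⊗ₜ[R] c = 0 := by
  have := congrArg ((LinearMap.mulLeft R c).lTensor M) h
  simpa using this

end Helpers

/-- A local ring of a domain with regular local rings and a localized module, as abstract objects. -/
theorem exists_localRing {A : Type u} [CommRing A] [IsDomain A] (P : Ideal A) [P.IsPrime]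
    [IsRegularLocalRing (Localization.AtPrime P)] (N : Type u) [AddCommGroup N] [Module A N] [Module.Finite A N] :
    ∃ (O : Type u) (_ : CommRing O) (_ : IsDomain O) (_ : IsIntegrallyClosed O) (_ : IsNoetherianRing O)
      (_ : IsLocalRing O) (_ : Algebra A O) (_ : IsLocalization.AtPrime O P) (M : Type u) (_ : AddCommGroup M)
      (_ : Module O M) (_ : Module A M) (_ : IsScalarTower A O M) (_ : Module.Finite O M) (l : N →ₗ[A] M),
      IsLocalizedModule P.primeCompl l :=
  ⟨Localization.AtPrime P, inferInstance, IsLocalization.isDomain_localization P.primeCompl_le_nonZeroDivisors,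
    Regular.UFD.isIntegrallyClosed _, inferInstance, inferInstance, inferInstance, inferInstance,
    LocalizedModule P.primeCompl N, inferInstance, inferInstance, inferInstance, inferInstance,
    Module.Finite.of_isLocalizedModule P.primeCompl (LocalizedModule.mkLinearMap P.primeCompl N),
    LocalizedModule.mkLinearMap P.primeCompl N, inferInstance⟩

variable {R D : Type u} [CommRing R] [CommRing D] [Algebra R D] [Algebra.Smooth R D] (hD : GIF R D)
  (p : Ideal R) [p.IsPrime] (y : Ideal D) [y.IsPrime] [y.LiesOver p]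
  {G : Type u} [AddCommGroup G] [Module D G] [Module R G] [IsScalarTower R D G] [Module.Finite D G]

include hD y

omit [Module.Finite D G] in
/-- A map bijective at the generic point of the fibre is injective on the fibre. -/
theorem mem_genPrime_of_tmul {r : ℕ} {α : (Fin r → D) →ₗ[D] G} (hα : BijAt (genPrime p D) α) {u : Fin r → D}
    (h : α u ⊗ₜ[R] (1 : p.ResidueField) = 0) (i : Fin r) : u i ∈ genPrime p D := by
  haveI := (genPrime_isPrime p hD y).1
  haveI := (genPrime_isPrime p hD y).2
  obtain ⟨_, ⟨s, hs, rfl⟩, hsu⟩ := ui_of_bijAt p hD (genPrime p D) (fun Q _ _ => genPrime_le p Q) α hα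
    p.ResidueField (u ⊗ₜ[R] (1 : p.ResidueField)) h
  have h1 := congrArg (((LinearMap.proj (R := D) (φ := fun _ : Fin r => D) i).restrictScalars R).rTensor
    p.ResidueField) hsu
  rw [map_zero, TensorProduct.smul_tmul', LinearMap.rTensor_tmul] at h1
  have h2 : algebraMap R D s * u i ∈ genPrime p D := by
    show (1 : p.ResidueField) ⊗ₜ[R] (algebraMap R D s * u i) = 0
    have h3 := congrArg (TensorProduct.comm R D p.ResidueField) h1
    rw [map_zero, TensorProduct.comm_tmul] at h3
    exact h3
  refine ((genPrime_isPrime p hD y).1.mem_or_mem h2).resolve_left fun h' => hs ?_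
  rw [(genPrime p D).over_def p]
  exact h'

set_option maxHeartbeats 3200000 in
theorem exists_generators {r : ℕ} (α : (Fin r → D) →ₗ[D] G) (hα : BijAt (genPrime p D) α)
    (hy : ¬ y ≤ genPrime p D) (hG : ¬ SocAt p y G) (hC : SocAt p y (G ⧸ LinearMap.range α)) :
    ∃ β : (Fin r → D) →ₗ[D] G, ZeroAt p y (G ⧸ LinearMap.range β) := by
  classical
  haveI hP := (genPrime_isPrime p hD y).1
  haveI hPp := (genPrime_isPrime p hD y).2
  haveI := (FlatCA.WeakAss.fiberIdeal_prime p y).1
  have hycomap := (FlatCA.WeakAss.fiberIdeal_prime p y).2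
  haveI : NoZeroDivisors (p.Fiber D) := hD p.ResidueField
  haveI : Nontrivial (p.Fiber D) :=
    ⟨⟨0, 1, fun h => Ideal.IsPrime.ne_top (inferInstance : (_root_.FlatCA.fiberIdeal p y).IsPrime)
      ((Ideal.eq_top_iff_one _).2 (h ▸ zero_mem _))⟩⟩
  haveI : IsDomain (p.Fiber D) := NoZeroDivisors.to_isDomain _
  let ybar := _root_.FlatCA.fiberIdeal p y
  haveI := Synt92.KoszulFlat.isRegularLocalRing_of_smooth p.ResidueField (p.Fiber D) ybar
  haveI : Module.Finite (p.Fiber D) (_root_.FlatCA.fiberMod p D G) := Module.Finite.base_change D (p.Fiber D) G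
  obtain ⟨O, _, _, _, _, _, _, _, M, _, _, _, _, _, l, hl⟩ :=
    exists_localRing ybar (_root_.FlatCA.fiberMod p D G)
  haveI := hl
  let ι : D →+* O := (algebraMap (p.Fiber D) O).comp (FlatCA.Impurity.incl p)
  -- the dictionary between `D` and `O`
  have hι0 : ∀ a, ι a = 0 ↔ a ∈ genPrime p D := fun a => by
    show algebraMap (p.Fiber D) O (FlatCA.Impurity.incl p a) = 0 ↔ FlatCA.Impurity.incl p a = 0
    exact map_eq_zero_iff _ (IsLocalization.injective O ybar.primeCompl_le_nonZeroDivisors)
  have hιm : ∀ a, ι a ∈ maximalIdeal O ↔ a ∈ y := fun a => by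
    show algebraMap (p.Fiber D) O (FlatCA.Impurity.incl p a) ∈ maximalIdeal O ↔ a ∈ y
    rw [IsLocalization.AtPrime.to_map_mem_maximal_iff O ybar]
    exact (SetLike.ext_iff.1 hycomap a)
  have hιu : ∀ a, a ∉ y → IsUnit (ι a) := fun a ha => by
    by_contra h
    exact ha ((hιm a).1 ((mem_maximalIdeal _).2 h))
  have hιs : ∀ s : R, s ∉ p → algebraMap R D s ∉ y := fun s hs h => hs (by rw [y.over_def p]; exact h)
  have hO : ∀ o : O, ∃ w, w ∉ y ∧ ∃ u, ι w * o = ι u := by
    intro o
    obtain ⟨⟨c, t⟩, ho⟩ := IsLocalization.surj ybar.primeCompl o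
    obtain ⟨s₁, hs₁, b₁, hb₁⟩ := FlatCA.WeakAss.exists_smul_eq_incl p c
    obtain ⟨s₂, hs₂, b₂, hb₂⟩ := FlatCA.WeakAss.exists_smul_eq_incl p (t : p.Fiber D)
    have hincl : ∀ s : R, FlatCA.Impurity.incl p (algebraMap R D s) = algebraMap R (p.Fiber D) s :=
      (Algebra.TensorProduct.includeRight (R := R) (A := p.ResidueField) (B := D)).commutes
    refine ⟨algebraMap R D s₁ * b₂, fun h => (Ideal.IsPrime.mem_or_mem inferInstance h).elim (hιs s₁ hs₁) ?_,
      algebraMap R D s₂ * b₁, ?_⟩
    · intro h2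
      have h3 : FlatCA.Impurity.incl p b₂ ∈ ybar := Ideal.mem_map_of_mem _ h2
      rw [← hb₂] at h3
      exact t.2 ((Ideal.unit_mul_mem_iff_mem _ (FlatCA.WeakAss.isUnit_algebraMap_fiber p hs₂)).1 h3)
    · show algebraMap (p.Fiber D) O (FlatCA.Impurity.incl p _) * o = algebraMap (p.Fiber D) O (FlatCA.Impurity.incl p _)
      simp only [map_mul, hincl, ← hb₁, ← hb₂]
      rw [← ho]
      ring
  have hOfam : ∀ o : Fin r → O, ∃ W, W ∉ y ∧ ∃ u : Fin r → D, ∀ i, ι W * o i = ι (u i) := by
    intro o
    choose w hw u hu using fun i => hO (o i)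
    refine ⟨∏ i, w i, fun h => ?_, fun i => (∏ j ∈ Finset.univ.erase i, w j) * u i, fun i => ?_⟩
    · obtain ⟨i, -, hi⟩ := (Ideal.IsPrime.prod_mem_iff (p := y)).1 h
      exact hw i hi
    · rw [map_mul, ← hu i, ← mul_assoc, ← map_mul, Finset.prod_erase_mul _ _ (Finset.mem_univ i)]
  -- the socle element
  obtain ⟨ξ, hξ, hξne⟩ := hC
  obtain ⟨s₀, hs₀, c₀, hc₀⟩ := exists_tmul_one (D := D) p ξ
  obtain ⟨g₀, rfl⟩ := Submodule.Quotient.mk_surjective _ c₀
  let πC : G →ₗ[R] G ⧸ LinearMap.range α := ((LinearMap.range α).mkQ).restrictScalars R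
  have hsoc : ∀ a ∈ y, ∃ w, w ∉ y ∧ ∃ u, (w • a • g₀) ⊗ₜ[R] (1 : p.ResidueField) = α u ⊗ₜ[R] (1 : p.ResidueField) := by
    intro a ha
    obtain ⟨w, hw, hwa⟩ := hξ a ha
    have h1 : πC.rTensor p.ResidueField ((w • a • g₀) ⊗ₜ[R] (1 : p.ResidueField)) = 0 := by
      show (Submodule.Quotient.mk (w • a • g₀) : G ⧸ LinearMap.range α) ⊗ₜ[R] (1 : p.ResidueField) = 0
      rw [Submodule.Quotient.mk_smul, Submodule.Quotient.mk_smul, ← TensorProduct.smul_tmul',
        ← TensorProduct.smul_tmul', ← hc₀, smul_comm a, smul_comm w, hwa, smul_zero]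
    have hex : Function.Exact (α.restrictScalars R) πC := LinearMap.exact_map_mkQ_range α
    obtain ⟨ζ, hζ⟩ := (rTensor_exact p.ResidueField hex (Submodule.mkQ_surjective _) _).1 h1
    obtain ⟨s, hs, u, hu⟩ := exists_tmul_one (D := D) p ζ
    refine ⟨algebraMap R D s * w, fun h => (Ideal.IsPrime.mem_or_mem inferInstance h).elim (hιs s hs) hw, u, ?_⟩
    rw [mul_smul, ← TensorProduct.smul_tmul', ← hζ]
    have h2 := (TensorProduct.AlgebraTensorModule.rTensor R p.ResidueField α).map_smul (algebraMap R D s) ζ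
    rw [hu] at h2
    exact h2.symm
  have hne : ∀ w ∉ y, ∀ u, (w • g₀) ⊗ₜ[R] (1 : p.ResidueField) ≠ α u ⊗ₜ[R] (1 : p.ResidueField) := by
    intro w hw u h
    refine hξne (w * algebraMap R D s₀)
      (fun h => (Ideal.IsPrime.mem_or_mem inferInstance h).elim hw (hιs s₀ hs₀)) ?_
    have h1 := congrArg (πC.rTensor p.ResidueField) h
    rw [LinearMap.rTensor_tmul, LinearMap.rTensor_tmul] at h1
    rw [mul_smul, hc₀, TensorProduct.smul_tmul', ← Submodule.Quotient.mk_smul]
    refine h1.trans ?_
    show (Submodule.Quotient.mk (α u) : G ⧸ LinearMap.range α) ⊗ₜ[R] (1 : p.ResidueField) = 0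
    rw [(Submodule.Quotient.mk_eq_zero _).2 (LinearMap.mem_range_self α u), TensorProduct.zero_tmul]
  obtain ⟨d, hd, v, hv⟩ := hα.1 g₀
  let K := FractionRing O
  have hdK : algebraMap O K (ι d) ≠ 0 := fun h =>
    hd ((hι0 d).1 ((map_eq_zero_iff _ (IsFractionRing.injective O K)).1 h))
  let x : Fin r → K := fun i => algebraMap O K (ι (v i)) / algebraMap O K (ι d)
  have hsub : ∀ u u' : Fin r → D, (∀ i, u i - u' i ∈ genPrime p D) →
      α u ⊗ₜ[R] (1 : p.ResidueField) = α u' ⊗ₜ[R] (1 : p.ResidueField) := by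
    intro u u' h
    rw [← sub_eq_zero, ← TensorProduct.sub_tmul, ← map_sub, ← Finset.univ_sum_single (u - u'), map_sum,
      TensorProduct.sum_tmul]
    refine Finset.sum_eq_zero fun i _ => ?_
    rw [show Pi.single i ((u - u') i) = (u - u') i • Pi.single (M := fun _ : Fin r => D) i (1 : D) from by
      rw [← Pi.single_smul, smul_eq_mul, mul_one], map_smul, ← TensorProduct.smul_tmul']
    exact smul_eq_zero_of_mem_genPrime p (h i) _
  -- some coordinate is not in `O`
  obtain ⟨i₀, hi₀⟩ : ∃ i, ∀ o : O, algebraMap O K o ≠ x i := by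
    by_contra hcon
    push Not at hcon
    choose o ho using hcon
    obtain ⟨W, hW, u, hu⟩ := hOfam o
    have hWv : ∀ i, W * v i - d * u i ∈ genPrime p D := fun i => by
      rw [← hι0, map_sub, map_mul, map_mul, ← hu]
      apply IsFractionRing.injective O K
      rw [map_sub, map_mul, map_mul, map_mul, ho, map_zero]
      show algebraMap O K (ι W) * algebraMap O K (ι (v i)) -
        algebraMap O K (ι d) * (algebraMap O K (ι W) * (algebraMap O K (ι (v i)) / algebraMap O K (ι d))) = 0
      rw [mul_left_comm (algebraMap O K (ι d)), mul_div_cancel₀ _ hdK, sub_self]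
    let t : G ⊗[R] p.ResidueField := (W • g₀ - α u) ⊗ₜ[R] (1 : p.ResidueField)
    have hdt : d • t = 0 := by
      rw [TensorProduct.smul_tmul', smul_sub, smul_comm d W, ← hv, ← map_smul, ← map_smul, TensorProduct.sub_tmul,
        sub_eq_zero]
      exact hsub _ _ fun i => hWv i
    refine hG ⟨t, fun a ha => ?_, fun w hw hwt => ?_⟩
    · obtain ⟨w, hw, ua, hua⟩ := hsoc a ha
      refine ⟨w, hw, ?_⟩
      have h1 : w • a • t = α (W • ua - (w * a) • u) ⊗ₜ[R] (1 : p.ResidueField) := by
        rw [map_sub, map_smul, map_smul, TensorProduct.sub_tmul, ← TensorProduct.smul_tmul', ← hua]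
        simp only [t, TensorProduct.smul_tmul', smul_sub, TensorProduct.sub_tmul, smul_smul]
        congr 2
        ring
      have h2 : α (d • (W • ua - (w * a) • u)) ⊗ₜ[R] (1 : p.ResidueField) = 0 := by
        rw [map_smul, ← TensorProduct.smul_tmul', ← h1, smul_comm d w, smul_comm d a, hdt, smul_zero, smul_zero]
      have h3 : ∀ i, (W • ua - (w * a) • u) i ∈ genPrime p D := fun i =>
        (hP.mem_or_mem (mem_genPrime_of_tmul hD p y hα h2 i)).resolve_left hd
      rw [h1, hsub _ 0 (fun i => by rw [Pi.zero_apply, sub_zero]; exact h3 i), map_zero, TensorProduct.zero_tmul]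
    · refine hne (w * W) (fun h => (Ideal.IsPrime.mem_or_mem inferInstance h).elim hw hW) (w • u) ?_
      rw [← sub_eq_zero, ← TensorProduct.sub_tmul, map_smul, mul_smul, ← smul_sub, ← TensorProduct.smul_tmul']
      exact hwt
  -- the maximal ideal carries it into `O`
  have hmul : ∀ m ∈ maximalIdeal O, ∃ o : O, algebraMap O K o = algebraMap O K m * x i₀ := by
    intro m hm
    obtain ⟨w₁, hw₁, a, ha⟩ := hO m
    have hay : a ∈ y := (hιm a).1 (ha ▸ Ideal.mul_mem_left _ _ hm)
    obtain ⟨w, hw, ua, hua⟩ := hsoc a hay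
    have h1 : α (d • ua - (w * a) • v) ⊗ₜ[R] (1 : p.ResidueField) = 0 := by
      rw [map_sub, map_smul, map_smul, TensorProduct.sub_tmul, ← TensorProduct.smul_tmul', ← hua, hv, sub_eq_zero,
        TensorProduct.smul_tmul']
      congr 1
      rw [smul_smul, smul_smul, smul_smul]
      congr 1
      ring
    have h2 := (hι0 _).2 (mem_genPrime_of_tmul hD p y hα h1 i₀)
    simp only [Pi.sub_apply, Pi.smul_apply, smul_eq_mul, map_sub, map_mul, sub_eq_zero] at h2
    obtain ⟨uw, huw⟩ := (hιu w hw).mul (hιu w₁ hw₁)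
    refine ⟨(↑uw⁻¹ : O) * ι (ua i₀), ?_⟩
    have h3 : (↑uw : O) * ((↑uw⁻¹ : O) * ι (ua i₀)) = ι (ua i₀) := Units.mul_inv_cancel_left _ _
    apply mul_left_cancel₀ (show algebraMap O K (↑uw : O) ≠ 0 from
      fun h => uw.ne_zero ((map_eq_zero_iff _ (IsFractionRing.injective O K)).1 h))
    rw [← map_mul, h3, huw, map_mul, ← mul_assoc]
    show algebraMap O K (ι (ua i₀)) =
      algebraMap O K (ι w) * algebraMap O K (ι w₁) * algebraMap O K m * (algebraMap O K (ι (v i₀)) / algebraMap O K (ι d))
    rw [mul_assoc (algebraMap O K (ι w)), ← map_mul (algebraMap O K) (ι w₁), ha]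
    have h4 := congrArg (algebraMap O K) h2
    simp only [map_mul] at h4
    rw [mul_div_assoc', eq_div_iff hdK]
    linear_combination h4
  obtain ⟨a₁, ha₁y, ha₁P⟩ := SetLike.not_le_iff_exists.1 hy
  have ha₁0 : ι a₁ ≠ 0 := fun h => ha₁P ((hι0 _).1 h)
  have hfield : ¬ IsField O := fun h => ha₁0 (by
    have := (isField_iff_maximalIdeal_eq.1 h)
    exact (Submodule.mem_bot O).1 (this ▸ (hιm a₁).2 ha₁y))
  have hprin : (maximalIdeal O).IsPrincipal := by
    by_cases hall : ∀ m ∈ maximalIdeal O, ∀ o : O, algebraMap O K o = algebraMap O K m * x i₀ → o ∈ maximalIdeal O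
    · exfalso
      let N : Submodule O K := Submodule.map (Algebra.linearMap O K) (maximalIdeal O)
      have hN : N ≠ ⊥ := fun h => ha₁0 (IsFractionRing.injective O K (by
        rw [map_zero, ← Submodule.mem_bot O (M := K), ← h]
        exact Submodule.mem_map_of_mem (f := Algebra.linearMap O K) ((hιm a₁).2 ha₁y)))

      have hint : IsIntegral O (x i₀) := by
        refine isIntegral_of_smul_mem_submodule N hN ((IsNoetherian.noetherian _).map _) _ ?_
        rintro _ ⟨m, hm, rfl⟩
        obtain ⟨o, ho⟩ := hmul m hm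
        exact ⟨o, hall m hm o ho, by rw [Algebra.linearMap_apply, smul_eq_mul, ho, Algebra.linearMap_apply, mul_comm]⟩
      obtain ⟨o, ho⟩ := IsIntegrallyClosed.isIntegral_iff.1 hint
      exact hi₀ o ho
    · push Not at hall
      obtain ⟨m₀, hm₀, o₀, ho₀, ho₀u⟩ := hall
      obtain ⟨u₀, hu₀⟩ : IsUnit o₀ := by
        by_contra h
        exact ho₀u ((mem_maximalIdeal _).2 h)
      refine ⟨m₀, le_antisymm (fun m hm => Submodule.mem_span_singleton.2 ?_)
        ((Submodule.span_singleton_le_iff_mem _ _).2 hm₀)⟩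
      obtain ⟨o, ho⟩ := hmul m hm
      refine ⟨o * (↑u₀⁻¹ : O), ?_⟩
      apply IsFractionRing.injective O K
      have h1 : algebraMap O K o * algebraMap O K m₀ = algebraMap O K o₀ * algebraMap O K m := by
        rw [ho, ho₀]; ring
      rw [smul_eq_mul, map_mul, map_mul, mul_right_comm, h1, ← hu₀, mul_right_comm, ← map_mul, Units.mul_inv, map_one,
        one_mul]
  haveI : IsDiscreteValuationRing O := ((IsDiscreteValuationRing.TFAE O hfield).out 4 0).1 hprin
  -- the localized fibre module
  let e := FlatCA.FiberMod.fiberModEquiv p D G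
  let L : G → M := fun g => l (e.symm (g ⊗ₜ[R] (1 : p.ResidueField)))
  have hLadd : ∀ g g', L (g + g') = L g + L g' := fun g g' => by
    simp only [L, TensorProduct.add_tmul, map_add]
  have hLsmul : ∀ (a : D) g, L (a • g) = ι a • L g := fun a g => by
    simp only [L, ← TensorProduct.smul_tmul', map_smul]
    rw [← FlatCA.Impurity.incl_smul, map_smul]
    exact (algebraMap_smul O (FlatCA.Impurity.incl p a) _).symm
  let Lh : G →+ M := AddMonoidHom.mk' L hLadd
  have hLsum : ∀ (f : Fin r → G) (c : Fin r → D), L (∑ i, c i • f i) = ∑ i, ι (c i) • L (f i) := fun f c => by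
    show Lh _ = _
    rw [map_sum]
    exact Finset.sum_congr rfl fun i _ => hLsmul _ _
  have hL0 : ∀ g, L g = 0 → ∃ w, w ∉ y ∧ (w • g) ⊗ₜ[R] (1 : p.ResidueField) = 0 := by
    intro g hg
    obtain ⟨c, hc⟩ := (IsLocalizedModule.eq_zero_iff ybar.primeCompl l).1 hg
    simp only [Submonoid.smul_def] at hc
    obtain ⟨s, hs, b, hb⟩ := FlatCA.WeakAss.exists_smul_eq_incl p (c : p.Fiber D)
    refine ⟨b, fun hb' => c.2 ((Ideal.unit_mul_mem_iff_mem _ (FlatCA.WeakAss.isUnit_algebraMap_fiber p hs)).1
      (hb ▸ Ideal.mem_map_of_mem _ hb')), ?_⟩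
    rw [← TensorProduct.smul_tmul']
    apply e.symm.injective
    rw [map_smul, map_zero, ← FlatCA.Impurity.incl_smul, ← hb, mul_smul, hc, smul_zero]
  have hL0' : ∀ g, g ⊗ₜ[R] (1 : p.ResidueField) = 0 → L g = 0 := fun g h => by
    simp only [L, h, map_zero]
  have hLgen : ∀ z : M, ∃ o : O, IsUnit o ∧ ∃ g, z = o • L g := by
    intro z
    obtain ⟨⟨φ, t⟩, hφ⟩ := IsLocalizedModule.surj ybar.primeCompl l z
    simp only [Submonoid.smul_def] at hφ
    obtain ⟨s, hs, g, hg⟩ := exists_tmul_one (D := D) p (e φ)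
    obtain ⟨us, hus⟩ := hιu _ (hιs s hs)
    obtain ⟨ut, hut⟩ := IsLocalization.map_units O t
    refine ⟨(↑(us * ut)⁻¹ : O), ((us * ut)⁻¹).isUnit, g, ?_⟩
    have h1 : L g = ι (algebraMap R D s) • l φ := by
      show l (e.symm (g ⊗ₜ[R] 1)) = _
      rw [← hg, map_smul, e.symm_apply_apply, ← FlatCA.Impurity.incl_smul, map_smul]
      exact (algebraMap_smul O _ _).symm
    rw [h1, ← hφ, ← algebraMap_smul O (t : p.Fiber D) z, smul_smul, smul_smul, ← hus, ← hut, mul_assoc, ← Units.val_mul,
      Units.inv_mul, one_smul]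
  have hsocM : ∀ z : M, (∀ m ∈ maximalIdeal O, m • z = 0) → z = 0 := by
    intro z hz
    obtain ⟨o, ho, g, rfl⟩ := hLgen z
    suffices h : L g = 0 by rw [h, smul_zero]
    by_contra hne'
    refine hG ⟨g ⊗ₜ[R] (1 : p.ResidueField), fun a ha => ?_, fun w hw h => hne' ?_⟩
    · have h1 : L (a • g) = 0 := by
        rw [hLsmul]
        have h2 := hz _ ((hιm a).2 ha)
        rw [smul_comm] at h2
        exact ho.smul_eq_zero.1 h2
      obtain ⟨w, hw, hwg⟩ := hL0 _ h1
      exact ⟨w, hw, by rw [TensorProduct.smul_tmul', TensorProduct.smul_tmul']; exact hwg⟩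
    · have h1 : ι w • L g = 0 := by
        rw [← hLsmul]
        exact hL0' _ (by rw [← TensorProduct.smul_tmul']; exact h)
      exact (hιu w hw).smul_eq_zero.1 h1
  obtain ⟨π, hπ⟩ := IsDiscreteValuationRing.exists_irreducible O
  have hπz : ∀ z : M, π • z = 0 → z = 0 := fun z hz => hsocM z fun m hm => by
    rw [(IsDiscreteValuationRing.irreducible_iff_uniformizer π).1 hπ] at hm
    obtain ⟨c, rfl⟩ := Ideal.mem_span_singleton'.1 hm
    rw [mul_smul, hz, smul_zero]
  have hreg : ∀ c : O, c ≠ 0 → ∀ z : M, c • z = 0 → z = 0 := by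
    intro c hc z hz
    obtain ⟨n, u, rfl⟩ := IsDiscreteValuationRing.eq_unit_mul_pow_irreducible hc hπ
    rw [mul_smul, u.isUnit.smul_eq_zero] at hz
    clear hc
    induction n generalizing z with
    | zero => rwa [pow_zero, one_smul] at hz
    | succ n ih => exact hπz z (ih (π • z) (by rwa [smul_smul, ← pow_succ]))
  haveI : Module.IsTorsionFree O M := ⟨fun c hc a b hab => sub_eq_zero.1
    (hreg c hc.ne_zero (a - b) (by rw [smul_sub]; exact sub_eq_zero.2 hab))⟩
  haveI : Module.Free O M := inferInstance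
  -- the rank
  let αM : (Fin r → O) →ₗ[O] M := Fintype.linearCombination O fun i => L (α (Pi.single i 1))
  have hαM : ∀ u, αM (fun i => ι (u i)) = L (α u) := fun u => by
    rw [Fintype.linearCombination_apply]
    conv_rhs => rw [← Finset.univ_sum_single u, map_sum]
    refine (hLsum (fun i => α (Pi.single i 1)) u).symm.trans ?_
    congr 1
    refine Finset.sum_congr rfl fun i _ => ?_
    rw [← map_smul, ← Pi.single_smul, smul_eq_mul, mul_one]
  have hαMinj : Function.Injective αM := by
    rw [injective_iff_map_eq_zero]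
    intro o ho
    obtain ⟨W, hW, u, hu⟩ := hOfam o
    have h1 : L (α u) = 0 := by
      rw [← hαM, show (fun i => ι (u i)) = ι W • o from funext fun i => (hu i).symm, map_smul, ho, smul_zero]
    obtain ⟨w, hw, hwu⟩ := hL0 _ h1
    rw [← map_smul] at hwu
    funext i
    have h2 := (hι0 _).2 ((hP.mem_or_mem (mem_genPrime_of_tmul hD p y hα hwu i)).resolve_left
      fun h => hw (genPrime_le p y h))
    rw [← hu i, mul_eq_zero] at h2
    exact h2.resolve_left (hιu W hW).ne_zero
  obtain ⟨T, hT⟩ := Module.Finite.fg_top (R := D) (M := G)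
  choose dT hdT vT hvT using fun g => hα.1 g
  let dd := ∏ g ∈ T, dT g
  have hdd : ι dd ≠ 0 := fun h => by
    obtain ⟨g, -, hg⟩ := (Ideal.IsPrime.prod_mem_iff (p := genPrime p D)).1 ((hι0 dd).1 h)
    exact hdT g hg
  have hddmem : ∀ g, dd • g ∈ LinearMap.range α := by
    intro g
    have hg : g ∈ Submodule.span D (T : Set G) := hT ▸ trivial
    induction hg using Submodule.span_induction with
    | mem g hg =>
      rw [show dd = (∏ g' ∈ T.erase g, dT g') * dT g from (Finset.prod_erase_mul _ _ hg).symm, mul_smul]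
      exact Submodule.smul_mem _ _ ⟨vT g, hvT g⟩
    | zero => rw [smul_zero]; exact zero_mem _
    | add a b _ _ ha hb => rw [smul_add]; exact add_mem ha hb
    | smul c a _ ha => rw [smul_comm]; exact Submodule.smul_mem _ _ ha
  have hrank : Module.finrank O M = r := by
    apply le_antisymm
    · have hle : LinearMap.range (LinearMap.lsmul O M (ι dd)) ≤ LinearMap.range αM := by
        rintro _ ⟨z, rfl⟩
        obtain ⟨o, -, g, rfl⟩ := hLgen z
        obtain ⟨u, hu⟩ := hddmem g
        rw [LinearMap.lsmul_apply, smul_comm, ← hLsmul, ← hu, ← hαM]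
        exact Submodule.smul_mem _ _ (LinearMap.mem_range_self _ _)
      have h1 := Submodule.finrank_mono hle
      rw [LinearMap.finrank_range_of_inj (fun a b hab => sub_eq_zero.1 (hreg _ hdd (a - b)
        (by rw [smul_sub]; exact sub_eq_zero.2 hab))), LinearMap.finrank_range_of_inj hαMinj, Module.finrank_fin_fun] at h1
      exact h1
    · have h1 := LinearMap.finrank_le_finrank_of_injective hαMinj
      rwa [Module.finrank_fin_fun] at h1
  let b : Module.Basis (Fin r) O M := Module.finBasisOfFinrankEq O M hrank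
  choose o ho gb hgb using fun i => hLgen (b i)
  refine ⟨Fintype.linearCombination D gb, fun z => ?_⟩
  let πβ : G →ₗ[R] G ⧸ LinearMap.range (Fintype.linearCombination D gb) :=
    ((LinearMap.range (Fintype.linearCombination D gb)).mkQ).restrictScalars R
  induction z with
  | zero => exact ⟨1, fun h => Ideal.IsPrime.ne_top inferInstance ((Ideal.eq_top_iff_one y).2 h), smul_zero _⟩
  | add a c ha hc =>
    obtain ⟨wa, hwa, ha'⟩ := ha
    obtain ⟨wc, hwc, hc'⟩ := hc
    exact ⟨wa * wc, fun h => (Ideal.IsPrime.mem_or_mem inferInstance h).elim hwa hwc, by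
      rw [smul_add, mul_smul, mul_smul wa wc c, hc', smul_zero, add_zero, smul_comm, ha', smul_zero]⟩
  | tmul q c =>
    obtain ⟨g, rfl⟩ := Submodule.Quotient.mk_surjective _ q
    obtain ⟨W, hW, u, hu⟩ := hOfam fun i => b.repr (L g) i * o i
    have h1 : L (W • g - Fintype.linearCombination D gb u) = 0 := by
      show Lh (W • g - _) = 0
      rw [map_sub, sub_eq_zero]
      show L (W • g) = L (Fintype.linearCombination D gb u)
      rw [hLsmul, Fintype.linearCombination_apply, hLsum]
      conv_lhs => rw [← b.sum_repr (L g)]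
      rw [Finset.smul_sum]
      refine Finset.sum_congr rfl fun i _ => ?_
      rw [← hu i, mul_smul, mul_smul, ← hgb i]
    obtain ⟨w, hw, hwg⟩ := hL0 _ h1
    refine ⟨w * W, fun h => (Ideal.IsPrime.mem_or_mem inferInstance h).elim hw hW, ?_⟩
    have h2 := congrArg (πβ.rTensor p.ResidueField) (tmul_eq_zero_of_tmul_one p hwg c)
    rw [map_zero, LinearMap.rTensor_tmul, smul_sub, smul_smul, ← map_smul (Fintype.linearCombination D gb)] at h2
    rw [TensorProduct.smul_tmul', ← Submodule.Quotient.mk_smul]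
    refine Eq.trans ?_ h2
    congr 1
    show _ = Submodule.Quotient.mk _
    rw [Submodule.Quotient.mk_sub, (Submodule.Quotient.mk_eq_zero _).2 (LinearMap.mem_range_self _ _), sub_zero]

end Groth.Agent.Lib.RG.Special
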