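import Groth.Agent.Lib.RG.Reduce
import Groth.Agent.Lib.RG.Below
import Groth.Agent.Lib.RG.Special

/-!
# The induction along dévissages: finite presentation and flatness at a point
-/

set_option autoImplicit false
set_option linter.style.haveILetI false

universe u

open scoped TensorProduct

attribute [local instance] Algebra.TensorProduct.rightAlgebra

namespace Groth.Agent.Lib.RG.Induct

open Engine StepModel FibrePoint Below DevTools

section Maps

variable {D : Type u} [CommRing D] (P : Ideal D) [P.IsPrime] {F N : Type u} [AddCommGroup F] [Module D F]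
  [AddCommGroup N] [Module D N] (α : F →ₗ[D] N)

theorem injective_map_of_killed (h : ∀ v, α v = 0 → ∃ d, d ∉ P ∧ d • v = 0) :
    Function.Injective (LocalizedModule.map P.primeCompl α) := by
  rw [injective_iff_map_eq_zero]
  intro z hz
  induction z using LocalizedModule.induction_on with
  | h v w =>
    rw [LocalizedModule.map_mk, ← LocalizedModule.zero_mk w, LocalizedModule.mk_eq] at hz
    obtain ⟨c, hc⟩ := hz
    simp only [smul_zero, Submonoid.smul_def, smul_smul] at hc
    rw [← map_smul] at hc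
    obtain ⟨d, hd, hdv⟩ := h _ hc
    rw [← LocalizedModule.zero_mk w, LocalizedModule.mk_eq]
    refine ⟨⟨d, hd⟩ * c, ?_⟩
    simp only [smul_zero, Submonoid.smul_def, Submonoid.coe_mul, smul_smul]
    rw [mul_assoc, mul_smul, hdv]

theorem surjective_map_of_killed (h : ∀ g, ∃ d, d ∉ P ∧ d • g ∈ LinearMap.range α) :
    Function.Surjective (LocalizedModule.map P.primeCompl α) := by
  intro z
  induction z using LocalizedModule.induction_on with
  | h g w =>
    obtain ⟨d, hd, v, hv⟩ := h g
    refine ⟨LocalizedModule.mk v (⟨d, hd⟩ * w), ?_⟩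
    rw [LocalizedModule.map_mk, hv, LocalizedModule.mk_eq]
    exact ⟨1, by simp only [one_smul, Submonoid.smul_def, Submonoid.coe_mul, smul_smul, mul_comm]⟩

theorem killed_of_injective_map (h : Function.Injective (LocalizedModule.map P.primeCompl α)) (v : F)
    (hv : α v = 0) : ∃ d, d ∉ P ∧ d • v = 0 := by
  have h0 : LocalizedModule.mk v (1 : P.primeCompl) = 0 := h (by
    rw [LocalizedModule.map_mk, map_zero, hv, LocalizedModule.zero_mk])
  rw [← LocalizedModule.zero_mk (1 : P.primeCompl), LocalizedModule.mk_eq] at h0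
  obtain ⟨c, hc⟩ := h0
  simp only [one_smul, smul_zero, Submonoid.smul_def] at hc
  exact ⟨c, c.2, hc⟩

/-- A map between the same modules surjective where a bijective one exists is bijective there. -/
theorem bijAt_of_surjective [Module.Finite D N] {r : ℕ} (α₀ : (Fin r → D) →ₗ[D] N) (β : (Fin r → D) →ₗ[D] N)
    (hα : BijAt P α₀) (hβ : ∀ g, ∃ d, d ∉ P ∧ d • g ∈ LinearMap.range β) : BijAt P β := by
  refine ⟨hβ, fun v hv => killed_of_injective_map P β ?_ v hv⟩
  let e := LinearEquiv.ofBijective (LocalizedModule.map P.primeCompl α₀)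
    ⟨injective_map_of_killed P α₀ hα.2, surjective_map_of_killed P α₀ hα.1⟩
  haveI : Module.Finite (Localization P.primeCompl) (LocalizedModule P.primeCompl (Fin r → D)) :=
    Module.Finite.of_isLocalizedModule P.primeCompl (LocalizedModule.mkLinearMap P.primeCompl _)
  have h1 : Function.Surjective (e.symm.toLinearMap.comp (LocalizedModule.map P.primeCompl β)) :=
    e.symm.surjective.comp (surjective_map_of_killed P β hβ)
  have h2 := OrzechProperty.injective_of_surjective_endomorphism _ h1
  exact fun a b hab => h2 (by simp only [LinearMap.comp_apply, hab])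

end Maps

section Step

variable {R D : Type u} [CommRing R] [CommRing D] [Algebra R D] [Algebra.FinitePresentation R D] [Module.Flat R D]
  (hD : GIF R D)
  (p : Ideal R) [p.IsPrime] (y : Ideal D) [y.IsPrime] [y.LiesOver p]
  {G : Type u} [AddCommGroup G] [Module D G] [Module R G] [IsScalarTower R D G] [Module.Finite D G]

include hD y

omit [Module.Finite D G] in
theorem injAt {r : ℕ} {α : (Fin r → D) →ₗ[D] G} (hα : BijAt (genPrime p D) α) (v : Fin r → D) (hv : α v = 0) :
    ∃ w, w ∉ y ∧ w • v = 0 := by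
  haveI := (genPrime_isPrime p hD y).1
  haveI := (genPrime_isPrime p hD y).2
  obtain ⟨_, ⟨s, hs, rfl⟩, hsv⟩ := ui_of_bijAt p hD (genPrime p D) (fun Q _ _ => genPrime_le p Q) α hα
    R (v ⊗ₜ[R] (1 : R)) (by rw [LinearMap.rTensor_tmul, LinearMap.coe_restrictScalars, hv, TensorProduct.zero_tmul])
  refine ⟨algebraMap R D s, fun h => hs (by rw [y.over_def p]; exact h), ?_⟩
  have h1 := congrArg (TensorProduct.rid R (Fin r → D)) hsv
  rwa [map_zero, TensorProduct.smul_tmul', TensorProduct.rid_tmul, one_smul] at h1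

theorem flat_coker {r : ℕ} {α : (Fin r → D) →ₗ[D] G} (hα : BijAt (genPrime p D) α) (Q : Ideal D) [Q.IsPrime]
    [Q.LiesOver p] (h : Module.Flat R (LocalizedModule Q.primeCompl G)) :
    Module.Flat R (LocalizedModule Q.primeCompl (G ⧸ LinearMap.range α)) := by
  haveI := (genPrime_isPrime p hD y).1
  haveI := (genPrime_isPrime p hD y).2
  haveI := h
  refine FlatStep.flat_coker_localized α Q.primeCompl fun M _ _ z hz => ?_
  obtain ⟨_, ⟨s, hs, rfl⟩, hsz⟩ :=
    ui_of_bijAt p hD (genPrime p D) (fun Q _ _ => genPrime_le p Q) α hα M z hz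
  exact ⟨_, fun h => hs (by rw [Q.over_def p]; exact h), hsz⟩

omit [Module.Finite D G] in
theorem flat_of_flat_coker {r : ℕ} {α : (Fin r → D) →ₗ[D] G} (hα : BijAt (genPrime p D) α)
    (h : Module.Flat R (LocalizedModule y.primeCompl (G ⧸ LinearMap.range α))) :
    Module.Flat R (LocalizedModule y.primeCompl G) := by
  haveI := h
  haveI : Module.Flat R (Fin r → D) := Module.Flat.trans R D (Fin r → D)
  haveI : Module.Flat R (LocalizedModule y.primeCompl (Fin r → D)) := by
    refine (H19.FlatLocus.flat_iff_killed y.primeCompl (LocalizedModule.mkLinearMap y.primeCompl _)).2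
      fun J ξ hξ => ⟨1, y.primeCompl.one_mem, ?_⟩
    rw [one_smul]
    exact (Module.Flat.lTensor_preserves_injective_linearMap J.subtype J.injective_subtype) (hξ.trans (map_zero _).symm)
  exact FlatStep.flat_target α y.primeCompl (injective_map_of_killed y α fun v hv => injAt hD p y hα v hv)

theorem isDomain_fiber : IsDomain (p.Fiber D) := by
  haveI : NoZeroDivisors (p.Fiber D) := hD p.ResidueField
  haveI := (FlatCA.WeakAss.fiberIdeal_prime p y).1
  haveI : Nontrivial (p.Fiber D) :=
    ⟨⟨0, 1, fun h => Ideal.IsPrime.ne_top (inferInstance : (_root_.FlatCA.fiberIdeal p y).IsPrime)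
      ((Ideal.eq_top_iff_one _).2 (h ▸ zero_mem _))⟩⟩
  exact NoZeroDivisors.to_isDomain _

theorem dimLT_coker {m : ℕ} (hdim : ringKrullDim (p.Fiber D) ≤ m) {r : ℕ} {α : (Fin r → D) →ₗ[D] G}
    (hα : BijAt (genPrime p D) α) : DimLT p y (G ⧸ LinearMap.range α) m := by
  classical
  haveI := (genPrime_isPrime p hD y).1
  haveI := isDomain_fiber hD p y
  obtain ⟨T, hT⟩ := Module.Finite.fg_top (R := D) (M := G)
  choose dT hdT hmem using fun g => hα.1 g
  refine dimLT_of_killed hdim (∏ g ∈ T, dT g) (fun h => ?_) fun n => ?_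
  · obtain ⟨g, -, hg⟩ := (Ideal.IsPrime.prod_mem_iff (p := genPrime p D)).1 (show _ ∈ genPrime p D from h)
    exact hdT g hg
  · obtain ⟨g, rfl⟩ := Submodule.Quotient.mk_surjective _ n
    rw [← Submodule.Quotient.mk_smul, Submodule.Quotient.mk_eq_zero]
    have hg : g ∈ Submodule.span D (T : Set G) := hT ▸ trivial
    induction hg using Submodule.span_induction with
    | mem g hg =>
      rw [← Finset.prod_erase_mul _ _ (Finset.mem_coe.1 hg), mul_smul]
      exact Submodule.smul_mem _ _ (hmem g)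
    | zero => rw [smul_zero]; exact zero_mem _
    | add a b _ _ ha hb => rw [smul_add]; exact add_mem ha hb
    | smul c a _ ha => rw [smul_comm]; exact Submodule.smul_mem _ _ ha

theorem exists_step_map (h : Module.Flat R (LocalizedModule y.primeCompl G)) :
    ∃ (r : ℕ) (α : (Fin r → D) →ₗ[D] G), BijAt (genPrime p D) α := by
  haveI := (genPrime_isPrime p hD y).1
  haveI := (genPrime_isPrime p hD y).2
  exact exists_bijAt p hD (genPrime p D) (fun Q _ _ => genPrime_le p Q) (FlatStep.flat_of_le (genPrime_le p y) h)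

end Step

/-- A flat point of a finite module over an algebra of finite type is a point of finite presentation. -/
theorem fpAt_aux (n : ℕ) : ∀ (R S : Type u) [CommRing R] [CommRing S] [Algebra R S] [Algebra.FiniteType R S]
    (N : Type u) [AddCommGroup N] [Module S N] [Module R N] [IsScalarTower R S N] [Module.Finite S N]
    (p : Ideal R) [p.IsPrime] (q : Ideal S) [q.IsPrime] [q.LiesOver p], DimLT p q N n →
    Module.Flat R (LocalizedModule q.primeCompl N) → FPAt q N := by
  induction n with
  | zero =>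
    intro R S _ _ _ _ N _ _ _ _ _ p _ q _ _ h _
    exact fpAt_of_zeroAt (zeroAt_of_dimLT_zero h)
  | succ n ih =>
    intro R S _ _ _ _ N _ _ _ _ _ p _ q _ _ h hflat
    rcases zeroAt_or_exists_dim h with h0 | ⟨x, hx, m, hxq, hmn, hdimm⟩
    · exact fpAt_of_zeroAt h0
    obtain ⟨E⟩ := ElemExist.exists_elemDevissage N p q m x hxq hx hdimm
    obtain ⟨d⟩ := Reduce.nonempty_data N p q m E
    haveI := d.finite
    haveI := d.smooth
    have hy := d.flat_iff.1 hflat
    obtain ⟨r, α, hα⟩ := exists_step_map d.gif d.p' d.y hy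
    refine d.fp (FPAt.extension d.y α (fun v hv => injAt d.gif d.p' d.y hα v hv) ?_)
    exact ih d.R' d.D _ d.p' d.y ((dimLT_coker d.gif d.p' d.y d.dim hα).mono hmn)
      (flat_coker d.gif d.p' d.y hα d.y hy)

set_option maxHeartbeats 1600000 in
/-- Flatness is decided at the points associated to the fibre. -/
theorem flat_aux (n : ℕ) : ∀ (R S : Type u) [CommRing R] [CommRing S] [Algebra R S] [Algebra.FiniteType R S]
    (N : Type u) [AddCommGroup N] [Module S N] [Module R N] [IsScalarTower R S N] [Module.Finite S N]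
    (p : Ideal R) [p.IsPrime] (q : Ideal S) [q.IsPrime] [q.LiesOver p], DimLT p q N n →
    (∀ q₀ : Ideal S, ∀ _ : q₀.IsPrime, q₀ ≤ q → q₀.LiesOver p → ¬ NzdAt p q₀ N →
      Module.Flat R (LocalizedModule q₀.primeCompl N)) →
    Module.Flat R (LocalizedModule q.primeCompl N) := by
  induction n with
  | zero =>
    intro R S _ _ _ _ N _ _ _ _ _ p _ q _ _ h _
    exact flat_of_zeroAt (zeroAt_of_dimLT_zero h)
  | succ n ih =>
    intro R S _ _ _ _ N _ _ _ _ _ p _ q _ _ h H
    haveI : IsNoetherianRing (p.Fiber S) := Algebra.FiniteType.isNoetherianRing p.ResidueField _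
    suffices key : ∀ (k : ℕ∞) (q : Ideal S) [q.IsPrime] [q.LiesOver p], (_root_.FlatCA.fiberIdeal p q).height = k →
        DimLT p q N (n + 1) → (∀ q₀ : Ideal S, ∀ _ : q₀.IsPrime, q₀ ≤ q → q₀.LiesOver p → ¬ NzdAt p q₀ N →
        Module.Flat R (LocalizedModule q₀.primeCompl N)) → Module.Flat R (LocalizedModule q.primeCompl N) from
      key _ q rfl h H
    intro k
    induction k using WellFoundedLT.induction with
    | ind k hk =>
    intro q _ _ hqk h H
    have hlt : ∀ q₀ : Ideal S, ∀ _ : q₀.IsPrime, q₀ < q → q₀.LiesOver p →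
        Module.Flat R (LocalizedModule q₀.primeCompl N) := by
      intro q₀ _ hq₀ hq₀p
      obtain ⟨hpr₀, hc₀⟩ := FlatCA.WeakAss.fiberIdeal_prime p q₀
      obtain ⟨hpr, hc⟩ := FlatCA.WeakAss.fiberIdeal_prime p q
      haveI := hpr₀
      haveI := hpr
      refine hk _ ?_ q₀ rfl (h.of_le hq₀.le) fun q₁ hq₁ hle hq₁p hn => H q₁ hq₁ (hle.trans hq₀.le) hq₁p hn
      rw [← hqk]
      refine Ideal.height_strict_mono_of_isPrime (lt_of_le_of_ne (Ideal.map_mono hq₀.le) fun heq => hq₀.ne ?_)
      rw [← hc₀, heq, hc]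
    rcases zeroAt_or_exists_dim h with h0 | ⟨x, hx, m, hxq, hmn, hdimm⟩
    · exact flat_of_zeroAt h0
    obtain ⟨E⟩ := ElemExist.exists_elemDevissage N p q m x hxq hx hdimm
    obtain ⟨d⟩ := Reduce.nonempty_data N p q m E
    haveI := d.finite
    haveI := d.smooth
    by_cases hzero : ZeroAt d.p' d.y d.G
    · exact flat_of_zeroAt (d.zeroAt hzero)
    by_cases hsoc : SocAt d.p' d.y d.G
    · exact H q inferInstance le_rfl inferInstance fun hn => d.not_socAt hn hsoc
    haveI hP := (genPrime_isPrime d.p' d.gif d.y).1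
    haveI hPp := (genPrime_isPrime d.p' d.gif d.y).2
    have hy : ¬ d.y ≤ genPrime d.p' d.D := by
      intro hle
      obtain ⟨ξ, hξ⟩ := not_forall.1 hzero
      exact hsoc ⟨ξ, fun a ha => ⟨1, fun h1 => Ideal.IsPrime.ne_top inferInstance ((Ideal.eq_top_iff_one _).2 h1),
        by rw [one_smul, Special.smul_eq_zero_of_mem_genPrime d.p' (hle ha) ξ]⟩,
        fun w hw hwξ => hξ ⟨w, hw, hwξ⟩⟩
    have hPy : genPrime d.p' d.D < d.y := lt_of_le_of_ne (genPrime_le d.p' d.y) fun h => hy h.ge
    have hbelow := d.flat_below hlt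
    obtain ⟨r, α, hα⟩ := exists_step_map d.gif d.p' (genPrime d.p' d.D) (hbelow _ hP hPy hPp)
    rw [d.flat_iff]
    by_cases hC : SocAt d.p' d.y (d.G ⧸ LinearMap.range α)
    · obtain ⟨β, hβ⟩ := Special.exists_generators d.gif d.p' d.y α hα hy hsoc hC
      have hsurj : ∀ g, ∃ a, a ∉ genPrime d.p' d.D ∧ a • g ∈ LinearMap.range β := fun g => by
        obtain ⟨w, hw, hwg⟩ := eq_zero_of_zeroAt hβ (Submodule.Quotient.mk g)
        exact ⟨w, fun h => hw (hPy.le h), by rwa [← Submodule.Quotient.mk_smul, Submodule.Quotient.mk_eq_zero] at hwg⟩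
      exact flat_of_flat_coker d.gif d.p' d.y (bijAt_of_surjective _ α β hα hsurj) (flat_of_zeroAt hβ)
    · refine flat_of_flat_coker d.gif d.p' d.y hα (ih d.R' d.D _ d.p' d.y
        ((dimLT_coker d.gif d.p' d.y d.dim hα).mono hmn) fun Q hQ hQy hQp hn => ?_)
      rcases hQy.eq_or_lt with rfl | hQlt
      · exact absurd (socAt_of_not_nzdAt hn) hC
      · exact flat_coker d.gif d.p' d.y hα Q (hbelow Q hQ hQlt hQp)

section Final

variable {R S : Type u} [CommRing R] [CommRing S] [Algebra R S] [Algebra.FiniteType R S]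
  {N : Type u} [AddCommGroup N] [Module S N] [Module R N] [IsScalarTower R S N] [Module.Finite S N]
  (p : Ideal R) [p.IsPrime] (q : Ideal S) [q.IsPrime] [q.LiesOver p]

theorem exists_dimLT : ∃ n : ℕ, DimLT p q N n := by
  obtain ⟨n, hn⟩ : ∃ n : ℕ, ringKrullDim (p.Fiber S) ≤ n := by
    obtain ⟨n, f, hf⟩ := Algebra.FiniteType.iff_quotient_mvPolynomial''.1
      (inferInstance : Algebra.FiniteType p.ResidueField (p.Fiber S))
    refine ⟨n, (ringKrullDim_le_of_surjective f.toRingHom hf).trans ?_⟩
    rw [MvPolynomial.ringKrullDim_of_isNoetherianRing, ringKrullDim_eq_zero_of_field]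
    simp
  refine ⟨n + 1, fun x _ hx => lt_of_le_of_lt (b := (n : WithBot ℕ∞)) ?_ (by exact_mod_cast Nat.lt_succ_self n)⟩
  refine (FibreDim.Basic.localDim_le_topologicalKrullDim _).trans ((topologicalKrullDim_subspace_le _ _).trans ?_)
  rw [PrimeSpectrum.topologicalKrullDim_eq_ringKrullDim]
  exact hn

include p in
theorem fpAt_of_flat (h : Module.Flat R (LocalizedModule q.primeCompl N)) : FPAt q N := by
  obtain ⟨n, hn⟩ := exists_dimLT (N := N) p q
  exact fpAt_aux n R S N p q hn h

theorem flat_of_flat_at_soc (h : ∀ q₀ : Ideal S, ∀ _ : q₀.IsPrime, q₀ ≤ q → q₀.LiesOver p → SocAt p q₀ N →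
    Module.Flat R (LocalizedModule q₀.primeCompl N)) : Module.Flat R (LocalizedModule q.primeCompl N) := by
  obtain ⟨n, hn⟩ := exists_dimLT (N := N) p q
  exact flat_aux n R S N p q hn fun q₀ h₁ h₂ h₃ h₄ =>
    haveI := h₃
    h q₀ h₁ h₂ h₃ (socAt_of_not_nzdAt h₄)

end Final

end Groth.Agent.Lib.RG.Induct
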