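import Groth.Agent.Lib.RG.DimFlat
import Groth.Agent.Lib.RG.Induct
import Groth.Agent.Lib.RG57.DevissageProj
import Groth.Agent.H21.Devissage.BaseChange

/-!
# Flatness in large dimensions along a complete dévissage, after base change
-/

set_option autoImplicit false
set_option linter.style.haveILetI false

universe u

open scoped TensorProduct

attribute [local instance] Algebra.TensorProduct.rightAlgebra

namespace Groth.Agent.Lib.RG.DimChain

open Engine StepModel DimFlat

/-- Flatness in dimensions at least `n` over the basic open set of `g`. -/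
def FlatGE (n : ℕ) {R : Type u} [CommRing R] (g : R) (D : Type u) [CommRing D] [Algebra R D] (G : Type u)
    [AddCommGroup G] [Module D G] [Module R G] [IsScalarTower R D G] : Prop :=
  ∀ (Q : Ideal D) [Q.IsPrime], algebraMap R D g ∉ Q →
    (n : Cardinal.{u}) ≤ tdeg (Q.comap (algebraMap R D)) Q ⟨rfl⟩ → Module.Flat R (LocalizedModule Q.primeCompl G)

section General

variable {R D : Type u} [CommRing R] [CommRing D] [Algebra R D] {G : Type u} [AddCommGroup G] [Module D G]
  [Module R G] [IsScalarTower R D G] {n : ℕ} {g : R}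

theorem flatGE_iff_of_isUnit (hg : IsUnit g) : FlatGE n g D G ↔ _root_.FlatCA.FlatInDimGE n R D G := by
  rw [flatInDimGE_iff]
  exact ⟨fun h Q _ hn => h Q (fun hm => Ideal.IsPrime.ne_top inferInstance (Ideal.eq_top_of_isUnit_mem _ hm (hg.map _))) hn,
    fun h Q _ _ hn => h Q hn⟩

theorem flatGE_of_flatInDimGE (h : _root_.FlatCA.FlatInDimGE n R D G) : FlatGE n g D G :=
  fun Q _ _ hn => flatInDimGE_iff.1 h Q hn

theorem flatGE_integral {C : Type u} [CommRing C] [Algebra R C] [Algebra D C] [IsScalarTower R D C]
    [Algebra.IsIntegral D C] {H : Type u} [AddCommGroup H] [Module C H] [Module D H] [IsScalarTower D C H]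
    [Module R H] [IsScalarTower R D H] [IsScalarTower R C H] : FlatGE n g D H ↔ FlatGE n g C H := by
  constructor
  · intro h Q _ hgQ hn
    let y := Q.comap (algebraMap D C)
    have hy : y.LiesOver (Q.comap (algebraMap R C)) := ⟨by
      rw [Ideal.under_def, Ideal.comap_comap, ← IsScalarTower.algebraMap_eq]⟩
    refine DevChain.flatAt_of_comap Q y rfl (h y (fun hm => hgQ ?_) ?_)
    · rw [IsScalarTower.algebraMap_apply R D C]
      exact hm
    · rw [tdeg_eq (Q.comap (algebraMap R C)) y Q hy ⟨rfl⟩ ⟨rfl⟩] at hn
      exact le_of_le_of_eq hn (tdeg_congr hy.over y hy ⟨rfl⟩)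
  · intro h y _ hgy hn
    refine DevTools.flatAt_of_forall_over (C := C) y fun z hz hzy => ?_
    haveI := hz
    have hzt : z.LiesOver (y.comap (algebraMap R D)) := ⟨by
      rw [Ideal.under_def, IsScalarTower.algebraMap_eq R D C, ← Ideal.comap_comap, hzy]⟩
    rw [← tdeg_eq (y.comap (algebraMap R D)) y z ⟨rfl⟩ hzt ⟨hzy.symm⟩] at hn
    refine h z (fun hm => hgy ?_) (le_of_le_of_eq hn (tdeg_congr hzt.over z hzt ⟨rfl⟩))
    rw [← hzy, Ideal.mem_comap, ← IsScalarTower.algebraMap_apply]
    exact hm

theorem flat_congr {H : Type u} [AddCommGroup H] [Module D H] [Module R H] [IsScalarTower R D H]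
    (e : G ≃ₗ[D] H) (Q : Ideal D) [Q.IsPrime] : Module.Flat R (LocalizedModule Q.primeCompl G) ↔
      Module.Flat R (LocalizedModule Q.primeCompl H) := by
  let eQ : LocalizedModule Q.primeCompl G ≃ₗ[Localization Q.primeCompl] LocalizedModule Q.primeCompl H :=
    IsLocalizedModule.mapEquiv Q.primeCompl (LocalizedModule.mkLinearMap Q.primeCompl G)
      (LocalizedModule.mkLinearMap Q.primeCompl H) (Localization Q.primeCompl) e
  exact ⟨fun h => Module.Flat.of_linearEquiv ((eQ.restrictScalars R).symm),
    fun h => Module.Flat.of_linearEquiv (eQ.restrictScalars R)⟩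

theorem flatGE_congr {H : Type u} [AddCommGroup H] [Module D H] [Module R H] [IsScalarTower R D H]
    (e : G ≃ₗ[D] H) : FlatGE n g D G ↔ FlatGE n g D H :=
  forall_congr' fun Q => forall_congr' fun _ => forall_congr' fun _ => forall_congr' fun _ => flat_congr e Q

end General

section BaseChange

variable {A : Type u} [CommRing A] (A' : Type u) [CommRing A'] [Algebra A A']

/-- Flatness in dimensions at least `n` of the base change to `A'`, over the basic open set of `g`. -/
def Phi (n : ℕ) (g : A) (B : Type u) [CommRing B] [Algebra A B] (M : Type u) [AddCommGroup M] [Module B M] : Prop :=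
  FlatGE n (algebraMap A A' g) (A' ⊗[A] B) ((A' ⊗[A] B) ⊗[B] M)

variable {A'} {n : ℕ} {g : A} {B : Type u} [CommRing B] [Algebra A B] {M : Type u} [AddCommGroup M] [Module B M]

theorem phi_congr {M' : Type u} [AddCommGroup M'] [Module B M'] (e : M ≃ₗ[B] M') :
    Phi A' n g B M ↔ Phi A' n g B M' :=
  flatGE_congr (TensorProduct.AlgebraTensorModule.congr (LinearEquiv.refl (A' ⊗[A] B) (A' ⊗[A] B)) e)

theorem phi_subsingleton [Subsingleton M] : Phi A' n g B M := by
  intro Q _ _ _
  haveI : Subsingleton ((A' ⊗[A] B) ⊗[B] M) := inferInstance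
  infer_instance

theorem phi_finite {C : Type u} [CommRing C] [Algebra A C] [Algebra B C] [IsScalarTower A B C] [Module.Finite B C]
    {M : Type u} [AddCommGroup M] [Module C M] [Module B M] [IsScalarTower B C M] :
    Phi A' n g C M ↔ Phi A' n g B M := by
  let D := A' ⊗[A] B
  let E := A' ⊗[A] C
  let f : D →ₐ[A'] E := Algebra.TensorProduct.map (AlgHom.id A' A') (IsScalarTower.toAlgHom A B C)
  letI aDE : Algebra D E := f.toRingHom.toAlgebra
  haveI : IsScalarTower A' D E := IsScalarTower.of_algebraMap_eq fun a => (f.commutes a).symm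
  letI aBE : Algebra B E := ((algebraMap C E).comp (algebraMap B C)).toAlgebra
  haveI : IsScalarTower B C E := IsScalarTower.of_algebraMap_eq (R := B) (S := C) (A := E) fun _ => rfl
  haveI : IsScalarTower B D E := IsScalarTower.of_algebraMap_eq (R := B) (S := D) (A := E) fun b => by
    show (1 : A') ⊗ₜ[A] algebraMap B C b = f ((1 : A') ⊗ₜ[A] b)
    exact (Algebra.TensorProduct.map_tmul (AlgHom.id A' A') (IsScalarTower.toAlgHom A B C) 1 b).symm
  haveI : IsScalarTower A D E := IsScalarTower.to₁₃₄ A A' D E
  haveI hP : Algebra.IsPushout B C D E :=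
    (Algebra.IsPushout.comp_iff (R := A) (S := B) (R' := A') (S' := D) (T := C) (T' := E)).1 inferInstance
  haveI : Algebra.IsPushout B D C E := hP.symm
  haveI : Module.Finite D E := Module.Finite.equiv (Algebra.IsPushout.equiv B D C E).toLinearEquiv
  let e : E ⊗[C] M ≃ₗ[D] D ⊗[B] M := Algebra.IsPushout.cancelBaseChange B D C E M
  exact (flatGE_integral (D := D) (C := E) (H := E ⊗[C] M)).symm.trans (flatGE_congr e)

theorem phi_model {B' N' : Type u} [CommRing B'] [Algebra B B'] [Algebra A' B'] [Algebra A B'] [IsScalarTower A B B']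
    [IsScalarTower A A' B'] [h : Algebra.IsPushout A B A' B'] [AddCommGroup N'] [Module B' N'] [Module B N']
    [IsScalarTower B B' N'] [Module A' N'] [IsScalarTower A' B' N'] (φ : M →ₗ[B] N') (hφ : IsBaseChange B' φ) :
    FlatGE n (algebraMap A A' g) B' N' ↔ Phi A' n g B M := by
  let D := A' ⊗[A] B
  haveI : Algebra.IsPushout A A' B B' := h.symm
  let e : D ≃ₐ[A'] B' := Algebra.IsPushout.equiv A A' B B'
  letI aDB : Algebra D B' := e.toAlgHom.toRingHom.toAlgebra
  haveI : IsScalarTower A' D B' := IsScalarTower.of_algebraMap_eq fun a => (e.commutes a).symm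
  haveI : IsScalarTower B D B' := IsScalarTower.of_algebraMap_eq (R := B) (S := D) (A := B') fun b => by
    show algebraMap B B' b = e ((1 : A') ⊗ₜ[A] b)
    exact (by rw [Algebra.IsPushout.equiv_tmul, map_one, one_mul] : e ((1 : A') ⊗ₜ[A] b) = algebraMap B B' b).symm
  haveI : Module.Finite D B' := Module.Finite.of_surjective (Algebra.linearMap D B') e.surjective
  letI : Module D N' := Module.compHom N' (algebraMap D B')
  haveI : IsScalarTower D B' N' := IsScalarTower.of_algebraMap_smul fun _ _ => rfl
  haveI : IsScalarTower A' D N' := IsScalarTower.of_algebraMap_smul fun a x => by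
    show algebraMap D B' (algebraMap A' D a) • x = a • x
    rw [← IsScalarTower.algebraMap_apply, algebraMap_smul]
  haveI : IsScalarTower B D N' := IsScalarTower.of_algebraMap_smul fun b x => by
    show algebraMap D B' (algebraMap B D b) • x = b • x
    rw [← IsScalarTower.algebraMap_apply, algebraMap_smul]
  let eB : D ≃ₗ[B] B' := LinearEquiv.ofBijective (IsScalarTower.toAlgHom B D B').toLinearMap e.bijective
  let ψ : D ⊗[B] M →ₗ[D] N' := φ.liftBaseChange D
  have hψ : Function.Bijective ψ := by
    have : ⇑ψ = fun z => hφ.equiv (TensorProduct.congr eB (LinearEquiv.refl B M) z) := by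
      funext z
      induction z with
      | zero => simp
      | add a b ha hb => simp only [map_add, ha, hb]
      | tmul d m =>
        simp only [ψ, LinearMap.liftBaseChange_tmul, TensorProduct.congr_tmul, LinearEquiv.refl_apply, IsBaseChange.equiv_tmul]
        rfl
    rw [this]
    exact hφ.equiv.bijective.comp (LinearEquiv.bijective _)
  exact (flatGE_integral (D := D) (C := B') (H := N')).symm.trans (flatGE_congr (LinearEquiv.ofBijective ψ hψ)).symm

theorem phi_self [Module A M] [IsScalarTower A B M] : FlatGE n g B M ↔ Phi A n g B M := by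
  haveI : Algebra.IsPushout A B A B := ⟨IsBaseChange.linearMap A B⟩
  exact phi_model (A := A) (B := B) (A' := A) (g := g) (n := n) (B' := B) LinearMap.id (IsBaseChange.of_equiv (TensorProduct.lid B M) fun x => by simp)

end BaseChange

section Step

variable {A B : Type u} [CommRing A] [CommRing B] [Algebra A B] [Algebra.Smooth A B]
  (hB : _root_.FlatCA.GeomIrredFibres A B)
  {M : Type u} [AddCommGroup M] [Module B M] [Module A M] [IsScalarTower A B M] [Module.FinitePresentation B M]

include hB

theorem liesOver_gen (s : Ideal A) [s.IsPrime] :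
    (s.map (algebraMap A B)).IsPrime ∧ (s.map (algebraMap A B)).LiesOver s := by
  haveI := Fibres.isDomain_of_smooth_of_geomIrred hB s.ResidueField
  rw [GoodDev.map_eq_genPrime]
  refine ⟨RingHom.ker_isPrime _, ⟨?_⟩⟩
  ext a
  show _ ↔ Algebra.TensorProduct.includeRight (R := A) (A := s.ResidueField) (algebraMap A B a) = 0
  rw [AlgHom.commutes, IsScalarTower.algebraMap_apply A s.ResidueField (s.ResidueField ⊗[A] B),
    map_eq_zero_iff _ (RingHom.injective _), Ideal.algebraMap_residueField_eq_zero]

set_option maxHeartbeats 1600000 in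
/-- A step with flat source at the generic point of a fibre does not change flatness at any point over a
neighbourhood of the base point, after any base change. -/
theorem exists_step (s : Ideal A) [s.IsPrime] [(s.map (algebraMap A B)).IsPrime]
    (hflat : Module.Flat A (LocalizedModule (s.map (algebraMap A B)).primeCompl M)) {r : ℕ} (α : (Fin r → B) →ₗ[B] M)
    (hα : Function.Bijective (α.baseChange (s.map (algebraMap A B)).ResidueField)) :
    ∃ g : A, g ∉ s ∧ ∀ g' : A, g ∣ g' → ∀ (A' : Type u) [CommRing A'] [Algebra A A'] (n : ℕ),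
      Phi A' n g' B M ↔ Phi A' n g' B (M ⧸ LinearMap.range α) := by
  classical
  have hgif := Fibres.gif_of_smooth_of_geomIrred hB
  let P := s.map (algebraMap A B)
  haveI : P.LiesOver s := (liesOver_gen hB s).2
  have hP : ∀ Q : Ideal B, ∀ _ : Q.IsPrime, Q.LiesOver s → P ≤ Q := fun Q _ hQ =>
    Ideal.map_le_iff_le_comap.2 (Q.over_def s).le
  have hb := StepLemmas.bijAt_of_residue hgif s P hP hflat α hα
  obtain ⟨h, hhP, hbij⟩ := Module.FinitePresentation.exists_notMem_bijective α P
    (LocalizedModule.mkLinearMap P.primeCompl (Fin r → B)) (LocalizedModule.mkLinearMap P.primeCompl M)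
    (LinearEquiv.ofBijective (LocalizedModule.map P.primeCompl α)
      ⟨Induct.injective_map_of_killed P α hb.2, Induct.surjective_map_of_killed P α hb.1⟩).bijective
  let W := Submonoid.powers h
  have hsur : ∀ m : M, ∃ w ∈ W, w • m ∈ LinearMap.range α := by
    intro m
    obtain ⟨z, hz⟩ := hbij.2 (LocalizedModule.mk m 1)
    induction z using LocalizedModule.induction_on with
    | h v w =>
      rw [LocalizedModule.map_mk, LocalizedModule.mk_eq] at hz
      obtain ⟨c, hc⟩ := hz
      simp only [one_smul, Submonoid.smul_def, smul_smul] at hc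
      exact ⟨_, W.mul_mem c.2 w.2, by rw [← hc, ← map_smul]; exact LinearMap.mem_range_self α _⟩
  let eW : LocalizedModule W (Fin r → B) ≃ₗ[B] LocalizedModule W M :=
    (LinearEquiv.ofBijective (LocalizedModule.map W α) hbij).restrictScalars B
  obtain ⟨β, t, hβt⟩ := Module.FinitePresentation.exists_lift_of_isLocalizedModule W
    (LocalizedModule.mkLinearMap W (Fin r → B)) (eW.symm.toLinearMap.comp (LocalizedModule.mkLinearMap W M))
  have hβ0 : ∀ i : Fin r, ∃ c ∈ W, c • β (α (Pi.single i 1)) = c • ((t : B) • (Pi.single i 1 : Fin r → B)) := by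
    intro i
    have h1 := LinearMap.congr_fun hβt (α (Pi.single i 1))
    have h2 : eW.symm (LocalizedModule.mkLinearMap W M (α (Pi.single i 1))) =
        LocalizedModule.mkLinearMap W (Fin r → B) (Pi.single i 1) := by
      rw [LinearEquiv.symm_apply_eq]
      simp [eW, LocalizedModule.map_mk]
    simp only [LinearMap.comp_apply, LinearMap.smul_apply, LinearEquiv.coe_coe, h2, Submonoid.smul_def] at h1
    rw [← map_smul] at h1
    obtain ⟨c, hc⟩ := (IsLocalizedModule.eq_iff_exists W (LocalizedModule.mkLinearMap W (Fin r → B))).1 h1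
    exact ⟨c, c.2, hc⟩
  choose c hcW hc using hβ0
  let w₀ : B := (∏ i, c i) * t
  have hw₀ : w₀ ∈ W := W.mul_mem (Submonoid.prod_mem _ fun i _ => hcW i) t.2
  let β₀ : M →ₗ[B] (Fin r → B) := (∏ i, c i) • β
  have hβ : ∀ i, β₀ (α (Pi.single i 1)) = w₀ • (Pi.single i 1 : Fin r → B) := fun i => by
    simp only [β₀, w₀, LinearMap.smul_apply, ← Finset.prod_erase_mul _ _ (Finset.mem_univ i), mul_smul, hc i]
  haveI : Module.Projective A B := RG57.ContentProj.projective (fun K _ _ => Fibres.isDomain_of_smooth_of_geomIrred hB K)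
  obtain ⟨ℓ, hℓ⟩ : ∃ ℓ : B →ₗ[A] A, ℓ h ∉ s := by
    obtain ⟨σ, hσ⟩ := Module.projective_def'.1 (inferInstance : Module.Projective A B)
    by_contra hne
    push Not at hne
    refine hhP ?_
    have h1 := LinearMap.congr_fun hσ h
    rw [LinearMap.comp_apply, Finsupp.linearCombination_apply, LinearMap.id_apply] at h1
    rw [← h1]
    refine Ideal.sum_mem _ fun b _ => ?_
    simp only [id_eq]
    rw [Algebra.smul_def]
    exact Ideal.mul_mem_right _ _ (Ideal.mem_map_of_mem _ (hne ((Finsupp.lapply b).comp σ)))
  refine ⟨ℓ h, hℓ, fun g' hg' A' _ _ n => ?_⟩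
  let D := A' ⊗[A] B
  haveI : Algebra.Smooth A' D := inferInstance
  haveI : Module.Flat A' D := inferInstance
  have hD : GIF A' D := Fibres.gif_of_smooth_of_geomIrred (RG57.DevissageProj.geomIrredFibres_baseChange (A := A') hB)
  let g₁ : M →ₗ[B] D ⊗[B] M := TensorProduct.mk B D M 1
  let α' : (Fin r → D) →ₗ[D] D ⊗[B] M := Fintype.linearCombination D fun i => g₁ (α (Pi.single i 1))
  have hα' : ∀ i, α' (Pi.single i 1) = g₁ (α (Pi.single i 1)) := fun i => by
    simp [α', Fintype.linearCombination_apply_single]
  obtain ⟨ec⟩ := GoodDev.nonempty_cokerEquiv g₁ (TensorProduct.isBaseChange B M D) α α' hα'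
  refine forall_congr' fun Q => forall_congr' fun _ => forall_congr' fun hgQ => forall_congr' fun _ => ?_
  let tt := Q.comap (algebraMap A' D)
  haveI : Q.LiesOver tt := ⟨rfl⟩
  have hgt : algebraMap A A' (ℓ h) ∉ tt := by
    obtain ⟨a, rfl⟩ := hg'
    intro hm
    apply hgQ
    rw [map_mul, map_mul]
    exact Q.mul_mem_right _ hm
  have hW : ∀ w ∈ W, algebraMap B D w ∉ genPrime tt D := by
    haveI := (genPrime_isPrime tt hD Q).1
    rintro _ ⟨k, rfl⟩ hm
    rw [map_pow] at hm
    have hm' := Ideal.IsPrime.mem_of_pow_mem inferInstance k hm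
    rw [← GoodDev.map_eq_genPrime] at hm'
    have hm'' : algebraMap B D h ∈ tt • (⊤ : Submodule A' D) := by rw [Ideal.smul_top_eq_map]; exact hm'
    apply hgt
    let ℓ' : D →ₗ[A'] A' := (TensorProduct.AlgebraTensorModule.rid A A' A').toLinearMap.comp (ℓ.baseChange A')
    have h1 : ℓ' (algebraMap B D h) = algebraMap A A' (ℓ h) := by
      show TensorProduct.AlgebraTensorModule.rid A A' A' (ℓ.baseChange A' ((1 : A') ⊗ₜ[A] h)) = _
      simp [Algebra.smul_def]
    rw [← h1]
    refine Submodule.smul_induction_on (p := fun x => ℓ' x ∈ tt) hm'' ?_ ?_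
    · intro a ha x _
      rw [map_smul]
      exact tt.mul_mem_right _ ha
    · intro x y hx hy
      rw [map_add]
      exact add_mem hx hy
  have hbA : BijAt (genPrime tt D) α' := by
    haveI := (genPrime_isPrime tt hD Q).1
    refine ⟨fun z => ?_, fun v hv => ⟨algebraMap B D w₀, hW _ hw₀, ?_⟩⟩
    · induction z with
      | zero => exact ⟨1, fun h1 => Ideal.IsPrime.ne_top inferInstance ((Ideal.eq_top_iff_one _).2 h1), by simp⟩
      | tmul d m =>
        obtain ⟨w, hw, v, hv⟩ := hsur m
        refine ⟨algebraMap B D w, hW w hw, fun i => algebraMap B D (v i) * d, ?_⟩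
        rw [algebraMap_smul, TensorProduct.smul_tmul', TensorProduct.smul_tmul, ← hv]
        conv_rhs => rw [← Finset.univ_sum_single v]
        simp only [α', g₁, Fintype.linearCombination_apply, map_sum, TensorProduct.tmul_sum]
        refine Finset.sum_congr rfl fun i _ => ?_
        rw [show (Pi.single i (v i) : Fin r → B) = v i • Pi.single i 1 by rw [← Pi.single_smul, smul_eq_mul, mul_one],
          map_smul, TensorProduct.mk_apply, TensorProduct.smul_tmul', smul_eq_mul, mul_one, TensorProduct.tmul_smul,
          TensorProduct.smul_tmul', Algebra.smul_def]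
      | add a b ha hb =>
        obtain ⟨wa, hwa, hva⟩ := ha
        obtain ⟨wb, hwb, hvb⟩ := hb
        refine ⟨wa * wb, fun hm => (Ideal.IsPrime.mem_or_mem inferInstance hm).elim hwa hwb, ?_⟩
        rw [smul_add, mul_comm wa wb, mul_smul, mul_comm wb wa, mul_smul]
        exact add_mem (Submodule.smul_mem _ _ hva) (Submodule.smul_mem _ _ hvb)
    · let β' : D ⊗[B] M →ₗ[D] (Fin r → D) :=
        (TensorProduct.piScalarRight B D D (Fin r)).toLinearMap.comp (β₀.baseChange D)
      have hcomp : β'.comp α' = algebraMap B D w₀ • LinearMap.id := by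
        refine (Pi.basisFun D (Fin r)).ext fun i => ?_
        rw [Pi.basisFun_apply, LinearMap.comp_apply, hα']
        simp only [β', g₁, LinearMap.comp_apply, LinearEquiv.coe_coe, TensorProduct.mk_apply, LinearMap.baseChange_tmul,
          hβ, LinearMap.smul_apply, LinearMap.id_apply]
        ext j
        rw [TensorProduct.piScalarRight_apply, TensorProduct.piScalarRightHom_tmul]
        by_cases hj : j = i
        · subst hj; simp [Algebra.smul_def]
        · simp [Pi.single_eq_of_ne hj]
      have h2 := LinearMap.congr_fun hcomp v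
      rw [LinearMap.comp_apply, hv, map_zero] at h2
      exact h2.symm
  rw [flat_congr (R := A') ec Q]
  exact ⟨fun hf => Induct.flat_coker hD tt Q hbA Q hf, fun hf => Induct.flat_of_flat_coker hD tt Q hbA hf⟩

end Step

end Groth.Agent.Lib.RG.DimChain
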