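import Groth.Agent.Lib.RG.ElemExist
import Groth.Agent.Lib.RG.DevTools
import Groth.Agent.Lib.RG.FibrePoint
import Groth.Agent.Lib.RG.Fibres
import Groth.Agent.Lib.FibreDim.Basic
import Groth.Agent.H82.Contract.Dim
import Mathlib.RingTheory.Unramified.LocalStructure

/-!
# What an elementary dévissage reduces to
-/

set_option autoImplicit false
set_option linter.style.haveILetI false

universe u

open scoped TensorProduct
open AlgebraicGeometry CategoryTheory

namespace Groth.Agent.Lib.RG.Reduce

open FibrePoint DevTools Engine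

theorem smooth_of_smoothRelDim {R D : Type u} [CommRing R] [CommRing D] [Algebra R D] {n : ℕ}
    (h : _root_.FlatCA.SmoothRelDim n R D) : Algebra.Smooth R D := by
  haveI : SmoothOfRelativeDimension n (Spec.map (CommRingCat.ofHom (algebraMap R D))) := h
  haveI : Smooth (Spec.map (CommRingCat.ofHom (algebraMap R D))) := SmoothOfRelativeDimension.smooth n _
  exact RingHom.smooth_algebraMap.1 ((HasRingHomProperty.Spec_iff (P := @Smooth) (φ := CommRingCat.ofHom (algebraMap R D))).1 inferInstance)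

theorem fibreDim_le {R D : Type u} [CommRing R] [CommRing D] [Algebra R D] {n : ℕ}
    (h : _root_.FlatCA.SmoothRelDim n R D) (p : Ideal R) [p.IsPrime] : ringKrullDim (p.Fiber D) ≤ n := by
  haveI : SmoothOfRelativeDimension n (Spec.map (CommRingCat.ofHom (algebraMap R D))) := h
  let f := Spec.map (CommRingCat.ofHom (algebraMap R D))
  rw [← PrimeSpectrum.topologicalKrullDim_eq_ringKrullDim]
  let e : ↥(f.base ⁻¹' {(⟨p, inferInstance⟩ : PrimeSpectrum R)}) ≃ₜ PrimeSpectrum (p.Fiber D) :=
    PrimeSpectrum.preimageHomeomorphFiber R D ⟨p, inferInstance⟩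
  rw [← IsHomeomorph.topologicalKrullDim_eq _ e.isHomeomorph]
  refine FibreDim.Basic.topologicalKrullDim_le_of_forall fun z => ?_
  refine (FibreDim.Basic.localDim_preimage f z).trans_le ?_
  exact (H82.Contract.fibreDimAt_of_smoothOfRelativeDimension f z.1).le

/-- The data of a reduction to a module over a smooth algebra with integral fibres. -/
structure Data (R S : Type u) [CommRing R] [CommRing S] [Algebra R S] (N : Type u) [AddCommGroup N]
    [Module S N] [Module R N] [IsScalarTower R S N] (p : Ideal R) [p.IsPrime] (q : Ideal S) [q.IsPrime]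
    (m : ℕ) : Type (u + 1) where
  R' : Type u
  D : Type u
  G : Type u
  [cR' : CommRing R']
  [cD : CommRing D]
  [aD : Algebra R' D]
  [gG : AddCommGroup G]
  [mG : Module D G]
  [mRG : Module R' G]
  [tG : IsScalarTower R' D G]
  p' : Ideal R'
  y : Ideal D
  [hp' : p'.IsPrime]
  [hy : y.IsPrime]
  [hyOver : y.LiesOver p']
  finite : Module.Finite D G
  smooth : Algebra.Smooth R' D
  gif : GIF R' D
  dim : ringKrullDim (p'.Fiber D) ≤ m
  fp : FPAt y G → FPAt q N
  flat_iff : Module.Flat R (LocalizedModule q.primeCompl N) ↔ Module.Flat R' (LocalizedModule y.primeCompl G)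
  not_socAt : NzdAt p q N → ¬ SocAt p' y G
  zeroAt : ZeroAt p' y G → ZeroAt p q N
  flat_below : (∀ q₀ : Ideal S, ∀ _ : q₀.IsPrime, q₀ < q → q₀.LiesOver p →
      Module.Flat R (LocalizedModule q₀.primeCompl N)) →
    ∀ Q : Ideal D, ∀ _ : Q.IsPrime, Q < y → Q.LiesOver p' → Module.Flat R' (LocalizedModule Q.primeCompl G)

attribute [instance] Data.cR' Data.cD Data.aD Data.gG Data.mG Data.mRG Data.tG Data.hp' Data.hy Data.hyOver

set_option maxHeartbeats 1600000 in
theorem nonempty_data {R S : Type u} [CommRing R] [CommRing S] [Algebra R S]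
    (N : Type u) [AddCommGroup N] [Module S N] [Module R N] [IsScalarTower R S N]
    (p : Ideal R) [p.IsPrime] (q : Ideal S) [q.IsPrime] [q.LiesOver p] (m : ℕ)
    (E : _root_.FlatCA.ElemDevissage R S N p q m) : Nonempty (Data R S N p q m) := by
  classical
  obtain ⟨hetR, hp'p, hresR⟩ := E.etaleR
  obtain ⟨hetS, hq'q, -⟩ := E.etaleS
  haveI := hetR
  haveI := hetS
  haveI := hp'p
  haveI := hq'q
  haveI := E.finiteDC
  haveI := E.finiteG
  haveI : Module.Flat R E.R' := inferInstance
  haveI : Module.Flat S E.S' := inferInstance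
  letI mSG : Module S E.G := Module.compHom E.G (algebraMap S E.S')
  haveI : IsScalarTower S E.S' E.G := IsScalarTower.of_algebraMap_smul fun _ _ => rfl
  haveI : IsScalarTower E.R' E.S' E.G := IsScalarTower.of_algebraMap_smul fun r g => by
    rw [← algebraMap_smul E.C (algebraMap E.R' E.S' r) g, ← IsScalarTower.algebraMap_apply, algebraMap_smul]
  letI mRG : Module R E.G := Module.compHom E.G (algebraMap R E.R')
  haveI : IsScalarTower R E.R' E.G := IsScalarTower.of_algebraMap_smul fun _ _ => rfl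
  haveI : IsScalarTower R E.S' E.G := IsScalarTower.of_algebraMap_smul fun r g => by
    rw [IsScalarTower.algebraMap_apply R E.R' E.S', algebraMap_smul]
    exact (algebraMap_smul E.R' r g)
  haveI : IsScalarTower R S E.G := IsScalarTower.of_algebraMap_smul fun r g => by
    rw [← algebraMap_smul E.S' (algebraMap R S r) g, ← IsScalarTower.algebraMap_apply, algebraMap_smul]
  let f : N →ₗ[S] E.G := (E.iso.toLinearMap.restrictScalars S).comp E.f
  have hf : IsBaseChange E.S' f :=
    IsBaseChange.of_equiv (E.isBaseChange.equiv.trans E.iso) fun x => by simp [f, IsBaseChange.equiv_tmul]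
  have hq : E.q'.comap (algebraMap S E.S') = q := (E.q'.over_def q).symm
  haveI : Module.Finite E.D E.G := Module.Finite.trans E.C E.G
  haveI : Algebra.IsIntegral E.D E.C := Algebra.IsIntegral.of_finite _ _
  have hzy : ∀ d, algebraMap E.D E.C d ∈ E.z ↔ d ∈ E.y := fun d => by rw [E.z.over_def E.y]; rfl
  have hzq : ∀ w, algebraMap E.S' E.C w ∈ E.z ↔ w ∈ E.q' := fun w => by rw [E.z.over_def E.q']; rfl
  have hu : ∀ z₁ : Ideal E.C, z₁.IsPrime → z₁.comap (algebraMap E.D E.C) = E.y → z₁ = E.z := fun z₁ hz₁ h =>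
    E.uniq z₁ ⟨h.symm⟩
  -- flatness between the layers
  have hur : ∀ (w : Ideal E.S') [w.IsPrime], Module.Flat R (LocalizedModule w.primeCompl E.G) →
      Module.Flat E.R' (LocalizedModule w.primeCompl E.G) := by
    intro w _ h
    haveI : IsScalarTower R E.R' (LocalizedModule w.primeCompl E.G) :=
      IsScalarTower.of_algebraMap_smul fun r x => by
        rw [← algebraMap_smul E.S' (algebraMap R E.R' r) x, ← IsScalarTower.algebraMap_apply, algebraMap_smul]
    exact Algebra.FormallyUnramified.flat_of_restrictScalars (R := R) (S := E.R') _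
  have hC : ∀ (z₁ : Ideal E.C) [z₁.IsPrime] (w : Ideal E.S') [w.IsPrime], z₁.comap (algebraMap E.S' E.C) = w →
      Module.Flat E.R' (LocalizedModule w.primeCompl E.G) →
      Module.Flat E.R' (LocalizedModule z₁.primeCompl E.G) := by
    rintro z₁ _ _ _ rfl h
    refine (H19.FlatLocus.flat_iff_killed z₁.primeCompl (LocalizedModule.mkLinearMap z₁.primeCompl E.G)).2
      fun J ξ hξ => ?_
    obtain ⟨w, hw, hwξ⟩ := (H19.FlatLocus.flat_iff_killed (z₁.comap (algebraMap E.S' E.C)).primeCompl
      (LocalizedModule.mkLinearMap (z₁.comap (algebraMap E.S' E.C)).primeCompl E.G)).1 h J ξ hξ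
    exact ⟨algebraMap E.S' E.C w, hw, by rw [algebraMap_smul]; exact hwξ⟩
  -- the fibres
  obtain ⟨Φ, hΦs, hΦk⟩ := exists_fibreMap (G := E.G) (S' := E.S') p E.p' hresR
  have hp'q' : ∀ s, s ∉ E.p' → algebraMap E.R' E.S' s ∉ E.q' := fun s hs h =>
    hs (by rw [E.q'.over_def E.p']; exact h)
  refine ⟨{ R' := E.R', D := E.D, G := E.G, p' := E.p', y := E.y, finite := inferInstance,
            smooth := smooth_of_smoothRelDim E.smooth, gif := Fibres.gif_of_geomIntegral E.geomInt,
            dim := fibreDim_le E.smooth E.p', fp := ?_, flat_iff := ⟨?_, ?_⟩, not_socAt := ?_,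
            zeroAt := ?_, flat_below := ?_ }⟩
  · intro h
    have h1 : FPAt E.z E.G := FPAt.of_finite E.y E.z (fun w hw => (hzy w).1 hw) h
    haveI := E.fpC
    have h2 : FPAt E.q' E.G := FPAt.of_surjective E.q' E.surjC
      (Algebra.FinitePresentation.ker_fG_of_surjective (Algebra.ofId E.S' E.C) E.surjC) E.z
      (fun w hw => (hzq w).2 hw) h1
    exact FPAt.descend q E.q' hq f hf h2
  · intro h
    haveI := hC E.z E.q' (E.z.over_def E.q').symm (hur E.q' (flatAt_up f hf q E.q' hq h))
    refine flatAt_of_forall_over (R := E.R') (C := E.C) E.y fun z₁ hz₁ h1 => ?_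
    obtain rfl := hu z₁ hz₁ h1
    infer_instance
  · intro h
    have h1 : Module.Flat E.R' (LocalizedModule E.q'.primeCompl E.G) := by
      refine (H19.FlatLocus.flat_iff_killed E.q'.primeCompl (LocalizedModule.mkLinearMap E.q'.primeCompl E.G)).2
        fun J ξ hξ => ?_
      obtain ⟨d, hd, hdξ⟩ := (H19.FlatLocus.flat_iff_killed E.y.primeCompl
        (LocalizedModule.mkLinearMap E.y.primeCompl E.G)).1 h J ξ hξ
      obtain ⟨w, hw⟩ := E.surjC (algebraMap E.D E.C d)
      refine ⟨w, fun hwq => hd ((hzy d).1 (hw ▸ (hzq w).2 hwq)), ?_⟩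
      rw [← algebraMap_smul E.C w ξ, hw, algebraMap_smul]
      exact hdξ
    haveI := h1
    haveI : IsScalarTower R E.R' (LocalizedModule E.q'.primeCompl E.G) :=
      IsScalarTower.of_algebraMap_smul fun r x => by
        rw [← algebraMap_smul E.S' (algebraMap R E.R' r) x, ← IsScalarTower.algebraMap_apply, algebraMap_smul]
    exact flatAt_down f hf q E.q' hq (Module.Flat.trans R E.R' (LocalizedModule E.q'.primeCompl E.G))
  · rintro ⟨g, hg, hreg⟩ ⟨ξ, hξ, hne⟩
    let g' := algebraMap S E.S' g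
    have h1 : ∀ ζ : E.G ⊗[R] p.ResidueField, g' • ζ = 0 → ∃ w, w ∉ E.q' ∧ w • ζ = 0 := by
      intro ζ hζ
      obtain ⟨η, rfl⟩ := (tensorEquiv f hf p.ResidueField).symm.surjective ζ
      rw [← map_smul, LinearEquiv.map_eq_zero_iff] at hζ
      have hsm : ∀ η, g' • η = (LinearMap.lsmul S (N ⊗[R] p.ResidueField) g).lTensor E.S' η := by
        intro η
        induction η using TensorProduct.induction_on with
        | zero => simp
        | add a b ha hb => simp only [smul_add, map_add, ha, hb]
        | tmul a b =>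
          rw [LinearMap.lTensor_tmul, LinearMap.lsmul_apply, TensorProduct.tmul_smul, TensorProduct.smul_tmul']
          congr 1
          show g' * a = g • a
          rw [Algebra.smul_def]
      rw [hsm] at hζ
      obtain ⟨w, hw, hwη⟩ := killed_lTensor q E.q' hq _ (fun x hx => hreg x hx) η hζ
      exact ⟨w, hw, by rw [← map_smul, hwη, map_zero]⟩
    have h2 : ∀ ζ : E.G ⊗[E.R'] E.p'.ResidueField, algebraMap E.S' E.C g' • ζ = 0 →
        ∃ c, c ∉ E.z ∧ c • ζ = 0 := by
      intro ζ hζ
      obtain ⟨z, rfl⟩ := hΦs ζ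
      rw [algebraMap_smul, ← map_smul] at hζ
      obtain ⟨s, hs, hsz⟩ := hΦk _ hζ
      obtain ⟨w, hw, hwz⟩ := h1 (algebraMap E.R' E.S' s • z) (by rw [smul_comm]; exact hsz)
      refine ⟨algebraMap E.S' E.C (w * algebraMap E.R' E.S' s),
        fun h => (Ideal.IsPrime.mem_or_mem inferInstance ((hzq _).1 h)).elim hw (hp'q' s hs), ?_⟩
      rw [algebraMap_smul, ← map_smul, mul_smul, hwz, map_zero]
    let c := algebraMap E.S' E.C g'
    have hc : c ∈ E.z := (hzq _).2 (by show g ∈ E.q'.comap (algebraMap S E.S'); rw [hq]; exact hg)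
    -- a power of `c` lies in the ideal of `y` near `z`
    obtain ⟨k, w, hw, hwk⟩ : ∃ (k : ℕ), ∃ w ∉ E.z, w * c ^ k ∈ E.y.map (algebraMap E.D E.C) := by
      by_contra hcon
      push Not at hcon
      obtain ⟨P, hP, hle, hd⟩ := Ideal.exists_le_prime_disjoint (E.y.map (algebraMap E.D E.C))
        (Submonoid.powers c ⊔ E.z.primeCompl) (by
          rw [Set.disjoint_left]
          intro a ha ha'
          obtain ⟨_, ⟨n, rfl⟩, w, hw, rfl⟩ := Submonoid.mem_sup.1 ha'
          exact hcon n w hw (by rw [mul_comm]; exact ha))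
      have hPz : P ≤ E.z := fun a ha => by
        by_contra haz
        exact Set.disjoint_left.1 hd ha (Submonoid.mem_sup_right haz)
      have hPy : P.comap (algebraMap E.D E.C) = E.y := le_antisymm
        (fun d hd' => (hzy d).1 (hPz hd')) (Ideal.map_le_iff_le_comap.1 hle)
      rw [hu P hP hPy] at hd
      exact Set.disjoint_left.1 hd hc (Submonoid.mem_sup_left (Submonoid.mem_powers c))
    -- elements of the ideal of `y` kill the socle element near `z`
    have h3 : ∀ e ∈ E.y.map (algebraMap E.D E.C), ∃ v ∉ E.z, (v * e) • ξ = 0 := by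
      intro e he
      refine Submodule.span_induction (fun a ha => ?_) ⟨1, fun h1 => Ideal.IsPrime.ne_top inferInstance
        ((Ideal.eq_top_iff_one _).2 h1), by rw [mul_zero, zero_smul]⟩ (fun a b _ _ ha hb => ?_)
        (fun a b _ hb => ?_) he
      · obtain ⟨d, hd, rfl⟩ := ha
        obtain ⟨v, hv, hvξ⟩ := hξ d hd
        refine ⟨algebraMap E.D E.C v, fun h => hv ((hzy v).1 h), ?_⟩
        rw [mul_smul, algebraMap_smul, algebraMap_smul]
        exact hvξ
      · obtain ⟨va, hva, ha'⟩ := ha
        obtain ⟨vb, hvb, hb'⟩ := hb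
        refine ⟨va * vb, fun h => (Ideal.IsPrime.mem_or_mem inferInstance h).elim hva hvb, ?_⟩
        rw [show va * vb * (a + b) = vb * (va * a) + va * (vb * b) by ring, add_smul, mul_smul vb, ha',
          mul_smul va, hb', smul_zero, smul_zero, add_zero]
      · obtain ⟨vb, hvb, hb'⟩ := hb
        exact ⟨vb, hvb, by rw [smul_eq_mul, show vb * (a * b) = a * (vb * b) by ring, mul_smul, hb', smul_zero]⟩
    obtain ⟨v, hv, hvk⟩ := h3 _ hwk
    have h4 : ∀ k, ∀ v ∉ E.z, (v * c ^ k) • ξ = 0 → ∃ v' ∉ E.z, v' • ξ = 0 := by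
      intro k
      induction k with
      | zero => exact fun v hv h => ⟨v, hv, by rwa [pow_zero, mul_one] at h⟩
      | succ k ih =>
        intro v hv h
        rw [show v * c ^ (k + 1) = c * (v * c ^ k) by ring, mul_smul] at h
        obtain ⟨v', hv', h'⟩ := h2 _ h
        rw [smul_smul, ← mul_assoc] at h'
        exact ih (v' * v) (fun h => (Ideal.IsPrime.mem_or_mem inferInstance h).elim hv' hv) h'
    obtain ⟨v', hv', hv'ξ⟩ := h4 k (v * w)
      (fun h => (Ideal.IsPrime.mem_or_mem inferInstance h).elim hv hw) (by rwa [mul_assoc])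
    obtain ⟨d, hd, hdξ⟩ := exists_notMem_algebraMap_mem E.y ((Submodule.span E.C {ξ}).annihilator)
      (fun z₁ hz₁ h hle => by
        obtain rfl := hu z₁ hz₁ h
        exact hv' (hle ((Submodule.mem_annihilator_span_singleton _ _).2 hv'ξ)))
    rw [Submodule.mem_annihilator_span_singleton, algebraMap_smul] at hdξ
    exact hne d hd hdξ
  · intro h x
    obtain ⟨d, hd, hdx⟩ := h (Φ ((tensorEquiv f hf p.ResidueField).symm ((1 : E.S') ⊗ₜ[S] x)))
    obtain ⟨w, hw⟩ := E.surjC (algebraMap E.D E.C d)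
    have hwq : w ∉ E.q' := fun hwq => hd ((hzy d).1 (hw ▸ (hzq w).2 hwq))
    rw [← algebraMap_smul E.C d, ← hw, algebraMap_smul, ← map_smul] at hdx
    obtain ⟨s, hs, hsx⟩ := hΦk _ hdx
    rw [smul_smul, ← map_smul, LinearEquiv.map_eq_zero_iff] at hsx
    exact kill_descend q E.q' hq x
      (fun h => (Ideal.IsPrime.mem_or_mem inferInstance h).elim (hp'q' s hs) hwq) hsx
  · intro H Q hQ hQy hQp
    refine flatAt_of_forall_over (R := E.R') (C := E.C) Q fun z₁ hz₁ hz₁Q => hC z₁ _ rfl (hur _ ?_)
    have hz₁z : z₁ ≤ E.z := le_of_unique E.y E.z hu z₁ (hz₁Q.le.trans hQy.le)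
    have hz₁ne : z₁ ≠ E.z := fun h => hQy.ne (by
      rw [← hz₁Q, h]
      exact (E.z.over_def E.y).symm)
    let q₁' := z₁.comap (algebraMap E.S' E.C)
    have hq₁' : q₁' < E.q' := by
      refine lt_of_le_of_ne (fun a ha => (hzq a).1 (hz₁z ha)) fun h => hz₁ne ?_
      rw [← Ideal.map_comap_of_surjective _ E.surjC z₁, ← Ideal.map_comap_of_surjective _ E.surjC E.z]
      show q₁'.map _ = _
      rw [h, E.z.over_def E.q']
    haveI : q₁'.LiesOver E.p' := ⟨by
      ext r
      rw [Q.over_def E.p']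
      show algebraMap E.R' E.D r ∈ Q ↔ algebraMap E.S' E.C (algebraMap E.R' E.S' r) ∈ z₁
      rw [← hz₁Q, Ideal.mem_comap, ← IsScalarTower.algebraMap_apply, ← IsScalarTower.algebraMap_apply]⟩
    haveI : q₁'.LiesOver p := Ideal.LiesOver.trans q₁' E.p' p
    let q₁ := q₁'.comap (algebraMap S E.S')
    have hq₁ : q₁ < q := by
      refine lt_of_le_of_ne (hq ▸ Ideal.comap_mono hq₁'.le) fun h => hq₁'.ne ?_
      exact Algebra.QuasiFinite.eq_of_le_of_under_eq (R := S) q₁' E.q' hq₁'.le (h.trans (E.q'.over_def q))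
    haveI : q₁.LiesOver p := ⟨by
      show p = (q₁'.comap (algebraMap S E.S')).comap (algebraMap R S)
      rw [Ideal.comap_comap, ← IsScalarTower.algebraMap_eq]
      exact q₁'.over_def p⟩
    exact flatAt_up f hf q₁ q₁' rfl (H q₁ inferInstance hq₁ inferInstance)

end Groth.Agent.Lib.RG.Reduce
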