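import Groth.Agent.Lib.RG.FibreEtale
import Groth.Agent.Lib.RG.Fibres
import Groth.Agent.Lib.RG.Reduce
import Groth.Prelude.Def_FlatCA

/-!
# Complete dévissages at a point, as iterated steps
-/

set_option autoImplicit false
set_option linter.style.haveILetI false

universe u

open scoped TensorProduct
open CategoryTheory AlgebraicGeometry

attribute [local instance] Algebra.TensorProduct.rightAlgebra

namespace Groth.Agent.Lib.RG.GoodDev

/-- One step of a complete dévissage at a point. -/
structure Step (R S : Type u) [CommRing R] [CommRing S] [Algebra R S] (N : Type u) [AddCommGroup N] [Module S N]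
    (p : Ideal R) [p.IsPrime] (q : Ideal S) : Type (u + 1) where
  A : Type u
  B : Type u
  M : Type u
  r : ℕ
  d : ℕ
  [cA : CommRing A] [cB : CommRing B] [aRA : Algebra R A] [aRB : Algebra R B] [aBA : Algebra B A]
  [tRBA : IsScalarTower R B A] [aSA : Algebra S A] [tRSA : IsScalarTower R S A]
  [gM : AddCommGroup M] [mAM : Module A M] [mBM : Module B M] [tBAM : IsScalarTower B A M]
  [mRM : Module R M] [tRBM : IsScalarTower R B M] [mSM : Module S M] [tSAM : IsScalarTower S A M]
  qA : Ideal A
  qB : Ideal B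
  [hqA : qA.IsPrime] [hqB : qB.IsPrime] [overB : qB.LiesOver p] [overA : qA.LiesOver qB]
  [hP : (p.map (algebraMap R B)).IsPrime]
  α : (Fin r → B) →ₗ[B] M
  surjSA : Function.Surjective (algebraMap S A)
  fpSA : Algebra.FinitePresentation S A
  finiteBA : Module.Finite B A
  finiteM : Module.Finite A M
  smooth : Algebra.Smooth R B
  geomIrred : _root_.FlatCA.GeomIrredFibres R B
  isoN : N ≃ₗ[S] M
  fibreIso : Function.Bijective (α.baseChange (p.map (algebraMap R B)).ResidueField)
  pureTrans : _root_.FlatCA.PurelyTranscendental p qB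
  uniq : ∀ (Q : Ideal A) [Q.IsPrime], Q.LiesOver qB → Q = qA
  q0 : qA.comap (algebraMap S A) = q
  relDim : _root_.FlatCA.SmoothRelDim d R B
  gen : (⟨p.map (algebraMap R B), hP⟩ : PrimeSpectrum B) ∈ Module.support B M

attribute [instance] Step.cA Step.cB Step.aRA Step.aRB Step.aBA Step.tRBA Step.aSA Step.tRSA Step.gM Step.mAM
  Step.mBM Step.tBAM Step.mRM Step.tRBM Step.mSM Step.tSAM Step.hqA Step.hqB Step.overB Step.overA Step.hP

/-- The cokernel of a step. -/
abbrev Step.coker {R S : Type u} [CommRing R] [CommRing S] [Algebra R S] {N : Type u} [AddCommGroup N] [Module S N]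
    {p : Ideal R} [p.IsPrime] {q : Ideal S} (s : Step R S N p q) : Type u :=
  s.M ⧸ LinearMap.range s.α

/-- Existence of a complete dévissage with at most the given number of steps. -/
def Good : ℕ → ∀ (R S : Type u) [CommRing R] [CommRing S] [Algebra R S] (N : Type u) [AddCommGroup N] [Module S N]
    (p : Ideal R) [p.IsPrime] (_ : Ideal S), Prop
  | 0 => fun _ _ _ _ _ _ _ _ _ _ _ => False
  | k + 1 => fun R S _ _ _ N _ _ p _ q =>
      ∃ s : Step R S N p q, Function.Surjective s.α ∨ Good k R s.B s.coker p s.qB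

theorem Good.congr {k : ℕ} {R S : Type u} [CommRing R] [CommRing S] [Algebra R S] {N N' : Type u}
    [AddCommGroup N] [Module S N] [AddCommGroup N'] [Module S N'] {p : Ideal R} [p.IsPrime] {q : Ideal S}
    (e : N ≃ₗ[S] N') (h : Good k R S N p q) : Good k R S N' p q := by
  cases k with
  | zero => exact h.elim
  | succ k =>
    obtain ⟨s, hs⟩ := h
    exact ⟨{
      A := s.A, B := s.B, M := s.M, r := s.r, d := s.d, qA := s.qA, qB := s.qB, α := s.α, surjSA := s.surjSA
      fpSA := s.fpSA, finiteBA := s.finiteBA, finiteM := s.finiteM, smooth := s.smooth, geomIrred := s.geomIrred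
      isoN := e.symm.trans s.isoN, fibreIso := s.fibreIso, pureTrans := s.pureTrans, uniq := s.uniq, q0 := s.q0
      relDim := s.relDim, gen := s.gen }, hs⟩

theorem localDim_congr {X : Type u} [TopologicalSpace X] {T : Set X} (hT : T = Set.univ) (x : X) (hx : x ∈ T) :
    FlatMor.localDim T ⟨x, hx⟩ = FlatMor.localDim X x := by
  subst hT
  exact (FibreDim.Basic.localDim_eq_of_homeomorph (Homeomorph.Set.univ X) ⟨x, hx⟩).symm

/-- The local dimension of a fibre of a smooth algebra. -/
theorem localDim_fibre {R D : Type u} [CommRing R] [CommRing D] [Algebra R D] {n : ℕ}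
    (h : _root_.FlatCA.SmoothRelDim n R D) (p : Ideal R) [p.IsPrime] (x : PrimeSpectrum (p.Fiber D)) :
    FlatMor.localDim (PrimeSpectrum (p.Fiber D)) x = n := by
  haveI : SmoothOfRelativeDimension n (Spec.map (CommRingCat.ofHom (algebraMap R D))) := h
  let f := Spec.map (CommRingCat.ofHom (algebraMap R D))
  let e : ↥(f.base ⁻¹' {(⟨p, inferInstance⟩ : PrimeSpectrum R)}) ≃ₜ PrimeSpectrum (p.Fiber D) :=
    PrimeSpectrum.preimageHomeomorphFiber R D ⟨p, inferInstance⟩
  obtain ⟨z, rfl⟩ := e.surjective x
  calc FlatMor.localDim (PrimeSpectrum (p.Fiber D)) (e z)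
      = FlatMor.localDim ↥(f.base ⁻¹' {(⟨p, inferInstance⟩ : PrimeSpectrum R)}) z := by
        first
          | exact FibreDim.Basic.localDim_eq_of_homeomorph e z
          | exact (FibreDim.Basic.localDim_eq_of_homeomorph e z).symm
    _ = FlatMor.fibreDimAt f z.1 := FibreDim.Basic.localDim_preimage f z
    _ = n := H82.Contract.fibreDimAt_of_smoothOfRelativeDimension f z.1

/-- The local dimension condition of a step. -/
theorem Step.locDim {R S : Type u} [CommRing R] [CommRing S] [Algebra R S] {N : Type u} [AddCommGroup N] [Module S N]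
    {p : Ideal R} [p.IsPrime] {q : Ideal S} (s : Step R S N p q) :
    ∃ (x : PrimeSpectrum (p.Fiber s.B))
    (hx : x ∈ Module.support (p.Fiber s.B) (_root_.FlatCA.fiberMod p s.B s.M)),
    x.asIdeal = _root_.FlatCA.fiberIdeal p s.qB ∧
    FlatMor.localDim (Module.support (p.Fiber s.B) (_root_.FlatCA.fiberMod p s.B s.M)) ⟨x, hx⟩ = s.d := by
  haveI := s.finiteBA
  haveI := s.finiteM
  haveI : Module.Finite s.B s.M := Module.Finite.trans s.A s.M
  have hsup : Module.support (p.Fiber s.B) (_root_.FlatCA.fiberMod p s.B s.M) = Set.univ := by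
    refine Set.eq_univ_of_forall fun x => ?_
    have h : PrimeSpectrum.comap (algebraMap s.B (p.Fiber s.B)) x ∈ Module.support s.B s.M := by
      refine Module.mem_support_mono (Ideal.map_le_iff_le_comap.2 ?_) s.gen
      exact (FibreEtale.comap_incl_over (S := s.B) p x).ge
    exact (Set.ext_iff.1 (H22.SupportBC.support_baseChange (R' := p.Fiber s.B) s.M) x).2 h
  obtain ⟨x, hx⟩ := FibreEtale.exists_incl_eq p s.qB (s.qB.over_def p).symm
  refine ⟨x, hsup ▸ Set.mem_univ x, FibreEtale.eq_fiberIdeal p s.qB x (congrArg PrimeSpectrum.asIdeal hx), ?_⟩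
  rw [localDim_congr hsup]
  exact localDim_fibre s.relDim p x

section Complete

variable {R S : Type u} [CommRing R] [CommRing S] [Algebra R S] {N : Type u} [AddCommGroup N] [Module S N]
  {p : Ideal R} [p.IsPrime] {q : Ideal S} [q.IsPrime]

/-- A single surjective step is a complete dévissage. -/
theorem single (s : Step R S N p q) (hs : Function.Surjective s.α) : _root_.FlatCA.HasCompleteDevissageAt R S N p q := by
  let A : ℕ → Type u := fun i => match i with | 0 => s.A | _ + 1 => s.B
  let M : ℕ → Type u := fun i => match i with | 0 => s.M | _ + 1 => PUnit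
  let r : ℕ → ℕ := fun i => match i with | 0 => s.r | _ + 1 => 0
  letI cA : ∀ i, CommRing (A i) := fun i => match i with | 0 => s.cA | _ + 1 => s.cB
  letI aRA : ∀ i, Algebra R (A i) := fun i => match i with | 0 => s.aRA | _ + 1 => s.aRB
  letI aBA : ∀ i, Algebra s.B (A i) := fun i => match i with | 0 => s.aBA | _ + 1 => Algebra.id s.B
  haveI tRBA : ∀ i, IsScalarTower R s.B (A i) := fun i => match i with
    | 0 => s.tRBA | _ + 1 => IsScalarTower.right
  letI gM : ∀ i, AddCommGroup (M i) := fun i => match i with | 0 => s.gM | _ + 1 => inferInstanceAs (AddCommGroup PUnit)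
  letI mAM : ∀ i, Module (A i) (M i) := fun i => match i with
    | 0 => s.mAM | _ + 1 => inferInstanceAs (Module s.B PUnit)
  letI mBM : ∀ i, Module s.B (M i) := fun i => match i with
    | 0 => s.mBM | _ + 1 => inferInstanceAs (Module s.B PUnit)
  haveI tBAM : ∀ i, IsScalarTower s.B (A i) (M i) := fun i => match i with
    | 0 => s.tBAM | _ + 1 => ⟨fun _ _ _ => rfl⟩
  letI mRM : ∀ i, Module R (M i) := fun i => match i with
    | 0 => s.mRM | _ + 1 => inferInstanceAs (Module R PUnit)
  haveI tRBM : ∀ i, IsScalarTower R s.B (M i) := fun i => match i with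
    | 0 => s.tRBM | _ + 1 => ⟨fun _ _ _ => rfl⟩
  let qA : ∀ i, Ideal (A i) := fun i => match i with | 0 => s.qA | _ + 1 => s.qB
  haveI hqA : ∀ i, (qA i).IsPrime := fun i => match i with | 0 => s.hqA | _ + 1 => s.hqB
  haveI overA : ∀ i, (qA i).LiesOver s.qB := fun i => match i with | 0 => s.overA | _ + 1 => ⟨rfl⟩
  refine ⟨{
    n := 1, pos := one_pos, A := A, B := fun _ => s.B, M := M, r := r
    cA := cA, cB := fun _ => s.cB, aRA := aRA, aRB := fun _ => s.aRB, aBA := aBA, tRBA := tRBA
    aSA := s.aSA, tRSA := s.tRSA, aBA' := fun _ => Algebra.id s.B, tRBA' := fun _ => IsScalarTower.right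
    gM := gM, mAM := mAM, mBM := mBM, tBAM := tBAM, mRM := mRM, tRBM := tRBM
    mSM := s.mSM, tSAM := s.tSAM, mB'M := fun i => mBM (i + 1), tB'AM := fun i => tBAM (i + 1)
    hp := fun _ => s.hP
    α := fun i => match i with | 0 => s.α | _ + 1 => 0
    surjSA := s.surjSA, fpSA := s.fpSA
    surjBA' := fun i hi => absurd hi (by omega)
    fpBA' := fun i hi => absurd hi (by omega)
    finiteBA := fun i hi => match i, hi with | 0, _ => s.finiteBA
    smooth := fun _ _ => s.smooth
    geomIrred := fun _ _ => s.geomIrred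
    finiteM := fun i hi => match i, hi with | 0, _ => s.finiteM
    isoN := s.isoN
    isoCoker := fun i hi => absurd hi (by omega)
    fibreIso := fun i hi => match i, hi with | 0, _ => s.fibreIso
    cokerLast := hs }, ⟨{
    qB := fun _ => s.qB, qA := qA, hqB := fun _ => s.hqB, hqA := hqA, overB := fun _ => s.overB, overA := overA
    pureTrans := fun _ _ => s.pureTrans
    uniq := fun i hi => match i, hi with | 0, _ => s.uniq
    q0 := s.q0
    qStep := fun i hi => absurd hi (by simp at hi)
    d := fun _ => s.d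
    relDim := fun _ _ => s.relDim
    locDim := fun i hi => match i, hi with | 0, _ => s.locDim }⟩⟩

/-- Prepending a step to a complete dévissage. -/
theorem cons (s : Step R S N p q) (h : _root_.FlatCA.HasCompleteDevissageAt R s.B s.coker p s.qB) :
    _root_.FlatCA.HasCompleteDevissageAt R S N p q := by
  obtain ⟨D, ⟨E⟩⟩ := h
  let A : ℕ → Type u := fun i => match i with | 0 => s.A | i + 1 => D.A i
  let B : ℕ → Type u := fun i => match i with | 0 => s.B | i + 1 => D.B i
  let M : ℕ → Type u := fun i => match i with | 0 => s.M | i + 1 => D.M i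
  let r : ℕ → ℕ := fun i => match i with | 0 => s.r | i + 1 => D.r i
  letI cA : ∀ i, CommRing (A i) := fun i => match i with | 0 => s.cA | i + 1 => D.cA i
  letI cB : ∀ i, CommRing (B i) := fun i => match i with | 0 => s.cB | i + 1 => D.cB i
  letI aRA : ∀ i, Algebra R (A i) := fun i => match i with | 0 => s.aRA | i + 1 => D.aRA i
  letI aRB : ∀ i, Algebra R (B i) := fun i => match i with | 0 => s.aRB | i + 1 => D.aRB i
  letI aBA : ∀ i, Algebra (B i) (A i) := fun i => match i with | 0 => s.aBA | i + 1 => D.aBA i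
  haveI tRBA : ∀ i, IsScalarTower R (B i) (A i) := fun i => match i with | 0 => s.tRBA | i + 1 => D.tRBA i
  letI aBA' : ∀ i, Algebra (B i) (A (i + 1)) := fun i => match i with | 0 => D.aSA | i + 1 => D.aBA' i
  haveI tRBA' : ∀ i, IsScalarTower R (B i) (A (i + 1)) := fun i => match i with
    | 0 => D.tRSA | i + 1 => D.tRBA' i
  letI gM : ∀ i, AddCommGroup (M i) := fun i => match i with | 0 => s.gM | i + 1 => D.gM i
  letI mAM : ∀ i, Module (A i) (M i) := fun i => match i with | 0 => s.mAM | i + 1 => D.mAM i
  letI mBM : ∀ i, Module (B i) (M i) := fun i => match i with | 0 => s.mBM | i + 1 => D.mBM i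
  haveI tBAM : ∀ i, IsScalarTower (B i) (A i) (M i) := fun i => match i with | 0 => s.tBAM | i + 1 => D.tBAM i
  letI mRM : ∀ i, Module R (M i) := fun i => match i with | 0 => s.mRM | i + 1 => D.mRM i
  haveI tRBM : ∀ i, IsScalarTower R (B i) (M i) := fun i => match i with | 0 => s.tRBM | i + 1 => D.tRBM i
  letI mB'M : ∀ i, Module (B i) (M (i + 1)) := fun i => match i with | 0 => D.mSM | i + 1 => D.mB'M i
  haveI tB'AM : ∀ i, IsScalarTower (B i) (A (i + 1)) (M (i + 1)) := fun i => match i with
    | 0 => D.tSAM | i + 1 => D.tB'AM i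
  haveI hp : ∀ i, (p.map (algebraMap R (B i))).IsPrime := fun i => match i with | 0 => s.hP | i + 1 => D.hp i
  let α : ∀ i, (Fin (r i) → B i) →ₗ[B i] M i := fun i => match i with | 0 => s.α | i + 1 => D.α i
  let qB : ∀ i, Ideal (B i) := fun i => match i with | 0 => s.qB | i + 1 => E.qB i
  let qA : ∀ i, Ideal (A i) := fun i => match i with | 0 => s.qA | i + 1 => E.qA i
  haveI hqB : ∀ i, (qB i).IsPrime := fun i => match i with | 0 => s.hqB | i + 1 => E.hqB i
  haveI hqA : ∀ i, (qA i).IsPrime := fun i => match i with | 0 => s.hqA | i + 1 => E.hqA i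
  haveI overB : ∀ i, (qB i).LiesOver p := fun i => match i with | 0 => s.overB | i + 1 => E.overB i
  haveI overA : ∀ i, (qA i).LiesOver (qB i) := fun i => match i with | 0 => s.overA | i + 1 => E.overA i
  refine ⟨{
    n := D.n + 1, pos := Nat.succ_pos _, A := A, B := B, M := M, r := r
    cA := cA, cB := cB, aRA := aRA, aRB := aRB, aBA := aBA, tRBA := tRBA
    aSA := s.aSA, tRSA := s.tRSA, aBA' := aBA', tRBA' := tRBA'
    gM := gM, mAM := mAM, mBM := mBM, tBAM := tBAM, mRM := mRM, tRBM := tRBM
    mSM := s.mSM, tSAM := s.tSAM, mB'M := mB'M, tB'AM := tB'AM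
    hp := hp, α := α
    surjSA := s.surjSA, fpSA := s.fpSA
    surjBA' := fun i hi => match i, hi with | 0, _ => D.surjSA | i + 1, hi => D.surjBA' i (by omega)
    fpBA' := fun i hi => match i, hi with | 0, _ => D.fpSA | i + 1, hi => D.fpBA' i (by omega)
    finiteBA := fun i hi => match i, hi with | 0, _ => s.finiteBA | i + 1, hi => D.finiteBA i (by omega)
    smooth := fun i hi => match i, hi with | 0, _ => s.smooth | i + 1, hi => D.smooth i (by omega)
    geomIrred := fun i hi => match i, hi with | 0, _ => s.geomIrred | i + 1, hi => D.geomIrred i (by omega)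
    finiteM := fun i hi => match i, hi with | 0, _ => s.finiteM | i + 1, hi => D.finiteM i (by omega)
    isoN := s.isoN
    isoCoker := fun i hi => match i, hi with | 0, _ => D.isoN | i + 1, hi => D.isoCoker i (by omega)
    fibreIso := fun i hi => match i, hi with | 0, _ => s.fibreIso | i + 1, hi => D.fibreIso i (by omega)
    cokerLast := by
      rw [show D.n + 1 - 1 = D.n - 1 + 1 from by have := D.pos; omega]
      exact D.cokerLast }, ⟨{
    qB := qB, qA := qA, hqB := hqB, hqA := hqA, overB := overB, overA := overA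
    pureTrans := fun i hi => match i, hi with | 0, _ => s.pureTrans | i + 1, hi => E.pureTrans i (Nat.lt_of_succ_lt_succ hi)
    uniq := fun i hi => match i, hi with | 0, _ => s.uniq | i + 1, hi => E.uniq i (Nat.lt_of_succ_lt_succ hi)
    q0 := s.q0
    qStep := fun i hi => match i, hi with | 0, _ => E.q0 | i + 1, hi => E.qStep i (Nat.lt_of_succ_lt_succ hi)
    d := fun i => match i with | 0 => s.d | i + 1 => E.d i
    relDim := fun i hi => match i, hi with | 0, _ => s.relDim | i + 1, hi => E.relDim i (Nat.lt_of_succ_lt_succ hi)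
    locDim := fun i hi => match i, hi with | 0, _ => s.locDim | i + 1, hi => E.locDim i (Nat.lt_of_succ_lt_succ hi) }⟩⟩

theorem Good.complete : ∀ {k : ℕ} {R S : Type u} [CommRing R] [CommRing S] [Algebra R S] {N : Type u} [AddCommGroup N]
    [Module S N] {p : Ideal R} [p.IsPrime] {q : Ideal S} [q.IsPrime], Good k R S N p q →
    _root_.FlatCA.HasCompleteDevissageAt R S N p q
  | 0, _, _, _, _, _, _, _, _, _, _, _, _, h => h.elim
  | _ + 1, _, _, _, _, _, _, _, _, _, _, _, _, ⟨s, hs⟩ => hs.elim (single s) fun h => cons s (Good.complete h)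

end Complete

end Groth.Agent.Lib.RG.GoodDev
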