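import Groth.Agent.Lib.SourceDescent.Ring
import Mathlib.RingTheory.Ideal.IdempotentFG
import Mathlib.RingTheory.Idempotents
import Mathlib.RingTheory.TensorProduct.Maps
import Mathlib.RingTheory.Localization.BaseChange
import Mathlib.RingTheory.Localization.Away.Basic

/-!
# Lifting étale algebras over a quotient together with an étale algebra over the base
-/

set_option autoImplicit false
set_option linter.style.haveILetI false

universe u

open scoped TensorProduct

namespace Groth.Agent.Lib.RG.EtaleQuot

/-- An étale algebra over a quotient of `S` which is an algebra over an étale `R`-algebra lifts to an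
étale `S`-algebra which is an algebra over the latter. -/
theorem exists_lift (R S C R'' C'' : Type u) [CommRing R] [CommRing S] [CommRing C] [CommRing R''] [CommRing C'']
    [Algebra R S] [Algebra S C] [Algebra R R''] [Algebra.Etale R R''] [Algebra C C''] [Algebra.Etale C C'']
    [Algebra R'' C''] [Algebra R C''] [Algebra S C''] [IsScalarTower R R'' C''] [IsScalarTower R S C'']
    [IsScalarTower S C C''] (hsurj : Function.Surjective (algebraMap S C)) :
    ∃ (S'' : Type u) (_ : CommRing S'') (_ : Algebra S S'') (_ : Algebra R'' S'') (_ : Algebra R S'')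
      (_ : IsScalarTower R S S'') (_ : IsScalarTower R R'' S'') (_ : Algebra S'' C'')
      (_ : IsScalarTower S S'' C'') (_ : IsScalarTower R'' S'' C''),
      Algebra.Etale S S'' ∧ Function.Surjective (algebraMap S'' C'') ∧ Algebra.IsPushout S S'' C C'' := by
  obtain ⟨Q, _, _, π, hQ, hπ, -⟩ := SourceDescent.Ring.exists_etale_lift (P := S) (B := C) (C := C'') hsurj
  haveI := hQ
  letI : Algebra R Q := Algebra.compHom Q (algebraMap R S)
  haveI : IsScalarTower R S Q := .of_algebraMap_eq fun _ => rfl
  let T := Q ⊗[R] R''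
  haveI : Algebra.Etale S T := Algebra.Etale.comp S Q T
  let ρ : T →ₐ[S] C'' := Algebra.TensorProduct.lift π (IsScalarTower.toAlgHom R R'' C'') fun _ _ => Commute.all _ _
  have hρ : ∀ a b, ρ (a ⊗ₜ[R] b) = π a * algebraMap R'' C'' b := fun a b =>
    Algebra.TensorProduct.lift_tmul _ _ _ _ _
  let P := C ⊗[S] T
  let ρ' : P →ₐ[C] C'' := Algebra.TensorProduct.lift (Algebra.ofId C C'') ρ fun _ _ => Commute.all _ _
  have hρ't : ∀ t : T, ρ' ((1 : C) ⊗ₜ[S] t) = ρ t := fun t => by
    show Algebra.TensorProduct.lift (Algebra.ofId C C'') ρ _ ((1 : C) ⊗ₜ[S] t) = ρ t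
    rw [Algebra.TensorProduct.lift_tmul, map_one, one_mul]
  have hρ's : Function.Surjective ρ' := fun c => by
    obtain ⟨a, rfl⟩ := hπ c
    exact ⟨(1 : C) ⊗ₜ[S] (a ⊗ₜ[R] (1 : R'')), by rw [hρ't, hρ, map_one, mul_one]⟩
  have hfg : (RingHom.ker ρ'.toRingHom).FG := Algebra.FinitePresentation.ker_fG_of_surjective ρ' hρ's
  have hid : IsIdempotentElem (RingHom.ker ρ'.toRingHom) := by
    let _ := ρ'.toRingHom.toAlgebra
    have : IsScalarTower C P C'' := .of_algebraMap_eq fun s => (ρ'.commutes s).symm
    have : Algebra.Etale P C'' := Algebra.Etale.of_restrictScalars C P C''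
    exact (Algebra.FormallyEtale.iff_of_surjective (R := P) (S := C'') hρ's).mp inferInstance
  obtain ⟨e₀, he₀, hker⟩ := (Ideal.isIdempotentElem_iff_of_fg _ hfg).mp hid
  have hins : Function.Surjective fun t : T => (1 : C) ⊗ₜ[S] t := fun x => by
    induction x using TensorProduct.induction_on with
    | zero => exact ⟨0, TensorProduct.tmul_zero _ _⟩
    | tmul c t =>
      obtain ⟨s, rfl⟩ := hsurj c
      exact ⟨s • t, by rw [Algebra.algebraMap_eq_smul_one, TensorProduct.smul_tmul]⟩
    | add x y hx hy =>
      obtain ⟨a, ha⟩ := hx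
      obtain ⟨b, hb⟩ := hy
      exact ⟨a + b, by simp only at ha hb ⊢; rw [TensorProduct.tmul_add, ha, hb]⟩
  obtain ⟨f, hf⟩ := hins (1 - e₀)
  have he0 : ρ' e₀ = 0 := by
    show e₀ ∈ RingHom.ker ρ'.toRingHom
    rw [hker]
    exact Submodule.mem_span_singleton_self _
  have hρf : ρ f = 1 := by
    rw [← hρ't, show (1 : C) ⊗ₜ[S] f = 1 - e₀ from hf, map_sub, he0, map_one, sub_zero]
  let S'' := Localization.Away f
  letI aR'' : Algebra R'' S'' :=
    ((algebraMap T S'').comp (Algebra.TensorProduct.includeRight (R := R) (A := Q) (B := R'')).toRingHom).toAlgebra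
  haveI tRS : IsScalarTower R S S'' := IsScalarTower.of_algebraMap_eq (R := R) (S := S) (A := S'') fun r => by
    rw [IsScalarTower.algebraMap_apply R T S'', IsScalarTower.algebraMap_apply S T S'', ← IsScalarTower.algebraMap_apply R S T]
  haveI tRR : IsScalarTower R R'' S'' := IsScalarTower.of_algebraMap_eq (R := R) (S := R'') (A := S'') fun r => by
    show _ = algebraMap T S'' (Algebra.TensorProduct.includeRight (algebraMap R R'' r))
    rw [AlgHom.commutes, ← IsScalarTower.algebraMap_apply R T S'']
  have hunit : ∀ y : Submonoid.powers f, IsUnit (ρ y) := by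
    rintro ⟨_, n, rfl⟩
    simp only [map_pow, hρf, one_pow]
    exact isUnit_one
  let ρ'' : S'' →ₐ[S] C'' := IsLocalization.liftAlgHom (M := Submonoid.powers f) (f := ρ) hunit
  have hρ'' : ∀ t, ρ'' (algebraMap T S'' t) = ρ t := fun t => IsLocalization.lift_eq (S := S'') hunit t
  letI aC : Algebra S'' C'' := ρ''.toRingHom.toAlgebra
  haveI tSC : IsScalarTower S S'' C'' := .of_algebraMap_eq fun s => (ρ''.commutes s).symm
  haveI tRC : IsScalarTower R'' S'' C'' := IsScalarTower.of_algebraMap_eq (R := R'') (S := S'') (A := C'') fun r => by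
    show _ = ρ'' (algebraMap T S'' ((1 : Q) ⊗ₜ[R] r))
    rw [hρ'', hρ, map_one, one_mul]
  refine ⟨S'', inferInstance, inferInstance, aR'', inferInstance, tRS, tRR, aC, tSC, tRC, ?_, fun c => ?_, ?_⟩
  · haveI : Algebra.Etale T S'' := Algebra.Etale.of_isLocalizationAway f
    exact Algebra.Etale.comp S T S''
  · obtain ⟨a, rfl⟩ := hπ c
    exact ⟨algebraMap T S'' (a ⊗ₜ[R] (1 : R'')), (hρ'' _).trans (by rw [hρ, map_one, mul_one])⟩
  · letI : Algebra T P := Algebra.TensorProduct.rightAlgebra
    letI : Algebra P C'' := ρ'.toRingHom.toAlgebra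
    haveI : IsScalarTower C P C'' := .of_algebraMap_eq fun s => (ρ'.commutes s).symm
    letI : Algebra T C'' := ρ.toRingHom.toAlgebra
    haveI : IsScalarTower T P C'' := IsScalarTower.of_algebraMap_eq (R := T) (S := P) (A := C'') fun t => (hρ't t).symm
    haveI : IsScalarTower T S'' C'' := IsScalarTower.of_algebraMap_eq (R := T) (S := S'') (A := C'') fun t => (hρ'' t).symm
    haveI : IsScalarTower S T C'' := .of_algebraMap_eq fun s => (ρ.commutes s).symm
    have hloc : IsLocalization.Away (1 - e₀) C'' := by
      refine IsLocalization.away_of_isIdempotentElem he₀.one_sub ?_ hρ's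
      rw [sub_sub_cancel, ← Ideal.submodule_span_eq, ← hker]
      rfl
    haveI : IsLocalization (Algebra.algebraMapSubmonoid P (Submonoid.powers f)) C'' := by
      rw [Algebra.algebraMapSubmonoid, Submonoid.map_powers]
      rw [← hf] at hloc
      exact hloc
    haveI h1 : Algebra.IsPushout T P S'' C'' := Algebra.isPushout_of_isLocalization (Submonoid.powers f) S'' P C''
    haveI : Algebra.IsPushout S T C P := TensorProduct.isPushout'
    haveI : IsScalarTower S P C'' := IsScalarTower.of_algebraMap_eq (R := S) (S := P) (A := C'') fun s => by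
      rw [IsScalarTower.algebraMap_apply S C P, ← IsScalarTower.algebraMap_apply C P C'', ← IsScalarTower.algebraMap_apply S C C'']
    exact (Algebra.IsPushout.comp_iff S T C P (T := S'') (T' := C'')).2 h1.symm

end Groth.Agent.Lib.RG.EtaleQuot
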