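import Groth.Prelude.Def_FlatCA
import Mathlib.RingTheory.Etale.Basic
import Mathlib.RingTheory.LocalRing.ResidueField.Fiber

/-!
# Base change of an étale neighbourhood and its point
-/

set_option autoImplicit false
set_option linter.style.haveILetI false

universe u

open scoped TensorProduct

namespace Groth.Agent.Lib.RG.NhdPoint

variable {R : Type u} [CommRing R] {R' : Type u} [CommRing R'] [Algebra R R']
  {S : Type u} [CommRing S] [Algebra R S]

/-- The map from the new base into the base change. -/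
noncomputable def inR : R' →+* S ⊗[R] R' :=
  (Algebra.TensorProduct.includeRight (R := R) (A := S) (B := R')).toRingHom

theorem inR_algebraMap (r : R) :
    (inR : R' →+* S ⊗[R] R') (algebraMap R R' r) = algebraMap S (S ⊗[R] R') (algebraMap R S r) := by
  rw [← IsScalarTower.algebraMap_apply]
  exact AlgHom.commutes _ r

theorem tmul_eq (s : S) (r : R') : s ⊗ₜ[R] r = algebraMap S (S ⊗[R] R') s * inR r := by
  show _ = (s ⊗ₜ[R] (1 : R')) * ((1 : S) ⊗ₜ[R] r)
  rw [Algebra.TensorProduct.tmul_mul_tmul, mul_one, one_mul]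

/-- A prime of the base change over a prime of the base lies over it on both sides. -/
theorem comap_inR_under (P : Ideal (S ⊗[R] R')) :
    (P.comap inR).comap (algebraMap R R') = (P.comap (algebraMap S (S ⊗[R] R'))).comap (algebraMap R S) := by
  ext r
  simp only [Ideal.mem_comap]
  rw [inR_algebraMap]

variable (p : Ideal R) [p.IsPrime] (p' : Ideal R') [p'.IsPrime] (q : Ideal S) [q.IsPrime] [q.LiesOver p]

/-- The residue map of the base change at the point. -/
theorem exists_psi (hnhd : FlatCA.IsEtaleNhd R R' p p') :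
    ∃ ψ : S ⊗[R] R' →ₐ[R] q.ResidueField, (∀ s, ψ (algebraMap S _ s) = algebraMap S q.ResidueField s) ∧
      (∀ r, ψ (inR r) = 0 ↔ r ∈ p') ∧
      ∀ r, ∃ a b : R, b ∉ p ∧ algebraMap R R' b * r - algebraMap R R' a ∈ p' ∧
        algebraMap R q.ResidueField b * ψ (inR r) = algebraMap R q.ResidueField a := by
  obtain ⟨-, hover, hbij⟩ := hnhd
  haveI := hover
  let m := Ideal.ResidueField.mapₐ p p' (Algebra.ofId R R') hover.over
  let e := AlgEquiv.ofBijective m hbij
  let φ := Ideal.ResidueField.mapₐ p q (Algebra.ofId R S) (q.over_def p)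
  let χ : R' →ₐ[R] q.ResidueField :=
    (φ.comp e.symm.toAlgHom).comp (IsScalarTower.toAlgHom R R' p'.ResidueField)
  let ψ : S ⊗[R] R' →ₐ[R] q.ResidueField :=
    Algebra.TensorProduct.lift (IsScalarTower.toAlgHom R S q.ResidueField) χ fun _ _ => Commute.all _ _
  have hψR : ∀ r, ψ (inR r) = χ r := fun r => by
    show ψ ((1 : S) ⊗ₜ[R] r) = _
    rw [Algebra.TensorProduct.lift_tmul, map_one, one_mul]
  refine ⟨ψ, fun s => ?_, fun r => ?_, fun r => ?_⟩
  · show ψ (s ⊗ₜ[R] (1 : R')) = _
    rw [Algebra.TensorProduct.lift_tmul, map_one, mul_one]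
    rfl
  · rw [hψR]
    show φ (e.symm (algebraMap R' p'.ResidueField r)) = 0 ↔ _
    rw [map_eq_zero_iff φ φ.toRingHom.injective, map_eq_zero_iff e.symm e.symm.injective]
    exact Ideal.algebraMap_residueField_eq_zero
  · obtain ⟨a, b, hb, hab⟩ := IsFractionRing.div_surjective (A := R ⧸ p) (e.symm (algebraMap R' p'.ResidueField r))
    obtain ⟨a, rfl⟩ := Ideal.Quotient.mk_surjective a
    obtain ⟨b, rfl⟩ := Ideal.Quotient.mk_surjective b
    have hbp : b ∉ p := fun h => nonZeroDivisors.ne_zero hb (Ideal.Quotient.eq_zero_iff_mem.2 h)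
    simp only [← Ideal.Quotient.algebraMap_eq, ← IsScalarTower.algebraMap_apply] at hab
    have hab' : algebraMap R p.ResidueField b * e.symm (algebraMap R' p'.ResidueField r) =
        algebraMap R p.ResidueField a := by
      rw [← hab, mul_div_assoc', mul_div_cancel_left₀ _ fun h => hbp (Ideal.algebraMap_residueField_eq_zero.1 h)]
    refine ⟨a, b, hbp, Ideal.algebraMap_residueField_eq_zero.1 ?_, ?_⟩
    · rw [map_sub, map_mul, ← IsScalarTower.algebraMap_apply R R', ← IsScalarTower.algebraMap_apply R R', sub_eq_zero]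
      have := congrArg e hab'
      rwa [map_mul, AlgEquiv.apply_symm_apply, AlgEquiv.commutes, AlgEquiv.commutes] at this
    · rw [hψR]
      have := congrArg φ hab'
      rwa [map_mul, AlgHom.commutes, AlgHom.commutes] at this

/-- The point of the base change. -/
theorem exists_point (hnhd : FlatCA.IsEtaleNhd R R' p p') :
    ∃ P : Ideal (S ⊗[R] R'), P.IsPrime ∧ P.comap (algebraMap S _) = q ∧ P.comap inR = p' := by
  obtain ⟨ψ, hS, hR, -⟩ := exists_psi p p' q hnhd
  refine ⟨RingHom.ker ψ.toRingHom, RingHom.ker_isPrime _, Ideal.ext fun s => ?_, Ideal.ext hR⟩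
  show ψ (algebraMap S _ s) = 0 ↔ _
  rw [hS]
  exact Ideal.algebraMap_residueField_eq_zero

/-- Elements of the base change are fractions from `S` at the point. -/
theorem exists_fraction (hnhd : FlatCA.IsEtaleNhd R R' p p') (P : Ideal (S ⊗[R] R')) [P.IsPrime]
    (hS : P.comap (algebraMap S _) = q) (hR : P.comap inR = p') (x : S ⊗[R] R') :
    ∃ a b : S, b ∉ q ∧ algebraMap S _ b * x - algebraMap S _ a ∈ P := by
  induction x using TensorProduct.induction_on with
  | zero =>
    exact ⟨0, 1, fun h => Ideal.IsPrime.ne_top inferInstance ((Ideal.eq_top_iff_one q).2 h), by simp⟩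
  | tmul s r =>
    obtain ⟨ψ, -, -, hψ⟩ := exists_psi p p' q hnhd
    obtain ⟨a, b, hb, hab, -⟩ := hψ r
    refine ⟨s * algebraMap R S a, algebraMap R S b, fun h => hb (by rw [q.over_def p]; exact h), ?_⟩
    rw [← hR, Ideal.mem_comap, map_sub, map_mul, inR_algebraMap, inR_algebraMap] at hab
    have := P.mul_mem_left (algebraMap S _ s) hab
    rw [tmul_eq, map_mul]
    convert this using 1
    ring
  | add x y hx hy =>
    obtain ⟨a, b, hb, hab⟩ := hx
    obtain ⟨c, d, hd, hcd⟩ := hy
    refine ⟨d * a + b * c, b * d, fun h => (Ideal.IsPrime.mem_or_mem inferInstance h).elim hb hd, ?_⟩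
    have := add_mem (P.mul_mem_left (algebraMap S _ d) hab) (P.mul_mem_left (algebraMap S _ b) hcd)
    convert this using 1
    simp only [map_add, map_mul]
    ring

/-- Elements of the base change are fractions from `S` up to the extension of the point of the base. -/
theorem exists_fraction_mod (hnhd : FlatCA.IsEtaleNhd R R' p p') (x : S ⊗[R] R') :
    ∃ a b : S, b ∉ q ∧ algebraMap S _ b * x - algebraMap S _ a ∈ p'.map (inR : R' →+* S ⊗[R] R') := by
  induction x using TensorProduct.induction_on with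
  | zero =>
    exact ⟨0, 1, fun h => Ideal.IsPrime.ne_top inferInstance ((Ideal.eq_top_iff_one q).2 h), by simp⟩
  | tmul s r =>
    obtain ⟨ψ, -, -, hψ⟩ := exists_psi p p' q hnhd
    obtain ⟨a, b, hb, hab, -⟩ := hψ r
    refine ⟨s * algebraMap R S a, algebraMap R S b, fun h => hb (by rw [q.over_def p]; exact h), ?_⟩
    have := (p'.map (inR : R' →+* S ⊗[R] R')).mul_mem_left (algebraMap S _ s)
      (Ideal.mem_map_of_mem (inR : R' →+* S ⊗[R] R') hab)
    rw [map_sub, map_mul, inR_algebraMap, inR_algebraMap] at this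
    rw [tmul_eq, map_mul]
    convert this using 1
    ring
  | add x y hx hy =>
    obtain ⟨a, b, hb, hab⟩ := hx
    obtain ⟨c, d, hd, hcd⟩ := hy
    refine ⟨d * a + b * c, b * d, fun h => (Ideal.IsPrime.mem_or_mem inferInstance h).elim hb hd, ?_⟩
    have := add_mem ((p'.map (inR : R' →+* S ⊗[R] R')).mul_mem_left (algebraMap S _ d) hab)
      ((p'.map (inR : R' →+* S ⊗[R] R')).mul_mem_left (algebraMap S _ b) hcd)
    convert this using 1
    simp only [map_add, map_mul]
    ring

/-- The point is unique. -/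
theorem point_unique (hnhd : FlatCA.IsEtaleNhd R R' p p') (P₁ P₂ : Ideal (S ⊗[R] R')) [P₁.IsPrime] [P₂.IsPrime]
    (h₁S : P₁.comap (algebraMap S _) = q) (h₁R : P₁.comap inR = p')
    (h₂S : P₂.comap (algebraMap S _) = q) (h₂R : P₂.comap inR = p') : P₁ = P₂ := by
  obtain ⟨ψ, hψS, hψR, hψ⟩ := exists_psi p p' q hnhd
  suffices key : ∀ (P : Ideal (S ⊗[R] R')) [P.IsPrime], P.comap (algebraMap S _) = q → P.comap inR = p' →
      P = RingHom.ker ψ.toRingHom from (key P₁ h₁S h₁R).trans (key P₂ h₂S h₂R).symm
  intro P _ hS hR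
  have hkey : ∀ x, ∃ a b : S, b ∉ q ∧ algebraMap S _ b * x - algebraMap S _ a ∈ P ∧
      algebraMap S q.ResidueField b * ψ x = algebraMap S q.ResidueField a := fun x => by
    induction x using TensorProduct.induction_on with
    | zero =>
      exact ⟨0, 1, fun h => Ideal.IsPrime.ne_top inferInstance ((Ideal.eq_top_iff_one q).2 h), by simp, by simp⟩
    | tmul s r =>
      obtain ⟨a, b, hb, hab, hψr⟩ := hψ r
      refine ⟨s * algebraMap R S a, algebraMap R S b, fun h => hb (by rw [q.over_def p]; exact h), ?_, ?_⟩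
      · rw [← hR, Ideal.mem_comap, map_sub, map_mul, inR_algebraMap, inR_algebraMap] at hab
        have := P.mul_mem_left (algebraMap S _ s) hab
        rw [tmul_eq, map_mul]
        convert this using 1
        ring
      · rw [tmul_eq, map_mul, hψS, map_mul, ← IsScalarTower.algebraMap_apply R S, ← IsScalarTower.algebraMap_apply R S,
          ← hψr]
        ring
    | add x y hx hy =>
      obtain ⟨a, b, hb, hab, hxa⟩ := hx
      obtain ⟨c, d, hd, hcd, hyc⟩ := hy
      refine ⟨d * a + b * c, b * d, fun h => (Ideal.IsPrime.mem_or_mem inferInstance h).elim hb hd, ?_, ?_⟩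
      · have := add_mem (P.mul_mem_left (algebraMap S _ d) hab) (P.mul_mem_left (algebraMap S _ b) hcd)
        convert this using 1
        simp only [map_add, map_mul]
        ring
      · rw [map_add ψ, map_add, map_mul, map_mul, map_mul, ← hxa, ← hyc]
        ring
  ext x
  obtain ⟨a, b, hb, hab, hψx⟩ := hkey x
  have hb0 : algebraMap S q.ResidueField b ≠ 0 := fun h => hb (Ideal.algebraMap_residueField_eq_zero.1 h)
  rw [RingHom.mem_ker]
  show x ∈ P ↔ ψ x = 0
  constructor
  · intro hx
    have ha : algebraMap S _ a ∈ P := by simpa using sub_mem (P.mul_mem_left (algebraMap S _ b) hx) hab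
    have : a ∈ q := by rw [← hS]; exact ha
    rw [Ideal.algebraMap_residueField_eq_zero.2 this] at hψx
    exact (mul_eq_zero.1 hψx).resolve_left hb0
  · intro hx
    rw [hx, mul_zero] at hψx
    have ha : algebraMap S _ a ∈ P := by
      have := Ideal.algebraMap_residueField_eq_zero.1 hψx.symm
      rwa [← hS] at this
    have hbx : algebraMap S _ b * x ∈ P := by simpa using add_mem hab ha
    exact (Ideal.IsPrime.mem_or_mem inferInstance hbx).resolve_left fun h => hb (by rw [← hS]; exact h)

/-- The point of the base change is an étale neighbourhood of the prime. -/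
theorem isEtaleNhd (hnhd : FlatCA.IsEtaleNhd R R' p p') (P : Ideal (S ⊗[R] R')) [P.IsPrime]
    (hS : P.comap (algebraMap S _) = q) (hR : P.comap inR = p') : FlatCA.IsEtaleNhd S (S ⊗[R] R') q P := by
  haveI := hnhd.1
  have hover : P.LiesOver q := ⟨hS.symm⟩
  refine ⟨inferInstance, hover, (RingHom.injective _), fun z => ?_⟩
  let m := Ideal.ResidueField.mapₐ q P (Algebra.ofId S (S ⊗[R] R')) hover.over
  have himg : ∀ x : S ⊗[R] R', ∃ w, m w = algebraMap (S ⊗[R] R') P.ResidueField x := fun x => by
    obtain ⟨a, b, hb, hab⟩ := exists_fraction p p' q hnhd P hS hR x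
    refine ⟨algebraMap S q.ResidueField a / algebraMap S q.ResidueField b, ?_⟩
    have hb0 : algebraMap S P.ResidueField b ≠ 0 := fun h => hb (by
      rw [IsScalarTower.algebraMap_apply S (S ⊗[R] R')] at h
      exact hS.le (show algebraMap S (S ⊗[R] R') b ∈ P from Ideal.algebraMap_residueField_eq_zero.1 h))
    rw [map_div₀, AlgHom.commutes, AlgHom.commutes, div_eq_iff hb0]
    have := Ideal.algebraMap_residueField_eq_zero.2 hab
    rw [map_sub, map_mul, sub_eq_zero, ← IsScalarTower.algebraMap_apply, ← IsScalarTower.algebraMap_apply] at this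
    rw [← this, mul_comm]
  obtain ⟨x, y, -, rfl⟩ := IsFractionRing.div_surjective (A := (S ⊗[R] R') ⧸ P) z
  obtain ⟨x, rfl⟩ := Ideal.Quotient.mk_surjective x
  obtain ⟨y, rfl⟩ := Ideal.Quotient.mk_surjective y
  obtain ⟨w₁, hw₁⟩ := himg x
  obtain ⟨w₂, hw₂⟩ := himg y
  refine ⟨w₁ / w₂, ?_⟩
  simp only [← Ideal.Quotient.algebraMap_eq, ← IsScalarTower.algebraMap_apply]
  rw [map_div₀]
  exact congrArg₂ (· / ·) hw₁ hw₂

end Groth.Agent.Lib.RG.NhdPoint

namespace Groth.Agent.Lib.RG.NhdPoint

/-- Étale neighbourhoods compose. -/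
theorem trans {R R' R'' : Type u} [CommRing R] [CommRing R'] [CommRing R''] [Algebra R R'] [Algebra R' R'']
    [Algebra R R''] [IsScalarTower R R' R''] {p : Ideal R} [p.IsPrime] {p' : Ideal R'} [p'.IsPrime]
    {p'' : Ideal R''} [p''.IsPrime] (h : FlatCA.IsEtaleNhd R R' p p') (h' : FlatCA.IsEtaleNhd R' R'' p' p'') :
    FlatCA.IsEtaleNhd R R'' p p'' := by
  obtain ⟨he, ho, hb⟩ := h
  obtain ⟨he', ho', hb'⟩ := h'
  haveI := he
  haveI := he'
  haveI := ho
  haveI := ho'
  have hover : p''.LiesOver p := Ideal.LiesOver.trans p'' p' p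
  refine ⟨Algebra.Etale.comp R R' R'', hover, ?_⟩
  have : (Ideal.ResidueField.mapₐ p p'' (Algebra.ofId R R'') hover.over : p.ResidueField → p''.ResidueField) =
      (Ideal.ResidueField.mapₐ p' p'' (Algebra.ofId R' R'') ho'.over) ∘
        (Ideal.ResidueField.mapₐ p p' (Algebra.ofId R R') ho.over) := by
    have heq : (Ideal.ResidueField.mapₐ p p'' (Algebra.ofId R R'') hover.over).toRingHom =
        (Ideal.ResidueField.mapₐ p' p'' (Algebra.ofId R' R'') ho'.over).toRingHom.comp
          (Ideal.ResidueField.mapₐ p p' (Algebra.ofId R R') ho.over).toRingHom :=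
      Ideal.ResidueField.ringHom_ext <| RingHom.ext fun r => by
        simp only [RingHom.comp_apply, AlgHom.toRingHom_eq_coe, RingHom.coe_coe, AlgHom.commutes]
        rw [IsScalarTower.algebraMap_apply R R' p'.ResidueField, AlgHom.commutes,
          ← IsScalarTower.algebraMap_apply R R' p''.ResidueField]
    exact congrArg DFunLike.coe heq
  rw [this]
  exact hb'.comp hb

/-- The trivial neighbourhood. -/
theorem refl {R : Type u} [CommRing R] (p : Ideal R) [p.IsPrime] : FlatCA.IsEtaleNhd R R p p := by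
  have hover : p.LiesOver p := ⟨rfl⟩
  refine ⟨inferInstance, hover, ?_⟩
  have : Ideal.ResidueField.mapₐ p p (Algebra.ofId R R) hover.over = AlgHom.id R p.ResidueField :=
    Ideal.ResidueField.mapₐ_id p
  rw [this]
  exact Function.bijective_id

end Groth.Agent.Lib.RG.NhdPoint
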