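import Groth.Agent.Lib.DescAlg.LocalDimEtale
import Groth.Agent.H22.SupportBC
import Groth.Agent.Lib.FibreDim.Basic
import Groth.Agent.Lib.FlatCA.WeakAss
import Groth.Agent.Lib.RG.NhdPoint
import Groth.Agent.Lib.FlatCA.Impurity
import Mathlib.RingTheory.QuasiFinite.Basic
import Mathlib.RingTheory.Spectrum.Prime.Chevalley

/-!
# Local dimension of fibre supports along étale neighbourhoods
-/

set_option autoImplicit false
set_option linter.style.haveILetI false

universe u

open scoped TensorProduct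
open Topology

attribute [local instance] Algebra.TensorProduct.rightAlgebra

namespace Groth.Agent.Lib.RG.FibreEtale

section Embedding

variable {R S : Type u} [CommRing R] [CommRing S] [Algebra R S] (p : Ideal R) [p.IsPrime]

theorem isEmbedding_incl : IsEmbedding (PrimeSpectrum.comap (FlatCA.Impurity.incl (B := S) p)) := by
  have h : (PrimeSpectrum.comap (FlatCA.Impurity.incl (B := S) p)) =
      Subtype.val ∘ (PrimeSpectrum.preimageHomeomorphFiber R S ⟨p, inferInstance⟩).symm := rfl
  rw [h]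
  exact IsEmbedding.subtypeVal.comp (Homeomorph.isEmbedding _)

theorem comap_incl_over (x : PrimeSpectrum (p.Fiber S)) :
    (x.asIdeal.comap (FlatCA.Impurity.incl p)).comap (algebraMap R S) = p :=
  congrArg PrimeSpectrum.asIdeal ((PrimeSpectrum.preimageHomeomorphFiber R S ⟨p, inferInstance⟩).symm x).2

theorem exists_incl_eq (Q : Ideal S) [Q.IsPrime] (h : Q.comap (algebraMap R S) = p) :
    ∃ x : PrimeSpectrum (p.Fiber S),
      PrimeSpectrum.comap (FlatCA.Impurity.incl p) x = (⟨Q, inferInstance⟩ : PrimeSpectrum S) :=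
  ⟨PrimeSpectrum.preimageEquivFiber R S ⟨p, inferInstance⟩ ⟨⟨Q, inferInstance⟩, PrimeSpectrum.ext h⟩,
    congrArg Subtype.val ((PrimeSpectrum.preimageEquivFiber R S ⟨p, inferInstance⟩).symm_apply_apply
      ⟨⟨Q, inferInstance⟩, PrimeSpectrum.ext h⟩)⟩

theorem eq_fiberIdeal (q : Ideal S) [q.IsPrime] [q.LiesOver p] (x : PrimeSpectrum (p.Fiber S))
    (hx : x.asIdeal.comap (FlatCA.Impurity.incl p) = q) : x.asIdeal = _root_.FlatCA.fiberIdeal p q := by
  obtain ⟨hq, hqc⟩ := FlatCA.WeakAss.fiberIdeal_prime p q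
  exact congrArg PrimeSpectrum.asIdeal ((isEmbedding_incl p).injective
    (show PrimeSpectrum.comap (FlatCA.Impurity.incl p) x =
      PrimeSpectrum.comap (FlatCA.Impurity.incl p) ⟨_, hq⟩ from PrimeSpectrum.ext (hx.trans hqc.symm)))

end Embedding

variable {R R' S S' : Type u} [CommRing R] [CommRing R'] [CommRing S] [CommRing S'] [Algebra R R']
  [Algebra R S] [Algebra R' S'] [Algebra R S'] [Algebra S S'] [IsScalarTower R R' S'] [IsScalarTower R S S']
  [Algebra.Etale S S'] (p : Ideal R) [p.IsPrime] (p' : Ideal R') [p'.IsPrime]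
  (hp : _root_.FlatCA.IsEtaleNhd R R' p p')
  (N : Type u) [AddCommGroup N] [Module S N] [Module R N] [IsScalarTower R S N] [Module.Finite S N]
  (N' : Type u) [AddCommGroup N'] [Module S' N'] [Module R' N'] [IsScalarTower R' S' N'] [Module S N']
  [IsScalarTower S S' N'] (f : N →ₗ[S] N') (hf : IsBaseChange S' f)

include hp in
/-- An element of the new base isolating the point in its fibre. -/
theorem exists_isolate : ∃ c : R', c ∉ p' ∧
    ∀ P : Ideal R', P.IsPrime → P.comap (algebraMap R R') = p → c ∉ P → P = p' := by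
  haveI := hp.1
  haveI := hp.2.choose
  have hdisc := Algebra.QuasiFinite.isDiscrete_comap_preimage_singleton (R := R) (S := R')
    (⟨p, inferInstance⟩ : PrimeSpectrum R)
  haveI := hdisc.1
  let T := PrimeSpectrum.comap (algebraMap R R') ⁻¹' {(⟨p, inferInstance⟩ : PrimeSpectrum R)}
  let x₀ : T := ⟨⟨p', inferInstance⟩, PrimeSpectrum.ext (p'.over_def p).symm⟩
  obtain ⟨W, hW, hWT⟩ := isOpen_induced_iff.1 (isOpen_discrete ({x₀} : Set T))
  have hxW : x₀.1 ∈ W := by
    have : x₀ ∈ Subtype.val ⁻¹' W := by rw [hWT]; exact rfl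
    exact this
  obtain ⟨_, ⟨c, rfl⟩, hc, hsub⟩ :=
    PrimeSpectrum.isTopologicalBasis_basic_opens.exists_subset_of_mem_open hxW hW
  refine ⟨c, hc, fun P hP hPp hcP => ?_⟩
  let xP : T := ⟨⟨P, hP⟩, PrimeSpectrum.ext hPp⟩
  have h1 : xP ∈ Subtype.val ⁻¹' W := hsub (show (⟨P, hP⟩ : PrimeSpectrum R') ∈ _ from hcP)
  rw [hWT] at h1
  exact congrArg (fun t : T => t.1.asIdeal) h1

include hp hf in
set_option maxHeartbeats 1600000 in
/-- Fibre supports along an étale neighbourhood: points and local dimensions. -/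
theorem exists_map :
    ∃ g : Module.support (p'.Fiber S') (_root_.FlatCA.fiberMod p' S' N') →
        Module.support (p.Fiber S) (_root_.FlatCA.fiberMod p S N),
      (∀ x, FlatMor.localDim _ x = FlatMor.localDim _ (g x)) ∧
      ∀ (q : Ideal S) [q.IsPrime] (q' : Ideal S') [q'.IsPrime], q'.LiesOver p' → q'.LiesOver q →
        ∀ (ξ : PrimeSpectrum (p.Fiber S)) (hξ : ξ ∈ Module.support (p.Fiber S) (_root_.FlatCA.fiberMod p S N)),
          ξ.asIdeal = _root_.FlatCA.fiberIdeal p q →
          ∃ (ξ' : PrimeSpectrum (p'.Fiber S'))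
            (hξ' : ξ' ∈ Module.support (p'.Fiber S') (_root_.FlatCA.fiberMod p' S' N')),
            ξ'.asIdeal = _root_.FlatCA.fiberIdeal p' q' ∧ g ⟨ξ', hξ'⟩ = ⟨ξ, hξ⟩ := by
  haveI := hp.1
  haveI := hp.2.choose
  obtain ⟨c, hc, hiso⟩ := exists_isolate p p' hp
  let F := p.Fiber S
  let F' := p'.Fiber S'
  let incl := FlatCA.Impurity.incl (B := S) p
  let incl' := FlatCA.Impurity.incl (B := S') p'
  letI : Algebra S F' := ((algebraMap S' F').comp (algebraMap S S')).toAlgebra
  haveI : IsScalarTower S S' F' := .of_algebraMap_eq fun _ => rfl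
  haveI : IsScalarTower R S' F' := IsScalarTower.of_algebraMap_eq (R := R) (S := S') (A := F') fun r => by
    rw [IsScalarTower.algebraMap_apply R R' S', ← IsScalarTower.algebraMap_apply R' S' F',
      ← IsScalarTower.algebraMap_apply R R' F']
  haveI : IsScalarTower R S F' := IsScalarTower.of_algebraMap_eq (R := R) (S := S) (A := F') fun r => by
    rw [IsScalarTower.algebraMap_apply R S' F', IsScalarTower.algebraMap_apply R S S']
    rfl
  let χ : p.ResidueField →ₐ[R] F' :=
    ((IsScalarTower.toAlgHom R' p'.ResidueField F').restrictScalars R).comp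
      (Ideal.ResidueField.mapₐ p p' (Algebra.ofId R R') (p'.over_def p))
  let ψ : F →ₐ[R] F' := Algebra.TensorProduct.lift χ (IsScalarTower.toAlgHom R S F') fun _ _ => Commute.all _ _
  have hψ : ∀ s, ψ (incl s) = incl' (algebraMap S S' s) := fun s => by
    show ψ ((1 : p.ResidueField) ⊗ₜ[R] s) = _
    rw [Algebra.TensorProduct.lift_tmul, map_one, one_mul]
    rfl
  letI : Algebra F F' := ψ.toRingHom.toAlgebra
  haveI : IsScalarTower S F F' := IsScalarTower.of_algebraMap_eq (R := S) (S := F) (A := F') fun s => (hψ s).symm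
  let i : PrimeSpectrum F → PrimeSpectrum S := PrimeSpectrum.comap incl
  let i' : PrimeSpectrum F' → PrimeSpectrum S' := PrimeSpectrum.comap incl'
  let φ : PrimeSpectrum S' → PrimeSpectrum S := PrimeSpectrum.comap (algebraMap S S')
  let G : PrimeSpectrum F' → PrimeSpectrum F := PrimeSpectrum.comap (algebraMap F F')
  have hi := isEmbedding_incl (S := S) p
  have hi' := isEmbedding_incl (S := S') p'
  have hcomm : ∀ x, i (G x) = φ (i' x) := fun x => PrimeSpectrum.ext (Ideal.ext fun s => by
    show ψ (incl s) ∈ x.asIdeal ↔ incl' (algebraMap S S' s) ∈ x.asIdeal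
    rw [hψ])
  have hG : Continuous G := PrimeSpectrum.continuous_comap _
  let c' := algebraMap R' S' c
  have hcx : ∀ x, c' ∉ (i' x).asIdeal := fun x hm => hc ((comap_incl_over p' x).le hm)
  have hlift : ∀ (Q : PrimeSpectrum S') (y : PrimeSpectrum F), c' ∉ Q.asIdeal → φ Q = i y →
      ∃ x, i' x = Q ∧ G x = y := by
    intro Q y hQc hQy
    have hQp : Q.asIdeal.comap (algebraMap R' S') = p' := by
      refine hiso _ (Ideal.IsPrime.comap _) ?_ hQc
      rw [Ideal.comap_comap, ← IsScalarTower.algebraMap_eq R R' S', IsScalarTower.algebraMap_eq R S S',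
        ← Ideal.comap_comap]
      show (φ Q).asIdeal.comap (algebraMap R S) = p
      rw [hQy]
      exact comap_incl_over p y
    obtain ⟨x, hx⟩ := exists_incl_eq p' Q.asIdeal hQp
    have hx' : i' x = Q := hx
    exact ⟨x, hx', hi.injective ((hcomm x).trans (by rw [hx', hQy]))⟩
  have hopenφ : IsOpenMap φ := PrimeSpectrum.isOpenMap_comap_of_hasGoingDown_of_finitePresentation
  have hgenφ : GeneralizingMap φ := Algebra.HasGoingDown.iff_generalizingMap_primeSpectrumComap.1 inferInstance
  have hGopen : IsOpenMap G := by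
    intro U hU
    obtain ⟨W, hW, rfl⟩ := hi'.isInducing.isOpen_iff.1 hU
    have himg : G '' (i' ⁻¹' W) = i ⁻¹' (φ '' (W ∩ (PrimeSpectrum.basicOpen c' : Set (PrimeSpectrum S')))) := by
      ext y
      constructor
      · rintro ⟨x, hx, rfl⟩
        exact ⟨i' x, ⟨hx, hcx x⟩, (hcomm x).symm⟩
      · rintro ⟨Q, ⟨hQW, hQc⟩, hQy⟩
        obtain ⟨x, rfl, hxy⟩ := hlift Q y hQc hQy
        exact ⟨x, hQW, hxy⟩
    rw [himg]
    exact (hopenφ _ (hW.inter (PrimeSpectrum.isOpen_basicOpen (a := c')))).preimage hi.continuous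
  have hGgen : GeneralizingMap G := by
    intro x y hxy
    have h1 : i y ⤳ φ (i' x) := by rw [← hcomm]; exact hxy.map hi.continuous
    obtain ⟨Q, hQx, hQy⟩ := hgenφ h1
    obtain ⟨x₁, rfl, hx₁y⟩ := hlift Q y (hQx.mem_open PrimeSpectrum.isOpen_basicOpen (hcx x)) hQy
    exact ⟨x₁, hi'.isInducing.specializes_iff.1 hQx, hx₁y⟩
  have hGdisc : ∀ y, _root_.IsDiscrete (G ⁻¹' {y}) := fun y => by
    refine ((Algebra.QuasiFinite.isDiscrete_comap_preimage_singleton (R := S) (S := S') (i y)).preimage
      (f := i') hi'.continuous.continuousOn hi'.injective).mono fun x hx => ?_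
    show φ (i' x) = i y
    rw [← hcomm, show G x = y from hx]
  haveI : Module.Finite F (_root_.FlatCA.fiberMod p S N) := inferInstanceAs (Module.Finite F (F ⊗[S] N))
  have hsupp : Module.support F' (_root_.FlatCA.fiberMod p' S' N') =
      G ⁻¹' Module.support F (_root_.FlatCA.fiberMod p S N) := by
    rw [← H22.SupportBC.support_baseChange (R' := F') (_root_.FlatCA.fiberMod p S N)]
    exact LinearEquiv.support_eq
      ((TensorProduct.AlgebraTensorModule.congr (LinearEquiv.refl F' F') hf.equiv.symm).trans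
        ((TensorProduct.AlgebraTensorModule.cancelBaseChange S S' F' F' N).trans
          (TensorProduct.AlgebraTensorModule.cancelBaseChange S F F' F' N).symm))
  let T := Module.support F (_root_.FlatCA.fiberMod p S N)
  let T' := Module.support F' (_root_.FlatCA.fiberMod p' S' N')
  have hTclosed : IsClosed T := Module.isClosed_support
  have hT'closed : IsClosed T' := by
    show IsClosed (Module.support F' (_root_.FlatCA.fiberMod p' S' N'))
    rw [hsupp]
    exact hTclosed.preimage hG
  let g : T' → T := fun x => ⟨G x.1, (Set.ext_iff.1 hsupp x.1).1 x.2⟩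
  haveI : QuasiSober T := hTclosed.isClosedEmbedding_subtypeVal.quasiSober
  haveI : QuasiSober T' := hT'closed.isClosedEmbedding_subtypeVal.quasiSober
  have hg : Continuous g := (hG.comp continuous_subtype_val).subtype_mk _
  have hgopen : IsOpenMap g := by
    intro U hU
    obtain ⟨V, hV, rfl⟩ := isOpen_induced_iff.1 hU
    have himg : g '' (Subtype.val ⁻¹' V) = Subtype.val ⁻¹' (G '' V) := by
      ext y
      constructor
      · rintro ⟨x, hx, rfl⟩
        exact ⟨x.1, hx, rfl⟩
      · rintro ⟨x, hx, hxy⟩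
        exact ⟨⟨x, (Set.ext_iff.1 hsupp x).2 (show G x ∈ T from hxy ▸ y.2)⟩, hx, Subtype.ext hxy⟩
    rw [himg]
    exact (hGopen V hV).preimage continuous_subtype_val
  have hggen : GeneralizingMap g := by
    intro x y hxy
    obtain ⟨x₁, hx₁, hx₁y⟩ := hGgen (IsInducing.subtypeVal.specializes_iff.2 hxy)
    exact ⟨⟨x₁, (Set.ext_iff.1 hsupp x₁).2 (show G x₁ ∈ T from hx₁y ▸ y.2)⟩,
      IsInducing.subtypeVal.specializes_iff.1 hx₁, Subtype.ext hx₁y⟩
  have hgdisc : ∀ y, _root_.IsDiscrete (g ⁻¹' {y}) := fun y =>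
    ((hGdisc y.1).preimage (f := (Subtype.val : T' → PrimeSpectrum F')) continuous_subtype_val.continuousOn
      Subtype.val_injective).mono fun x hx => congrArg Subtype.val hx
  refine ⟨g, fun x => DescAlg.LocalDimEtale.localDim_eq hg hgopen hggen hgdisc x,
    fun q _ q' _ hq'p hq'q ξ hξ hξq => ?_⟩
  obtain ⟨x, hx⟩ := exists_incl_eq p' q' (hq'p.over.symm)
  haveI : q.LiesOver p := ⟨by
    rw [Ideal.under_def, hq'q.over, Ideal.under_def, Ideal.comap_comap, ← IsScalarTower.algebraMap_eq,
      IsScalarTower.algebraMap_eq R R' S', ← Ideal.comap_comap, ← Ideal.under_def R' q', ← hq'p.over,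
      ← Ideal.under_def, ← p'.over_def p]⟩
  haveI := hq'p
  have hxξ : G x = ξ := hi.injective (PrimeSpectrum.ext (by
    show (i (G x)).asIdeal = _; rw [hcomm]
    show (φ (i' x)).asIdeal = ξ.asIdeal.comap incl
    rw [hξq, (FlatCA.WeakAss.fiberIdeal_prime p q).2, show i' x = _ from hx]
    exact hq'q.over.symm))
  refine ⟨x, (Set.ext_iff.1 hsupp x).2 (show G x ∈ T from hxξ ▸ hξ), eq_fiberIdeal p' q' x
    (congrArg PrimeSpectrum.asIdeal hx), Subtype.ext hxξ⟩

include hp hf in
/-- The fibre dimension at a point and in total. -/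
theorem exists_point_dim (q : Ideal S) [q.IsPrime] (q' : Ideal S') [q'.IsPrime] [q'.LiesOver p'] [q'.LiesOver q]
    (n : ℕ) (hsup : Module.supportDim (p.Fiber S) (_root_.FlatCA.fiberMod p S N) = n)
    (h : ∃ (ξ : PrimeSpectrum (p.Fiber S)) (hξ : ξ ∈ Module.support (p.Fiber S) (_root_.FlatCA.fiberMod p S N)),
      ξ.asIdeal = _root_.FlatCA.fiberIdeal p q ∧
      FlatMor.localDim (Module.support (p.Fiber S) (_root_.FlatCA.fiberMod p S N)) ⟨ξ, hξ⟩ = n) :
    Module.supportDim (p'.Fiber S') (_root_.FlatCA.fiberMod p' S' N') = n ∧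
    ∃ (ξ' : PrimeSpectrum (p'.Fiber S')) (hξ' : ξ' ∈ Module.support (p'.Fiber S') (_root_.FlatCA.fiberMod p' S' N')),
      ξ'.asIdeal = _root_.FlatCA.fiberIdeal p' q' ∧
      FlatMor.localDim (Module.support (p'.Fiber S') (_root_.FlatCA.fiberMod p' S' N')) ⟨ξ', hξ'⟩ = n := by
  obtain ⟨g, hg, hpt⟩ := exists_map p p' hp N N' f hf
  obtain ⟨ξ, hξ, hξq, hξd⟩ := h
  obtain ⟨ξ', hξ', hξ'q, hgξ⟩ := hpt q q' inferInstance inferInstance ξ hξ hξq
  have hd : FlatMor.localDim (Module.support (p'.Fiber S') (_root_.FlatCA.fiberMod p' S' N')) ⟨ξ', hξ'⟩ = n := by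
    rw [hg, hgξ, hξd]
  haveI : Module.Finite S' N' := Module.Finite.equiv hf.equiv
  haveI : Module.Finite (p.Fiber S) (_root_.FlatCA.fiberMod p S N) := inferInstanceAs (Module.Finite _ (_ ⊗[S] N))
  haveI : Module.Finite (p'.Fiber S') (_root_.FlatCA.fiberMod p' S' N') :=
    inferInstanceAs (Module.Finite _ (_ ⊗[S'] N'))
  have key : ∀ {F M : Type u} [CommRing F] [AddCommGroup M] [Module F M] [Module.Finite F M],
      Module.supportDim F M = topologicalKrullDim (Module.support F M) := by
    intro F M _ _ _ _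
    rw [Module.supportDim_eq_ringKrullDim_quotient_annihilator, ← PrimeSpectrum.topologicalKrullDim_eq_ringKrullDim]
    have hf := PrimeSpectrum.isClosedEmbedding_comap_of_surjective (F ⧸ Module.annihilator F M)
      (Ideal.Quotient.mk (Module.annihilator F M)) Ideal.Quotient.mk_surjective
    have hr : Set.range (PrimeSpectrum.comap (Ideal.Quotient.mk (Module.annihilator F M))) = Module.support F M := by
      rw [range_comap_of_surjective _ _ Ideal.Quotient.mk_surjective, Ideal.mk_ker, Module.support_eq_zeroLocus]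
    exact IsHomeomorph.topologicalKrullDim_eq _
      (hf.isEmbedding.toHomeomorph.trans (Homeomorph.setCongr hr)).isHomeomorph
  refine ⟨le_antisymm ?_ ?_, ξ', hξ', hξ'q, hd⟩
  · rw [key]
    refine FibreDim.Basic.topologicalKrullDim_le_of_forall fun x => ?_
    rw [hg]
    exact (FibreDim.Basic.localDim_le_topologicalKrullDim _).trans (by rw [← key, hsup])
  · rw [key, ← hd]
    exact FibreDim.Basic.localDim_le_topologicalKrullDim _

end Groth.Agent.Lib.RG.FibreEtale
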