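import Groth.Agent.Lib.RG.GeomRing
import Groth.Agent.Lib.RG.NhdPoint
import Groth.Agent.Lib.RG.FibreEtale
import Groth.Agent.Lib.RG.EtaleQuot
import Groth.Agent.H21.Devissage.BaseChange
import Groth.Prelude.Def_FlatCA

/-!
# Residue fields along towers, and smoothness after étale localization
-/

set_option autoImplicit false
set_option linter.style.haveILetI false

universe u

open scoped TensorProduct
open CategoryTheory AlgebraicGeometry

namespace Groth.Agent.Lib.RG.Localize

theorem mapₐ_comp {A B C : Type u} [CommRing A] [CommRing B] [CommRing C] [Algebra A B] [Algebra B C]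
    [Algebra A C] [IsScalarTower A B C] (a : Ideal A) [a.IsPrime] (b : Ideal B) [b.IsPrime] (c : Ideal C) [c.IsPrime]
    [b.LiesOver a] [c.LiesOver b] [c.LiesOver a] :
    (Ideal.ResidueField.mapₐ a c (Algebra.ofId A C) (c.over_def a) : a.ResidueField → c.ResidueField) =
      (Ideal.ResidueField.mapₐ b c (Algebra.ofId B C) (c.over_def b)) ∘
        (Ideal.ResidueField.mapₐ a b (Algebra.ofId A B) (b.over_def a)) := by
  have heq : (Ideal.ResidueField.mapₐ a c (Algebra.ofId A C) (c.over_def a)).toRingHom =
      (Ideal.ResidueField.mapₐ b c (Algebra.ofId B C) (c.over_def b)).toRingHom.comp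
        (Ideal.ResidueField.mapₐ a b (Algebra.ofId A B) (b.over_def a)).toRingHom :=
    Ideal.ResidueField.ringHom_ext <| RingHom.ext fun r => by
      simp only [RingHom.comp_apply, AlgHom.toRingHom_eq_coe, RingHom.coe_coe, AlgHom.commutes]
      rw [IsScalarTower.algebraMap_apply A B b.ResidueField, AlgHom.commutes,
        ← IsScalarTower.algebraMap_apply A B c.ResidueField]
  exact congrArg DFunLike.coe heq

theorem bijective_of_surjective {A B : Type u} [CommRing A] [CommRing B] [Algebra A B]
    (hs : Function.Surjective (algebraMap A B)) (a : Ideal A) [a.IsPrime] (b : Ideal B) [b.IsPrime] [b.LiesOver a] :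
    Function.Bijective (Ideal.ResidueField.mapₐ a b (Algebra.ofId A B) (b.over_def a)) := by
  refine ⟨RingHom.injective _, fun z => ?_⟩
  obtain ⟨x, y, -, rfl⟩ := IsFractionRing.div_surjective (A := B ⧸ b) z
  obtain ⟨x, rfl⟩ := Ideal.Quotient.mk_surjective x
  obtain ⟨y, rfl⟩ := Ideal.Quotient.mk_surjective y
  obtain ⟨x, rfl⟩ := hs x
  obtain ⟨y, rfl⟩ := hs y
  refine ⟨algebraMap A a.ResidueField x / algebraMap A a.ResidueField y, ?_⟩
  rw [map_div₀, AlgHom.commutes, AlgHom.commutes]
  rfl

theorem bijective_of_localization {A B : Type u} [CommRing A] [CommRing B] [Algebra A B] (M : Submonoid A)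
    [IsLocalization M B] (a : Ideal A) [a.IsPrime] (b : Ideal B) [b.IsPrime] [b.LiesOver a] :
    Function.Bijective (Ideal.ResidueField.mapₐ a b (Algebra.ofId A B) (b.over_def a)) := by
  have key : ∀ x : B, ∃ w, Ideal.ResidueField.mapₐ a b (Algebra.ofId A B) (b.over_def a) w =
      algebraMap B b.ResidueField x := fun x => by
    obtain ⟨u, m, rfl⟩ := IsLocalization.exists_mk'_eq M x
    refine ⟨algebraMap A a.ResidueField u / algebraMap A a.ResidueField m, ?_⟩
    rw [map_div₀, AlgHom.commutes, AlgHom.commutes, IsScalarTower.algebraMap_apply A B b.ResidueField,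
      IsScalarTower.algebraMap_apply A B b.ResidueField, div_eq_iff, ← map_mul, IsLocalization.mk'_spec]
    exact ((IsLocalization.map_units B m).map (algebraMap B b.ResidueField)).ne_zero
  refine ⟨RingHom.injective _, fun z => ?_⟩
  obtain ⟨x, y, -, rfl⟩ := IsFractionRing.div_surjective (A := B ⧸ b) z
  obtain ⟨x, rfl⟩ := Ideal.Quotient.mk_surjective x
  obtain ⟨y, rfl⟩ := Ideal.Quotient.mk_surjective y
  obtain ⟨w₁, hw₁⟩ := key x
  obtain ⟨w₂, hw₂⟩ := key y
  exact ⟨w₁ / w₂, by rw [map_div₀, hw₁, hw₂]; rfl⟩

/-- Purely transcendental residue extensions along residually trivial maps. -/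
theorem pure_transfer {A B A' B' : Type u} [CommRing A] [CommRing B] [CommRing A'] [CommRing B'] [Algebra A B]
    [Algebra A A'] [Algebra A' B'] [Algebra B B'] [Algebra A B'] [IsScalarTower A A' B'] [IsScalarTower A B B']
    (a : Ideal A) [a.IsPrime] (b : Ideal B) [b.IsPrime] [b.LiesOver a] (a' : Ideal A') [a'.IsPrime] [a'.LiesOver a]
    (b' : Ideal B') [b'.IsPrime] [b'.LiesOver b] [b'.LiesOver a']
    (ha : Function.Bijective (Ideal.ResidueField.mapₐ a a' (Algebra.ofId A A') (a'.over_def a)))
    (hb : Function.Bijective (Ideal.ResidueField.mapₐ b b' (Algebra.ofId B B') (b'.over_def b)))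
    (h : _root_.FlatCA.PurelyTranscendental a b) : _root_.FlatCA.PurelyTranscendental a' b' := by
  haveI hba : b'.LiesOver a := Ideal.LiesOver.trans b' b a
  obtain ⟨ι, t, ht, hgen⟩ := h
  letI := (Ideal.ResidueField.mapₐ a b (Algebra.ofId A B) (b.over_def a)).toRingHom.toAlgebra
  letI := (Ideal.ResidueField.mapₐ a' b' (Algebra.ofId A' B') (b'.over_def a')).toRingHom.toAlgebra
  obtain ⟨h1, h2⟩ := GeomRing.transfer (k := a.ResidueField) (K := b.ResidueField)
    (k' := a'.ResidueField) (K' := b'.ResidueField)
    (Ideal.ResidueField.mapₐ a a' (Algebra.ofId A A') (a'.over_def a)).toRingHom ha.2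
    (Ideal.ResidueField.mapₐ b b' (Algebra.ofId B B') (b'.over_def b)).toRingHom hb.2
    (RingHom.ext fun x => (congrFun (mapₐ_comp a b b') x).symm.trans (congrFun (mapₐ_comp a a' b') x))
    t ht.1 hgen
  refine ⟨ι, _, h1.isTranscendenceBasis_iff_isAlgebraic.2 ?_, h2⟩
  rw [← IntermediateField.isAlgebraic_adjoin_iff_top, h2]
  infer_instance

theorem smooth_of_smoothRelDim {R D : Type u} [CommRing R] [CommRing D] [Algebra R D] (n : ℕ)
    (h : _root_.FlatCA.SmoothRelDim n R D) : Algebra.Smooth R D := by
  haveI : SmoothOfRelativeDimension n (Spec.map (CommRingCat.ofHom (algebraMap R D))) := h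
  haveI h' : Smooth (Spec.map (CommRingCat.ofHom (algebraMap R D))) :=
    SmoothOfRelativeDimension.smooth (n := n) _
  exact RingHom.smooth_algebraMap.1 ((HasRingHomProperty.Spec_iff (P := @Smooth)).1 h')

/-- Relative dimension after étale localizations of the base and of the source. -/
theorem smoothRelDim_localize {R R' D D' : Type u} [CommRing R] [CommRing R'] [CommRing D] [CommRing D']
    [Algebra R R'] [Algebra R D] [Algebra D D'] [Algebra R' D'] [Algebra R D'] [IsScalarTower R R' D']
    [IsScalarTower R D D'] [Algebra.Etale R R'] [Algebra.Etale D D'] (n : ℕ)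
    (h : _root_.FlatCA.SmoothRelDim n R D) : _root_.FlatCA.SmoothRelDim n R' D' := by
  let T := D ⊗[R] R'
  letI : Algebra R' T := Algebra.TensorProduct.rightAlgebra
  let φ : T →ₐ[D] D' := Algebra.TensorProduct.lift (Algebra.ofId D D') (IsScalarTower.toAlgHom R R' D')
    fun _ _ => Commute.all _ _
  letI : Algebra T D' := φ.toRingHom.toAlgebra
  haveI : IsScalarTower D T D' := .of_algebraMap_eq fun d => (φ.commutes d).symm
  haveI : IsScalarTower R' T D' := IsScalarTower.of_algebraMap_eq (R := R') (S := T) (A := D') fun r => by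
    show _ = φ ((1 : D) ⊗ₜ[R] r)
    rw [Algebra.TensorProduct.lift_tmul, map_one, one_mul]
    rfl
  haveI : Algebra.Etale T D' := Algebra.Etale.of_restrictScalars D T D'
  haveI h1 : SmoothOfRelativeDimension n (Spec.map (CommRingCat.ofHom (algebraMap R' T))) := by
    haveI := AlgebraicGeometry.smoothOfRelativeDimension_isStableUnderBaseChange.{u} n
    exact MorphismProperty.of_isPullback (P := @SmoothOfRelativeDimension n)
      (H21.Devissage.BaseChange.spec_isPullback R R' D T) h
  haveI h2 : Etale (Spec.map (CommRingCat.ofHom (algebraMap T D'))) :=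
    (HasRingHomProperty.Spec_iff (P := @Etale)).2 (RingHom.etale_algebraMap.2 inferInstance)
  show SmoothOfRelativeDimension n _
  rw [IsScalarTower.algebraMap_eq R' T D', CommRingCat.ofHom_comp, Spec.map_comp]
  have := smoothOfRelativeDimension_comp 0 n (Spec.map (CommRingCat.ofHom (algebraMap T D')))
    (Spec.map (CommRingCat.ofHom (algebraMap R' T)))
  simpa using this

end Groth.Agent.Lib.RG.Localize
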