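import Groth.Agent.Lib.RG.Fibres
import Groth.Agent.Lib.FlatCA.WeakAss
import Groth.Agent.Lib.GrpQ.SmoothPt
import Mathlib.RingTheory.Smooth.Fiber
import Mathlib.RingTheory.Localization.LocalizationLocalization

/-!
# Smoothness at the generic point of a geometrically integral fibre
-/

set_option autoImplicit false
set_option linter.style.haveILetI false

universe u

open scoped TensorProduct
open IsLocalRing

attribute [local instance] Algebra.TensorProduct.rightAlgebra

namespace Groth.Agent.Lib.RG.GenSmooth

open Engine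

variable {R D : Type u} [CommRing R] [IsLocalRing R] [CommRing D] [Algebra R D]
  [Algebra.FinitePresentation R D] [Module.Flat R D] (hD : GIF R D)
  [((maximalIdeal R).map (algebraMap R D)).IsPrime]

include hD

/-- A finitely presented flat algebra with integral geometric fibres is smooth at the generic point
of the closed fibre. -/
theorem isSmoothAt : Algebra.IsSmoothAt R ((maximalIdeal R).map (algebraMap R D)) := by
  let P := (maximalIdeal R).map (algebraMap R D)
  let k := (maximalIdeal R).ResidueField
  let A := k ⊗[R] D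
  haveI := liesOver_map (R := R) (D := D)
  haveI : P.LiesOver (maximalIdeal R) := ‹_›
  haveI : Algebra.IsGeometricallyReduced k A := by
    rw [Algebra.isGeometricallyReduced_field_iff]
    haveI := hD (AlgebraicClosure k)
    let e := Algebra.TensorProduct.cancelBaseChange R k k (AlgebraicClosure k) D
    exact isReduced_of_injective e.toRingHom e.injective
  haveI := (FlatCA.WeakAss.fiberIdeal_prime (maximalIdeal R) P).1
  haveI : Nontrivial A :=
    ⟨⟨0, 1, fun h => Ideal.IsPrime.ne_top (inferInstance : (_root_.FlatCA.fiberIdeal (maximalIdeal R) P).IsPrime)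
      ((Ideal.eq_top_iff_one _).2 (h ▸ zero_mem _))⟩⟩
  obtain ⟨f, hfne, hfs⟩ := GrpQ.SmoothPt.exists_smooth_away k A
  obtain ⟨s, hs, g, hg⟩ := FlatCA.WeakAss.exists_smul_eq_incl (S := D) (maximalIdeal R) f
  have hunit := FlatCA.WeakAss.isUnit_algebraMap_fiber (S := D) (maximalIdeal R) hs
  have hgP : g ∉ P := by
    intro h
    have h0 : ∀ x ∈ P, (Algebra.TensorProduct.includeRight : D →ₐ[R] A) x = 0 := fun x hx => by
      refine Submodule.span_induction (fun a ha => ?_) (map_zero _) (fun a b _ _ ha hb => by rw [map_add, ha, hb, add_zero])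
        (fun c a _ ha => by rw [smul_eq_mul, map_mul, ha, mul_zero]) hx
      obtain ⟨r, hr, rfl⟩ := ha
      rw [AlgHom.commutes, IsScalarTower.algebraMap_apply R k A, Ideal.algebraMap_residueField_eq_zero.2 hr, map_zero]
    have h1 : (algebraMap R A s * f : A) = 0 := hg.trans (h0 g h)
    have hf0 : f = 0 := hunit.mul_right_eq_zero.1 h1
    subst hf0
    exact not_subsingleton _ (IsLocalization.subsingleton (S := Localization.Away (0 : A))
      (Submonoid.mem_powers (0 : A)))
  let Dg := Localization.Away g
  let Q : Ideal Dg := P.map (algebraMap D Dg)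
  have hdisj : Disjoint (Submonoid.powers g : Set D) (P : Set D) :=
    (Ideal.disjoint_powers_iff_notMem_of_isPrime g).2 hgP
  haveI : Q.IsPrime := IsLocalization.isPrime_of_isPrime_disjoint (Submonoid.powers g) Dg P inferInstance hdisj
  have hQ : Q.comap (algebraMap D Dg) = P :=
    IsLocalization.under_map_of_isPrime_disjoint (Submonoid.powers g) Dg inferInstance hdisj
  haveI : Q.LiesOver (maximalIdeal R) := ⟨by
    show maximalIdeal R = Q.comap (algebraMap R Dg)
    rw [IsScalarTower.algebraMap_eq R D Dg, ← Ideal.comap_comap, hQ]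
    exact P.over_def (maximalIdeal R)⟩
  haveI : Algebra.FinitePresentation D Dg := IsLocalization.Away.finitePresentation g
  haveI : Algebra.FinitePresentation R Dg := Algebra.FinitePresentation.trans R D Dg
  haveI : Module.Flat R Dg := Module.Flat.trans R D Dg
  -- the fibre of the basic open is a localization of the fibre
  letI : Algebra A (k ⊗[R] Dg) :=
    (Algebra.TensorProduct.map (AlgHom.id k k) (IsScalarTower.toAlgHom R D Dg)).toRingHom.toAlgebra
  haveI : IsScalarTower k A (k ⊗[R] Dg) := IsScalarTower.of_algebraMap_eq fun c => by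
    show c ⊗ₜ[R] (1 : Dg) = Algebra.TensorProduct.map (AlgHom.id k k) (IsScalarTower.toAlgHom R D Dg) (c ⊗ₜ[R] 1)
    simp
  let ψ : Localization.Away f →ₐ[k] k ⊗[R] Dg := IsLocalization.Away.liftAlgHom f
    (f := IsScalarTower.toAlgHom k A (k ⊗[R] Dg)) (by
      show IsUnit ((Algebra.TensorProduct.map (AlgHom.id k k) (IsScalarTower.toAlgHom R D Dg)) f)
      refine isUnit_of_mul_isUnit_right (x := (Algebra.TensorProduct.map (AlgHom.id k k)
        (IsScalarTower.toAlgHom R D Dg)) (algebraMap R A s)) ?_
      rw [← map_mul, show (algebraMap R A s * f : A) = (1 : k) ⊗ₜ[R] g from hg,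
        Algebra.TensorProduct.map_tmul, map_one]
      exact (IsLocalization.Away.algebraMap_isUnit g).map
        (Algebra.TensorProduct.includeRight : Dg →ₐ[R] k ⊗[R] Dg))
  have hψA : ∀ a : A, ψ (algebraMap A (Localization.Away f) a) =
      Algebra.TensorProduct.map (AlgHom.id k k) (IsScalarTower.toAlgHom R D Dg) a := fun a => by
    simp only [ψ, IsLocalization.Away.liftAlgHom, AlgHom.coe_mk]
    exact IsLocalization.Away.lift_eq f _ a
  let τ : Dg →ₐ[R] Localization.Away f := IsLocalization.Away.liftAlgHom g
    (f := (IsScalarTower.toAlgHom R A (Localization.Away f)).comp Algebra.TensorProduct.includeRight) (by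
      show IsUnit (algebraMap A (Localization.Away f) ((1 : k) ⊗ₜ[R] g))
      rw [← show (algebraMap R A s * f : A) = (1 : k) ⊗ₜ[R] g from hg, map_mul]
      exact (hunit.map (algebraMap A (Localization.Away f))).mul (IsLocalization.Away.algebraMap_isUnit f))
  have hτD : ∀ d : D, τ (algebraMap D Dg d) = algebraMap A (Localization.Away f) ((1 : k) ⊗ₜ[R] d) := fun d => by
    simp only [τ, IsLocalization.Away.liftAlgHom, AlgHom.coe_mk]
    exact IsLocalization.Away.lift_eq g _ d
  let χ : k ⊗[R] Dg →ₐ[k] Localization.Away f :=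
    Algebra.TensorProduct.lift (Algebra.ofId k _) τ fun _ _ => Commute.all _ _
  have h1 : ψ.comp χ = AlgHom.id k (k ⊗[R] Dg) := by
    refine Algebra.TensorProduct.ext (by ext) ?_
    refine IsLocalization.algHom_ext (Submonoid.powers g) (AlgHom.ext fun d => ?_)
    show ψ (χ ((1 : k) ⊗ₜ[R] algebraMap D Dg d)) = (1 : k) ⊗ₜ[R] algebraMap D Dg d
    rw [Algebra.TensorProduct.lift_tmul, map_one, one_mul, hτD, hψA]
    simp
  have h2 : χ.comp ψ = AlgHom.id k (Localization.Away f) := by
    refine IsLocalization.algHom_ext (Submonoid.powers f) ?_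
    refine Algebra.TensorProduct.ext (by ext) (AlgHom.ext fun d => ?_)
    show χ (ψ (algebraMap A (Localization.Away f) ((1 : k) ⊗ₜ[R] d))) = algebraMap A (Localization.Away f) ((1 : k) ⊗ₜ[R] d)
    rw [hψA, Algebra.TensorProduct.map_tmul, Algebra.TensorProduct.lift_tmul]
    simp [hτD]
  haveI : Algebra.Smooth k (k ⊗[R] Dg) := Algebra.Smooth.of_equiv (AlgEquiv.ofAlgHom ψ χ h1 h2)
  haveI : Algebra.FormallySmooth (maximalIdeal R).ResidueField ((maximalIdeal R).Fiber Dg) :=
    (inferInstance : Algebra.FormallySmooth k (k ⊗[R] Dg))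
  have hQs : Algebra.IsSmoothAt R Q := Algebra.IsSmoothAt.of_formallySmooth_fiber (maximalIdeal R) Q
  haveI : IsLocalization.AtPrime (Localization.AtPrime Q) P := by
    have h3 := IsLocalization.isLocalization_isLocalization_atPrime_isLocalization (Submonoid.powers g)
      (T := Localization.AtPrime Q) Q
    show IsLocalization P.primeCompl (Localization.AtPrime Q)
    convert h3 using 1
    ext d
    show d ∉ P ↔ algebraMap D Dg d ∉ Q
    rw [← hQ]; rfl
  haveI : Algebra.FormallySmooth R (Localization.AtPrime Q) := hQs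
  exact Algebra.FormallySmooth.of_equiv
    ((IsLocalization.algEquiv P.primeCompl (Localization.AtPrime Q) (Localization.AtPrime P)).restrictScalars R)

end Groth.Agent.Lib.RG.GenSmooth
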