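import Groth.Agent.Lib.RG.FlatStep
import Groth.Agent.Lib.RG.Fibres
import Groth.Agent.Lib.RG.GenSmooth
import Mathlib.RingTheory.Localization.BaseChange

/-!
# The step map of a dévissage over a base which is not local

For a flat finitely presented algebra `D` with integral geometric fibres, maps from finite free modules to a `D`-module which are
bijective at the generic point of the fibre over `p` are universally injective up to denominators in
`R \ p`.
-/

set_option autoImplicit false
set_option linter.style.haveILetI false

universe u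

open scoped TensorProduct
open IsLocalRing

namespace Groth.Agent.Lib.RG.StepModel

open Engine

/-- Bijectivity of the localization at a prime, stated with elements. -/
def BijAt {D : Type u} [CommRing D] (P : Ideal D) {F N : Type u} [AddCommGroup F] [Module D F]
    [AddCommGroup N] [Module D N] (α : F →ₗ[D] N) : Prop :=
  (∀ g, ∃ d, d ∉ P ∧ d • g ∈ LinearMap.range α) ∧ ∀ v, α v = 0 → ∃ d, d ∉ P ∧ d • v = 0

variable {R D : Type u} [CommRing R] [CommRing D] [Algebra R D]

/-- Universal injectivity up to a multiplicative set. -/
def UI (R : Type u) [CommRing R] [Algebra R D] (W : Submonoid D) {F N : Type u} [AddCommGroup F] [Module D F]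
    [Module R F] [IsScalarTower R D F] [AddCommGroup N] [Module D N] [Module R N] [IsScalarTower R D N]
    (α : F →ₗ[D] N) : Prop :=
  ∀ (Q : Type u) [AddCommGroup Q] [Module R Q] (z : F ⊗[R] Q),
    (α.restrictScalars R).rTensor Q z = 0 → ∃ s ∈ W, s • z = 0

/-- The kernel of the map to the fibre ring: the generic point of an integral fibre. -/
noncomputable abbrev genPrime (p : Ideal R) [p.IsPrime] (D : Type u) [CommRing D] [Algebra R D] : Ideal D :=
  RingHom.ker (Algebra.TensorProduct.includeRight : D →ₐ[R] p.ResidueField ⊗[R] D).toRingHom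

variable (p : Ideal R) [p.IsPrime]

theorem genPrime_le (Q : Ideal D) [Q.IsPrime] [Q.LiesOver p] : genPrime p D ≤ Q :=
  fun _ hd => mem_of_tmul_eq_zero p Q hd

theorem genPrime_isPrime (hD : GIF R D) (y : Ideal D) [y.IsPrime] [y.LiesOver p] :
    (genPrime p D).IsPrime ∧ (genPrime p D).LiesOver p := by
  haveI := hD p.ResidueField
  haveI : Nontrivial (p.ResidueField ⊗[R] D) := by
    let φ : p.ResidueField ⊗[R] D →ₐ[R] y.ResidueField :=
      Algebra.TensorProduct.lift (Ideal.ResidueField.mapₐ p y (Algebra.ofId R D) (y.over_def p))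
        (IsScalarTower.toAlgHom R D y.ResidueField) fun _ _ => Commute.all _ _
    exact RingHom.domain_nontrivial φ.toRingHom
  haveI : IsDomain (p.ResidueField ⊗[R] D) := NoZeroDivisors.to_isDomain _
  refine ⟨RingHom.ker_isPrime _, ⟨le_antisymm (fun r hr => ?_) fun r hr => ?_⟩⟩
  · show Algebra.TensorProduct.includeRight (R := R) (A := p.ResidueField) (algebraMap R D r) = 0
    rw [AlgHom.commutes, IsScalarTower.algebraMap_apply R p.ResidueField (p.ResidueField ⊗[R] D),
      Ideal.algebraMap_residueField_eq_zero.2 hr, map_zero]
  · rw [y.over_def p]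
    exact genPrime_le p y hr

/-- A localized module with its module structure over a given localization of the ring. -/
theorem exists_localModule (M : Submonoid D) (DA : Type u) [CommRing DA] [Algebra D DA] [IsLocalization M DA]
    (G : Type u) [AddCommGroup G] [Module D G] :
    ∃ (GA : Type u) (_ : AddCommGroup GA) (_ : Module DA GA) (_ : Module D GA) (_ : IsScalarTower D DA GA)
      (l : G →ₗ[D] GA), IsLocalizedModule M l :=
  ⟨DA ⊗[D] G, inferInstance, inferInstance, inferInstance, inferInstance, TensorProduct.mk D DA G 1,
    (isLocalizedModule_iff_isBaseChange M DA _).2 (TensorProduct.isBaseChange D G DA)⟩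

section Model

variable [Algebra.FinitePresentation R D] [Module.Flat R D] (hD : GIF R D) (P : Ideal D) [P.IsPrime] [P.LiesOver p]
  (hP : ∀ Q : Ideal D, ∀ _ : Q.IsPrime, Q.LiesOver p → P ≤ Q)

include hD hP

theorem exists_localModel :
    ∃ (DA : Type u) (_ : CommRing DA) (_ : Algebra (Localization.AtPrime p) DA) (_ : Algebra D DA)
      (_ : Algebra R DA) (_ : IsScalarTower R D DA) (_ : IsScalarTower R (Localization.AtPrime p) DA),
      IsLocalization (Algebra.algebraMapSubmonoid D p.primeCompl) DA ∧
      Algebra.FinitePresentation (Localization.AtPrime p) DA ∧ Module.Flat (Localization.AtPrime p) DA ∧ GIF (Localization.AtPrime p) DA ∧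
      ((maximalIdeal (Localization.AtPrime p)).map (algebraMap (Localization.AtPrime p) DA)).IsPrime ∧
      ((maximalIdeal (Localization.AtPrime p)).map (algebraMap (Localization.AtPrime p) DA)).comap
        (algebraMap D DA) = P := by
  let A := Localization.AtPrime p
  let M := Algebra.algebraMapSubmonoid D p.primeCompl
  let DA := Localization M
  letI : Algebra A DA := localizationAlgebra p.primeCompl D
  haveI : IsScalarTower R A DA := isScalarTower_localizationAlgebra p.primeCompl D (Rₘ := A) (Sₘ := DA)
  haveI : Algebra.IsPushout R A D DA := (Algebra.isPushout_of_isLocalization p.primeCompl A D DA).symm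
  let e : A ⊗[R] D ≃ₐ[A] DA := Algebra.IsPushout.equiv R A D DA
  haveI hfp : Algebra.FinitePresentation A DA := Algebra.FinitePresentation.equiv e
  haveI hfl : Module.Flat A DA := Module.Flat.of_linearEquiv e.symm.toLinearEquiv
  have hgif : GIF A DA := by
    intro K _ _
    haveI := hD.baseChange A K
    let eK := Algebra.TensorProduct.congr (AlgEquiv.refl : K ≃ₐ[A] K) e
    exact Function.Injective.noZeroDivisors eK.symm eK.symm.injective (map_zero _) (map_mul _)
  have hdisj : ∀ Q : Ideal D, Q.LiesOver p → Disjoint (M : Set D) (Q : Set D) := by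
    intro Q hQ
    rw [Set.disjoint_left]
    rintro _ ⟨r, hr, rfl⟩ hrQ
    exact hr (by rw [Q.over_def p]; exact hrQ)
  have hle : ∀ Q : Ideal D, ∀ _ : Q.IsPrime, Q.LiesOver p →
      (maximalIdeal A).map (algebraMap A DA) ≤ Q.map (algebraMap D DA) := by
    intro Q _ hQ
    rw [← Localization.AtPrime.map_eq_maximalIdeal (I := p), Ideal.map_map, ← IsScalarTower.algebraMap_eq,
      IsScalarTower.algebraMap_eq R D DA, ← Ideal.map_map]
    exact Ideal.map_mono (Ideal.map_le_iff_le_comap.2 (Q.over_def p).le)
  have hcomap : ∀ Q : Ideal D, ∀ _ : Q.IsPrime, Q.LiesOver p → (Q.map (algebraMap D DA)).comap (algebraMap D DA) = Q :=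
    fun Q hQ hQp => IsLocalization.under_map_of_isPrime_disjoint M DA hQ (hdisj Q hQp)
  haveI hPA : (P.map (algebraMap D DA)).IsPrime :=
    IsLocalization.isPrime_of_isPrime_disjoint M DA P inferInstance (hdisj P inferInstance)
  have hprime : ((maximalIdeal A).map (algebraMap A DA)).IsPrime := by
    refine Fibres.prime_closedFibre ?_
    haveI := hgif (maximalIdeal A).ResidueField
    haveI : (P.map (algebraMap D DA)).LiesOver (maximalIdeal A) :=
      ⟨((maximalIdeal.isMaximal A).eq_of_le (Ideal.comap_ne_top _ hPA.ne_top)
        (Ideal.map_le_iff_le_comap.1 (hle P inferInstance inferInstance)))⟩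
    let φ : (maximalIdeal A).ResidueField ⊗[A] DA →ₐ[A] (P.map (algebraMap D DA)).ResidueField :=
      Algebra.TensorProduct.lift (Ideal.ResidueField.mapₐ (maximalIdeal A) _ (Algebra.ofId A DA)
        (Ideal.over_def _ (maximalIdeal A)))
        (IsScalarTower.toAlgHom A DA _) fun _ _ => Commute.all _ _
    haveI := RingHom.domain_nontrivial φ.toRingHom
    exact NoZeroDivisors.to_isDomain _
  refine ⟨DA, inferInstance, inferInstance, inferInstance, inferInstance, inferInstance, inferInstance,
    inferInstance, hfp, hfl, hgif, hprime, ?_⟩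
  haveI : (((maximalIdeal A).map (algebraMap A DA)).comap (algebraMap D DA)).LiesOver p := by
    refine ⟨le_antisymm ?_ ?_⟩
    · intro r hr
      show algebraMap D DA (algebraMap R D r) ∈ (maximalIdeal A).map (algebraMap A DA)
      rw [← IsScalarTower.algebraMap_apply, IsScalarTower.algebraMap_apply R A DA]
      exact Ideal.mem_map_of_mem _ ((IsLocalization.AtPrime.to_map_mem_maximal_iff A p r).2 hr)
    · intro r hr
      rw [P.over_def p]
      show algebraMap R D r ∈ P
      rw [← hcomap P inferInstance inferInstance]
      exact hle P inferInstance inferInstance hr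
  refine le_antisymm ?_ (hP _ (Ideal.comap_isPrime _ _) inferInstance)
  exact (Ideal.comap_mono (hle P inferInstance inferInstance)).trans (hcomap P inferInstance inferInstance).le

variable {G : Type u} [AddCommGroup G] [Module D G] [Module R G] [IsScalarTower R D G] [Module.Finite D G]

set_option maxHeartbeats 1600000 in
/-- Some map from a free module is bijective at the generic point of the fibre. -/
theorem exists_bijAt (hflat : Module.Flat R (LocalizedModule P.primeCompl G)) :
    ∃ (r : ℕ) (α : (Fin r → D) →ₗ[D] G), BijAt P α := by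
  classical
  obtain ⟨DA, _, _, _, _, _, _, hloc, hfp, hfl, hgif, hprime, hcomap⟩ := exists_localModel (R := R) (D := D) p hD P hP
  let A := Localization.AtPrime p
  let M := Algebra.algebraMapSubmonoid D p.primeCompl
  let PA := (maximalIdeal A).map (algebraMap A DA)
  haveI : PA.IsPrime := hprime
  haveI := hloc
  haveI := hfp
  haveI := hfl
  have hM : ∀ m ∈ M, m ∉ P := by
    rintro _ ⟨r, hr, rfl⟩ h
    exact hr (by rw [P.over_def p]; exact h)
  have hmemP : ∀ d, algebraMap D DA d ∈ PA ↔ d ∈ P := fun d => by rw [← hcomap]; rfl
  -- the localized module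
  obtain ⟨GA, _, _, _, _, l, hl⟩ := exists_localModule M DA G
  haveI := hl
  letI : Module R GA := Module.compHom GA (algebraMap R DA)
  haveI : IsScalarTower R DA GA := IsScalarTower.of_algebraMap_smul fun _ _ => rfl
  haveI : IsScalarTower R D GA := IsScalarTower.of_algebraMap_smul fun r x => by
    rw [← algebraMap_smul DA (algebraMap R D r) x, ← IsScalarTower.algebraMap_apply]; rfl
  letI : Module A GA := Module.compHom GA (algebraMap A DA)
  haveI : IsScalarTower A DA GA := IsScalarTower.of_algebraMap_smul fun _ _ => rfl
  haveI : IsScalarTower R A GA := IsScalarTower.of_algebraMap_smul fun r x => by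
    show algebraMap A DA (algebraMap R A r) • x = r • x
    rw [← IsScalarTower.algebraMap_apply]; rfl
  haveI : Module.Finite DA GA := Module.Finite.of_isLocalizedModule M l
  haveI hLR : Module.Flat R (LocalizedModule PA.primeCompl GA) := by
    refine (H19.FlatLocus.flat_iff_killed PA.primeCompl (LocalizedModule.mkLinearMap PA.primeCompl GA)).2
      fun J ξ hξ => ?_
    haveI := IsLocalizedModule.rTensor M (R := R) (A := D) (N := J) l
    obtain ⟨⟨η, m⟩, hm⟩ := IsLocalizedModule.surj M (TensorProduct.AlgebraTensorModule.rTensor R J l) ξ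
    have h0 : l.restrictScalars R (TensorProduct.rid R G ((J.subtype).lTensor G η)) = 0 := by
      have h1 : ∀ w : G ⊗[R] J, l (TensorProduct.rid R G ((J.subtype).lTensor G w)) =
          TensorProduct.rid R GA ((J.subtype).lTensor GA (TensorProduct.AlgebraTensorModule.rTensor R J l w)) := by
        intro w
        induction w with
        | zero => simp
        | tmul a b => simp
        | add a b ha hb => simp only [map_add, ha, hb]
      show l _ = 0
      rw [h1, ← hm]
      have h2 : ∀ w : GA ⊗[R] J, (J.subtype).lTensor GA ((m : D) • w) = (m : D) • (J.subtype).lTensor GA w :=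
        fun w => (TensorProduct.AlgebraTensorModule.lTensor D GA J.subtype).map_smul _ w
      rw [show m • ξ = (m : D) • ξ from rfl, h2, hξ, smul_zero, map_zero]
    obtain ⟨m₂, hm₂⟩ := (IsLocalizedModule.eq_zero_iff M l).1 h0
    have h3 : (J.subtype).lTensor G ((m₂ : D) • η) = 0 := by
      apply (TensorProduct.rid R G).injective
      rw [map_zero, show (J.subtype).lTensor G ((m₂ : D) • η) = (m₂ : D) • (J.subtype).lTensor G η from
        (TensorProduct.AlgebraTensorModule.lTensor D G J.subtype).map_smul _ η]
      have h4 : ∀ (c : D) (w : G ⊗[R] R), TensorProduct.rid R G (c • w) = c • TensorProduct.rid R G w :=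
        fun c w => (TensorProduct.AlgebraTensorModule.rid R D G).map_smul c w
      rw [h4]
      exact hm₂
    obtain ⟨d, hd, hdη⟩ := (H19.FlatLocus.flat_iff_killed P.primeCompl
      (LocalizedModule.mkLinearMap P.primeCompl G)).1 hflat J _ h3
    refine ⟨algebraMap D DA (d * m₂ * m), fun h => ?_, ?_⟩
    · rcases Ideal.IsPrime.mem_or_mem inferInstance ((hmemP _).1 h) with h | h
      · exact (Ideal.IsPrime.mem_or_mem inferInstance h).elim hd (hM _ m₂.2)
      · exact hM _ m.2 h
    · rw [algebraMap_smul, mul_smul, show (m : D) • ξ = TensorProduct.AlgebraTensorModule.rTensor R J l η from hm,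
        ← map_smul, mul_smul, hdη, map_zero]
  haveI : Module.Flat A (LocalizedModule PA.primeCompl GA) :=
    (Module.flat_iff_of_isLocalization A p.primeCompl (LocalizedModule PA.primeCompl GA)).2 inferInstance
  -- a basis at the residue field
  let κ := PA.ResidueField
  let V := κ ⊗[DA] GA
  let t : Set V := Set.range fun g : G => (1 : κ) ⊗ₜ[DA] l g
  have hspan : Submodule.span κ t = ⊤ := by
    rw [eq_top_iff]
    rintro v -
    induction v using TensorProduct.induction_on with
    | zero => exact zero_mem _
    | add a b ha hb => exact add_mem ha hb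
    | tmul c x =>
      obtain ⟨⟨g, m⟩, hm⟩ := IsLocalizedModule.surj M l x
      obtain ⟨u, hu⟩ := IsLocalization.map_units DA m
      have hx : x = (↑u⁻¹ : DA) • l g := by
        rw [← hm, Submonoid.smul_def, ← algebraMap_smul DA (m : D) x, ← hu, smul_smul, Units.inv_mul, one_smul]
      rw [hx, ← TensorProduct.smul_tmul,
        show ((↑u⁻¹ : DA) • c) ⊗ₜ[DA] l g = ((↑u⁻¹ : DA) • c) • ((1 : κ) ⊗ₜ[DA] l g) from by
          rw [TensorProduct.smul_tmul', smul_eq_mul, mul_one]]
      exact Submodule.smul_mem _ _ (Submodule.subset_span ⟨g, rfl⟩)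
  obtain ⟨b, hbt, hbspan, hbli⟩ := exists_linearIndependent κ t
  let B : Module.Basis b κ V := Module.Basis.mk hbli (by rw [Subtype.range_coe, hbspan, hspan])
  haveI : Fintype b := FiniteDimensional.fintypeBasisIndex B
  let r := Fintype.card b
  let ε : Fin r ≃ b := (Fintype.equivFin b).symm
  choose gb hgb using fun i : Fin r => hbt (ε i).2
  let α : (Fin r → D) →ₗ[D] G := Fintype.linearCombination D gb
  let αA : (Fin r → DA) →ₗ[DA] GA := Fintype.linearCombination DA fun i => l (gb i)
  have hαA : Function.Bijective (αA.baseChange κ) := by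
    let e₁ : κ ⊗[DA] (Fin r → DA) ≃ₗ[κ] (Fin r → κ) := TensorProduct.piScalarRight DA κ κ (Fin r)
    let B' := B.reindex ε.symm
    have h : αA.baseChange κ = (B'.equivFun.symm.toLinearMap).comp e₁.toLinearMap := by
      apply TensorProduct.AlgebraTensorModule.ext
      intro c v
      rw [LinearMap.baseChange_tmul, LinearMap.comp_apply, LinearEquiv.coe_coe, LinearEquiv.coe_coe,
        Module.Basis.equivFun_symm_apply]
      simp only [αA, Fintype.linearCombination_apply, TensorProduct.tmul_sum, e₁,
        TensorProduct.piScalarRight_apply, TensorProduct.piScalarRightHom_tmul]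
      refine Finset.sum_congr rfl fun i _ => ?_
      rw [show B' i = (1 : κ) ⊗ₜ[DA] l (gb i) from by
        rw [Module.Basis.reindex_apply, Equiv.symm_symm, Module.Basis.mk_apply]; exact (hgb i).symm,
        TensorProduct.smul_tmul', smul_eq_mul, mul_one, ← TensorProduct.smul_tmul]
    rw [h]
    exact B'.equivFun.symm.bijective.comp e₁.bijective
  haveI := GenSmooth.isSmoothAt hgif
  obtain ⟨hinj, hsurj⟩ := FlatStep.bijective_localized hgif hαA
  let gF : (Fin r → D) →ₗ[D] (Fin r → DA) := (Algebra.linearMap D DA).compLeft (Fin r)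
  have hcomm : ∀ v, αA (gF v) = l (α v) := fun v => by
    simp only [αA, α, gF, Fintype.linearCombination_apply, map_sum, map_smul]
    refine Finset.sum_congr rfl fun i _ => ?_
    show algebraMap D DA (v i) • _ = _
    rw [algebraMap_smul]
  refine ⟨r, α, fun g => ?_, fun v hv => ?_⟩
  · obtain ⟨z, hz⟩ := hsurj (LocalizedModule.mk (l g) 1)
    induction z using LocalizedModule.induction_on with
    | h v w =>
      rw [LocalizedModule.map_mk, LocalizedModule.mk_eq] at hz
      obtain ⟨c, hc⟩ := hz
      simp only [one_smul, Submonoid.smul_def, smul_smul] at hc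
      obtain ⟨⟨v₀, m⟩, hm⟩ := IsLocalizedModule.surj M
        (LinearMap.pi fun i : Fin r => (Algebra.linearMap D DA).comp (LinearMap.proj i)) v
      have hm' : algebraMap D DA m • v = gF v₀ := by
        rw [algebraMap_smul]; exact hm
      obtain ⟨⟨dc, mc⟩, hdc⟩ := IsLocalization.surj M (c : DA)
      obtain ⟨⟨dw, mw⟩, hdw⟩ := IsLocalization.surj M (w : DA)
      simp only at hdc hdw
      have h1 : l (((dc * dw * m : D)) • g) = l (α ((dc * mw : D) • v₀)) := by
        rw [map_smul, ← algebraMap_smul DA (dc * dw * m : D) (l g), map_smul α, map_smul l,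
          ← algebraMap_smul DA (dc * mw : D) (l _), ← hcomm, ← hm', map_smul, smul_smul, map_mul, map_mul,
          map_mul, ← hdc, ← hdw,
          show ((c : DA) * algebraMap D DA mc * ((w : DA) * algebraMap D DA mw) * algebraMap D DA m) • l g =
            (algebraMap D DA mc * algebraMap D DA mw * algebraMap D DA m) • (((c : DA) * (w : DA)) • l g) from by
              rw [smul_smul]; congr 1; ring,
          ← hc, smul_smul]
        congr 1
        ring
      obtain ⟨m₃, hm₃⟩ := IsLocalizedModule.exists_of_eq (S := M) h1
      simp only [Submonoid.smul_def, ← map_smul] at hm₃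
      refine ⟨m₃ * (dc * dw * m), fun h => ?_, ?_⟩
      · rcases Ideal.IsPrime.mem_or_mem inferInstance h with h | h
        · exact hM _ m₃.2 h
        rcases Ideal.IsPrime.mem_or_mem inferInstance h with h | h
        · rcases Ideal.IsPrime.mem_or_mem inferInstance h with h | h
          · exact c.2 ((Ideal.IsPrime.mem_or_mem inferInstance (hdc ▸ (hmemP _).2 h)).resolve_right
              fun h' => hM _ mc.2 ((hmemP _).1 h'))
          · exact w.2 ((Ideal.IsPrime.mem_or_mem inferInstance (hdw ▸ (hmemP _).2 h)).resolve_right
              fun h' => hM _ mw.2 ((hmemP _).1 h'))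
        · exact hM _ m.2 h
      · rw [mul_smul, hm₃]
        exact LinearMap.mem_range_self α _
  · have h0 : LocalizedModule.mk (gF v) (1 : PA.primeCompl) = 0 := by
      apply hinj
      rw [LocalizedModule.map_mk, map_zero, hcomm, hv, map_zero, LocalizedModule.zero_mk]
    rw [← LocalizedModule.zero_mk (1 : PA.primeCompl), LocalizedModule.mk_eq] at h0
    obtain ⟨c, hc⟩ := h0
    simp only [one_smul, smul_zero, Submonoid.smul_def] at hc
    obtain ⟨⟨dc, mc⟩, hdc⟩ := IsLocalization.surj M (c : DA)
    simp only at hdc
    have h1 : gF (dc • v) = 0 := by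
      rw [map_smul, ← algebraMap_smul DA dc (gF v), ← hdc, mul_comm, mul_smul, hc, smul_zero]
    have h2 : ∀ i, ∃ m ∈ M, m * (dc * v i) = 0 := fun i => by
      obtain ⟨m, hm⟩ := (IsLocalization.map_eq_zero_iff M DA _).1 (congrFun h1 i)
      exact ⟨m, m.2, hm⟩
    choose m hmM hm using h2
    refine ⟨(∏ i, m i) * dc, fun h => ?_, funext fun i => ?_⟩
    · rcases Ideal.IsPrime.mem_or_mem inferInstance h with h | h
      · exact hM _ (Submonoid.prod_mem _ fun i _ => hmM i) h
      · exact c.2 ((Ideal.IsPrime.mem_or_mem inferInstance (hdc ▸ (hmemP _).2 h)).resolve_right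
          fun h' => hM _ mc.2 ((hmemP _).1 h'))
    · show (∏ j, m j) * dc * v i = 0
      rw [← Finset.prod_erase_mul _ _ (Finset.mem_univ i), mul_assoc, mul_assoc, hm i, mul_zero]

omit [Module.Finite D G] in
set_option maxHeartbeats 1600000 in
/-- Bijectivity at the generic point of the fibre gives universal injectivity up to denominators. -/
theorem ui_of_bijAt {r : ℕ} (α : (Fin r → D) →ₗ[D] G) (hα : BijAt P α) :
    UI R (Algebra.algebraMapSubmonoid D p.primeCompl) α := by
  classical
  obtain ⟨DA, _, _, _, _, _, _, hloc, hfp, hfl, hgif, hprime, hcomap⟩ := exists_localModel (R := R) (D := D) p hD P hP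
  let A := Localization.AtPrime p
  let M := Algebra.algebraMapSubmonoid D p.primeCompl
  let PA := (maximalIdeal A).map (algebraMap A DA)
  haveI : PA.IsPrime := hprime
  haveI := hloc
  haveI := hfp
  haveI := hfl
  have hmemP : ∀ d, algebraMap D DA d ∈ PA ↔ d ∈ P := fun d => by rw [← hcomap]; rfl
  have hM : ∀ m ∈ M, algebraMap D DA m ∉ PA := by
    rintro _ ⟨r, hr, rfl⟩ h
    exact hr (by rw [P.over_def p]; exact (hmemP _).1 h)
  obtain ⟨GA, _, _, _, _, l, hl⟩ := exists_localModule M DA G
  haveI := hl
  letI : Module R GA := Module.compHom GA (algebraMap R DA)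
  haveI : IsScalarTower R DA GA := IsScalarTower.of_algebraMap_smul fun _ _ => rfl
  haveI : IsScalarTower R D GA := IsScalarTower.of_algebraMap_smul fun r x => by
    rw [← algebraMap_smul DA (algebraMap R D r) x, ← IsScalarTower.algebraMap_apply]; rfl
  letI : Module A GA := Module.compHom GA (algebraMap A DA)
  haveI : IsScalarTower A DA GA := IsScalarTower.of_algebraMap_smul fun _ _ => rfl
  haveI : IsScalarTower R A GA := IsScalarTower.of_algebraMap_smul fun r x => by
    show algebraMap A DA (algebraMap R A r) • x = r • x
    rw [← IsScalarTower.algebraMap_apply]; rfl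
  let αA : (Fin r → DA) →ₗ[DA] GA := Fintype.linearCombination DA fun i => l (α (Pi.single i 1))
  let gF : (Fin r → D) →ₗ[D] (Fin r → DA) :=
    LinearMap.pi fun i : Fin r => (Algebra.linearMap D DA).comp (LinearMap.proj i)
  haveI : IsLocalizedModule M gF := IsLocalizedModule.pi M (fun _ : Fin r => Algebra.linearMap D DA)
  have hcomm : ∀ v, αA (gF v) = l (α v) := fun v => by
    simp only [αA, gF, Fintype.linearCombination_apply, LinearMap.pi_apply, LinearMap.comp_apply,
      LinearMap.proj_apply, Algebra.linearMap_apply, algebraMap_smul, ← map_smul, ← map_sum]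
    congr 2
    conv_rhs => rw [← Finset.univ_sum_single v]
    refine Finset.sum_congr rfl fun i _ => ?_
    rw [← Pi.single_smul, smul_eq_mul, mul_one]
  have hbij : Function.Bijective (LocalizedModule.map PA.primeCompl αA) := by
    refine ⟨(injective_iff_map_eq_zero _).2 fun z hz => ?_, fun z => ?_⟩
    · induction z using LocalizedModule.induction_on with
      | h v w =>
        rw [LocalizedModule.map_mk, ← LocalizedModule.zero_mk w, LocalizedModule.mk_eq] at hz
        obtain ⟨c, hc⟩ := hz
        simp only [smul_zero, Submonoid.smul_def, smul_smul] at hc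
        obtain ⟨⟨v₀, m⟩, hm⟩ := IsLocalizedModule.surj M gF v
        obtain ⟨⟨dc, mc⟩, hdc⟩ := IsLocalization.surj M ((c : DA) * (w : DA))
        simp only at hdc
        have h1 : l (α (dc • v₀)) = 0 := by
          rw [← hcomm, map_smul, ← algebraMap_smul DA dc (gF v₀), ← hm, Submonoid.smul_def,
            ← algebraMap_smul DA (m : D) v, map_smul, map_smul, ← hdc, smul_smul,
            show ((c : DA) * (w : DA)) * algebraMap D DA mc * algebraMap D DA m =
              (algebraMap D DA mc * algebraMap D DA m) * ((c : DA) * (w : DA)) by ring,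
            mul_smul, hc, smul_zero]
        obtain ⟨m₂, hm₂⟩ := (IsLocalizedModule.eq_zero_iff M l).1 h1
        rw [Submonoid.smul_def, ← map_smul] at hm₂
        obtain ⟨d, hd, hdv⟩ := hα.2 _ hm₂
        rw [← LocalizedModule.zero_mk w, LocalizedModule.mk_eq]
        refine ⟨⟨algebraMap D DA (d * m₂ * dc * m), fun h => ?_⟩, ?_⟩
        · rw [map_mul, map_mul, map_mul] at h
          rcases Ideal.IsPrime.mem_or_mem inferInstance h with h | h
          · rcases Ideal.IsPrime.mem_or_mem inferInstance h with h | h
            · rcases Ideal.IsPrime.mem_or_mem inferInstance h with h | h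
              · exact hd ((hmemP _).1 h)
              · exact hM _ m₂.2 h
            · rw [← hdc] at h
              rcases Ideal.IsPrime.mem_or_mem inferInstance h with h | h
              · exact (Ideal.IsPrime.mem_or_mem inferInstance h).elim c.2 w.2
              · exact hM _ mc.2 h
          · exact hM _ m.2 h
        · simp only [smul_zero, Submonoid.smul_def, smul_smul]
          rw [mul_comm, mul_smul, algebraMap_smul, mul_smul, show (m : D) • v = gF v₀ from hm, ← map_smul]
          rw [show (d * m₂ * dc) • v₀ = 0 by rwa [mul_smul, mul_smul], map_zero, smul_zero]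
    · induction z using LocalizedModule.induction_on with
      | h x w =>
        obtain ⟨⟨g, m⟩, hm⟩ := IsLocalizedModule.surj M l x
        obtain ⟨d, hd, v, hv⟩ := hα.1 g
        have hdm : algebraMap D DA (d * m) ∈ PA.primeCompl := fun h => by
          rw [map_mul] at h
          rcases Ideal.IsPrime.mem_or_mem inferInstance h with h | h
          · exact hd ((hmemP _).1 h)
          · exact hM _ m.2 h
        refine ⟨LocalizedModule.mk (gF v) (⟨_, hdm⟩ * w), ?_⟩
        rw [LocalizedModule.map_mk, hcomm, hv, LocalizedModule.mk_eq]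
        refine ⟨1, ?_⟩
        simp only [one_smul, Submonoid.smul_def, Submonoid.coe_mul]
        rw [map_smul, mul_comm (algebraMap D DA (d * m)), mul_smul, algebraMap_smul, mul_smul,
          show (m : D) • x = l g from hm]
  have hUI := FlatStep.univInj_of_injective_localized hgif hbij
  intro Q _ _ z hz
  have h1 : Function.Injective ((αA.restrictScalars A).rTensor (A ⊗[R] Q)) :=
    (LinearMap.lTensor_inj_iff_rTensor_inj _ _).1 (hUI (A ⊗[R] Q))
  let eF := TensorProduct.AlgebraTensorModule.cancelBaseChange R A A (Fin r → DA) Q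
  let eG := TensorProduct.AlgebraTensorModule.cancelBaseChange R A A GA Q
  have hnat : ∀ ξ, (αA.restrictScalars R).rTensor Q (eF ξ) = eG ((αA.restrictScalars A).rTensor (A ⊗[R] Q) ξ) := by
    intro ξ
    induction ξ with
    | zero => simp
    | add a b ha hb => simp only [map_add, ha, hb]
    | tmul a b =>
      induction b with
      | zero => simp
      | add c d hc hd => simp only [TensorProduct.tmul_add, map_add, hc, hd]
      | tmul c d =>
        simp only [eF, eG, TensorProduct.AlgebraTensorModule.cancelBaseChange_tmul, LinearMap.rTensor_tmul,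
          LinearMap.coe_restrictScalars]
        rw [← algebraMap_smul DA c a, map_smul, algebraMap_smul]
  have h2 : ∀ w, (αA.restrictScalars R).rTensor Q (TensorProduct.AlgebraTensorModule.rTensor R Q gF w) =
      TensorProduct.AlgebraTensorModule.rTensor R Q l ((α.restrictScalars R).rTensor Q w) := by
    intro w
    induction w with
    | zero => simp
    | add a b ha hb => simp only [map_add, ha, hb]
    | tmul a b => simp [hcomm]
  have h3 : TensorProduct.AlgebraTensorModule.rTensor R Q gF z = 0 := by
    obtain ⟨ξ, hξ⟩ := eF.surjective (TensorProduct.AlgebraTensorModule.rTensor R Q gF z)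
    rw [← hξ]
    have : ξ = 0 := h1 (by
      rw [map_zero]
      apply eG.injective
      rw [map_zero, ← hnat, hξ, h2, hz, map_zero])
    rw [this, map_zero]
  haveI := IsLocalizedModule.rTensor M (R := R) (A := D) (N := Q) gF
  obtain ⟨m, hm⟩ := (IsLocalizedModule.eq_zero_iff M _).1 h3
  exact ⟨m, m.2, hm⟩

end Model

end Groth.Agent.Lib.RG.StepModel
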