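import Groth.Agent.Lib.RG.GoodDef
import Groth.Agent.Lib.RG.Localize
import Groth.Agent.Lib.RG.StepModel

/-!
# Pulling a step back along an étale localization of its smooth algebra
-/

set_option autoImplicit false
set_option linter.style.haveILetI false

universe u

open scoped TensorProduct

namespace Groth.Agent.Lib.RG.GoodDev

open Engine StepModel

section Prime

variable {R D : Type u} [CommRing R] [CommRing D] [Algebra R D] [Module.Flat R D] (p : Ideal R) [p.IsPrime]

theorem map_eq_genPrime : p.map (algebraMap R D) = genPrime p D := by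
  refine le_antisymm (Ideal.map_le_iff_le_comap.2 fun r hr => ?_) fun x hx => ?_
  · show Algebra.TensorProduct.includeRight (R := R) (A := p.ResidueField) (algebraMap R D r) = 0
    rw [AlgHom.commutes, IsScalarTower.algebraMap_apply R p.ResidueField (p.ResidueField ⊗[R] D),
      Ideal.algebraMap_residueField_eq_zero.2 hr, map_zero]
  · let ι : R ⧸ p →ₗ[R] p.ResidueField := (IsScalarTower.toAlgHom R (R ⧸ p) p.ResidueField).toLinearMap
    have hι : Function.Injective ι := fun a b hab => by
      exact IsFractionRing.injective (R ⧸ p) p.ResidueField hab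
    have h0 : ((1 : R ⧸ p) ⊗ₜ[R] x) = 0 := by
      apply Module.Flat.rTensor_preserves_injective_linearMap (M := D) ι hι
      rw [map_zero, LinearMap.rTensor_tmul]
      show (IsScalarTower.toAlgHom R (R ⧸ p) p.ResidueField) 1 ⊗ₜ[R] x = 0
      rw [map_one]
      exact hx
    have h1 := congrArg (TensorProduct.quotTensorEquivQuotSMul D p) h0
    rwa [show (1 : R ⧸ p) = Ideal.Quotient.mk _ 1 from rfl, TensorProduct.quotTensorEquivQuotSMul_mk_tmul, one_smul,
      map_zero, Submodule.Quotient.mk_eq_zero, Ideal.smul_top_eq_map] at h1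

/-- The generic point of an integral fibre of a flat algebra is the extended prime. -/
theorem map_isPrime (hD : GIF R D) (y : Ideal D) [y.IsPrime] [y.LiesOver p] :
    (p.map (algebraMap R D)).IsPrime ∧ (p.map (algebraMap R D)).LiesOver p := by
  rw [map_eq_genPrime]
  exact genPrime_isPrime p hD y

end Prime

/-- Generic points of fibres correspond along flat maps. -/
theorem map_liesOver {R R' B B' : Type u} [CommRing R] [CommRing R'] [CommRing B] [CommRing B'] [Algebra R R']
    [Algebra R B] [Algebra B B'] [Algebra R' B'] [Algebra R B'] [IsScalarTower R R' B'] [IsScalarTower R B B']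
    [Module.Flat B B'] [Algebra.QuasiFinite R R'] (p : Ideal R) [p.IsPrime] (p' : Ideal R') [p'.IsPrime]
    [p'.LiesOver p] [(p.map (algebraMap R B)).IsPrime] [(p.map (algebraMap R B)).LiesOver p]
    [(p'.map (algebraMap R' B')).IsPrime] [(p'.map (algebraMap R' B')).LiesOver p'] :
    (p'.map (algebraMap R' B')).LiesOver (p.map (algebraMap R B)) := by
  let P := p.map (algebraMap R B)
  let P' := p'.map (algebraMap R' B')
  have hle : P ≤ P'.comap (algebraMap B B') := by
    refine Ideal.map_le_iff_le_comap.2 fun r hr => ?_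
    show algebraMap B B' (algebraMap R B r) ∈ P'
    rw [← IsScalarTower.algebraMap_apply R B B', IsScalarTower.algebraMap_apply R R' B']
    exact Ideal.mem_map_of_mem _ ((p'.over_def p).le hr)
  obtain ⟨Q, hQle, hQ, hQP⟩ := Ideal.exists_ideal_le_liesOver_of_le (p := P) (q := P'.comap (algebraMap B B'))
    (Q := P') hle
  haveI := hQ
  haveI := hQP
  have hQR : (Q.comap (algebraMap R' B')).comap (algebraMap R R') = p := by
    rw [Ideal.comap_comap, ← IsScalarTower.algebraMap_eq R R' B', IsScalarTower.algebraMap_eq R B B',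
      ← Ideal.comap_comap]
    show (Q.under B).under R = p
    rw [← Q.over_def P]
    exact (P.over_def p).symm
  have hQ' : Q.comap (algebraMap R' B') = p' := by
    have hle' : Q.comap (algebraMap R' B') ≤ p' := (Ideal.comap_mono hQle).trans (P'.over_def p').ge
    haveI := Ideal.IsPrime.comap (algebraMap R' B') (K := Q)
    exact Algebra.QuasiFinite.eq_of_le_of_under_eq (R := R) _ _ hle' (hQR.trans (p'.over_def p))
  have hP'Q : P' = Q := le_antisymm (Ideal.map_le_iff_le_comap.2 hQ'.ge) hQle
  show P'.LiesOver P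
  rw [hP'Q]
  exact hQP

section Residual

variable {B B' : Type u} [CommRing B] [CommRing B'] [Algebra B B'] (P : Ideal B) [P.IsPrime] (P' : Ideal B')
  [P'.IsPrime] [P'.LiesOver P]

/-- Residual bijectivity is preserved by base change. -/
theorem bijective_baseChange {M M' : Type u} [AddCommGroup M] [Module B M] [AddCommGroup M'] [Module B' M']
    [Module B M'] [IsScalarTower B B' M'] (g : M →ₗ[B] M') (hg : IsBaseChange B' g) {r : ℕ}
    (α : (Fin r → B) →ₗ[B] M) (α' : (Fin r → B') →ₗ[B'] M')
    (hα' : ∀ i, α' (Pi.single i 1) = g (α (Pi.single i 1)))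
    (h : Function.Bijective (α.baseChange P.ResidueField)) :
    Function.Bijective (α'.baseChange P'.ResidueField) := by
  classical
  let k := P.ResidueField
  let k' := P'.ResidueField
  letI : Algebra k k' := (Ideal.ResidueField.mapₐ P P' (Algebra.ofId B B') (P'.over_def P)).toRingHom.toAlgebra
  haveI : IsScalarTower B k k' := IsScalarTower.of_algebraMap_eq (R := B) (S := k) (A := k') fun b =>
    ((Ideal.ResidueField.mapₐ P P' (Algebra.ofId B B') (P'.over_def P)).commutes b).symm
  let b : Module.Basis (Fin r) k (k ⊗[B] M) :=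
    (Algebra.TensorProduct.basis k (Pi.basisFun B (Fin r))).map (LinearEquiv.ofBijective _ h)
  have hb : ∀ i, b i = (1 : k) ⊗ₜ[B] α (Pi.single i 1) := fun i => by
    simp [b, Algebra.TensorProduct.basis_apply]
  let e : k' ⊗[k] (k ⊗[B] M) ≃ₗ[k'] k' ⊗[B'] M' :=
    (TensorProduct.AlgebraTensorModule.cancelBaseChange B k k' k' M).trans
      ((TensorProduct.AlgebraTensorModule.cancelBaseChange B B' k' k' M).symm.trans
        (TensorProduct.AlgebraTensorModule.congr (LinearEquiv.refl k' k') hg.equiv))
  have he : ∀ m, e ((1 : k') ⊗ₜ[k] ((1 : k) ⊗ₜ[B] m)) = (1 : k') ⊗ₜ[B'] g m := fun m => by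
    simp [e, IsBaseChange.equiv_tmul]
  let b' : Module.Basis (Fin r) k' (k' ⊗[B'] M') := (Algebra.TensorProduct.basis k' b).map e
  let b₀ := Algebra.TensorProduct.basis k' (Pi.basisFun B' (Fin r))
  have hmap : α'.baseChange k' = (b₀.equiv b' (Equiv.refl _)).toLinearMap := by
    refine b₀.ext fun i => ?_
    rw [LinearEquiv.coe_coe, Module.Basis.equiv_apply, Equiv.refl_apply, Module.Basis.map_apply,
      Algebra.TensorProduct.basis_apply, Algebra.TensorProduct.basis_apply, hb, he, Pi.basisFun_apply,
      LinearMap.baseChange_tmul, hα']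
  rw [hmap]
  exact (b₀.equiv b' (Equiv.refl _)).bijective

end Residual

theorem subsingleton_of_surjective {R S : Type u} [CommRing R] [CommRing S] [Algebra R S] {N : Type u}
    [AddCommGroup N] [Module S N] {p : Ideal R} [p.IsPrime] {q : Ideal S} (s : Step R S N p q)
    (hs : Function.Surjective s.α) (B' : Type u) [CommRing B'] [Algebra s.B B'] :
    Subsingleton (B' ⊗[s.B] s.coker) := by
  haveI : Subsingleton s.coker := Submodule.Quotient.subsingleton_iff.2 (LinearMap.range_eq_top.2 hs)
  infer_instance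

/-- Base change of a cokernel. -/
theorem nonempty_cokerEquiv {B B' M M' : Type u} [CommRing B] [CommRing B'] [Algebra B B'] [AddCommGroup M]
    [Module B M] [AddCommGroup M'] [Module B' M'] [Module B M'] [IsScalarTower B B' M'] (g : M →ₗ[B] M')
    (hg : IsBaseChange B' g) {r : ℕ} (α : (Fin r → B) →ₗ[B] M) (α' : (Fin r → B') →ₗ[B'] M')
    (hα' : ∀ i, α' (Pi.single i 1) = g (α (Pi.single i 1))) :
    Nonempty ((B' ⊗[B] (M ⧸ LinearMap.range α)) ≃ₗ[B'] M' ⧸ LinearMap.range α') := by
  classical
  let π := (LinearMap.range α).mkQ.baseChange B'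
  have hπ : Function.Surjective π := by
    rw [show ⇑π = ((LinearMap.range α).mkQ.lTensor B') from rfl]
    exact LinearMap.lTensor_surjective _ (Submodule.mkQ_surjective _)
  let ψ : M' →ₗ[B'] B' ⊗[B] (M ⧸ LinearMap.range α) := π.comp hg.equiv.symm.toLinearMap
  have hψ : Function.Surjective ψ := hπ.comp hg.equiv.symm.surjective
  have hex : LinearMap.ker π = LinearMap.range (α.baseChange B') := by
    have h0 : Function.Exact α (LinearMap.range α).mkQ := LinearMap.exact_map_mkQ_range α
    ext x
    exact lTensor_exact B' h0 (Submodule.mkQ_surjective _) x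
  have hker : LinearMap.ker ψ = LinearMap.range α' := by
    have hr : hg.equiv.toLinearMap.comp (α.baseChange B') =
        α'.comp (TensorProduct.piScalarRight B B' B' (Fin r)).toLinearMap := by
      refine (Algebra.TensorProduct.basis B' (Pi.basisFun B (Fin r))).ext fun i => ?_
      rw [Algebra.TensorProduct.basis_apply, LinearMap.comp_apply, LinearMap.comp_apply, LinearEquiv.coe_coe,
        LinearEquiv.coe_coe, LinearMap.baseChange_tmul, IsBaseChange.equiv_tmul, one_smul, Pi.basisFun_apply, ← hα']
      congr 1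
      ext j
      rw [TensorProduct.piScalarRight_apply, TensorProduct.piScalarRightHom_tmul]
      by_cases hj : j = i
      · subst hj; simp
      · simp [Pi.single_eq_of_ne hj]
    rw [LinearMap.ker_comp, hex, ← Submodule.map_equiv_eq_comap_symm, ← LinearMap.range_comp, hr,
      LinearMap.range_comp, LinearEquiv.range, Submodule.map_top]
  exact ⟨((Submodule.quotEquivOfEq _ _ hker.symm).trans (LinearMap.quotKerEquivOfSurjective ψ hψ)).symm⟩

attribute [local instance] Algebra.TensorProduct.rightAlgebra

set_option maxHeartbeats 1600000 in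
/-- Pulling a step back. -/
theorem pull {k : ℕ} {R S : Type u} [CommRing R] [CommRing S] [Algebra R S] {N : Type u} [AddCommGroup N]
    [Module S N] {p : Ideal R} [p.IsPrime] {q : Ideal S} [q.IsPrime] (s : Step R S N p q)
    {R' : Type u} [CommRing R'] [Algebra R R'] (p' : Ideal R') [p'.IsPrime]
    (hp : _root_.FlatCA.IsEtaleNhd R R' p p')
    {B' : Type u} [CommRing B'] [Algebra s.B B'] [Algebra R' B'] [Algebra R B'] [IsScalarTower R R' B']
    [IsScalarTower R s.B B'] (qB' : Ideal B') [qB'.IsPrime] (hq : _root_.FlatCA.IsEtaleNhd s.B B' s.qB qB')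
    [qB'.LiesOver p'] (hgi : _root_.FlatCA.GeomIrredFibres R' B')
    {S' : Type u} [CommRing S'] [Algebra S S'] [Algebra R' S'] [Algebra R S'] [IsScalarTower R R' S']
    [IsScalarTower R S S'] [Algebra S' (s.A ⊗[s.B] B')] [IsScalarTower S S' (s.A ⊗[s.B] B')]
    (hR'S' : ∀ r : R', algebraMap S' (s.A ⊗[s.B] B') (algebraMap R' S' r) = (1 : s.A) ⊗ₜ[s.B] algebraMap R' B' r)
    (hsurj : Function.Surjective (algebraMap S' (s.A ⊗[s.B] B')))
    (hpo : Algebra.IsPushout S S' s.A (s.A ⊗[s.B] B'))
    {N' : Type u} [AddCommGroup N'] [Module S' N'] [Module S N'] [IsScalarTower S S' N'] (f : N →ₗ[S] N')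
    (hf : IsBaseChange S' f)
    (hs : Subsingleton (B' ⊗[s.B] s.coker) ∨ Good k R' B' (B' ⊗[s.B] s.coker) p' qB') :
    ∃ (q' : Ideal S') (_ : q'.IsPrime), q'.LiesOver p' ∧
      (∃ h : q'.LiesOver q, Function.Bijective (Ideal.ResidueField.mapₐ q q' (Algebra.ofId S S') h.over)) ∧
      Good (k + 1) R' S' N' p' q' := by
  classical
  haveI := hq.1
  haveI := hp.1
  obtain ⟨hp'p, hpb⟩ := hp.2
  obtain ⟨hqB'q, hqb⟩ := hq.2
  haveI := hp'p
  haveI := hqB'q
  haveI := s.finiteBA
  haveI := s.finiteM
  haveI := s.fpSA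
  haveI := s.smooth
  haveI : Module.Finite s.B s.M := Module.Finite.trans s.A s.M
  haveI : s.qA.LiesOver q := ⟨s.q0.symm⟩
  let A' := s.A ⊗[s.B] B'
  letI aR'A' : Algebra R' A' := ((algebraMap B' A').comp (algebraMap R' B')).toAlgebra
  haveI : IsScalarTower R' B' A' := IsScalarTower.of_algebraMap_eq' rfl
  haveI : IsScalarTower R' S' A' := IsScalarTower.of_algebraMap_eq (R := R') (S := S') (A := A') fun r => (hR'S' r).symm
  haveI tB : IsScalarTower s.B B' A' := IsScalarTower.of_algebraMap_eq (R := s.B) (S := B') (A := A') fun d =>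
    ((Algebra.TensorProduct.includeRight (R := s.B) (A := s.A) (B := B')).commutes d).symm
  -- the point
  obtain ⟨qA', hqA', hzA, hzB⟩ := NhdPoint.exists_point (R := s.B) (R' := B') (S := s.A) s.qB qB' s.qA hq
  haveI := hqA'
  haveI : qA'.LiesOver s.qA := ⟨hzA.symm⟩
  haveI : qA'.LiesOver qB' := ⟨hzB.symm⟩
  obtain ⟨_, _, hzb⟩ := NhdPoint.isEtaleNhd s.qB qB' s.qA hq qA' hzA hzB
  let q' : Ideal S' := qA'.comap (algebraMap S' A')
  haveI : q'.IsPrime := Ideal.IsPrime.comap _
  haveI : qA'.LiesOver q' := ⟨rfl⟩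
  haveI hA'q : qA'.LiesOver q := Ideal.LiesOver.trans qA' s.qA q
  haveI hA'p : qA'.LiesOver p' := Ideal.LiesOver.trans qA' qB' p'
  haveI hq'q : q'.LiesOver q := ⟨hA'q.over.trans (by
    rw [Ideal.under_def, Ideal.under_def, IsScalarTower.algebraMap_eq S S' A', ← Ideal.comap_comap])⟩
  haveI hq'p : q'.LiesOver p' := ⟨hA'p.over.trans (by
    rw [Ideal.under_def, Ideal.under_def, IsScalarTower.algebraMap_eq R' S' A', ← Ideal.comap_comap])⟩
  refine ⟨q', inferInstance, hq'p, ⟨hq'q, RingHom.injective _, ?_⟩, ?_⟩
  · have hb : Function.Bijective (Ideal.ResidueField.mapₐ q qA' (Algebra.ofId S A') (qA'.over_def q)) := by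
      rw [Localize.mapₐ_comp q s.qA qA']
      exact Function.Bijective.comp hzb (Localize.bijective_of_surjective s.surjSA q s.qA)
    rw [Localize.mapₐ_comp q q' qA'] at hb
    exact hb.2.of_comp_left (Localize.bijective_of_surjective hsurj q' qA').1
  -- the smooth algebra
  have hrel : _root_.FlatCA.SmoothRelDim s.d R' B' := Localize.smoothRelDim_localize s.d s.relDim
  haveI : Algebra.Smooth R' B' := Localize.smooth_of_smoothRelDim s.d hrel
  haveI : Module.Flat R' B' := inferInstance
  obtain ⟨hP', hP'p⟩ := map_isPrime p' (Fibres.gif_of_smooth_of_geomIrred hgi) qB'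
  haveI := hP'
  haveI := hP'p
  haveI : (p.map (algebraMap R s.B)).LiesOver p :=
    (map_isPrime p (Fibres.gif_of_smooth_of_geomIrred s.geomIrred) s.qB).2
  haveI hPP := map_liesOver (B := s.B) (B' := B') p p'
  -- the module
  obtain ⟨M', _, _, _, _, gA, hgA, hM'fin⟩ : ∃ (M' : Type u) (_ : AddCommGroup M') (_ : Module A' M')
      (_ : Module s.A M') (_ : IsScalarTower s.A A' M') (gA : s.M →ₗ[s.A] M'),
      IsBaseChange A' gA ∧ Module.Finite A' M' :=
    ⟨A' ⊗[s.A] s.M, inferInstance, inferInstance, inferInstance, inferInstance, TensorProduct.mk s.A A' s.M 1,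
      TensorProduct.isBaseChange s.A s.M A', inferInstance⟩
  letI : Module B' M' := Module.compHom M' (algebraMap B' A')
  haveI : IsScalarTower B' A' M' := IsScalarTower.of_algebraMap_smul fun _ _ => rfl
  letI : Module s.B M' := Module.compHom M' (algebraMap s.B s.A)
  haveI : IsScalarTower s.B s.A M' := IsScalarTower.of_algebraMap_smul fun _ _ => rfl
  haveI : IsScalarTower s.B B' M' := IsScalarTower.of_algebraMap_smul fun b m => by
    show algebraMap B' A' (algebraMap s.B B' b) • m = algebraMap s.B s.A b • m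
    rw [← IsScalarTower.algebraMap_apply s.B B' A', IsScalarTower.algebraMap_apply s.B s.A A',
      algebraMap_smul A' (algebraMap s.B s.A b) m]
  letI : Module R' M' := Module.compHom M' (algebraMap R' B')
  haveI : IsScalarTower R' B' M' := IsScalarTower.of_algebraMap_smul fun _ _ => rfl
  letI : Module S' M' := Module.compHom M' (algebraMap S' A')
  haveI : IsScalarTower S' A' M' := IsScalarTower.of_algebraMap_smul fun _ _ => rfl
  letI : Module S M' := Module.compHom M' (algebraMap S s.A)
  haveI : IsScalarTower S s.A M' := IsScalarTower.of_algebraMap_smul fun _ _ => rfl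
  haveI : IsScalarTower S S' M' := IsScalarTower.of_algebraMap_smul fun x m => by
    show algebraMap S' A' (algebraMap S S' x) • m = algebraMap S s.A x • m
    rw [← IsScalarTower.algebraMap_apply S S' A', IsScalarTower.algebraMap_apply S s.A A',
      algebraMap_smul A' (algebraMap S s.A x) m]
  have hgS : IsBaseChange S' (gA.restrictScalars S) :=
    H21.Devissage.BaseChange.isBaseChange_restrict S S' s.A A' hpo gA hgA
  have hpoB : Algebra.IsPushout s.B B' s.A A' := TensorProduct.isPushout'
  have hgB : IsBaseChange B' (gA.restrictScalars s.B) :=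
    H21.Devissage.BaseChange.isBaseChange_restrict s.B B' s.A A' hpoB gA hgA
  let g := gA.restrictScalars s.B
  let α' : (Fin s.r → B') →ₗ[B'] M' := (Pi.basisFun B' (Fin s.r)).constr ℕ fun i => g (s.α (Pi.single i 1))
  have hα' : ∀ i, α' (Pi.single i 1) = g (s.α (Pi.single i 1)) := fun i => by
    rw [← Pi.basisFun_apply]
    exact (Pi.basisFun B' (Fin s.r)).constr_basis ℕ _ i
  obtain ⟨ec⟩ := nonempty_cokerEquiv g hgB s.α α' hα'
  -- the new step
  let eN : N' ≃ₗ[S'] M' :=
    (hf.equiv.symm.trans (TensorProduct.AlgebraTensorModule.congr (LinearEquiv.refl S' S') s.isoN)).trans hgS.equiv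
  refine ⟨{
    A := A', B := B', M := M', r := s.r, d := s.d, qA := qA', qB := qB', α := α'
    surjSA := hsurj
    fpSA := H21.Devissage.BaseChange.finitePresentation S S' s.A A' hpo
    finiteBA := H21.Devissage.BaseChange.moduleFinite s.B B' s.A A' hpoB
    finiteM := hM'fin
    smooth := inferInstance
    geomIrred := hgi
    isoN := eN
    fibreIso := bijective_baseChange (p.map (algebraMap R s.B)) (p'.map (algebraMap R' B')) g hgB s.α α' hα' s.fibreIso
    pureTrans := Localize.pure_transfer p s.qB p' qB' hpb hqb s.pureTrans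
    uniq := ?_
    q0 := rfl
    relDim := hrel
    gen := ?_ }, ?_⟩
  · intro Q _ hQ
    have hover : (Q.comap (algebraMap s.A A')).LiesOver s.qB := ⟨by
      rw [Ideal.under_def, Ideal.comap_comap, ← IsScalarTower.algebraMap_eq s.B s.A A',
        IsScalarTower.algebraMap_eq s.B B' A', ← Ideal.comap_comap, ← Ideal.under_def B' Q, ← hQ.over]
      exact hqB'q.over⟩
    haveI := Ideal.IsPrime.comap (algebraMap s.A A') (K := Q)
    exact NhdPoint.point_unique s.qB qB' s.qA hq Q qA' (s.uniq _ hover) hQ.over.symm hzA hzB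
  · have h1 : (⟨p'.map (algebraMap R' B'), hP'⟩ : PrimeSpectrum B') ∈
        Module.support B' (B' ⊗[s.B] s.M) := by
      refine (Set.ext_iff.1 (H22.SupportBC.support_baseChange (R' := B') s.M) _).2 ?_
      show PrimeSpectrum.comap (algebraMap s.B B') (⟨p'.map (algebraMap R' B'), hP'⟩ : PrimeSpectrum B') ∈
        Module.support s.B s.M
      rw [show PrimeSpectrum.comap (algebraMap s.B B') (⟨p'.map (algebraMap R' B'), hP'⟩ : PrimeSpectrum B') =
        ⟨p.map (algebraMap R s.B), s.hP⟩ from PrimeSpectrum.ext hPP.over.symm]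
      exact s.gen
    rwa [hgB.equiv.support_eq] at h1
  · rcases hs with hs | hs
    · refine Or.inl ?_
      haveI := hs
      haveI : Subsingleton (M' ⧸ LinearMap.range α') := ec.symm.toEquiv.subsingleton
      exact LinearMap.range_eq_top.1 (Submodule.Quotient.subsingleton_iff.1 ‹_›)
    · exact Or.inr (hs.congr ec)

end Groth.Agent.Lib.RG.GoodDev
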