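import Groth.Agent.Lib.RG.DevTools
import Groth.Agent.Lib.RG.DevChain
import Groth.Agent.Lib.RG.GoodDef
import Groth.Agent.Lib.RG.GoodPull
import Groth.Agent.Lib.RG.GoodUI
import Groth.Agent.Lib.Dim.Basic
import Groth.Prelude.Def_FlatCA

/-!
# Flatness in large relative dimensions, and the dimension of points of smooth fibres
-/

set_option autoImplicit false
set_option linter.style.haveILetI false

universe u

open scoped TensorProduct

attribute [local instance] Algebra.TensorProduct.rightAlgebra

namespace Groth.Agent.Lib.RG.DimFlat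

/-- The transcendence degree of a point over its trace on the base. -/
noncomputable def tdeg {R D : Type u} [CommRing R] [CommRing D] [Algebra R D] (t : Ideal R) [t.IsPrime]
    (Q : Ideal D) [Q.IsPrime] (h : Q.LiesOver t) : Cardinal.{u} :=
  letI : Algebra t.ResidueField Q.ResidueField :=
    (Ideal.ResidueField.mapₐ t Q (Algebra.ofId R D) h.over).toRingHom.toAlgebra
  Algebra.trdeg t.ResidueField Q.ResidueField

theorem flatInDimGE_iff {n : ℕ} {R D : Type u} [CommRing R] [CommRing D] [Algebra R D] {G : Type u}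
    [AddCommGroup G] [Module D G] [Module R G] [IsScalarTower R D G] :
    _root_.FlatCA.FlatInDimGE n R D G ↔ ∀ (Q : Ideal D) [Q.IsPrime],
      (n : Cardinal.{u}) ≤ tdeg (Q.comap (algebraMap R D)) Q ⟨rfl⟩ → Module.Flat R (LocalizedModule Q.primeCompl G) := by
  constructor
  · intro h Q _ hn
    by_contra hf
    exact absurd (h (Q.comap (algebraMap R D)) Q (h := ⟨rfl⟩) hf) (not_lt.2 hn)
  · intro h t Q _ _ ho hf
    by_contra hlt
    have ht : t = Q.comap (algebraMap R D) := ho.over
    subst ht
    exact hf (h Q (not_lt.1 hlt))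

/-- The transcendence degree does not change along integral extensions. -/
theorem tdeg_eq {R D C : Type u} [CommRing R] [CommRing D] [CommRing C] [Algebra R D] [Algebra R C] [Algebra D C]
    [IsScalarTower R D C] [Algebra.IsIntegral D C] (t : Ideal R) [t.IsPrime] (y : Ideal D) [y.IsPrime] (z : Ideal C)
    [z.IsPrime] (hy : y.LiesOver t) (hz : z.LiesOver t) (hzy : z.LiesOver y) : tdeg t z hz = tdeg t y hy := by
  haveI := hy
  haveI := hz
  haveI := hzy
  letI := Localization.AtPrime.algebraOfLiesOver y z
  haveI : Localization.AtPrime.IsLiesOverAlgebra y z := ⟨rfl⟩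
  letI a1 : Algebra t.ResidueField y.ResidueField :=
    (Ideal.ResidueField.mapₐ t y (Algebra.ofId R D) hy.over).toRingHom.toAlgebra
  letI a2 : Algebra t.ResidueField z.ResidueField :=
    (Ideal.ResidueField.mapₐ t z (Algebra.ofId R C) hz.over).toRingHom.toAlgebra
  have halg : Algebra.IsAlgebraic y.ResidueField z.ResidueField := inferInstance
  haveI : IsScalarTower R t.ResidueField z.ResidueField := IsScalarTower.of_algebraMap_eq fun r =>
    ((Ideal.ResidueField.mapₐ t z (Algebra.ofId R C) hz.over).commutes r).symm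
  haveI : IsScalarTower R t.ResidueField y.ResidueField := IsScalarTower.of_algebraMap_eq fun r =>
    ((Ideal.ResidueField.mapₐ t y (Algebra.ofId R D) hy.over).commutes r).symm
  haveI : IsScalarTower t.ResidueField y.ResidueField z.ResidueField := by
    refine IsScalarTower.of_algebraMap_eq' (Ideal.ResidueField.ringHom_ext (RingHom.ext fun r => ?_))
    simp only [RingHom.comp_apply]
    rw [← IsScalarTower.algebraMap_apply R t.ResidueField z.ResidueField,
      ← IsScalarTower.algebraMap_apply R t.ResidueField y.ResidueField, IsScalarTower.algebraMap_apply R D y.ResidueField,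
      ← IsScalarTower.algebraMap_apply D y.ResidueField z.ResidueField, ← IsScalarTower.algebraMap_apply R D z.ResidueField]
  have h := trdeg_add_eq t.ResidueField y.ResidueField (A := z.ResidueField)
  rw [trdeg_eq_zero (R := y.ResidueField), add_zero] at h
  exact h.symm

theorem tdeg_congr {R D : Type u} [CommRing R] [CommRing D] [Algebra R D] {t t' : Ideal R} [t.IsPrime] [t'.IsPrime]
    (e : t = t') (Q : Ideal D) [Q.IsPrime] (h : Q.LiesOver t) (h' : Q.LiesOver t') : tdeg t Q h = tdeg t' Q h' := by
  subst e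
  rfl

/-- Flatness in large dimensions does not see integral extensions of the ring. -/
theorem flatInDimGE_integral {R D C : Type u} [CommRing R] [CommRing D] [CommRing C] [Algebra R D] [Algebra R C]
    [Algebra D C] [IsScalarTower R D C] [Algebra.IsIntegral D C] {G : Type u} [AddCommGroup G] [Module C G]
    [Module D G] [IsScalarTower D C G] [Module R G] [IsScalarTower R D G] [IsScalarTower R C G] (n : ℕ) :
    _root_.FlatCA.FlatInDimGE n R D G ↔ _root_.FlatCA.FlatInDimGE n R C G := by
  rw [flatInDimGE_iff, flatInDimGE_iff]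
  constructor
  · intro h Q _ hn
    let y := Q.comap (algebraMap D C)
    have hy : y.LiesOver (Q.comap (algebraMap R C)) := ⟨by
      rw [Ideal.under_def, Ideal.comap_comap, ← IsScalarTower.algebraMap_eq]⟩
    refine DevChain.flatAt_of_comap Q y rfl (h y ?_)
    rw [tdeg_eq (Q.comap (algebraMap R C)) y Q hy ⟨rfl⟩ ⟨rfl⟩] at hn
    exact le_of_le_of_eq hn (tdeg_congr hy.over y hy ⟨rfl⟩)
  · intro h y _ hn
    refine DevTools.flatAt_of_forall_over (C := C) y fun z hz hzy => ?_
    haveI := hz
    have hzt : z.LiesOver (y.comap (algebraMap R D)) := ⟨by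
      rw [Ideal.under_def, IsScalarTower.algebraMap_eq R D C, ← Ideal.comap_comap, hzy]⟩
    rw [← tdeg_eq (y.comap (algebraMap R D)) y z ⟨rfl⟩ hzt ⟨hzy.symm⟩] at hn
    exact h z (le_of_le_of_eq hn (tdeg_congr hzt.over z hzt ⟨rfl⟩))

/-- Flatness in large dimensions passes along linear equivalences. -/
theorem flatInDimGE_congr {R D : Type u} [CommRing R] [CommRing D] [Algebra R D] {G H : Type u} [AddCommGroup G]
    [Module D G] [Module R G] [IsScalarTower R D G] [AddCommGroup H] [Module D H] [Module R H] [IsScalarTower R D H]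
    (e : G ≃ₗ[D] H) (n : ℕ) : _root_.FlatCA.FlatInDimGE n R D G ↔ _root_.FlatCA.FlatInDimGE n R D H := by
  rw [flatInDimGE_iff, flatInDimGE_iff]
  refine forall_congr' fun Q => forall_congr' fun _ => forall_congr' fun _ => ?_
  let eQ : LocalizedModule Q.primeCompl G ≃ₗ[Localization Q.primeCompl] LocalizedModule Q.primeCompl H :=
    IsLocalizedModule.mapEquiv Q.primeCompl (LocalizedModule.mkLinearMap Q.primeCompl G)
      (LocalizedModule.mkLinearMap Q.primeCompl H) (Localization Q.primeCompl) e
  exact ⟨fun h => Module.Flat.of_linearEquiv ((eQ.restrictScalars R).symm),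
    fun h => Module.Flat.of_linearEquiv (eQ.restrictScalars R)⟩

section Fibre

variable {R D : Type u} [CommRing R] [CommRing D] [Algebra R D] [Algebra.FinitePresentation R D] {d : ℕ}
  (hd : _root_.FlatCA.SmoothRelDim d R D)

include hd in
omit [Algebra.FinitePresentation R D] in
theorem ringKrullDim_fibre (t : Ideal R) [t.IsPrime] [Nontrivial (t.Fiber D)] :
    ringKrullDim (t.Fiber D) = d := by
  rw [← PrimeSpectrum.topologicalKrullDim_eq_ringKrullDim]
  obtain ⟨x⟩ : Nonempty (PrimeSpectrum (t.Fiber D)) := inferInstance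
  exact le_antisymm (FibreDim.Basic.topologicalKrullDim_le_of_forall fun a => (GoodDev.localDim_fibre hd t a).le)
    ((GoodDev.localDim_fibre hd t x).ge.trans (FibreDim.Basic.localDim_le_topologicalKrullDim x))

include hd in
/-- The points of a smooth fibre: their dimension is at most the relative dimension, with equality only at
the generic point of an integral fibre. -/
theorem tdeg_fibre (hD : Engine.GIF R D) (t : Ideal R) [t.IsPrime] (y : Ideal D) [y.IsPrime] [hy : y.LiesOver t] :
    tdeg t y hy ≤ d ∧ ((d : Cardinal.{u}) ≤ tdeg t y hy ↔ y ≤ t.map (algebraMap R D)) := by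
  haveI := hD t.ResidueField
  letI a1 : Algebra t.ResidueField y.ResidueField :=
    (Ideal.ResidueField.mapₐ t y (Algebra.ofId R D) hy.over).toRingHom.toAlgebra
  let φ : t.Fiber D →ₐ[t.ResidueField] y.ResidueField :=
    Algebra.TensorProduct.lift (Algebra.ofId t.ResidueField y.ResidueField)
      (IsScalarTower.toAlgHom R D y.ResidueField) fun _ _ => Commute.all _ _
  haveI : Nontrivial (t.Fiber D) := RingHom.domain_nontrivial φ.toRingHom
  haveI : IsDomain (t.Fiber D) := NoZeroDivisors.to_isDomain _
  let ξ : Ideal (t.Fiber D) := RingHom.ker φ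
  haveI : ξ.IsPrime := RingHom.ker_isPrime _
  letI aξ : Algebra (t.Fiber D ⧸ ξ) y.ResidueField := (Ideal.Quotient.lift ξ φ.toRingHom fun a ha => ha).toAlgebra
  haveI : IsScalarTower t.ResidueField (t.Fiber D ⧸ ξ) y.ResidueField :=
    IsScalarTower.of_algebraMap_eq (R := t.ResidueField) (S := t.Fiber D ⧸ ξ) (A := y.ResidueField) fun c => (φ.commutes c).symm
  haveI : FaithfulSMul (t.Fiber D ⧸ ξ) y.ResidueField := by
    rw [faithfulSMul_iff_algebraMap_injective]
    exact RingHom.lift_injective_of_ker_le_ideal ξ (fun a ha => ha) le_rfl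
  haveI : IsFractionRing (t.Fiber D ⧸ ξ) y.ResidueField := by
    refine IsFractionRing.of_field (t.Fiber D ⧸ ξ) y.ResidueField fun z => ?_
    obtain ⟨a, b, -, rfl⟩ := IsFractionRing.div_surjective (A := D ⧸ y) z
    obtain ⟨a, rfl⟩ := Ideal.Quotient.mk_surjective a
    obtain ⟨b, rfl⟩ := Ideal.Quotient.mk_surjective b
    refine ⟨Ideal.Quotient.mk ξ (1 ⊗ₜ[R] a), Ideal.Quotient.mk ξ (1 ⊗ₜ[R] b), ?_⟩
    show _ = φ (1 ⊗ₜ[R] a) / φ (1 ⊗ₜ[R] b)
    simp only [φ, Algebra.TensorProduct.lift_tmul, map_one, one_mul]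
    rfl
  haveI : Algebra.IsAlgebraic (t.Fiber D ⧸ ξ) y.ResidueField :=
    IsLocalization.isAlgebraic _ (nonZeroDivisors (t.Fiber D ⧸ ξ))
  haveI : Algebra.FiniteType t.ResidueField (t.Fiber D) := inferInstance
  have h := trdeg_add_eq t.ResidueField (t.Fiber D ⧸ ξ) (A := y.ResidueField)
  rw [trdeg_eq_zero (R := t.Fiber D ⧸ ξ), add_zero, Dim.Basic.trdeg_quotient] at h
  have hbot : Dim.Basic.dimQ t.ResidueField (⊥ : Ideal (t.Fiber D)) = d := by
    have h1 := Dim.Basic.ringKrullDim_quotient_prime t.ResidueField (⊥ : Ideal (t.Fiber D))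
    rw [ringKrullDim_eq_of_ringEquiv (RingEquiv.quotientBot (t.Fiber D)), ringKrullDim_fibre hd t] at h1
    exact_mod_cast h1.symm
  have hker : ξ = ⊥ ↔ y ≤ t.map (algebraMap R D) := by
    haveI hflat : Module.Flat R D := by
      haveI := Localize.smooth_of_smoothRelDim d hd
      infer_instance
    rw [GoodDev.map_eq_genPrime]
    constructor
    · intro hξ b hb
      have h1 : (1 : t.ResidueField) ⊗ₜ[R] b ∈ ξ := by
        show φ _ = 0
        simp only [φ, Algebra.TensorProduct.lift_tmul, map_one, one_mul]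
        exact Ideal.algebraMap_residueField_eq_zero.2 hb
      rw [hξ] at h1
      exact h1
    · intro hle
      rw [eq_bot_iff]
      intro w hw
      obtain ⟨t', ht', x, hx⟩ := GoodUI.exists_tmul_one t ((TensorProduct.comm R t.ResidueField D) w)
      have hx' : t' • w = (1 : t.ResidueField) ⊗ₜ[R] x := by
        have := congrArg (TensorProduct.comm R D t.ResidueField) hx
        simpa using this
      have hxy : x ∈ y := by
        rw [← Ideal.algebraMap_residueField_eq_zero (I := y)]
        have h1 : φ (t' • w) = 0 := by rw [show φ (t' • w) = t' • φ w from φ.toLinearMap.map_smul_of_tower t' w, show φ w = 0 from hw, smul_zero]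
        rw [hx'] at h1
        simpa [φ] using h1
      have h2 : (1 : t.ResidueField) ⊗ₜ[R] x = 0 := hle hxy
      rw [h2] at hx'
      have hu : IsUnit (algebraMap R (t.Fiber D) t') := by
        rw [IsScalarTower.algebraMap_apply R t.ResidueField (t.Fiber D)]
        exact (isUnit_iff_ne_zero.2 fun h0 => ht' (Ideal.algebraMap_residueField_eq_zero.1 h0)).map _
      rw [Algebra.smul_def] at hx'
      exact (Submodule.mem_bot _).2 (hu.mul_right_eq_zero.1 hx')
  have hval : tdeg t y hy = (Dim.Basic.dimQ t.ResidueField ξ : Cardinal.{u}) := h.symm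
  rw [hval, Nat.cast_le, Nat.cast_le, ← hker]
  rcases eq_or_ne ξ ⊥ with hξ | hξ
  · rw [hξ, hbot]
    exact ⟨le_rfl, fun _ => rfl, fun _ => le_rfl⟩
  · have hlt := Dim.Basic.dimQ_lt_of_lt t.ResidueField (P := (⊥ : Ideal (t.Fiber D))) (Q := ξ) (bot_lt_iff_ne_bot.2 hξ)
    rw [hbot] at hlt
    exact ⟨hlt.le, fun hle => absurd hle (not_le.2 hlt), fun h => absurd h hξ⟩

end Fibre

end Groth.Agent.Lib.RG.DimFlat
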