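import Groth.Agent.Lib.RG.FlatStep
import Groth.Agent.Lib.RG.OpenFlat
import Groth.Agent.Lib.Pure.Decomp
import Groth.Agent.Lib.FlatFPSyzygy.Basic
import Groth.Agent.Lib.LocalFlat.UnivInjective
import Mathlib.Data.Finsupp.Encodable

/-!
# Projective modules, regular elements and localization

An element regular on the fibre at a point of a module projective over the base is universally
regular over a neighbourhood of the point, and localizing at it keeps projectivity.
-/

set_option autoImplicit false
set_option linter.style.haveILetI false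

universe u

open scoped TensorProduct
open CAlg

namespace Groth.Agent.Lib.RG.ProjMod

variable {R S M : Type u} [CommRing R] [CommRing S] [Algebra R S] [AddCommGroup M] [Module S M] [Module R M]
  [IsScalarTower R S M]

theorem countablyGenerated (R S M : Type u) [CommRing R] [CommRing S] [Algebra R S] [Algebra.FiniteType R S]
    [AddCommGroup M] [Module S M] [Module R M] [IsScalarTower R S M] [Module.Finite S M] :
    IsCountablyGenerated R M := by
  obtain ⟨n, π, hπ⟩ := Algebra.FiniteType.iff_quotient_mvPolynomial''.1 (inferInstance : Algebra.FiniteType R S)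
  obtain ⟨k, ψ, hψ⟩ := Module.Finite.exists_fin' S M
  let v : Fin k × (Fin n →₀ ℕ) → M := fun a => π (MvPolynomial.monomial a.2 1) • ψ (Pi.single a.1 1)
  refine ⟨Set.range v, Set.countable_range _, eq_top_iff.2 fun m _ => ?_⟩
  obtain ⟨x, rfl⟩ := hψ m
  rw [← Finset.univ_sum_single x, map_sum]
  refine Submodule.sum_mem _ fun i _ => ?_
  rw [show (Pi.single i (x i) : Fin k → S) = x i • Pi.single i 1 by
    rw [← Pi.single_smul, smul_eq_mul, mul_one], map_smul]
  obtain ⟨P, hP⟩ := hπ (x i)
  rw [← hP]
  clear hP
  induction P using MvPolynomial.induction_on' with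
  | monomial a c =>
    rw [show MvPolynomial.monomial a c = c • MvPolynomial.monomial a (1 : R) by
      rw [MvPolynomial.smul_monomial, smul_eq_mul, mul_one], map_smul, smul_assoc]
    exact Submodule.smul_mem _ _ (Submodule.subset_span ⟨(i, a), rfl⟩)
  | add a b ha hb => rw [map_add, add_smul]; exact add_mem ha hb

/-- A finite module over an algebra of finite type, universally injected into a projective module, is
projective over the base. -/
theorem projective_of_ui {R S N M : Type u} [CommRing R] [CommRing S] [Algebra R S] [AddCommGroup N] [Module S N]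
    [Module R N] [IsScalarTower R S N] [AddCommGroup M] [Module R M]
    [Algebra.FiniteType R S] [Module.Finite S N] [Module.Projective R M] (g : N →ₗ[R] M)
    (hg : ∀ (Q : Type u) [AddCommGroup Q] [Module R Q], Function.Injective (g.rTensor Q)) :
    Module.Projective R N := by
  haveI : Module.Flat R N := Pure.UI.flat_left g hg
  exact Pure.Chain.projective_of_flat (Pure.ML.of_ui g hg Pure.Decomp.ml_of_projective) (countablyGenerated R S N)

/-- Localizing at elements universally regular keeps projectivity over the base. -/
theorem projective_localized [Algebra.FiniteType R S] [Module.Finite S M] [Module.Projective R M] (u : S)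
    (hu : ∀ (Q : Type u) [AddCommGroup Q] [Module R Q] (z : M ⊗[R] Q), u • z = 0 → z = 0)
    {M' : Type u} [AddCommGroup M'] [Module S M'] [Module R M'] [IsScalarTower R S M'] (f : M →ₗ[S] M')
    [IsLocalizedModule (Submonoid.powers u) f] : Module.Projective R M' := by
  classical
  haveI : Module.Flat R (LocalizedModule (Submonoid.powers u) M) :=
    H19.FlatLocus.Model.flat_localized (Submonoid.powers u) (LocalizedModule.mkLinearMap (Submonoid.powers u) M)
  have hpow : ∀ (k : ℕ) (Q : Type u) [AddCommGroup Q] [Module R Q] (z : M ⊗[R] Q), u ^ k • z = 0 → z = 0 := by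
    intro k
    induction k with
    | zero => intro Q _ _ z hz; rwa [pow_zero, one_smul] at hz
    | succ k ih => intro Q _ _ z hz; exact hu Q z (ih Q (u • z) (by rw [smul_smul, ← pow_succ]; exact hz))
  have hML : IsMittagLeffler R M' := by
    intro ι Q _ _
    rw [injective_iff_map_eq_zero]
    intro x hx
    let W := Submonoid.powers u
    let F := TensorProduct.AlgebraTensorModule.rTensor R (∀ i, Q i) f
    haveI : IsLocalizedModule W F := IsLocalizedModule.rTensor W (R := R) (A := S) (N := ∀ i, Q i) f
    obtain ⟨⟨z, ⟨_, n, rfl⟩⟩, hz⟩ := IsLocalizedModule.surj W F x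
    change u ^ n • x = F z at hz
    have hz0 : z = 0 := by
      refine (injective_iff_map_eq_zero _).1 (Pure.Decomp.ml_of_projective (R := R) (M := M) ι Q) z (funext fun i => ?_)
      let Fi := TensorProduct.AlgebraTensorModule.rTensor R (Q i) f
      haveI : IsLocalizedModule W Fi := IsLocalizedModule.rTensor W (R := R) (A := S) (N := Q i) f
      have hnat : ∀ w : M ⊗[R] (∀ i, Q i), Fi (TensorProduct.piRightHom R R M Q w i) =
          TensorProduct.piRightHom R R M' Q (F w) i := fun w => by
        induction w with
        | zero => simp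
        | tmul m q => simp [F, Fi]
        | add a b ha hb => simp only [map_add, Pi.add_apply, ha, hb]
      have hsm : ∀ (s : S) (w : M' ⊗[R] (∀ i, Q i)), TensorProduct.piRightHom R R M' Q (s • w) i =
          s • TensorProduct.piRightHom R R M' Q w i := fun s w => by
        induction w with
        | zero => simp
        | tmul m q => simp [TensorProduct.smul_tmul']
        | add a b ha hb => simp only [smul_add, map_add, Pi.add_apply, ha, hb]
      have h0 : Fi (TensorProduct.piRightHom R R M Q z i) = 0 := by
        rw [hnat, ← hz, hsm, hx, Pi.zero_apply, smul_zero]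
      obtain ⟨⟨_, k, rfl⟩, hk⟩ := (IsLocalizedModule.eq_zero_iff W Fi).1 h0
      exact hpow k (Q i) _ hk
    rw [hz0, map_zero] at hz
    have hinj := ((Module.End.isUnit_iff _).1 (IsLocalizedModule.map_units F
      (⟨u ^ n, Submonoid.pow_mem _ (Submonoid.mem_powers u) n⟩ : W))).1
    refine hinj ?_
    show u ^ n • x = u ^ n • (0 : M' ⊗[R] (∀ i, Q i))
    rw [hz, smul_zero]
  haveI : Module.Flat R M' :=
    Module.Flat.of_linearEquiv ((IsLocalizedModule.iso (Submonoid.powers u) f).symm.restrictScalars R)
  let Su := Localization.Away u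
  letI : Module Su M' := (IsLocalizedModule.module (Submonoid.powers u) f)
  haveI : IsScalarTower S Su M' := IsLocalizedModule.isScalarTower_module (Submonoid.powers u) f
  haveI : IsScalarTower R Su M' := IsScalarTower.of_algebraMap_smul fun r x => by
    rw [IsScalarTower.algebraMap_apply R S Su, algebraMap_smul, algebraMap_smul]
  haveI : Algebra.FiniteType S Su := IsLocalization.finiteType_of_monoid_fg (Submonoid.powers u) Su
  haveI : Algebra.FiniteType R Su := Algebra.FiniteType.trans (inferInstance : Algebra.FiniteType R S) inferInstance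
  haveI : Module.Finite Su M' := Module.Finite.of_isLocalizedModule (Submonoid.powers u) f
  exact Pure.Chain.projective_of_flat hML (countablyGenerated R Su M')

section Regular

variable (p : Ideal R) [p.IsPrime] [Module.Projective R M] (u : S)
  (hreg : ∀ z : M ⊗[R] p.ResidueField, u • z = 0 → z = 0)

include hreg

theorem killed_of_regular (Q : Type u) [AddCommGroup Q] [Module R Q] (z : M ⊗[R] Q) (hz : u • z = 0) :
    ∃ s : R, s ∉ p ∧ s • z = 0 := by
  let A := Localization.AtPrime p
  let φ : M →ₗ[R] M := (LinearMap.lsmul S M u).restrictScalars R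
  have hφ : ∀ (Q : Type u) [AddCommGroup Q] [Module R Q] (w : M ⊗[R] Q), φ.rTensor Q w = u • w := by
    intro Q _ _ w
    induction w with
    | zero => simp
    | tmul m q => simp [φ, TensorProduct.smul_tmul']
    | add a b ha hb => simp only [map_add, smul_add, ha, hb]
  let φA : A ⊗[R] M →ₗ[A] A ⊗[R] M := φ.baseChange A
  have hinj : Function.Injective (φA.lTensor (IsLocalRing.ResidueField A)) := by
    let e := TensorProduct.AlgebraTensorModule.cancelBaseChange R A A (IsLocalRing.ResidueField A) M
    have hnat : ∀ w, e (φA.lTensor (IsLocalRing.ResidueField A) w) = φ.lTensor (IsLocalRing.ResidueField A) (e w) := by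
      intro w
      induction w with
      | zero => simp
      | add a b ha hb => simp only [map_add, ha, hb]
      | tmul k w =>
        induction w with
        | zero => simp
        | add a b ha hb => simp only [TensorProduct.tmul_add, map_add, ha, hb]
        | tmul a m => simp [φA, e]
    rw [injective_iff_map_eq_zero]
    intro w hw
    have h1 : φ.lTensor p.ResidueField (e w) = 0 := (hnat w).symm.trans (by rw [hw, map_zero])
    have h2 : u • TensorProduct.comm R p.ResidueField M (e w) = 0 := by
      have hc : ∀ v, φ.rTensor p.ResidueField (TensorProduct.comm R p.ResidueField M v) =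
          TensorProduct.comm R p.ResidueField M (φ.lTensor p.ResidueField v) := fun v => by
        induction v with
        | zero => simp
        | tmul a b => simp
        | add a b ha hb => simp only [map_add, ha, hb]
      rw [← hφ, hc, h1, map_zero]
    have h3 := hreg _ h2
    rwa [LinearEquiv.map_eq_zero_iff, LinearEquiv.map_eq_zero_iff] at h3
  haveI : Module.Flat A (A ⊗[R] M) := inferInstance
  have hUI := LocalFlat.UnivInjective.rTensor_injective_of_projective φA hinj (A ⊗[R] Q)
  let ψ : M ⊗[R] Q →ₗ[R] (A ⊗[R] M) ⊗[A] (A ⊗[R] Q) := TensorProduct.lift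
    (((((TensorProduct.mk A (A ⊗[R] M) (A ⊗[R] Q)).restrictScalars₁₂ R R).comp (TensorProduct.mk R A M 1)).flip).comp
      (TensorProduct.mk R A Q 1)).flip
  have hψ : ∀ m q, ψ (m ⊗ₜ q) = ((1 : A) ⊗ₜ[R] m) ⊗ₜ[A] ((1 : A) ⊗ₜ[R] q) := fun m q => rfl
  have hψu : ∀ w, φA.rTensor (A ⊗[R] Q) (ψ w) = ψ (u • w) := fun w => by
    induction w with
    | zero => simp
    | tmul m q => rw [TensorProduct.smul_tmul', hψ, hψ, LinearMap.rTensor_tmul]; simp [φA, φ]
    | add a b ha hb => simp only [map_add, smul_add, ha, hb]
  have h0 : ψ z = 0 := hUI (by rw [hψu, hz, map_zero, map_zero])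
  let e : (A ⊗[R] M) ⊗[A] (A ⊗[R] Q) ≃ₗ[A] A ⊗[R] (M ⊗[R] Q) :=
    (TensorProduct.AlgebraTensorModule.cancelBaseChange R A A (A ⊗[R] M) Q).trans
      (TensorProduct.AlgebraTensorModule.assoc R R A A M Q)
  have heψ : ∀ w, e (ψ w) = (1 : A) ⊗ₜ[R] w := fun w => by
    induction w with
    | zero => simp
    | tmul m q => rw [hψ]; simp [e]
    | add a b ha hb => simp only [map_add, TensorProduct.tmul_add, ha, hb]
  haveI : IsLocalizedModule p.primeCompl (TensorProduct.mk R A (M ⊗[R] Q) 1) :=
    (isLocalizedModule_iff_isBaseChange p.primeCompl A _).2 (TensorProduct.isBaseChange R (M ⊗[R] Q) A)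
  obtain ⟨s, hs⟩ := (IsLocalizedModule.eq_zero_iff p.primeCompl (TensorProduct.mk R A (M ⊗[R] Q) 1)).1
    (show TensorProduct.mk R A (M ⊗[R] Q) 1 z = 0 by rw [TensorProduct.mk_apply, ← heψ, h0, map_zero])
  exact ⟨s, s.2, hs⟩

variable [Algebra.FinitePresentation R S] [Module.FinitePresentation S M]

set_option maxHeartbeats 1600000 in
/-- An element regular on the fibre is universally regular over a basic open of the base. -/
theorem exists_regular_away :
    ∃ f : R, f ∉ p ∧ ∀ (Q : Type u) [AddCommGroup Q] [Module R Q] (z : M ⊗[R] Q), u • z = 0 →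
      ∃ k : ℕ, f ^ k • z = 0 := by
  classical
  let α : M →ₗ[S] M := LinearMap.lsmul S M u
  have hα : ∀ (Q : Type u) [AddCommGroup Q] [Module R Q] (w : M ⊗[R] Q),
      (α.restrictScalars R).rTensor Q w = u • w := by
    intro Q _ _ w
    induction w with
    | zero => simp
    | tmul m q => simp [α, TensorProduct.smul_tmul']
    | add a b ha hb => simp only [map_add, smul_add, ha, hb]
  haveI : Module.FinitePresentation S (M ⧸ LinearMap.range α) :=
    Module.finitePresentation_of_surjective (LinearMap.range α).mkQ (Submodule.mkQ_surjective _)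
      (by rw [Submodule.ker_mkQ]; exact (Module.Finite.range α).fg_top.map (LinearMap.range α).subtype |> fun h => by
            simpa using h)
  -- flatness of the cokernel over a basic open of the base
  have hflat : ∀ Q : Ideal S, ∀ _ : Q.IsPrime, Q.comap (algebraMap R S) ≤ p →
      Module.Flat R (LocalizedModule Q.primeCompl (M ⧸ LinearMap.range α)) := by
    intro Q _ hQ
    haveI : Module.Flat R (LocalizedModule Q.primeCompl M) :=
      H19.FlatLocus.Model.flat_localized Q.primeCompl (LocalizedModule.mkLinearMap Q.primeCompl M)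
    refine FlatStep.flat_coker_localized α Q.primeCompl fun Q' _ _ z hz => ?_
    obtain ⟨s, hs, hsz⟩ := killed_of_regular p u hreg Q' z (by rw [← hα]; exact hz)
    exact ⟨algebraMap R S s, fun h => hs (hQ h), by rw [algebraMap_smul]; exact hsz⟩
  obtain ⟨f₁, hf₁p, hf₁⟩ : ∃ f : R, f ∉ p ∧ ∀ Q : Ideal S, ∀ _ : Q.IsPrime, algebraMap R S f ∉ Q →
      Module.Flat R (LocalizedModule Q.primeCompl (M ⧸ LinearMap.range α)) := by
    let G : Set S := {g | Module.Flat R (LocalizedModule (Submonoid.powers g) (M ⧸ LinearMap.range α))}
    obtain ⟨f, hf, hfI⟩ : ∃ f : R, f ∉ p ∧ algebraMap R S f ∈ Ideal.span G := by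
      by_contra hcon
      push Not at hcon
      obtain ⟨P, hP, hle, hd⟩ := Ideal.exists_le_prime_disjoint (Ideal.span G)
        (p.primeCompl.map (algebraMap R S)) (Set.disjoint_left.2 fun a ha ha' => by
          obtain ⟨r, hr, rfl⟩ := ha'
          exact hcon r hr ha)
      haveI := hP
      obtain ⟨g, hg, hgflat⟩ := OpenFlat.exists_flat_away P (hflat P hP fun r hr => by
        by_contra hrp
        exact Set.disjoint_left.1 hd hr (Submonoid.mem_map_of_mem (algebraMap R S) hrp))
      exact hg (hle (Ideal.subset_span hgflat))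
    refine ⟨f, hf, fun Q _ hfQ => ?_⟩
    obtain ⟨g, hg, hgQ⟩ : ∃ g ∈ G, g ∉ Q := by
      by_contra hcon
      push Not at hcon
      exact hfQ (Ideal.span_le.2 hcon hfI)
    exact OpenFlat.flatAt_of_away g Q hgQ hg
  let fD := algebraMap R S f₁
  let W := Submonoid.powers fD
  haveI : Algebra.FinitePresentation S (Localization.Away fD) := IsLocalization.Away.finitePresentation fD
  haveI : Algebra.FinitePresentation R (Localization.Away fD) := Algebra.FinitePresentation.trans R S _
  let Mf := LocalizedModule W M
  let Cf := LocalizedModule W (M ⧸ LinearMap.range α)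
  haveI : Module.Flat R Cf := OpenFlat.flat_away_of_forall fD fun Q _ hQ => hf₁ Q inferInstance hQ
  haveI : Module.Flat R Mf := H19.FlatLocus.Model.flat_localized W (LocalizedModule.mkLinearMap W M)
  let af : Mf →ₗ[Localization.Away fD] Mf := LocalizedModule.map W α
  let gf : Mf →ₗ[Localization.Away fD] Cf := LocalizedModule.map W (LinearMap.range α).mkQ
  have hgs : Function.Surjective gf := LocalizedModule.map_surjective W _ (Submodule.mkQ_surjective _)
  have hex : Function.Exact af gf := LocalizedModule.map_exact W _ _ (LinearMap.exact_map_mkQ_range α)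
  haveI : Module.FinitePresentation (Localization.Away fD) Mf := inferInstance
  haveI : Module.FinitePresentation (Localization.Away fD) Cf := inferInstance
  haveI := FlatFPSyzygy.Basic.ker_finitePresentation (R := R) gf hgs
  let L := LinearMap.ker gf
  have hLUI : ∀ (Q : Type u) [AddCommGroup Q] [Module R Q],
      Function.Injective ((L.subtype.restrictScalars R).rTensor Q) :=
    Pure.UI.of_flat_right (L.subtype.restrictScalars R) (gf.restrictScalars R) Subtype.val_injective
      (LinearMap.exact_subtype_ker_map gf) hgs
  haveI : Module.Flat R L := Pure.UI.flat_left (L.subtype.restrictScalars R) hLUI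
  let β : Mf →ₗ[Localization.Away fD] L := af.codRestrict L fun x => hex.apply_apply_eq_zero x
  have hβ : Function.Surjective β := fun y => by
    obtain ⟨x, hx⟩ := (hex y.1).1 y.2
    exact ⟨x, Subtype.ext hx⟩
  haveI := FlatFPSyzygy.Basic.ker_finitePresentation (R := R) β hβ
  -- the kernel is killed by an element of the base outside the point
  have hkill : ∀ x : Mf, β x = 0 → ∃ s : R, s ∉ p ∧ s • x = 0 := by
    intro x hx
    induction x using LocalizedModule.induction_on with
    | h m w =>
      have h0 : LocalizedModule.mk (u • m) w = 0 := by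
        have := congrArg Subtype.val hx
        rwa [LinearMap.codRestrict_apply, LocalizedModule.map_mk] at this
      rw [← LocalizedModule.zero_mk w, LocalizedModule.mk_eq] at h0
      obtain ⟨c, hc⟩ := h0
      simp only [smul_zero, Submonoid.smul_def] at hc
      obtain ⟨s, hs, hsz⟩ := killed_of_regular p u hreg R ((((c : S) * (w : S)) • m) ⊗ₜ[R] (1 : R)) (by
        rw [TensorProduct.smul_tmul', smul_comm, mul_smul, hc, TensorProduct.zero_tmul])
      refine ⟨s, hs, ?_⟩
      have h1 := congrArg (TensorProduct.rid R M) hsz
      rw [map_smul, map_zero, TensorProduct.rid_tmul, one_smul] at h1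
      rw [LocalizedModule.smul'_mk, ← LocalizedModule.zero_mk w, LocalizedModule.mk_eq]
      exact ⟨c, by simp only [smul_zero, Submonoid.smul_def, smul_smul]; rw [mul_smul, ← mul_smul, smul_comm]; exact h1⟩
  obtain ⟨T, hT⟩ := Module.Finite.fg_top (R := Localization.Away fD) (M := LinearMap.ker β)
  choose s hs hsx using fun x : LinearMap.ker β => hkill x.1 x.2
  let f₂ := ∏ x ∈ T, s x
  have hf₂p : f₂ ∉ p := fun h => by
    obtain ⟨x, -, hx⟩ := (Ideal.IsPrime.prod_mem_iff (p := p)).1 h
    exact hs x hx
  have hf₂ : ∀ x : LinearMap.ker β, f₂ • x = 0 := fun x => by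
    have hx : x ∈ Submodule.span (Localization.Away fD) (T : Set (LinearMap.ker β)) := hT ▸ trivial
    induction hx using Submodule.span_induction with
    | mem x hx =>
      rw [show f₂ = (∏ y ∈ T.erase x, s y) * s x from (Finset.prod_erase_mul _ _ (Finset.mem_coe.1 hx)).symm,
        mul_smul]
      exact (congrArg _ (Subtype.ext (hsx x) : s x • x = 0)).trans (smul_zero _)
    | zero => exact smul_zero _
    | add a b _ _ ha hb => rw [smul_add, ha, hb, add_zero]
    | smul c a _ ha => rw [smul_comm, ha, smul_zero]
  refine ⟨f₁ * f₂, fun h => (Ideal.IsPrime.mem_or_mem inferInstance h).elim hf₁p hf₂p, fun Q _ _ z hz => ?_⟩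
  let lM := LocalizedModule.mkLinearMap W M
  let FQ := TensorProduct.AlgebraTensorModule.rTensor R Q lM
  haveI : IsLocalizedModule W FQ := IsLocalizedModule.rTensor W (R := R) (A := S) (N := Q) lM
  have hnat : ∀ w, (af.restrictScalars R).rTensor Q (FQ w) = FQ (u • w) := fun w => by
    induction w with
    | zero => simp
    | tmul m q =>
      have h : af (LocalizedModule.mk m 1) = LocalizedModule.mk (u • m) 1 := LocalizedModule.map_mk W α m 1
      simp only [FQ, lM, TensorProduct.smul_tmul', TensorProduct.AlgebraTensorModule.rTensor_tmul,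
        LinearMap.rTensor_tmul, LinearMap.coe_restrictScalars, LocalizedModule.mkLinearMap_apply, h]
    | add a b ha hb => simp only [map_add, smul_add, ha, hb]
  have h1 : (β.restrictScalars R).rTensor Q (FQ z) = 0 := hLUI Q (by
    rw [map_zero, ← LinearMap.comp_apply, ← LinearMap.rTensor_comp]
    show (af.restrictScalars R).rTensor Q (FQ z) = 0
    rw [hnat, hz, map_zero])
  obtain ⟨v, hv⟩ := (rTensor_exact Q (show Function.Exact ((LinearMap.ker β).subtype.restrictScalars R)
    (β.restrictScalars R) from LinearMap.exact_subtype_ker_map β) hβ _).1 h1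
  have h2 : FQ (f₂ • z) = 0 := by
    rw [LinearMap.map_smul_of_tower, ← hv, ← map_smul]
    suffices f₂ • v = 0 by rw [this, map_zero]
    clear hv
    induction v with
    | zero => exact smul_zero _
    | tmul x q => rw [TensorProduct.smul_tmul', hf₂, TensorProduct.zero_tmul]
    | add a b ha hb => rw [smul_add, ha, hb, add_zero]
  obtain ⟨⟨_, k, rfl⟩, hk⟩ := (IsLocalizedModule.eq_zero_iff W FQ).1 h2
  refine ⟨k + 1, ?_⟩
  change fD ^ k • f₂ • z = 0 at hk
  rw [← map_pow, algebraMap_smul, smul_smul] at hk
  rw [show (f₁ * f₂) ^ (k + 1) = (f₁ * f₂ ^ k) * (f₁ ^ k * f₂) by ring, mul_smul, hk, smul_zero]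

end Regular

end Groth.Agent.Lib.RG.ProjMod
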