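import Groth.Agent.Lib.RG.DimChain
import Groth.Agent.Lib.RG.GoodUI
import Groth.Agent.Lib.RG.ProjMod
import Groth.Agent.H25.FittingLoc
import Groth.Agent.H25.FittingProd
import Groth.Agent.S6895

/-!
# Flatness at generic points of fibres through contents of Fitting ideals
-/

set_option autoImplicit false
set_option linter.style.haveILetI false

universe u

open scoped TensorProduct

attribute [local instance] Algebra.TensorProduct.rightAlgebra

namespace Groth.Agent.Lib.RG.DimRank

open Engine StepModel

section Content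

variable {A B : Type u} [CommRing A] [CommRing B] [Algebra A B]

/-- `K` is a content of `J`: the smallest ideal of the base whose extension contains `J`. -/
structure IsContent (J : Ideal B) (K : Ideal A) : Prop where
  fg : K.FG
  le : J ≤ K.map (algebraMap A B)
  min : ∀ I : Ideal A, (∀ (ℓ : B →ₗ[A] A), ∀ x ∈ J, ℓ x ∈ I) → K ≤ I

theorem exists_content [Module.Projective A B] (J : Ideal B) (hJ : J.FG) : ∃ K : Ideal A, IsContent J K := by
  classical
  obtain ⟨σ, hσ⟩ := Module.projective_def'.1 (inferInstance : Module.Projective A B)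
  obtain ⟨T, hT⟩ := hJ
  let S : Finset A := T.biUnion fun x => (σ x).support.image (σ x)
  refine ⟨Ideal.span (S : Set A), ⟨⟨S, rfl⟩, ?_, fun I hI => ?_⟩⟩
  · rw [← hT, Ideal.span_le]
    intro x hx
    have h1 := LinearMap.congr_fun hσ x
    rw [LinearMap.comp_apply, Finsupp.linearCombination_apply, LinearMap.id_apply] at h1
    rw [← h1]
    refine Ideal.sum_mem _ fun b hb => ?_
    simp only [id_eq]
    rw [Algebra.smul_def]
    exact Ideal.mul_mem_right _ _ (Ideal.mem_map_of_mem _ (Ideal.subset_span
      (Finset.mem_coe.2 (Finset.mem_biUnion.2 ⟨x, hx, Finset.mem_image_of_mem _ hb⟩))))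
  · rw [Ideal.span_le]
    intro a ha
    obtain ⟨x, hx, ha⟩ := Finset.mem_biUnion.1 (Finset.mem_coe.1 ha)
    obtain ⟨b, -, rfl⟩ := Finset.mem_image.1 ha
    exact hI ((Finsupp.lapply b).comp σ) x (hT ▸ Submodule.subset_span hx)

theorem IsContent.mono {J J' : Ideal B} {K K' : Ideal A} (h : IsContent J K) (h' : IsContent J' K') (hle : J ≤ J') :
    K ≤ K' := by
  refine h.min K' fun ℓ x hx => ?_
  have hx' : x ∈ K' • (⊤ : Submodule A B) := by
    rw [Ideal.smul_top_eq_map]
    exact h'.le (hle hx)
  refine Submodule.smul_induction_on (p := fun y => ℓ y ∈ K') hx' ?_ ?_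
  · intro a ha y _
    rw [map_smul]
    exact K'.mul_mem_right _ ha
  · intro y z hy hz
    rw [map_add]
    exact add_mem hy hz

variable {A' : Type u} [CommRing A'] [Algebra A A'] (t : Ideal A') [t.IsPrime]

theorem le_map_iff {J : Ideal B} {K : Ideal A} (h : IsContent J K) :
    J.map (algebraMap B (A' ⊗[A] B)) ≤ t.map (algebraMap A' (A' ⊗[A] B)) ↔ K.map (algebraMap A A') ≤ t := by
  let D := A' ⊗[A] B
  constructor
  · intro hle
    rw [Ideal.map_le_iff_le_comap]
    refine h.min _ fun ℓ x hx => ?_
    let ℓ' : D →ₗ[A'] A' := (TensorProduct.AlgebraTensorModule.rid A A' A').toLinearMap.comp (ℓ.baseChange A')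
    have h1 : ℓ' (algebraMap B D x) = algebraMap A A' (ℓ x) := by
      show TensorProduct.AlgebraTensorModule.rid A A' A' (ℓ.baseChange A' ((1 : A') ⊗ₜ[A] x)) = _
      simp [Algebra.smul_def]
    show algebraMap A A' (ℓ x) ∈ t
    rw [← h1]
    have hx' : algebraMap B D x ∈ t • (⊤ : Submodule A' D) := by
      rw [Ideal.smul_top_eq_map]
      exact hle (Ideal.mem_map_of_mem _ hx)
    refine Submodule.smul_induction_on (p := fun y => ℓ' y ∈ t) hx' ?_ ?_
    · intro a ha y _
      rw [map_smul]
      exact t.mul_mem_right _ ha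
    · intro y z hy hz
      rw [map_add]
      exact add_mem hy hz
  · intro hle
    refine (Ideal.map_mono h.le).trans ?_
    rw [Ideal.map_map, ← IsScalarTower.algebraMap_eq, IsScalarTower.algebraMap_eq A A' D, ← Ideal.map_map]
    exact Ideal.map_mono hle

theorem killed_iff [Module.Projective A B] (hD : GIF A' (A' ⊗[A] B)) [(t.map (algebraMap A' (A' ⊗[A] B))).IsPrime]
    [(t.map (algebraMap A' (A' ⊗[A] B))).LiesOver t] [Module.Flat A' (A' ⊗[A] B)] {J : Ideal B} {K : Ideal A}
    (h : IsContent J K) (L : Type u) [CommRing L] [Algebra (A' ⊗[A] B) L]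
    [IsLocalization (t.map (algebraMap A' (A' ⊗[A] B))).primeCompl L] :
    (J.map (algebraMap B (A' ⊗[A] B))).map (algebraMap (A' ⊗[A] B) L) = ⊥ ↔
      ∀ k ∈ K, ∃ c, c ∉ t ∧ c * algebraMap A A' k = 0 := by
  let D := A' ⊗[A] B
  let P := t.map (algebraMap A' D)
  constructor
  · intro hbot k hk
    have hker : K ≤ RingHom.ker ((algebraMap A' (Localization.AtPrime t)).comp (algebraMap A A')) := by
      refine h.min _ fun ℓ x hx => ?_
      have h0 : algebraMap D L (algebraMap B D x) = 0 :=
        (Ideal.map_eq_bot_iff_le_ker _).1 hbot (Ideal.mem_map_of_mem _ hx)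
      obtain ⟨⟨w, hw⟩, hwx⟩ := (IsLocalization.map_eq_zero_iff P.primeCompl L _).1 h0
      have hwt : (1 : t.ResidueField) ⊗ₜ[A'] w ≠ 0 := fun h => hw (mem_of_tmul_eq_zero t P h)
      obtain ⟨c, hc, hcx⟩ := ProjMod.killed_of_regular t w (fun z hz => fibre_regular hD t hwt z hz) A'
        (algebraMap B D x ⊗ₜ[A'] (1 : A'))
        (by rw [TensorProduct.smul_tmul', smul_eq_mul, hwx, TensorProduct.zero_tmul])
      have hcx' : c • algebraMap B D x = 0 := by
        have h1 := congrArg (TensorProduct.rid A' D) hcx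
        rwa [map_zero, map_smul, TensorProduct.rid_tmul, one_smul] at h1
      let ℓ' : D →ₗ[A'] A' := (TensorProduct.AlgebraTensorModule.rid A A' A').toLinearMap.comp (ℓ.baseChange A')
      have h1 : ℓ' (algebraMap B D x) = algebraMap A A' (ℓ x) := by
        show TensorProduct.AlgebraTensorModule.rid A A' A' (ℓ.baseChange A' ((1 : A') ⊗ₜ[A] x)) = _
        simp [Algebra.smul_def]
      show algebraMap A' (Localization.AtPrime t) (algebraMap A A' (ℓ x)) = 0
      refine (IsLocalization.map_eq_zero_iff t.primeCompl _ _).2 ⟨⟨c, hc⟩, ?_⟩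
      show c * _ = 0
      rw [← h1, ← smul_eq_mul, ← map_smul, hcx', map_zero]
    obtain ⟨⟨c, hc⟩, hck⟩ := (IsLocalization.map_eq_zero_iff t.primeCompl (Localization.AtPrime t) _).1 (hker hk)
    exact ⟨c, hc, hck⟩
  · intro hK
    rw [eq_bot_iff]
    refine (Ideal.map_mono (Ideal.map_mono h.le)).trans ?_
    simp only [Ideal.map_map]
    rw [Ideal.map_le_iff_le_comap]
    intro k hk
    obtain ⟨c, hc, hck⟩ := hK k hk
    rw [Ideal.mem_comap, Ideal.mem_bot, RingHom.comp_apply, RingHom.comp_apply]
    refine (IsLocalization.map_eq_zero_iff P.primeCompl L _).2 ⟨⟨algebraMap A' D c, fun hm => hc ?_⟩, ?_⟩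
    · exact (P.over_def t).ge hm
    · show algebraMap A' D c * algebraMap B D (algebraMap A B k) = 0
      rw [← IsScalarTower.algebraMap_apply A B D, IsScalarTower.algebraMap_apply A A' D, ← map_mul, hck, map_zero]

end Content

section Core

variable {R D : Type u} [CommRing R] [CommRing D] [Algebra R D] [Algebra.FinitePresentation R D] [Module.Flat R D]
  (hD : GIF R D) (t : Ideal R) [t.IsPrime] (P : Ideal D) [P.IsPrime] [P.LiesOver t]
  (hP : ∀ Q : Ideal D, ∀ _ : Q.IsPrime, Q.LiesOver t → P ≤ Q)
  {G : Type u} [AddCommGroup G] [Module D G] [Module R G] [IsScalarTower R D G] [Module.Finite D G]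

include hD hP in
/-- At a flat generic point the Fitting ideals jump from zero to one. -/
theorem exists_rank_of_flat (hflat : Module.Flat R (LocalizedModule P.primeCompl G)) :
    ∃ r, ¬ Fitt.ideal D G r ≤ P ∧
      ∀ i < r, (Fitt.ideal D G i).map (algebraMap D (Localization P.primeCompl)) = ⊥ := by
  obtain ⟨r, α, hα⟩ := StepModel.exists_bijAt (R := R) t hD P hP (G := G) hflat
  let e := LinearEquiv.ofBijective (LocalizedModule.map P.primeCompl α)
    ⟨Induct.injective_map_of_killed P α hα.2, Induct.surjective_map_of_killed P α hα.1⟩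
  haveI : IsLocalizedModule P.primeCompl
      (LinearMap.pi fun i : Fin r => (Algebra.linearMap D (Localization P.primeCompl)).comp (LinearMap.proj i)) :=
    IsLocalizedModule.pi P.primeCompl (fun _ : Fin r => Algebra.linearMap D (Localization P.primeCompl))
  let free : LocalizedModule P.primeCompl (Fin r → D) ≃ₗ[Localization P.primeCompl]
      (Fin r → Localization P.primeCompl) :=
    LinearEquiv.extendScalarsOfIsLocalization P.primeCompl (Localization P.primeCompl) (IsLocalizedModule.iso P.primeCompl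
      (LinearMap.pi fun i : Fin r => (Algebra.linearMap D (Localization P.primeCompl)).comp (LinearMap.proj i)))
  let b : Module.Basis (Fin r) (Localization P.primeCompl) (LocalizedModule P.primeCompl G) :=
    (Pi.basisFun (Localization P.primeCompl) (Fin r)).map (free.symm.trans e)
  haveI : Module.Free (Localization P.primeCompl) (LocalizedModule P.primeCompl G) := Module.Free.of_basis b
  haveI : Module.Finite (Localization P.primeCompl) (LocalizedModule P.primeCompl G) := Module.Finite.of_basis b
  have hr : Module.finrank (Localization P.primeCompl) (LocalizedModule P.primeCompl G) = r := by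
    rw [Module.finrank_eq_card_basis b, Fintype.card_fin]
  refine ⟨r, fun hle => ?_, fun i hi => ?_⟩
  · have h := H25.Fitting.ideal_eq_top b b.span_eq (le_refl r)
    rw [H25.Fitting.ideal_localization] at h
    obtain ⟨x, hx, hx'⟩ := H25.Fitting.exists_mem_of_map_ideal_eq_top P.primeCompl _ h
    exact hx (hle hx')
  · rw [← H25.Fitting.ideal_localization]
    exact H25.Fitting.ideal_eq_bot_of_free (by omega)

omit [Algebra.FinitePresentation R D] in
/-- Fitting ideals jumping from zero to one at a point give flatness there. -/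
theorem flat_of_rank {j : ℕ} (hj : ¬ Fitt.ideal D G j ≤ P)
    (hj0 : ∀ i < j, (Fitt.ideal D G i).map (algebraMap D (Localization P.primeCompl)) = ⊥) :
    Module.Flat R (LocalizedModule P.primeCompl G) := by
  haveI : Module.Finite (Localization P.primeCompl) (LocalizedModule P.primeCompl G) :=
    Module.Finite.of_isLocalizedModule P.primeCompl (LocalizedModule.mkLinearMap P.primeCompl G)
  have hfree := (S6895.result (R := Localization P.primeCompl) (LocalizedModule P.primeCompl G) j).2
    ⟨fun k hk => (H25.Fitting.ideal_localization P.primeCompl k).trans (hj0 k hk), fun k hk => ?_⟩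
  · haveI : Module.Projective (Localization P.primeCompl) (LocalizedModule P.primeCompl G) :=
      H25.Fitting.projective_of_free_away fun p _ => by
        obtain ⟨f, hf, hfr, -⟩ := hfree p
        exact ⟨f, hf, hfr⟩
    haveI : Module.Flat R (Localization P.primeCompl) := Module.Flat.trans R D (Localization P.primeCompl)
    exact Module.Flat.trans R (Localization P.primeCompl) (LocalizedModule P.primeCompl G)
  · rw [H25.Fitting.ideal_localization]
    by_contra hne
    have hdis := (IsLocalization.map_algebraMap_ne_top_iff_disjoint P.primeCompl (Localization P.primeCompl) _).1 hne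
    obtain ⟨x, hx, hxP⟩ := SetLike.not_le_iff_exists.1 hj
    exact Set.disjoint_left.1 hdis hxP (H25.Fitting.ideal_mono hk hx)

end Core

section Rank

variable {A B : Type u} [CommRing A] [CommRing B] [Algebra A B] [Algebra.Smooth A B] [Module.Projective A B]
  (hB : _root_.FlatCA.GeomIrredFibres A B)
  {M : Type u} [AddCommGroup M] [Module B M] [Module.FinitePresentation B M]

include hB

theorem flat_iff_exists (K : ℕ → Ideal A) (hK0 : K 0 = ⊥) (hK : ∀ j, IsContent (Fitt.ideal B M j) (K (j + 1)))
    (A' : Type u) [CommRing A'] [Algebra A A'] (t : Ideal A') [t.IsPrime]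
    [(t.map (algebraMap A' (A' ⊗[A] B))).IsPrime] :
    Module.Flat A' (LocalizedModule (t.map (algebraMap A' (A' ⊗[A] B))).primeCompl ((A' ⊗[A] B) ⊗[B] M)) ↔
      ∃ j, ¬ (K (j + 1)).map (algebraMap A A') ≤ t ∧ ∀ k ∈ K j, ∃ c, c ∉ t ∧ c * algebraMap A A' k = 0 := by
  haveI : Algebra.Smooth A' (A' ⊗[A] B) := inferInstance
  haveI : Module.Flat A' (A' ⊗[A] B) := inferInstance
  have hgeom := RG57.DevissageProj.geomIrredFibres_baseChange (A := A') hB
  haveI : (t.map (algebraMap A' (A' ⊗[A] B))).LiesOver t := (DimChain.liesOver_gen hgeom t).2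
  have hD : GIF A' (A' ⊗[A] B) := Fibres.gif_of_smooth_of_geomIrred hgeom
  have hF : ∀ j, Fitt.ideal (A' ⊗[A] B) ((A' ⊗[A] B) ⊗[B] M) j =
      (Fitt.ideal B M j).map (algebraMap B (A' ⊗[A] B)) :=
    fun j => H25.Fitting.ideal_of_isBaseChange (A' ⊗[A] B) (TensorProduct.isBaseChange B M (A' ⊗[A] B)) j
  have hmap : ∀ j, ¬ Fitt.ideal (A' ⊗[A] B) ((A' ⊗[A] B) ⊗[B] M) j ≤ t.map (algebraMap A' (A' ⊗[A] B)) ↔
      ¬ (K (j + 1)).map (algebraMap A A') ≤ t := fun j => by
    rw [hF, le_map_iff t (hK j)]
  have hkill : ∀ j, (Fitt.ideal (A' ⊗[A] B) ((A' ⊗[A] B) ⊗[B] M) j).map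
      (algebraMap (A' ⊗[A] B) (Localization (t.map (algebraMap A' (A' ⊗[A] B))).primeCompl)) = ⊥ ↔
      ∀ k ∈ K (j + 1), ∃ c, c ∉ t ∧ c * algebraMap A A' k = 0 := fun j => by
    rw [hF]
    exact killed_iff t hD (hK j) _
  constructor
  · intro hflat
    obtain ⟨r, hr, hr0⟩ := exists_rank_of_flat hD t _
      (fun Q _ _ => Ideal.map_le_iff_le_comap.2 (Q.over_def t).le) hflat
    refine ⟨r, (hmap r).1 hr, ?_⟩
    cases r with
    | zero =>
      rw [hK0]
      intro k hk
      rw [Ideal.mem_bot] at hk
      exact ⟨1, fun h => Ideal.IsPrime.ne_top inferInstance ((Ideal.eq_top_iff_one t).2 h),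
        by rw [hk, map_zero, mul_zero]⟩
    | succ j => exact (hkill j).1 (hr0 j (Nat.lt_succ_self j))
  · rintro ⟨j, hj, hj0⟩
    refine flat_of_rank (R := A') (t.map (algebraMap A' (A' ⊗[A] B))) ((hmap j).2 hj) fun i hi => (hkill i).2 fun k hk => ?_
    obtain ⟨j, rfl⟩ : ∃ j', j = j' + 1 := ⟨j - 1, by omega⟩
    exact hj0 k ((hK i).mono (hK j) (H25.Fitting.ideal_mono (Nat.lt_succ_iff.1 hi)) hk)

end Rank

end Groth.Agent.Lib.RG.DimRank
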