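import Groth.Agent.Lib.RG.Reduce

/-!
# The base change underlying an elementary dévissage
-/

set_option autoImplicit false
set_option linter.style.haveILetI false

universe u

open scoped TensorProduct

namespace Groth.Agent.Lib.RG.ElemData

variable {R S : Type u} [CommRing R] [CommRing S] [Algebra R S] {N : Type u} [AddCommGroup N] [Module S N]
  {p : Ideal R} {q : Ideal S} [p.IsPrime] [q.IsPrime] {n : ℕ}

/-- The module of an elementary dévissage as a base change of the original module. -/
theorem exists_base (E : _root_.FlatCA.ElemDevissage R S N p q n) :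
    ∃ (_ : Module S E.G) (_ : Module R E.G) (_ : IsScalarTower S E.S' E.G) (_ : IsScalarTower E.R' E.S' E.G)
      (_ : IsScalarTower R E.R' E.G) (_ : IsScalarTower R E.S' E.G) (_ : IsScalarTower R S E.G)
      (f : N →ₗ[S] E.G), IsBaseChange E.S' f := by
  letI mSG : Module S E.G := Module.compHom E.G (algebraMap S E.S')
  haveI : IsScalarTower S E.S' E.G := IsScalarTower.of_algebraMap_smul fun _ _ => rfl
  haveI : IsScalarTower E.R' E.S' E.G := IsScalarTower.of_algebraMap_smul fun r g => by
    rw [← algebraMap_smul E.C (algebraMap E.R' E.S' r) g, ← IsScalarTower.algebraMap_apply, algebraMap_smul]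
  letI mRG : Module R E.G := Module.compHom E.G (algebraMap R E.R')
  haveI : IsScalarTower R E.R' E.G := IsScalarTower.of_algebraMap_smul fun _ _ => rfl
  haveI : IsScalarTower R E.S' E.G := IsScalarTower.of_algebraMap_smul fun r g => by
    rw [IsScalarTower.algebraMap_apply R E.R' E.S', algebraMap_smul]
    exact (algebraMap_smul E.R' r g)
  haveI : IsScalarTower R S E.G := IsScalarTower.of_algebraMap_smul fun r g => by
    rw [← algebraMap_smul E.S' (algebraMap R S r) g, ← IsScalarTower.algebraMap_apply, algebraMap_smul]
  exact ⟨mSG, mRG, inferInstance, inferInstance, inferInstance, inferInstance, inferInstance,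
    (E.iso.toLinearMap.restrictScalars S).comp E.f,
    IsBaseChange.of_equiv (E.isBaseChange.equiv.trans E.iso) fun x => by simp [IsBaseChange.equiv_tmul]⟩

/-- A finite map with one prime over a point: a basic open around the prime contains the preimage of
one around the point. -/
theorem exists_notMem_mem (E : _root_.FlatCA.ElemDevissage R S N p q n) (c : E.C) (hc : c ∉ E.z) :
    ∃ d : E.D, d ∉ E.y ∧ algebraMap E.D E.C d ∈ Ideal.span {c} := by
  haveI := E.finiteDC
  haveI : Algebra.IsIntegral E.D E.C := Algebra.IsIntegral.of_finite _ _
  refine DevTools.exists_notMem_algebraMap_mem E.y _ fun z₁ hz₁ h hle => hc ?_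
  rw [← E.uniq z₁ ⟨h.symm⟩]
  exact hle (Ideal.mem_span_singleton_self c)

end Groth.Agent.Lib.RG.ElemData
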