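import Groth.Agent.S1276
import Groth.Prelude.Def_Flat
import Mathlib.RingTheory.Spectrum.Prime.TensorProduct
import Mathlib.Topology.KrullDimension
import Mathlib.RingTheory.LocalRing.ResidueField.Fiber
import Mathlib.RingTheory.Spectrum.Prime.Topology

/-!
# An affine neighbourhood realising the local dimension of the fibre support
-/

set_option autoImplicit false
set_option linter.style.haveILetI false

universe u

open scoped TensorProduct
open Topology PrimeSpectrum

namespace Groth.Agent.Lib.RG.FibreSupp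

variable {R S T : Type u} [CommRing R] [CommRing S] [CommRing T] [Algebra R S] [Algebra R T]

theorem fibre_embedding (p : Ideal R) [p.IsPrime] (f : S →ₐ[R] T)
    (hf : IsEmbedding (PrimeSpectrum.comap f.toRingHom)) :
    IsEmbedding (PrimeSpectrum.comap
      (Algebra.TensorProduct.map (AlgHom.id p.ResidueField p.ResidueField) f).toRingHom) ∧
    Set.range (PrimeSpectrum.comap
      (Algebra.TensorProduct.map (AlgHom.id p.ResidueField p.ResidueField) f).toRingHom) =
      {Q | PrimeSpectrum.comap (Algebra.TensorProduct.includeRight : S →ₐ[R] p.Fiber S).toRingHom Q ∈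
        Set.range (PrimeSpectrum.comap f.toRingHom)} := by
  let F := (Algebra.TensorProduct.map (AlgHom.id p.ResidueField p.ResidueField) f).toRingHom
  let eS := PrimeSpectrum.preimageHomeomorphFiber R S ⟨p, inferInstance⟩
  let eT := PrimeSpectrum.preimageHomeomorphFiber R T ⟨p, inferInstance⟩
  have hmem : ∀ P : PrimeSpectrum T, P ∈ PrimeSpectrum.comap (algebraMap R T) ⁻¹' {⟨p, inferInstance⟩} ↔
      PrimeSpectrum.comap f.toRingHom P ∈ PrimeSpectrum.comap (algebraMap R S) ⁻¹' {⟨p, inferInstance⟩} := by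
    intro P
    rw [Set.mem_preimage, Set.mem_preimage, ← Function.comp_apply (f := PrimeSpectrum.comap (algebraMap R S)),
      ← PrimeSpectrum.comap_comp, show f.toRingHom.comp (algebraMap R S) = algebraMap R T from f.comp_algebraMap]
  let g : PrimeSpectrum.comap (algebraMap R T) ⁻¹' {⟨p, inferInstance⟩} →
      PrimeSpectrum.comap (algebraMap R S) ⁻¹' {⟨p, inferInstance⟩} :=
    fun P => ⟨PrimeSpectrum.comap f.toRingHom P.1, (hmem P.1).1 P.2⟩
  have hg : IsEmbedding g := (hf.comp IsEmbedding.subtypeVal).codRestrict _ _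
  have heq : PrimeSpectrum.comap F = eS ∘ g ∘ eT.symm := by
    funext Q
    apply eS.symm.injective
    rw [Function.comp_apply, Homeomorph.symm_apply_apply]
    apply Subtype.ext
    show PrimeSpectrum.comap (Algebra.TensorProduct.includeRight : S →ₐ[R] p.Fiber S).toRingHom
        (PrimeSpectrum.comap F Q) =
      PrimeSpectrum.comap f.toRingHom
        (PrimeSpectrum.comap (Algebra.TensorProduct.includeRight : T →ₐ[R] p.Fiber T).toRingHom Q)
    rw [← Function.comp_apply (f := PrimeSpectrum.comap _), ← PrimeSpectrum.comap_comp,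
      ← Function.comp_apply (f := PrimeSpectrum.comap f.toRingHom), ← PrimeSpectrum.comap_comp]
    congr 1
  refine ⟨heq ▸ eS.isEmbedding.comp (hg.comp eT.symm.isEmbedding), ?_⟩
  ext Q
  rw [heq]
  constructor
  · rintro ⟨Q', rfl⟩
    exact ⟨(eT.symm Q').1, congrArg Subtype.val (eS.symm_apply_apply (g (eT.symm Q'))).symm⟩
  · rintro ⟨P, hP⟩
    refine ⟨eT ⟨P, (hmem P).2 ?_⟩, ?_⟩
    · rw [hP]; exact (eS.symm Q).2
    · show eS (g (eT.symm (eT _))) = Q
      rw [Homeomorph.symm_apply_apply, ← Homeomorph.eq_symm_apply]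
      exact Subtype.ext hP

/-- Around a point of the fibre support, a finitely presented closed subscheme annihilating the
module, and a basic open on which the fibre has the local dimension. -/
theorem exists_fg_notMem [Algebra.FiniteType R S]
    (N : Type u) [AddCommGroup N] [Module S N] [Module R N] [IsScalarTower R S N] [Module.Finite S N]
    (p : Ideal R) [p.IsPrime] (q : Ideal S) [q.IsPrime] [q.LiesOver p] (n : ℕ)
    (x : PrimeSpectrum (p.Fiber S)) (hxq : x.asIdeal = _root_.FlatCA.fiberIdeal p q)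
    (hx : x ∈ Module.support (p.Fiber S) (_root_.FlatCA.fiberMod p S N))
    (hn : FlatMor.localDim (Module.support (p.Fiber S) (_root_.FlatCA.fiberMod p S N)) ⟨x, hx⟩ = n) :
    ∃ (J : Ideal S) (g : S), J.FG ∧ J ≤ Module.annihilator S N ∧ J ≤ q ∧ g ∉ q ∧
      ringKrullDim (p.Fiber (Localization.Away (Ideal.Quotient.mk J g))) = n := by
  classical
  obtain ⟨J, hJfg, hJann, hJ⟩ := Groth.Agent.S1276.result (A := R) (B := S) N p
  let incl := (Algebra.TensorProduct.includeRight : S →ₐ[R] p.Fiber S).toRingHom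
  let supp := Module.support (p.Fiber S) (_root_.FlatCA.fiberMod p S N)
  have hxcomap : PrimeSpectrum.comap incl x = ⟨q, inferInstance⟩ := by
    let e := PrimeSpectrum.primesOverOrderIsoFiber R S p
    obtain ⟨⟨q', hq'1, hq'2⟩, hq'⟩ : ∃ a, e a = x := ⟨e.symm x, e.apply_symm_apply x⟩
    have hcomap : ∀ a, (e a).asIdeal.comap incl = a.1 := fun a =>
      congrArg Subtype.val (e.symm_apply_apply a)
    refine PrimeSpectrum.ext (le_antisymm ?_ ?_)
    · let xq := e ⟨q, inferInstance, inferInstance⟩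
      have : x.asIdeal ≤ xq.asIdeal := by
        rw [hxq]
        exact Ideal.map_le_iff_le_comap.2 (hcomap ⟨q, inferInstance, inferInstance⟩).ge
      exact (Ideal.comap_mono this).trans (hcomap ⟨q, inferInstance, inferInstance⟩).le
    · show q ≤ x.asIdeal.comap incl
      rw [hxq]
      exact Ideal.le_comap_map
  have hsupp : ∀ Q : PrimeSpectrum (p.Fiber S), Q ∈ supp ↔ J ≤ (PrimeSpectrum.comap incl Q).asIdeal :=
    fun Q => (hJ Q).symm.trans Ideal.map_le_iff_le_comap
  have hJq : J ≤ q := by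
    have := (hsupp x).1 hx
    rwa [hxcomap] at this
  -- a neighbourhood realising the local dimension
  obtain ⟨U, hU⟩ : (n : WithBot ℕ∞) ∈ Set.range fun U : {U : TopologicalSpace.Opens supp // (⟨x, hx⟩ : supp) ∈ U} =>
      topologicalKrullDim (U.1 : Set supp) := by
    have hne : (Set.range fun U : {U : TopologicalSpace.Opens supp // (⟨x, hx⟩ : supp) ∈ U} =>
      topologicalKrullDim (U.1 : Set supp)).Nonempty := Set.range_nonempty_iff_nonempty.2 ⟨⟨⊤, trivial⟩⟩
    have := csInf_mem hne
    rwa [← iInf, show iInf _ = FlatMor.localDim supp ⟨x, hx⟩ from rfl, hn] at this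
  obtain ⟨W, hW, hWU⟩ := isOpen_induced_iff.1 U.1.2
  obtain ⟨_, ⟨z, rfl⟩, hxz, hzW⟩ := PrimeSpectrum.isTopologicalBasis_basic_opens.exists_subset_of_mem_open
    (show x ∈ W from (Set.ext_iff.1 hWU ⟨x, hx⟩).2 U.2) hW
  obtain ⟨s, hs, g, hg⟩ := Ideal.Fiber.exists_smul_eq_one_tmul p z
  have hgz : ∀ Q : PrimeSpectrum (p.Fiber S), g ∈ (PrimeSpectrum.comap incl Q).asIdeal ↔ z ∈ Q.asIdeal := by
    intro Q
    show (1 : p.ResidueField) ⊗ₜ[R] g ∈ Q.asIdeal ↔ _
    rw [← hg, Algebra.smul_def]
    refine Ideal.unit_mul_mem_iff_mem _ ?_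
    rw [IsScalarTower.algebraMap_apply R p.ResidueField (p.Fiber S)]
    exact (isUnit_iff_ne_zero.2 fun h0 => hs (Ideal.algebraMap_residueField_eq_zero.1 h0)).map _
  have hgq : g ∉ q := by
    rw [show q = (PrimeSpectrum.comap incl x).asIdeal from by rw [hxcomap]]
    exact fun h => hxz ((hgz x).1 h)
  refine ⟨J, g, hJfg, hJann, hJq, hgq, ?_⟩
  let B := Localization.Away (Ideal.Quotient.mk J g)
  let f : S →ₐ[R] B := (IsScalarTower.toAlgHom R (S ⧸ J) B).comp (Ideal.Quotient.mkₐ R J)
  have hf : IsEmbedding (PrimeSpectrum.comap f.toRingHom) := by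
    rw [show f.toRingHom = (algebraMap (S ⧸ J) B).comp (Ideal.Quotient.mk J) from rfl, PrimeSpectrum.comap_comp]
    exact (PrimeSpectrum.isEmbedding_comap_of_surjective _ _ Ideal.Quotient.mk_surjective).comp
      (PrimeSpectrum.localization_comap_isEmbedding B (Submonoid.powers (Ideal.Quotient.mk J g)))
  have hrange : Set.range (PrimeSpectrum.comap f.toRingHom) = {P | J ≤ P.asIdeal ∧ g ∉ P.asIdeal} := by
    rw [show f.toRingHom = (algebraMap (S ⧸ J) B).comp (Ideal.Quotient.mk J) from rfl, PrimeSpectrum.comap_comp,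
      Set.range_comp, PrimeSpectrum.localization_away_comap_range B (Ideal.Quotient.mk J g)]
    ext P
    constructor
    · rintro ⟨P', hP', rfl⟩
      exact ⟨fun a ha => by
        show Ideal.Quotient.mk J a ∈ P'.asIdeal
        rw [Ideal.Quotient.eq_zero_iff_mem.2 ha]; exact P'.asIdeal.zero_mem, hP'⟩
    · rintro ⟨hJP, hgP⟩
      haveI := P.isPrime
      have hker : RingHom.ker (Ideal.Quotient.mk J) ≤ P.asIdeal := by rwa [Ideal.mk_ker]
      refine ⟨⟨P.asIdeal.map (Ideal.Quotient.mk J),
        Ideal.map_isPrime_of_surjective Ideal.Quotient.mk_surjective hker⟩, ?_, PrimeSpectrum.ext ?_⟩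
      · intro h
        apply hgP
        have h' : g ∈ (P.asIdeal.map (Ideal.Quotient.mk J)).comap (Ideal.Quotient.mk J) := h
        rwa [Ideal.comap_map_of_surjective _ Ideal.Quotient.mk_surjective, ← RingHom.ker_eq_comap_bot,
          sup_of_le_left hker] at h'
      · show (P.asIdeal.map (Ideal.Quotient.mk J)).comap (Ideal.Quotient.mk J) = P.asIdeal
        rw [Ideal.comap_map_of_surjective _ Ideal.Quotient.mk_surjective, ← RingHom.ker_eq_comap_bot,
          sup_of_le_left hker]
  obtain ⟨hemb, hr⟩ := fibre_embedding p f hf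
  let Tg : TopologicalSpace.Opens supp :=
    ⟨Subtype.val ⁻¹' (PrimeSpectrum.basicOpen z : Set (PrimeSpectrum (p.Fiber S))),
      (PrimeSpectrum.basicOpen z).2.preimage continuous_subtype_val⟩
  have hsub : (Tg : Set supp) ⊆ (U.1 : Set supp) := by
    exact fun a ha => (Set.ext_iff.1 hWU a).1 (hzW ha)
  have hset : Set.range (PrimeSpectrum.comap
      (Algebra.TensorProduct.map (AlgHom.id p.ResidueField p.ResidueField) f).toRingHom) =
      Subtype.val '' (Tg : Set supp) := by
    rw [hr, hrange]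
    ext Q
    constructor
    · rintro ⟨h1, h2⟩
      exact ⟨⟨Q, (hsupp Q).2 h1⟩, fun h => h2 ((hgz Q).2 h), rfl⟩
    · rintro ⟨⟨Q, hQ⟩, hQ', rfl⟩
      exact ⟨(hsupp Q).1 hQ, fun h => hQ' ((hgz Q).1 h)⟩
  have hdim : ringKrullDim (p.Fiber B) = topologicalKrullDim (Tg : Set supp) := by
    rw [← PrimeSpectrum.topologicalKrullDim_eq_ringKrullDim]
    exact IsHomeomorph.topologicalKrullDim_eq _ ((hemb.toHomeomorph.trans (Homeomorph.setCongr hset)).trans
      ((IsEmbedding.subtypeVal (p := fun Q => Q ∈ supp)).homeomorphImage (Tg : Set supp)).symm).isHomeomorph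
  rw [hdim]
  refine le_antisymm ?_ ?_
  · rw [← hU]
    exact (IsEmbedding.inclusion hsub).isInducing.topologicalKrullDim_le
  · rw [← hn]
    exact iInf_le (fun U : {U : TopologicalSpace.Opens supp // (⟨x, hx⟩ : supp) ∈ U} =>
      topologicalKrullDim (U.1 : Set supp)) ⟨Tg, hxz⟩

end Groth.Agent.Lib.RG.FibreSupp
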