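import Groth.Agent.Lib.RG.GeomRing
import Groth.Agent.Lib.RG.Coords
import Groth.Agent.Lib.RG.FibreSupp
import Groth.Agent.Lib.ProjSpace.Basic
import Mathlib.RingTheory.Etale.QuasiFinite

/-!
# Existence of elementary dévissages
-/

set_option autoImplicit false
set_option linter.style.haveILetI false

universe u

open scoped TensorProduct
open AlgebraicGeometry CategoryTheory

namespace Groth.Agent.Lib.RG.ElemExist

/-- A ring map to a field takes values in a subfield as soon as the residue field is generated from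
the base and the base does. -/
theorem mem_subfield {P0 A K : Type u} [CommRing P0] [CommRing A] [Algebra P0 A] [Field K] (h : A →+* K)
    (a : Ideal P0) [a.IsPrime] (P : Ideal A) [P.IsPrime] [P.LiesOver a] (hP : RingHom.ker h = P)
    (hs : Function.Surjective (Ideal.ResidueField.mapₐ a P (Algebra.ofId P0 A) (P.over_def a)))
    (K0 : Subfield K) (hK : ∀ f : P0, h (algebraMap P0 A f) ∈ K0) (x : A) : h x ∈ K0 := by
  let hl : P.ResidueField →+* K :=
    Ideal.ResidueField.lift P h hP.ge fun s hs' => isUnit_iff_ne_zero.2 fun h0 => hs' (hP ▸ h0)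
  obtain ⟨w, hw⟩ := hs (algebraMap A P.ResidueField x)
  obtain ⟨y, z, -, rfl⟩ := Coords.exists_div a w
  have hc : ∀ f : P0, Ideal.ResidueField.mapₐ a P (Algebra.ofId P0 A) (P.over_def a)
      (algebraMap P0 a.ResidueField f) = algebraMap A P.ResidueField (algebraMap P0 A f) := fun f => by
    rw [AlgHom.commutes, IsScalarTower.algebraMap_apply P0 A P.ResidueField]
  have : h x = h (algebraMap P0 A y) / h (algebraMap P0 A z) := by
    rw [← Ideal.ResidueField.lift_algebraMap P h hP.ge (fun s hs' => isUnit_iff_ne_zero.2 fun h0 => hs' (hP ▸ h0)) x,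
      ← hw, map_div₀, hc, hc, map_div₀, Ideal.ResidueField.lift_algebraMap, Ideal.ResidueField.lift_algebraMap]
  rw [this]
  exact div_mem (hK y) (hK z)

theorem smul_eq_zero_of_mem_map {S S' N : Type u} [CommRing S] [CommRing S'] [Algebra S S'] [AddCommGroup N]
    [Module S N] (J : Ideal S) (hJ : J ≤ Module.annihilator S N) {i : S'} (hi : i ∈ J.map (algebraMap S S'))
    (m : S' ⊗[S] N) : i • m = 0 := by
  induction m using TensorProduct.induction_on with
  | zero => exact smul_zero _
  | tmul w v =>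
    refine Submodule.span_induction (fun _ hj => ?_) (zero_smul _ _) (fun _ _ _ _ h1 h2 => ?_)
      (fun c _ _ h1 => ?_) hi
    · obtain ⟨j, hj, rfl⟩ := hj
      rw [algebraMap_smul, ← TensorProduct.tmul_smul, Module.mem_annihilator.1 (hJ hj) v,
        TensorProduct.tmul_zero]
    · rw [add_smul, h1, h2, add_zero]
    · rw [smul_assoc, h1, smul_zero]
  | add m m' hm hm' => rw [smul_add, hm, hm', add_zero]

theorem exists_module_quotient {S' C G : Type u} [CommRing S'] [CommRing C] [Algebra S' C]
    (hC : Function.Surjective (algebraMap S' C)) [AddCommGroup G] [Module S' G]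
    (h : ∀ i ∈ RingHom.ker (algebraMap S' C), ∀ m : G, i • m = 0) :
    ∃ _ : Module C G, IsScalarTower S' C G := by
  have hG : Module.IsTorsionBySet S' G (RingHom.ker (algebraMap S' C) : Set S') := fun m i => h i i.2 m
  let εC := RingHom.quotientKerEquivOfSurjective hC
  letI := hG.module
  letI mCG : Module C G := Module.compHom G εC.symm.toRingHom
  refine ⟨mCG, IsScalarTower.of_algebraMap_smul fun w m => ?_⟩
  show εC.symm (algebraMap S' C w) • m = w • m
  rw [show εC.symm (algebraMap S' C w) = Ideal.Quotient.mk _ w from εC.symm_apply_eq.2 rfl]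
  rfl

theorem exists_baseChange_quotient {S S' C : Type u} (N : Type u) [CommRing S] [CommRing S'] [CommRing C]
    [Algebra S S'] [Algebra S' C] [AddCommGroup N] [Module S N] [Module.Finite S N]
    (hC : Function.Surjective (algebraMap S' C)) (J : Ideal S) (hJ : J ≤ Module.annihilator S N)
    (hker : RingHom.ker (algebraMap S' C) = J.map (algebraMap S S')) :
    ∃ (G : Type u) (_ : AddCommGroup G) (_ : Module S G) (_ : Module S' G) (_ : IsScalarTower S S' G)
      (_ : Module C G) (_ : IsScalarTower S' C G) (f : N →ₗ[S] G),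
      IsBaseChange S' f ∧ Module.Finite C G := by
  obtain ⟨mCG, hCG⟩ := exists_module_quotient (S' := S') (C := C) (G := S' ⊗[S] N) hC
    (fun i hi m => smul_eq_zero_of_mem_map J hJ (hker.le hi) m)
  refine ⟨S' ⊗[S] N, inferInstance, inferInstance, inferInstance, inferInstance, mCG, hCG,
    TensorProduct.mk S S' N 1, TensorProduct.isBaseChange S N S', ?_⟩
  haveI := hCG
  exact Module.Finite.of_restrictScalars_finite S' C (S' ⊗[S] N)

theorem smoothRelDim_of_etale {R A : Type u} [CommRing R] [CommRing A] (n : ℕ) [Algebra R A]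
    [Algebra (MvPolynomial (Fin n) R) A] [IsScalarTower R (MvPolynomial (Fin n) R) A]
    [Algebra.Etale (MvPolynomial (Fin n) R) A] : _root_.FlatCA.SmoothRelDim n R A := by
  show SmoothOfRelativeDimension n _
  haveI h1 : SmoothOfRelativeDimension n (Spec.map (CommRingCat.ofHom (algebraMap R (MvPolynomial (Fin n) R)))) := by
    rw [HasRingHomProperty.Spec_iff (P := @SmoothOfRelativeDimension n)]
    refine RingHom.locally_of RingHom.isStandardSmoothOfRelativeDimension_respectsIso _ ?_
    exact RingHom.isStandardSmoothOfRelativeDimension_algebraMap n |>.mpr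
      (ProjSpace.Basic.isStandardSmoothOfRelativeDimension_mvPolynomial R n)
  haveI h2 : Etale (Spec.map (CommRingCat.ofHom (algebraMap (MvPolynomial (Fin n) R) A))) :=
    (HasRingHomProperty.Spec_iff (P := @Etale)).2 (RingHom.etale_algebraMap.2 inferInstance)
  rw [IsScalarTower.algebraMap_eq R (MvPolynomial (Fin n) R) A, CommRingCat.ofHom_comp, Spec.map_comp]
  have := smoothOfRelativeDimension_comp 0 n (Spec.map (CommRingCat.ofHom (algebraMap (MvPolynomial (Fin n) R) A)))
    (Spec.map (CommRingCat.ofHom (algebraMap R (MvPolynomial (Fin n) R))))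
  simpa using this

set_option maxHeartbeats 6400000 in
set_option synthInstance.maxHeartbeats 400000 in
theorem exists_elemDevissage {R S : Type u} [CommRing R] [CommRing S] [Algebra R S] [Algebra.FiniteType R S]
    (N : Type u) [AddCommGroup N] [Module S N] [Module R N] [IsScalarTower R S N] [Module.Finite S N]
    (p : Ideal R) [p.IsPrime] (q : Ideal S) [q.IsPrime] [q.LiesOver p] (n : ℕ)
    (x : PrimeSpectrum (p.Fiber S)) (hxq : x.asIdeal = _root_.FlatCA.fiberIdeal p q)
    (hx : x ∈ Module.support (p.Fiber S) (_root_.FlatCA.fiberMod p S N))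
    (hn : FlatMor.localDim (Module.support (p.Fiber S) (_root_.FlatCA.fiberMod p S N)) ⟨x, hx⟩ = n) :
    Nonempty (_root_.FlatCA.ElemDevissage R S N p q n) := by
  classical
  obtain ⟨J, g, hJfg, hJann, hJq, hgq, hdim⟩ := FibreSupp.exists_fg_notMem N p q n x hxq hx hn
  let Sg := Localization.Away g
  let B := Localization.Away (Ideal.Quotient.mk J g)
  have hug : IsUnit (((IsScalarTower.toAlgHom R (S ⧸ J) B).comp (Ideal.Quotient.mkₐ R J)).toRingHom g) :=
    IsLocalization.Away.algebraMap_isUnit (S := B) (Ideal.Quotient.mk J g)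
  let π : Sg →ₐ[R] B := IsLocalization.Away.liftAlgHom g
    (f := (IsScalarTower.toAlgHom R (S ⧸ J) B).comp (Ideal.Quotient.mkₐ R J)) hug
  have hπS : ∀ s : S, π (algebraMap S Sg s) = algebraMap (S ⧸ J) B (Ideal.Quotient.mk J s) := fun s => by
    show IsLocalization.Away.lift g hug (algebraMap S Sg s) = _
    exact IsLocalization.Away.lift_eq g hug s
  have hπ : Function.Surjective π := by
    intro b
    obtain ⟨c, ⟨_, k, rfl⟩, rfl⟩ := IsLocalization.exists_mk'_eq (Submonoid.powers (Ideal.Quotient.mk J g)) b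
    obtain ⟨s, rfl⟩ := Ideal.Quotient.mk_surjective c
    refine ⟨IsLocalization.mk' Sg s (⟨g ^ k, k, rfl⟩ : Submonoid.powers g), ?_⟩
    rw [IsLocalization.eq_mk'_iff_mul_eq]
    have h2 := congrArg π (IsLocalization.mk'_spec Sg s (⟨g ^ k, k, rfl⟩ : Submonoid.powers g))
    rw [map_mul, hπS, hπS, map_pow] at h2
    exact h2
  haveI : Algebra.FiniteType R B := by
    haveI : Algebra.FiniteType R Sg := inferInstance
    exact Algebra.FiniteType.of_surjective π hπ
  -- the point of `B`
  have hgJ : Disjoint (Submonoid.powers (Ideal.Quotient.mk J g) : Set (S ⧸ J)) ↑(q.map (Ideal.Quotient.mk J)) := by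
    haveI : (q.map (Ideal.Quotient.mk J)).IsPrime :=
      Ideal.map_isPrime_of_surjective Ideal.Quotient.mk_surjective (by rwa [Ideal.mk_ker])
    rw [Ideal.disjoint_powers_iff_notMem_of_isPrime]
    intro h
    apply hgq
    have h' : g ∈ (q.map (Ideal.Quotient.mk J)).comap (Ideal.Quotient.mk J) := h
    rwa [Ideal.comap_map_of_surjective _ Ideal.Quotient.mk_surjective, ← RingHom.ker_eq_comap_bot,
      Ideal.mk_ker, sup_of_le_left hJq] at h'
  haveI hqJ : (q.map (Ideal.Quotient.mk J)).IsPrime :=
      Ideal.map_isPrime_of_surjective Ideal.Quotient.mk_surjective (by rwa [Ideal.mk_ker])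
  let qB : Ideal B := (q.map (Ideal.Quotient.mk J)).map (algebraMap (S ⧸ J) B)
  haveI : qB.IsPrime := IsLocalization.isPrime_of_isPrime_disjoint (Submonoid.powers (Ideal.Quotient.mk J g)) B _ hqJ hgJ
  have hqB : qB.comap ((algebraMap (S ⧸ J) B).comp (Ideal.Quotient.mk J)) = q := by
    rw [← Ideal.comap_comap]
    show Ideal.comap _ (Ideal.under (S ⧸ J) qB) = q
    rw [IsLocalization.under_map_of_isPrime_disjoint (Submonoid.powers (Ideal.Quotient.mk J g)) B hqJ hgJ,
      Ideal.comap_map_of_surjective _ Ideal.Quotient.mk_surjective, ← RingHom.ker_eq_comap_bot,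
      Ideal.mk_ker, sup_of_le_left hJq]
  haveI : qB.LiesOver p := ⟨by
    rw [q.over_def p, ← hqB, Ideal.under_def, Ideal.under_def, Ideal.comap_comap]
    congr 1⟩
  -- coordinates
  obtain ⟨ψ, hqf, a, haP, hap, ha, ι, t, ht⟩ := Coords.exists_coords p qB n hdim
  let P0 := MvPolynomial (Fin n) R
  letI aB : Algebra P0 B := ψ.toRingHom.toAlgebra
  haveI : IsScalarTower R P0 B := IsScalarTower.of_algebraMap_eq' ψ.comp_algebraMap.symm
  haveI : Algebra.FiniteType P0 B := Algebra.FiniteType.of_restrictScalars_finiteType R P0 B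
  haveI : qB.LiesOver a := ⟨ha⟩
  haveI : Algebra.QuasiFiniteAt P0 qB := hqf
  choose b hb using fun i => hπ (ψ (MvPolynomial.X i))
  let ψS : P0 →ₐ[R] Sg := MvPolynomial.aeval b
  letI aS : Algebra P0 Sg := ψS.toRingHom.toAlgebra
  haveI : IsScalarTower R P0 Sg := IsScalarTower.of_algebraMap_eq' ψS.comp_algebraMap.symm
  have hπψ : π.comp ψS = ψ := MvPolynomial.algHom_ext fun i => by simp [ψS, hb]
  let π0 : Sg →ₐ[P0] B := { π.toRingHom with commutes' := fun f => congrFun (congrArg DFunLike.coe hπψ) f }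
  -- the finite part
  obtain ⟨A, _, _, _, P, _, _, e, he, P', _, _, hP'q, heP', hresA, hfinE, huniq⟩ :=
    Algebra.exists_etale_isIdempotentElem_forall_liesOver_eq a qB
  letI aRA : Algebra R A := ((algebraMap P0 A).comp (algebraMap R P0)).toAlgebra
  haveI : IsScalarTower R P0 A := IsScalarTower.of_algebraMap_eq' rfl
  haveI : Algebra.Smooth R (MvPolynomial (Fin n) R) := ⟨inferInstance, inferInstance⟩
  haveI : Algebra.Smooth R P0 := ‹_›
  haveI : Algebra.Smooth R A := Algebra.Smooth.comp R P0 A
  haveI : P.LiesOver p := Ideal.LiesOver.trans P a p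
  -- the neighbourhood of `P`
  have ht' : letI := (Ideal.ResidueField.mapₐ p P (Algebra.ofId R A) (P.over_def p)).toRingHom.toAlgebra
      AlgebraicIndependent p.ResidueField ((Ideal.ResidueField.mapₐ a P (Algebra.ofId P0 A) (P.over_def a)) ∘ t) ∧
      IntermediateField.adjoin p.ResidueField
        (Set.range ((Ideal.ResidueField.mapₐ a P (Algebra.ofId P0 A) (P.over_def a)) ∘ t)) = ⊤ := by
    letI := (Ideal.ResidueField.mapₐ p a (Algebra.ofId R P0) (a.over_def p)).toRingHom.toAlgebra
    letI := (Ideal.ResidueField.mapₐ p P (Algebra.ofId R A) (P.over_def p)).toRingHom.toAlgebra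
    refine GeomRing.transfer (RingHom.id p.ResidueField) Function.surjective_id
      (Ideal.ResidueField.mapₐ a P (Algebra.ofId P0 A) (P.over_def a)).toRingHom hresA.2 ?_ t ht.1 ht.2
    apply Ideal.ResidueField.ringHom_ext
    ext r
    show Ideal.ResidueField.mapₐ a P (Algebra.ofId P0 A) (P.over_def a)
      (Ideal.ResidueField.mapₐ p a (Algebra.ofId R P0) (a.over_def p) (algebraMap R _ r)) =
      Ideal.ResidueField.mapₐ p P (Algebra.ofId R A) (P.over_def p) (algebraMap R _ r)
    rw [AlgHom.commutes, AlgHom.commutes, IsScalarTower.algebraMap_apply R P0 a.ResidueField, AlgHom.commutes,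
      ← IsScalarTower.algebraMap_apply]
  obtain ⟨R', D, _, _, _, _, _, _, _, _, p', y, _, _, _, _, _, hR', hAD, hresD, hgi, hsm⟩ :=
    GeomRing.exists_nhd p (⟨P, inferInstance⟩ : PrimeSpectrum A)
      ((Ideal.ResidueField.mapₐ a P (Algebra.ofId P0 A) (P.over_def a)) ∘ t) ht'
  haveI : y.LiesOver P := ‹y.LiesOver (⟨P, inferInstance⟩ : PrimeSpectrum A).asIdeal›
  -- the étale algebra over `S`
  let S₁ := Sg ⊗[P0] A
  letI aAS₁ : Algebra A S₁ := Algebra.TensorProduct.rightAlgebra
  let ρ₀ : S₁ →ₐ[P0] A ⊗[P0] B :=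
    (Algebra.TensorProduct.comm P0 B A).toAlgHom.comp (Algebra.TensorProduct.map π0 (AlgHom.id P0 A))
  have hρ₀A : ∀ x : A, ρ₀ (algebraMap A S₁ x) = algebraMap A (A ⊗[P0] B) x := fun x => by
    show ρ₀ ((1 : Sg) ⊗ₜ[P0] x) = x ⊗ₜ[P0] (1 : B)
    show (Algebra.TensorProduct.comm P0 B A) (π0 1 ⊗ₜ[P0] x) = _
    rw [map_one]; rfl
  have hρ₀ : Function.Surjective ρ₀ :=
    (Algebra.TensorProduct.comm P0 B A).surjective.comp (TensorProduct.map_surjective
      (show Function.Surjective π0.toLinearMap from hπ) Function.surjective_id)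
  obtain ⟨e₁, he₁⟩ := hρ₀ e
  let E₁ := Localization.Away e₁
  let E := Localization.Away e
  have hue : IsUnit (((algebraMap (A ⊗[P0] B) E).comp ρ₀.toRingHom) e₁) := by
    rw [RingHom.comp_apply, show ρ₀.toRingHom e₁ = e from he₁]
    exact IsLocalization.Away.algebraMap_isUnit e
  let ρ : E₁ →ₐ[A] E :=
    { IsLocalization.Away.lift e₁ (g := (algebraMap (A ⊗[P0] B) E).comp ρ₀.toRingHom) hue with
      commutes' := fun x => by
        show IsLocalization.Away.lift e₁ _ (algebraMap S₁ E₁ (algebraMap A S₁ x)) = _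
        rw [IsLocalization.Away.lift_eq, RingHom.comp_apply]
        show algebraMap (A ⊗[P0] B) E (ρ₀ (algebraMap A S₁ x)) = _
        rw [hρ₀A, ← IsScalarTower.algebraMap_apply] }
  have hρeq : ∀ m : S₁, ρ (algebraMap S₁ E₁ m) = algebraMap (A ⊗[P0] B) E (ρ₀ m) := fun m => by
    exact IsLocalization.Away.lift_eq e₁ hue m
  have hρ : Function.Surjective ρ := by
    intro w
    obtain ⟨m, rfl⟩ := IsLocalization.Away.algebraMap_surjective_of_isIdempotentElem (S := E) e he w
    obtain ⟨m', rfl⟩ := hρ₀ m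
    exact ⟨algebraMap S₁ E₁ m', hρeq m'⟩
  let S' := E₁ ⊗[A] D
  letI aDS' : Algebra D S' := Algebra.TensorProduct.rightAlgebra
  letI aR'S' : Algebra R' S' := ((algebraMap D S').comp (algebraMap R' D)).toAlgebra
  haveI : IsScalarTower R' D S' := IsScalarTower.of_algebraMap_eq' rfl
  haveI : IsScalarTower R S S₁ := inferInstance
  haveI : IsScalarTower R S E₁ := inferInstance
  have hRS' : ∀ r : R, algebraMap R S' r = algebraMap D S' (algebraMap R D r) := by
    intro r
    rw [IsScalarTower.algebraMap_apply R A D r]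
    show (algebraMap R E₁ r) ⊗ₜ[A] (1 : D) = (1 : E₁) ⊗ₜ[A] algebraMap A D (algebraMap R A r)
    rw [← Algebra.TensorProduct.algebraMap_apply', Algebra.TensorProduct.algebraMap_apply]
    show _ = algebraMap A E₁ (algebraMap R A r) ⊗ₜ[A] (1 : D)
    congr 1
    rw [IsScalarTower.algebraMap_apply R S₁ E₁]
    show algebraMap S₁ E₁ (algebraMap R Sg r ⊗ₜ[P0] (1 : A)) =
      algebraMap S₁ E₁ ((1 : Sg) ⊗ₜ[P0] algebraMap P0 A (algebraMap R P0 r))
    congr 1
    rw [← Algebra.TensorProduct.algebraMap_apply', Algebra.TensorProduct.algebraMap_apply,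
      ← IsScalarTower.algebraMap_apply R P0 Sg]
  haveI : IsScalarTower R R' S' := IsScalarTower.of_algebraMap_eq fun r => by
    rw [hRS', IsScalarTower.algebraMap_apply R R' D, ← IsScalarTower.algebraMap_apply R' D S']
  haveI : Algebra.Etale S Sg := Algebra.Etale.of_isLocalizationAway g
  haveI : Algebra.Etale Sg S₁ := inferInstance
  haveI : Algebra.Etale S₁ E₁ := Algebra.Etale.of_isLocalizationAway e₁
  haveI : Algebra.Etale S S₁ := Algebra.Etale.comp S Sg S₁
  haveI : Algebra.Etale S E₁ := Algebra.Etale.comp S S₁ E₁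
  haveI : Algebra.Etale A D := hAD
  haveI : Algebra.Etale E₁ S' := inferInstance
  have hetS : Algebra.Etale S S' := Algebra.Etale.comp S E₁ S'
  -- the comparison with `D ⊗ E`
  let T := D ⊗[A] E
  let χ : S' →ₐ[A] T :=
    (Algebra.TensorProduct.comm A E D).toAlgHom.comp (Algebra.TensorProduct.map ρ (AlgHom.id A D))
  have hχ : Function.Surjective χ :=
    (Algebra.TensorProduct.comm A E D).surjective.comp (TensorProduct.map_surjective
      (show Function.Surjective ρ.toLinearMap from hρ) Function.surjective_id)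
  have hχD : ∀ d : D, χ (algebraMap D S' d) = algebraMap D T d := fun d => by
    show d ⊗ₜ[A] ρ 1 = d ⊗ₜ[A] (1 : E)
    rw [map_one]
  have hχS : ∀ s : S, χ (algebraMap S S' s) =
      (1 : D) ⊗ₜ[A] algebraMap (A ⊗[P0] B) E ((1 : A) ⊗ₜ[P0] π (algebraMap S Sg s)) := fun s => by
    show χ (algebraMap S E₁ s ⊗ₜ[A] (1 : D)) = _
    rw [show algebraMap S E₁ s = algebraMap S₁ E₁ (algebraMap S Sg s ⊗ₜ[P0] (1 : A)) from
      IsScalarTower.algebraMap_apply S S₁ E₁ s]
    show (1 : D) ⊗ₜ[A] ρ (algebraMap S₁ E₁ (algebraMap S Sg s ⊗ₜ[P0] (1 : A))) = _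
    rw [hρeq]
    rfl
  let I : Ideal S' := J.map (algebraMap S S')
  have hI : I ≤ RingHom.ker χ := Ideal.map_le_iff_le_comap.2 fun j hj => by
    show χ (algebraMap S S' j) = 0
    rw [hχS, hπS, Ideal.Quotient.eq_zero_iff_mem.2 hj, map_zero, TensorProduct.tmul_zero, map_zero,
      TensorProduct.tmul_zero]
  obtain ⟨C, _, mkI, hmk, hmkker, hmkfp⟩ : ∃ (C : Type u) (_ : CommRing C) (m : S' →+* C),
      Function.Surjective m ∧ RingHom.ker m = I ∧ m.FinitePresentation :=
    ⟨S' ⧸ I, inferInstance, Ideal.Quotient.mk I, Ideal.Quotient.mk_surjective, Ideal.mk_ker,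
      RingHom.finitePresentation_algebraMap.2 (Algebra.FinitePresentation.quotient (hJfg.map _))⟩
  have hmk0 : ∀ i ∈ I, mkI i = 0 := fun i hi => by
    rw [← RingHom.mem_ker, hmkker]; exact hi
  letI aS'C : Algebra S' C := mkI.toAlgebra
  -- the inverse comparison
  let fS : S →+* C := mkI.comp (algebraMap S S')
  have hfSJ : ∀ j ∈ J, fS j = 0 := fun j hj => hmk0 _ (Ideal.mem_map_of_mem _ hj)
  have hunit : IsUnit ((Ideal.Quotient.lift J fS hfSJ) (Ideal.Quotient.mk J g)) := by
    rw [Ideal.Quotient.lift_mk]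
    refine IsUnit.map mkI ?_
    rw [IsScalarTower.algebraMap_apply S E₁ S', IsScalarTower.algebraMap_apply S S₁ E₁,
      IsScalarTower.algebraMap_apply S Sg S₁]
    exact (((IsLocalization.Away.algebraMap_isUnit (S := Sg) g).map _).map _).map _
  let fB : B →+* C := IsLocalization.Away.lift (S := B) (P := C) (Ideal.Quotient.mk J g) (g := Ideal.Quotient.lift J fS hfSJ) hunit
  have hfBS : ∀ w : Sg, fB (π w) = mkI (algebraMap E₁ S' (algebraMap S₁ E₁ (w ⊗ₜ[P0] (1 : A)))) := by
    have : fB.comp π.toRingHom = mkI.comp ((algebraMap E₁ S').comp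
        ((algebraMap S₁ E₁).comp (algebraMap Sg S₁))) := by
      refine IsLocalization.ringHom_ext (Submonoid.powers g) (RingHom.ext fun s => ?_)
      show fB (π (algebraMap S Sg s)) = _
      rw [hπS, IsLocalization.Away.lift_eq, Ideal.Quotient.lift_mk]
      show mkI _ = mkI _
      congr 1
    exact fun w => congrFun (congrArg DFunLike.coe this) w
  letI aP0C : Algebra P0 C := (fB.comp (algebraMap P0 B)).toAlgebra
  let fBa : B →ₐ[P0] C := { fB with commutes' := fun _ => rfl }
  let fAa : A →ₐ[P0] C :=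
    { mkI.comp ((algebraMap E₁ S').comp (algebraMap A E₁)) with
      commutes' := fun f => by
        show mkI (algebraMap E₁ S' (algebraMap S₁ E₁ ((1 : Sg) ⊗ₜ[P0] algebraMap P0 A f))) = fB (algebraMap P0 B f)
        rw [show algebraMap P0 B f = π (algebraMap P0 Sg f) from (congrFun (congrArg DFunLike.coe hπψ) f).symm,
          hfBS, show (1 : Sg) ⊗ₜ[P0] algebraMap P0 A f = algebraMap P0 Sg f ⊗ₜ[P0] (1 : A) from by
            rw [Algebra.algebraMap_eq_smul_one, Algebra.algebraMap_eq_smul_one, TensorProduct.tmul_smul,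
              TensorProduct.smul_tmul']] }
  let fAB : A ⊗[P0] B →ₐ[P0] C := Algebra.TensorProduct.lift fAa fBa fun _ _ => Commute.all _ _
  have hfAB : ∀ m : S₁, fAB (ρ₀ m) = mkI (algebraMap E₁ S' (algebraMap S₁ E₁ m)) := by
    intro m
    induction m using TensorProduct.induction_on with
    | zero => simp
    | tmul w x =>
      have h1 : fAB (ρ₀ (w ⊗ₜ[P0] x)) = fAa x * fB (π w) := by
        show fAB (x ⊗ₜ[P0] π0 w) = _
        exact Algebra.TensorProduct.lift_tmul _ _ _ _ _
      rw [h1, hfBS]
      show mkI (algebraMap E₁ S' (algebraMap S₁ E₁ ((1 : Sg) ⊗ₜ[P0] x))) * _ = _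
      rw [← map_mul, ← map_mul, ← map_mul, Algebra.TensorProduct.tmul_mul_tmul, one_mul, mul_one]
    | add m m' hm hm' => simp only [map_add, hm, hm']
  let fE : E →+* C := IsLocalization.Away.lift e (g := fAB.toRingHom) (by
    show IsUnit (fAB e)
    rw [← he₁, hfAB]
    exact ((IsLocalization.Away.algebraMap_isUnit e₁).map _).map _)
  have hfE : ∀ w : E₁, fE (ρ w) = mkI (algebraMap E₁ S' w) := by
    have : fE.comp ρ.toRingHom = mkI.comp (algebraMap E₁ S') := by
      refine IsLocalization.ringHom_ext (Submonoid.powers e₁) (RingHom.ext fun m => ?_)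
      show fE (ρ (algebraMap S₁ E₁ m)) = _
      rw [hρeq, IsLocalization.Away.lift_eq]
      exact hfAB m
    exact fun w => congrFun (congrArg DFunLike.coe this) w
  letI aAC : Algebra A C := RingHom.toAlgebra (R := A) (S := C) (mkI.comp (algebraMap A S'))
  let fEa : E →ₐ[A] C :=
    { fE with
      commutes' := fun x => by
        show fE (algebraMap A E x) = mkI (algebraMap A S' x)
        rw [← ρ.commutes, hfE, ← IsScalarTower.algebraMap_apply] }
  let fDa : D →ₐ[A] C :=
    { mkI.comp (algebraMap D S') with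
      commutes' := fun x => by
        show mkI ((1 : E₁) ⊗ₜ[A] algebraMap A D x) = mkI (algebraMap A S' x)
        rw [← Algebra.TensorProduct.algebraMap_apply'] }
  let θ : T →ₐ[A] C := Algebra.TensorProduct.lift fDa fEa fun _ _ => Commute.all _ _
  have hθ : ∀ w : S', θ (χ w) = mkI w := by
    intro w
    induction w using TensorProduct.induction_on with
    | zero => simp
    | tmul w d =>
      have h1 : θ (χ (w ⊗ₜ[A] d)) = mkI (algebraMap D S' d) * fE (ρ w) := by
        show θ (d ⊗ₜ[A] ρ w) = _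
        exact Algebra.TensorProduct.lift_tmul _ _ _ _ _
      rw [h1, hfE, ← map_mul]
      show mkI (((1 : E₁) ⊗ₜ[A] d) * (w ⊗ₜ[A] (1 : D))) = _
      rw [Algebra.TensorProduct.tmul_mul_tmul, one_mul, mul_one]
    | add w w' hw hw' => simp only [map_add, hw, hw']
  have hker : RingHom.ker χ = I := le_antisymm (fun w hw => by
    have : mkI w = 0 := by rw [← hθ, show χ w = 0 from hw, map_zero]
    rw [← hmkker]; exact this) hI
  haveI : Module.Finite A E := hfinE
  haveI : Module.Finite D T := inferInstance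
  -- the point
  haveI E'prime : (P'.map (algebraMap (A ⊗[P0] B) E)).IsPrime := IsLocalization.isPrime_of_isPrime_disjoint
    (Submonoid.powers e) E _ ‹P'.IsPrime› (by rwa [Ideal.disjoint_powers_iff_notMem_of_isPrime])
  let PE := P'.map (algebraMap (A ⊗[P0] B) E)
  haveI : PE.LiesOver P' := IsLocalization.liesOver_map_of_isPrime_disjoint (Submonoid.powers e) E
    (by rwa [Ideal.disjoint_powers_iff_notMem_of_isPrime])
  haveI : PE.LiesOver P := Ideal.LiesOver.trans PE P' P
  have hPE : ∀ Q : Ideal E, Q.IsPrime → Q.LiesOver P → Q = PE := by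
    intro Q hQ hQP
    haveI : (Q.under (A ⊗[P0] B)).LiesOver P := Ideal.LiesOver.tower_bot Q (Q.under (A ⊗[P0] B)) P
    have h1 := huniq (Q.under (A ⊗[P0] B)) inferInstance inferInstance fun h =>
      hQ.ne_top (Ideal.eq_top_of_isUnit_mem _ h (IsLocalization.Away.algebraMap_isUnit e))
    rw [← IsLocalization.map_under (Submonoid.powers e) E Q, h1]
  let eiso := Ideal.fiberIsoOfBijectiveResidueField (S := E) (q := y) (p := P) hresD
  let zT : y.primesOver T := eiso.symm ⟨PE, inferInstance, inferInstance⟩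
  haveI := zT.2.1
  let q' : Ideal S' := zT.1.comap χ.toRingHom
  haveI : q'.IsPrime := Ideal.comap_isPrime _ _
  have hIq' : I ≤ q' := hker ▸ Ideal.comap_mono bot_le
  let z : Ideal C := q'.map mkI
  haveI hz : z.IsPrime := Ideal.map_isPrime_of_surjective hmk (by rwa [hmkker])
  have hzq' : z.comap mkI = q' := by
    rw [Ideal.comap_map_of_surjective _ hmk, ← RingHom.ker_eq_comap_bot,
      hmkker, sup_of_le_left hIq']
  haveI hzq'' : z.LiesOver q' := ⟨hzq'.symm⟩
  letI aDC : Algebra D C := (mkI.comp (algebraMap D S')).toAlgebra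
  haveI : IsScalarTower D S' C := IsScalarTower.of_algebraMap_eq' rfl
  haveI hq'y : q'.LiesOver y := ⟨by
    rw [zT.2.2.over]
    ext d
    show algebraMap D T d ∈ zT.1 ↔ χ (algebraMap D S' d) ∈ zT.1
    rw [hχD]⟩
  haveI : z.LiesOver y := Ideal.LiesOver.trans z q' y
  haveI : q'.LiesOver p' := Ideal.LiesOver.trans q' y p'
  haveI hq'q : q'.LiesOver q := ⟨by
    have hz1 : zT.1.comap (Algebra.TensorProduct.includeRight : E →ₐ[A] T).toRingHom = PE :=
      Ideal.comap_fiberIsoOfBijectiveResidueField_symm hresD ⟨PE, inferInstance, inferInstance⟩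
    ext s
    show s ∈ q ↔ χ (algebraMap S S' s) ∈ zT.1
    rw [hχS]
    show _ ↔ algebraMap (A ⊗[P0] B) E ((1 : A) ⊗ₜ[P0] π (algebraMap S Sg s)) ∈
      zT.1.comap (Algebra.TensorProduct.includeRight : E →ₐ[A] T).toRingHom
    rw [hz1, hπS]
    show _ ↔ _ ∈ Ideal.under (A ⊗[P0] B) PE
    rw [← Ideal.over_def PE P', ← hqB, ← hP'q]
    rfl⟩
  -- residue fields
  have hresS : Function.Bijective (Ideal.ResidueField.mapₐ q q' (Algebra.ofId S S') (q'.over_def q)) := by
    refine ⟨(Ideal.ResidueField.mapₐ q q' (Algebra.ofId S S') (q'.over_def q)).toRingHom.injective, ?_⟩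
    let F := (Ideal.ResidueField.mapₐ q q' (Algebra.ofId S S') (q'.over_def q)).toRingHom
    let K0 := F.fieldRange
    let κ' := algebraMap S' q'.ResidueField
    have hS : ∀ s : S, κ' (algebraMap S S' s) ∈ K0 := fun s =>
      ⟨algebraMap S q.ResidueField s, by
        show Ideal.ResidueField.mapₐ q q' (Algebra.ofId S S') (q'.over_def q) _ = _
        rw [AlgHom.commutes, IsScalarTower.algebraMap_apply S S' q'.ResidueField]⟩
    let κ₁ : E₁ →+* q'.ResidueField := κ'.comp (algebraMap E₁ S')
    have hSg : ∀ w : Sg, κ₁ (algebraMap S₁ E₁ (w ⊗ₜ[P0] (1 : A))) ∈ K0 := by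
      intro w
      obtain ⟨s, ⟨m, hm⟩, rfl⟩ := IsLocalization.exists_mk'_eq (Submonoid.powers g) w
      let κg : Sg →+* q'.ResidueField := κ₁.comp ((algebraMap S₁ E₁).comp (algebraMap Sg S₁))
      show κg (IsLocalization.mk' Sg s ⟨m, hm⟩) ∈ K0
      have hκ : ∀ s : S, κg (algebraMap S Sg s) ∈ K0 := fun s => by
        show κ' (algebraMap E₁ S' (algebraMap S₁ E₁ (algebraMap Sg S₁ (algebraMap S Sg s)))) ∈ K0
        rw [← IsScalarTower.algebraMap_apply S Sg S₁, ← IsScalarTower.algebraMap_apply S S₁ E₁,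
          ← IsScalarTower.algebraMap_apply S E₁ S']
        exact hS s
      have h2 := congrArg κg (IsLocalization.mk'_spec Sg s (⟨m, hm⟩ : Submonoid.powers g))
      rw [map_mul] at h2
      have hne : κg (algebraMap S Sg m) ≠ 0 :=
        ((IsLocalization.map_units Sg (⟨m, hm⟩ : Submonoid.powers g)).map κg).ne_zero
      rw [← eq_div_iff hne] at h2
      rw [h2]
      exact div_mem (hκ s) (hκ m)
    let κA : A →+* q'.ResidueField := κ₁.comp (algebraMap A E₁)
    have hAS' : ∀ x : A, algebraMap E₁ S' (algebraMap A E₁ x) = algebraMap D S' (algebraMap A D x) := fun x => by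
      show (algebraMap A E₁ x) ⊗ₜ[A] (1 : D) = (1 : E₁) ⊗ₜ[A] algebraMap A D x
      rw [← Algebra.TensorProduct.algebraMap_apply', Algebra.TensorProduct.algebraMap_apply]
    have hkerD : RingHom.ker (κ'.comp (algebraMap D S')) = y := by
      rw [q'.over_def y, ← RingHom.comap_ker, Ideal.ker_algebraMap_residueField]
    have hkerA : RingHom.ker κA = P := by
      rw [y.over_def P, ← hkerD]
      ext x
      show κ' (algebraMap E₁ S' (algebraMap A E₁ x)) = 0 ↔ κ' (algebraMap D S' (algebraMap A D x)) = 0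
      rw [hAS']
    have hA : ∀ x : A, κA x ∈ K0 := by
      refine mem_subfield κA a P hkerA hresA.2 K0 fun f => ?_
      show κ₁ (algebraMap S₁ E₁ ((1 : Sg) ⊗ₜ[P0] algebraMap P0 A f)) ∈ K0
      rw [← Algebra.TensorProduct.algebraMap_apply', Algebra.TensorProduct.algebraMap_apply]
      exact hSg _
    have hD : ∀ d : D, κ' (algebraMap D S' d) ∈ K0 := by
      refine fun d => mem_subfield (κ'.comp (algebraMap D S')) P y hkerD hresD.2 K0 (fun x => ?_) d
      show κ' (algebraMap D S' (algebraMap A D x)) ∈ K0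
      rw [← hAS']
      exact hA x
    have hE₁ : ∀ w : E₁, κ₁ w ∈ K0 := by
      intro w
      have hS₁ : ∀ m : S₁, κ₁ (algebraMap S₁ E₁ m) ∈ K0 := by
        intro m
        induction m using TensorProduct.induction_on with
        | zero => simp
        | tmul u x =>
          rw [show u ⊗ₜ[P0] x = (u ⊗ₜ[P0] (1 : A)) * algebraMap A S₁ x from by
            rw [show algebraMap A S₁ x = (1 : Sg) ⊗ₜ[P0] x from rfl, Algebra.TensorProduct.tmul_mul_tmul,
              one_mul, mul_one], map_mul, map_mul]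
          exact mul_mem (hSg u) (hA x)
        | add m m' hm hm' => rw [map_add, map_add]; exact add_mem hm hm'
      obtain ⟨m, ⟨d, hd⟩, rfl⟩ := IsLocalization.exists_mk'_eq (Submonoid.powers e₁) w
      have h2 := congrArg κ₁ (IsLocalization.mk'_spec E₁ m (⟨d, hd⟩ : Submonoid.powers e₁))
      rw [map_mul] at h2
      have hne : κ₁ (algebraMap S₁ E₁ d) ≠ 0 :=
        ((IsLocalization.map_units E₁ (⟨d, hd⟩ : Submonoid.powers e₁)).map κ₁).ne_zero
      rw [← eq_div_iff hne] at h2
      rw [h2]
      exact div_mem (hS₁ m) (hS₁ d)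
    have hall : ∀ w : S', κ' w ∈ K0 := by
      intro w
      induction w using TensorProduct.induction_on with
      | zero => rw [map_zero]; exact zero_mem _
      | tmul w d =>
        rw [show w ⊗ₜ[A] d = algebraMap E₁ S' w * algebraMap D S' d from by
          show _ = (w ⊗ₜ[A] (1 : D)) * ((1 : E₁) ⊗ₜ[A] d)
          rw [Algebra.TensorProduct.tmul_mul_tmul, one_mul, mul_one], map_mul]
        exact mul_mem (hE₁ w) (hD d)
      | add m m' hm hm' => rw [map_add]; exact add_mem hm hm'
    intro w
    obtain ⟨u, v, -, rfl⟩ := Coords.exists_div q' w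
    exact div_mem (hall u) (hall v)
  -- uniqueness
  have hzuniq : ∀ (z₁ : Ideal C) [z₁.IsPrime], z₁.LiesOver y → z₁ = z := by
    intro z₁ _ hz₁
    let w₁ : Ideal T := (z₁.comap mkI).map χ
    have hle : RingHom.ker χ ≤ z₁.comap mkI := hker.le.trans fun i hi => by
      show mkI i ∈ z₁
      rw [show mkI i = 0 from hmk0 i hi]; exact z₁.zero_mem
    haveI : w₁.IsPrime := Ideal.map_isPrime_of_surjective hχ hle
    have hcm : w₁.comap χ = z₁.comap mkI := by
      rw [Ideal.comap_map_of_surjective _ hχ, sup_of_le_left]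
      exact fun i hi => hle hi
    haveI : w₁.LiesOver y := ⟨by
      ext d
      rw [hz₁.over]
      show mkI (algebraMap D S' d) ∈ z₁ ↔ algebraMap D T d ∈ w₁
      rw [← hχD]
      exact (SetLike.ext_iff.1 hcm (algebraMap D S' d)).symm⟩
    have h1 : (⟨w₁, inferInstance, inferInstance⟩ : y.primesOver T) = zT := by
      apply eiso.injective
      rw [show eiso zT = _ from eiso.apply_symm_apply _]
      exact Subtype.ext (hPE _ (eiso _).2.1 (eiso _).2.2)
    have h2 : z₁.comap mkI = q' := by rw [← hcm, show w₁ = zT.1 from congrArg Subtype.val h1]; rfl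
    rw [← Ideal.map_comap_of_surjective mkI hmk z₁, h2]
  -- the module
  obtain ⟨G, _, _, _, _, _, _, fG, hfG, hGfin⟩ := exists_baseChange_quotient (S' := S') N hmk J hJann hmkker
  letI aR'C : Algebra R' C := (mkI.comp (algebraMap R' S')).toAlgebra
  haveI : IsScalarTower R' S' C := IsScalarTower.of_algebraMap_eq' rfl
  letI mDG : Module D G := Module.compHom G (algebraMap D S')
  letI mR'G : Module R' G := Module.compHom G (algebraMap R' S')
  haveI : IsScalarTower D C G :=
    IsScalarTower.of_algebraMap_smul fun d m => algebraMap_smul C (algebraMap D S' d) m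
  haveI : IsScalarTower R' C G :=
    IsScalarTower.of_algebraMap_smul fun d m => algebraMap_smul C (algebraMap R' S' d) m
  haveI : IsScalarTower R' D G := IsScalarTower.of_algebraMap_smul fun _ _ => rfl
  haveI : IsScalarTower R' D C := IsScalarTower.of_algebraMap_eq fun _ => rfl
  haveI hDC : Module.Finite D C := by
    let θD : T →ₗ[D] C :=
      { θ.toLinearMap.toAddMonoidHom with
        map_smul' := fun d m => by
          show θ (d • m) = d • θ m
          rw [show d • m = algebraMap D T d * m from Algebra.smul_def d m, map_mul, Algebra.smul_def]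
          congr 1
          rw [← hχD, hθ]
          rfl }
    refine Module.Finite.of_surjective θD fun c => ?_
    obtain ⟨w, rfl⟩ := hmk c
    exact ⟨χ w, hθ w⟩
  have hpure : _root_.FlatCA.PurelyTranscendental p' y := by
    obtain ⟨hRet, hp'p, hresR⟩ := hR'
    letI := (Ideal.ResidueField.mapₐ p P (Algebra.ofId R A) (P.over_def p)).toRingHom.toAlgebra
    letI := (Ideal.ResidueField.mapₐ p' y (Algebra.ofId R' D) (y.over_def p')).toRingHom.toAlgebra
    obtain ⟨h1, h2⟩ := GeomRing.transfer (k := p.ResidueField) (K := P.ResidueField)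
      (k' := p'.ResidueField) (K' := y.ResidueField)
      (Ideal.ResidueField.mapₐ p p' (Algebra.ofId R R') hp'p.over).toRingHom hresR.2
      (Ideal.ResidueField.mapₐ P y (Algebra.ofId A D) (y.over_def P)).toRingHom hresD.2 (by
        apply Ideal.ResidueField.ringHom_ext
        ext r
        show Ideal.ResidueField.mapₐ P y (Algebra.ofId A D) (y.over_def P)
          (Ideal.ResidueField.mapₐ p P (Algebra.ofId R A) (P.over_def p) (algebraMap R _ r)) =
          Ideal.ResidueField.mapₐ p' y (Algebra.ofId R' D) (y.over_def p')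
            (Ideal.ResidueField.mapₐ p p' (Algebra.ofId R R') hp'p.over (algebraMap R _ r))
        rw [AlgHom.commutes, AlgHom.commutes, IsScalarTower.algebraMap_apply R A P.ResidueField, AlgHom.commutes,
          IsScalarTower.algebraMap_apply R R' p'.ResidueField, AlgHom.commutes,
          IsScalarTower.algebraMap_apply A D y.ResidueField, IsScalarTower.algebraMap_apply R' D y.ResidueField,
          ← IsScalarTower.algebraMap_apply R A D, ← IsScalarTower.algebraMap_apply R R' D])
      ((Ideal.ResidueField.mapₐ a P (Algebra.ofId P0 A) (P.over_def a)) ∘ t) ht'.1 ht'.2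
    refine ⟨ι, _, h1.isTranscendenceBasis_iff_isAlgebraic.2 ?_, h2⟩
    rw [← IntermediateField.isAlgebraic_adjoin_iff_top, h2]
    infer_instance
  exact ⟨{
    R' := R', S' := S', C := C, D := D, N' := G, G := G
    p' := p', q' := q', z := z, y := y
    etaleR := hR'
    etaleS := ⟨hetS, hq'q, hresS⟩
    f := fG
    isBaseChange := hfG
    surjC := hmk
    fpC := hmkfp
    iso := LinearEquiv.refl _ _
    finiteDC := hDC
    finiteG := hGfin
    uniq := hzuniq
    pureTrans := hpure
    smooth := hsm n (smoothRelDim_of_etale n)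
    geomInt := hgi }⟩

end Groth.Agent.Lib.RG.ElemExist
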