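import Groth.Agent.Lib.RG.DevTools

/-!
# Finite presentation uniformly on a set of primes
-/

set_option autoImplicit false
set_option linter.style.haveILetI false

universe u

open scoped TensorProduct

namespace Groth.Agent.Lib.RG.FPOn

variable {S : Type u} [CommRing S]

/-- Every presentation has finitely many relations generating all relations at the primes of the set. -/
def FPOn (U : Set (Ideal S)) (N : Type u) [AddCommGroup N] [Module S N] : Prop :=
  ∀ (k : ℕ) (π : (Fin k → S) →ₗ[S] N), Function.Surjective π →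
    ∃ T : Finset (Fin k → S), (∀ t ∈ T, π t = 0) ∧
      ∀ x, π x = 0 → ∀ Q ∈ U, ∃ w, w ∉ Q ∧ w • x ∈ Submodule.span S (T : Set (Fin k → S))

variable {U : Set (Ideal S)} {N : Type u} [AddCommGroup N] [Module S N]

theorem FPOn.mono {U' : Set (Ideal S)} (h : FPOn U N) (hU : U' ⊆ U) : FPOn U' N := fun k π hπ => by
  obtain ⟨T, hT, hgen⟩ := h k π hπ
  exact ⟨T, hT, fun x hx Q hQ => hgen x hx Q (hU hQ)⟩

/-- Finite presentation on a set passes to extensions by finite free modules. -/
theorem FPOn.extension (hU : ∀ Q ∈ U, Q.IsPrime) {r : ℕ} (α : (Fin r → S) →ₗ[S] N)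
    (hα : ∀ v, α v = 0 → ∀ Q ∈ U, ∃ w, w ∉ Q ∧ w • v = 0)
    (h : FPOn U (N ⧸ LinearMap.range α)) : FPOn U N := by
  classical
  intro k π hπ
  obtain ⟨T, hT, hgen⟩ := h k ((LinearMap.range α).mkQ.comp π) ((Submodule.mkQ_surjective _).comp hπ)
  choose u hu using fun i => hπ (α (Pi.single i (1 : S)))
  have hv : ∀ t : Fin k → S, t ∈ T → ∃ v, α v = π t := fun t ht => by
    have h1 : π t ∈ LinearMap.range α := by
      rw [← Submodule.Quotient.mk_eq_zero]; exact hT t ht
    exact h1
  choose v hv using hv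
  let c : (Fin r → S) →ₗ[S] (Fin k → S) := Fintype.linearCombination S u
  have hc : ∀ w, π (c w) = α w := by
    intro w
    rw [Fintype.linearCombination_apply, map_sum]
    simp only [map_smul, hu]
    simp only [← map_smul, ← map_sum]
    congr 1
    rw [← Finset.univ_sum_single w]
    refine Finset.sum_congr rfl fun i _ => ?_
    rw [← Pi.single_smul, smul_eq_mul, mul_one]
    simp
  refine ⟨T.attach.image fun t => t.1 - c (v t.1 t.2), fun t ht => ?_, fun x hx Q hQ => ?_⟩
  · obtain ⟨t, -, rfl⟩ := Finset.mem_image.1 ht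
    rw [map_sub, hc, hv, sub_self]
  · haveI := hU Q hQ
    obtain ⟨w, hw, hwx⟩ := hgen x (by rw [LinearMap.comp_apply, hx, map_zero]) Q hQ
    let L := Submodule.span S ((T.attach.image fun t => t.1 - c (v t.1 t.2) : Finset (Fin k → S)) : Set (Fin k → S))
    have key : ∀ z ∈ Submodule.span S (T : Set (Fin k → S)), ∃ a, α a = π z ∧ z - c a ∈ L := by
      intro z hz
      induction hz using Submodule.span_induction with
      | mem z hz => exact ⟨v z hz, hv z hz, Submodule.subset_span (Finset.mem_coe.2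
          (Finset.mem_image.2 ⟨⟨z, hz⟩, Finset.mem_attach _ _, rfl⟩))⟩
      | zero => exact ⟨0, by simp, by simp⟩
      | add a b _ _ ha hb =>
        obtain ⟨a', ha1, ha2⟩ := ha
        obtain ⟨b', hb1, hb2⟩ := hb
        exact ⟨a' + b', by rw [map_add, map_add, ha1, hb1],
          by rw [map_add, add_sub_add_comm]; exact add_mem ha2 hb2⟩
      | smul s z _ hz =>
        obtain ⟨a, ha1, ha2⟩ := hz
        exact ⟨s • a, by rw [map_smul, map_smul, ha1], by rw [map_smul, ← smul_sub]; exact L.smul_mem s ha2⟩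
    obtain ⟨a, ha1, ha2⟩ := key _ hwx
    rw [map_smul, hx, smul_zero] at ha1
    obtain ⟨w₂, hw₂, hw₂a⟩ := hα a ha1 Q hQ
    refine ⟨w₂ * w, fun h => (Ideal.IsPrime.mem_or_mem inferInstance h).elim hw₂ hw, ?_⟩
    have h3 := L.smul_mem w₂ ha2
    rwa [smul_sub, ← map_smul, hw₂a, map_zero, sub_zero, smul_smul] at h3

variable {C : Type u} [CommRing C] [Algebra S C] {G : Type u} [AddCommGroup G] [Module C G] [Module S G]
  [IsScalarTower S C G]

/-- Finite presentation on a set passes along finite ring maps. -/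
theorem FPOn.of_finite [Module.Finite S C] (UC : Set (Ideal C))
    (hUC : ∀ z ∈ UC, z.comap (algebraMap S C) ∈ U) (h : FPOn U G) : FPOn UC G := by
  classical
  intro k π hπ
  obtain ⟨l, ρ, hρ⟩ := Module.Finite.exists_fin' S (Fin k → C)
  obtain ⟨T, hT, hgen⟩ := h l ((π.restrictScalars S).comp ρ) (hπ.comp hρ)
  refine ⟨T.image ρ, fun t ht => ?_, fun x hx z hz => ?_⟩
  · obtain ⟨t', ht', rfl⟩ := Finset.mem_image.1 ht
    exact hT t' ht'
  · obtain ⟨x', rfl⟩ := hρ x
    obtain ⟨w, hw, hwx⟩ := hgen x' hx _ (hUC z hz)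
    refine ⟨algebraMap S C w, hw, ?_⟩
    rw [algebraMap_smul, ← map_smul, Finset.coe_image, ← Submodule.span_span_of_tower S C, ← Submodule.map_span]
    exact Submodule.subset_span (Submodule.mem_map_of_mem hwx)

/-- Finite presentation on a set passes along surjections with finitely generated kernel. -/
theorem FPOn.of_surjective (hsurj : Function.Surjective (algebraMap S C))
    (hker : (RingHom.ker (algebraMap S C)).FG) (UC : Set (Ideal C)) (hU : ∀ Q ∈ U, Q.IsPrime)
    (hUC : ∀ Q ∈ U, RingHom.ker (algebraMap S C) ≤ Q → ∃ z ∈ UC, z.comap (algebraMap S C) = Q)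
    (h : FPOn UC G) : FPOn U G := by
  classical
  intro k π hπ
  let ρ : (Fin k → S) →ₗ[S] (Fin k → C) := (Algebra.linearMap S C).compLeft (Fin k)
  have hρ : Function.Surjective ρ := fun c => ⟨fun i => (hsurj (c i)).choose, funext fun i => (hsurj (c i)).choose_spec⟩
  let g : Fin k → G := fun i => π (Pi.single i 1)
  let π' : (Fin k → C) →ₗ[C] G := Fintype.linearCombination C g
  have hπ' : ∀ x, π' (ρ x) = π x := by
    intro x
    conv_rhs => rw [← Finset.univ_sum_single x, map_sum]
    rw [Fintype.linearCombination_apply]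
    refine Finset.sum_congr rfl fun i _ => ?_
    show algebraMap S C (x i) • π (Pi.single i 1) = π (Pi.single i (x i))
    rw [algebraMap_smul, ← map_smul, ← Pi.single_smul, smul_eq_mul, mul_one]
  obtain ⟨T, hT, hgen⟩ := h k π' (fun y => by obtain ⟨x, rfl⟩ := hπ y; exact ⟨ρ x, hπ' x⟩)
  choose lift hlift using hρ
  obtain ⟨K, hK⟩ := hker
  let T₂ : Finset (Fin k → S) := (Finset.univ ×ˢ K).image fun ia => Pi.single ia.1 ia.2
  have hkerρ : ∀ x, ρ x = 0 → x ∈ Submodule.span S (T₂ : Set (Fin k → S)) := by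
    intro x hx
    rw [← Finset.univ_sum_single x]
    refine Submodule.sum_mem _ fun i _ => ?_
    have hxi : x i ∈ Submodule.span S (K : Set S) := by
      rw [← Ideal.span, hK, RingHom.mem_ker]; exact congrFun hx i
    have h1 : Pi.single i (x i) ∈ (Submodule.span S (K : Set S)).map (LinearMap.single S (fun _ : Fin k => S) i) :=
      Submodule.mem_map_of_mem hxi
    rw [Submodule.map_span] at h1
    refine Submodule.span_mono ?_ h1
    rintro _ ⟨a, ha, rfl⟩
    exact Finset.mem_coe.2 (Finset.mem_image.2 ⟨(i, a), Finset.mem_product.2 ⟨Finset.mem_univ i, ha⟩, rfl⟩)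
  refine ⟨T.image lift ∪ T₂, fun t ht => ?_, fun x hx Q hQ => ?_⟩
  · rcases Finset.mem_union.1 ht with h1 | h1
    · obtain ⟨t', ht', rfl⟩ := Finset.mem_image.1 h1
      rw [← hπ', hlift]; exact hT t' ht'
    · obtain ⟨⟨i, a⟩, hia, rfl⟩ := Finset.mem_image.1 h1
      rw [← hπ', show ρ (Pi.single i a) = 0 from funext fun j => ?_, map_zero]
      show algebraMap S C ((Pi.single i a : Fin k → S) j) = 0
      by_cases hij : j = i
      · subst hij
        rw [Pi.single_eq_same, ← RingHom.mem_ker, ← hK]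
        exact Ideal.subset_span (Finset.mem_product.1 hia).2
      · rw [Pi.single_eq_of_ne hij, map_zero]
  · by_cases hle : RingHom.ker (algebraMap S C) ≤ Q
    · obtain ⟨z, hz, rfl⟩ := hUC Q hQ hle
      obtain ⟨c, hc, hcx⟩ := hgen (ρ x) (by rw [hπ', hx]) z hz
      obtain ⟨w, rfl⟩ := hsurj c
      refine ⟨w, hc, ?_⟩
      let L := Submodule.span S ((T.image lift ∪ T₂ : Finset (Fin k → S)) : Set (Fin k → S))
      have key : ∀ z ∈ Submodule.span C (T : Set (Fin k → C)), ∃ b ∈ L, ρ b = z := by
        intro z hz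
        induction hz using Submodule.span_induction with
        | mem z hz => exact ⟨lift z, Submodule.subset_span (Finset.mem_coe.2 (Finset.mem_union_left _
            (Finset.mem_image_of_mem _ hz))), hlift z⟩
        | zero => exact ⟨0, L.zero_mem, map_zero _⟩
        | add a b _ _ ha hb =>
          obtain ⟨a', ha1, ha2⟩ := ha
          obtain ⟨b', hb1, hb2⟩ := hb
          exact ⟨a' + b', add_mem ha1 hb1, by rw [map_add, ha2, hb2]⟩
        | smul c z _ hz =>
          obtain ⟨s, rfl⟩ := hsurj c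
          obtain ⟨a, ha1, ha2⟩ := hz
          exact ⟨s • a, L.smul_mem s ha1, by rw [map_smul, ha2, algebraMap_smul]⟩
      obtain ⟨b, hb, hbx⟩ := key _ hcx
      have h2 : w • x - b ∈ L := by
        refine Submodule.span_mono (Finset.coe_subset.2 Finset.subset_union_right) (hkerρ _ ?_)
        rw [map_sub, map_smul, hbx, algebraMap_smul, sub_self]
      have h3 := add_mem h2 hb
      rwa [sub_add_cancel] at h3
    · obtain ⟨c, hc, hcQ⟩ := SetLike.not_le_iff_exists.1 hle
      refine ⟨c, hcQ, Submodule.span_mono (Finset.coe_subset.2 Finset.subset_union_right) (hkerρ _ ?_)⟩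
      rw [map_smul, ← algebraMap_smul C, RingHom.mem_ker.1 hc, zero_smul]

/-- Finite presentation on a set descends along flat maps. -/
theorem FPOn.descend [Module.Flat S C] (UC : Set (Ideal C))
    (hUC : ∀ Q ∈ U, ∃ Q' ∈ UC, Q'.IsPrime ∧ Q'.comap (algebraMap S C) = Q)
    (f : N →ₗ[S] G) (hf : IsBaseChange C f) (h : FPOn UC G) : FPOn U N := by
  classical
  intro k π hπ
  let e : C ⊗[S] (Fin k → S) ≃ₗ[C] (Fin k → C) := TensorProduct.piScalarRight S C C (Fin k)
  let π' : (Fin k → C) →ₗ[C] G :=
    hf.equiv.toLinearMap.comp ((π.baseChange C).comp e.symm.toLinearMap)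
  have hbc : Function.Surjective (π.baseChange C) := LinearMap.lTensor_surjective C hπ
  obtain ⟨T', hT', hgen⟩ := h k π' (hf.equiv.surjective.comp (hbc.comp e.symm.surjective))
  let K := LinearMap.ker π
  have hT'K : ∀ t ∈ T', e.symm t ∈ LinearMap.range (K.subtype.lTensor C) := by
    intro t ht
    have h0 : π.lTensor C (e.symm t) = 0 := hf.equiv.injective ((hT' t ht).trans (map_zero _).symm)
    exact (lTensor_exact C (LinearMap.exact_subtype_ker_map π) hπ _).1 h0
  choose ζ hζ using hT'K
  choose s hs using fun t ht => TensorProduct.exists_finset (R := S) (ζ t ht)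
  let T : Finset (Fin k → S) := T'.attach.biUnion fun t => (s t.1 t.2).image fun cx => (cx.2 : Fin k → S)
  refine ⟨T, fun t ht => ?_, fun x hx Q hQ => ?_⟩
  · obtain ⟨t', -, ht'⟩ := Finset.mem_biUnion.1 ht
    obtain ⟨cx, -, rfl⟩ := Finset.mem_image.1 ht'
    exact cx.2.2
  · obtain ⟨Q', hQ', hQ'p, hcomap⟩ := hUC Q hQ
    haveI := hQ'p
    obtain ⟨w, hw, hwx⟩ := hgen (e ((1 : C) ⊗ₜ[S] x)) (by
      show hf.equiv (π.baseChange C (e.symm (e ((1 : C) ⊗ₜ[S] x)))) = 0
      rw [LinearEquiv.symm_apply_apply, LinearMap.baseChange_tmul, hx, TensorProduct.tmul_zero, map_zero]) Q' hQ'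
    let L := Submodule.span S (T : Set (Fin k → S))
    let μ := (Submodule.mkQ L).baseChange C
    have hμT : ∀ z ∈ Submodule.span C (T' : Set (Fin k → C)), μ (e.symm z) = 0 := by
      intro z hz
      induction hz using Submodule.span_induction with
      | mem z hz =>
        rw [← hζ z hz, hs z hz, map_sum, map_sum]
        refine Finset.sum_eq_zero fun cx hcx => ?_
        rw [LinearMap.lTensor_tmul, LinearMap.baseChange_tmul]
        show cx.1 ⊗ₜ[S] (Submodule.Quotient.mk (cx.2 : Fin k → S) : (Fin k → S) ⧸ L) = 0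
        rw [          (Submodule.Quotient.mk_eq_zero L).2 (Submodule.subset_span (Finset.mem_coe.2
            (Finset.mem_biUnion.2 ⟨⟨z, hz⟩, Finset.mem_attach _ _, Finset.mem_image_of_mem _ hcx⟩))),
          TensorProduct.tmul_zero]
      | zero => simp
      | add a b _ _ ha hb => simp only [map_add, ha, hb, add_zero]
      | smul c z _ hz => simp only [map_smul, hz, smul_zero]
    have h1 : w • ((1 : C) ⊗ₜ[S] (Submodule.Quotient.mk x : (Fin k → S) ⧸ L)) = 0 := by
      have := hμT _ hwx
      rwa [map_smul, LinearEquiv.symm_apply_apply, map_smul, LinearMap.baseChange_tmul] at this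
    let C' := Localization.AtPrime Q'
    haveI : Module.Flat S C' := Module.Flat.trans S C C'
    have h2 : (1 : C') ⊗ₜ[S] (Submodule.Quotient.mk x : (Fin k → S) ⧸ L) = 0 := by
      have := congrArg ((IsScalarTower.toAlgHom S C C').toLinearMap.rTensor ((Fin k → S) ⧸ L)) h1
      rw [map_zero, TensorProduct.smul_tmul', smul_eq_mul, mul_one, LinearMap.rTensor_tmul] at this
      obtain ⟨u, hu⟩ := IsLocalization.map_units C' (⟨w, hw⟩ : Q'.primeCompl)
      have h3 := congrArg (fun m => (↑u⁻¹ : C') • m) this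
      simp only [smul_zero, TensorProduct.smul_tmul', smul_eq_mul] at h3
      rwa [show (↑u⁻¹ : C') * (IsScalarTower.toAlgHom S C C').toLinearMap w = 1 from by
        show (↑u⁻¹ : C') * algebraMap C C' w = 1
        rw [← hu]; exact Units.inv_mul u] at h3
    obtain ⟨v, hv, hvx⟩ := FlatCA.WeakAss.exists_kill_of_flat _ h2 Q (Q'.map (algebraMap C C')) (by
      rw [IsScalarTower.algebraMap_eq S C C', ← Ideal.comap_comap]
      show (Ideal.under C (Q'.map (algebraMap C C'))).comap _ = Q
      rw [IsLocalization.under_map_of_isPrime_disjoint Q'.primeCompl C' ‹_› disjoint_compl_left, hcomap])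
    exact ⟨v, hv, by rwa [← Submodule.Quotient.mk_smul, Submodule.Quotient.mk_eq_zero] at hvx⟩

end Groth.Agent.Lib.RG.FPOn
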