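import Groth.Agent.Lib.RG.DevTools
import Groth.Agent.Lib.RG.FPOn
import Groth.Agent.Lib.RG.NearApply
import Mathlib.LinearAlgebra.TensorProduct.RightExactness

/-!
# Uniform finite presentation along base change and finite maps
-/

set_option autoImplicit false
set_option linter.style.haveILetI false

universe u

open scoped TensorProduct

namespace Groth.Agent.Lib.RG.FPTransfer

open FPOn DevTools

section Cover

variable {S : Type u} [CommRing S] {N : Type u} [AddCommGroup N] [Module S N] {U : Set (Ideal S)}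

/-- Uniform finite presentation gives a finitely presented cover whose kernel dies on the set. -/
theorem exists_cover [Module.Finite S N] (h : FPOn U N) :
    ∃ (M : Type u) (_ : AddCommGroup M) (_ : Module S M) (_ : Module.FinitePresentation S M) (φ : M →ₗ[S] N),
      Function.Surjective φ ∧ ∀ m, φ m = 0 → ∀ Q ∈ U, ∃ w, w ∉ Q ∧ w • m = 0 := by
  obtain ⟨k, π, hπ⟩ := Module.Finite.exists_fin' S N
  obtain ⟨T, hT, hgen⟩ := h k π hπ
  let L := Submodule.span S (T : Set (Fin k → S))
  haveI : Module.FinitePresentation S ((Fin k → S) ⧸ L) :=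
    Module.finitePresentation_of_surjective L.mkQ (Submodule.mkQ_surjective _) (by rw [Submodule.ker_mkQ]; exact ⟨T, rfl⟩)
  refine ⟨_, inferInstance, inferInstance, this, Submodule.liftQ L π (Submodule.span_le.2 fun t ht => hT t ht),
    fun n => ?_, fun m hm Q hQ => ?_⟩
  · obtain ⟨v, rfl⟩ := hπ n
    exact ⟨Submodule.Quotient.mk v, rfl⟩
  · obtain ⟨v, rfl⟩ := Submodule.Quotient.mk_surjective L m
    obtain ⟨w, hw, hwv⟩ := hgen v hm Q hQ
    exact ⟨w, hw, by rw [← Submodule.Quotient.mk_smul, Submodule.Quotient.mk_eq_zero]; exact hwv⟩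

/-- A finitely presented cover whose kernel dies on the set gives uniform finite presentation. -/
theorem of_cover {M : Type u} [AddCommGroup M] [Module S M] [Module.FinitePresentation S M] (φ : M →ₗ[S] N)
    (hφ : Function.Surjective φ) (hkill : ∀ m, φ m = 0 → ∀ Q ∈ U, ∃ w, w ∉ Q ∧ w • m = 0) : FPOn U N := by
  classical
  intro k π hπ
  obtain ⟨l, ρ, hρ⟩ := Module.Finite.exists_fin' S M
  obtain ⟨R₀, hR₀⟩ := Module.FinitePresentation.fg_ker ρ hρ
  -- lifts in both directions
  obtain ⟨σ, hσ⟩ := Module.projective_lifting_property π (φ.comp ρ) hπ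
  obtain ⟨ψ, hψ⟩ := Module.projective_lifting_property (φ.comp ρ) π (hφ.comp hρ)
  have hσ' : ∀ c, π (σ c) = φ (ρ c) := fun c => LinearMap.congr_fun hσ c
  have hψ' : ∀ v, φ (ρ (ψ v)) = π v := fun v => LinearMap.congr_fun hψ v
  let e : Fin k → (Fin k → S) := fun i => Pi.single i 1 - σ (ψ (Pi.single i 1))
  refine ⟨R₀.image σ ∪ Finset.univ.image e, fun t ht => ?_, fun x hx Q hQ => ?_⟩
  · rcases Finset.mem_union.1 ht with h | h
    · obtain ⟨r, hr, rfl⟩ := Finset.mem_image.1 h
      have hr0 : r ∈ LinearMap.ker ρ := hR₀.le (Submodule.subset_span hr)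
      rw [hσ', LinearMap.mem_ker.1 hr0, map_zero]
    · obtain ⟨i, -, rfl⟩ := Finset.mem_image.1 h
      rw [map_sub, hσ', hψ', sub_self]
  · obtain ⟨w, hw, hwx⟩ := hkill (ρ (ψ x)) (by rw [hψ', hx]) Q hQ
    refine ⟨w, hw, ?_⟩
    rw [← map_smul, ← LinearMap.mem_ker, ← hR₀] at hwx
    let L := Submodule.span S ((R₀.image σ ∪ Finset.univ.image e : Finset (Fin k → S)) : Set (Fin k → S))
    have h1 : σ (w • ψ x) ∈ L := by
      have := Submodule.mem_map_of_mem (f := σ) hwx
      rw [Submodule.map_span] at this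
      refine Submodule.span_mono ?_ this
      rintro _ ⟨r, hr, rfl⟩
      exact Finset.mem_coe.2 (Finset.mem_union_left _ (Finset.mem_image_of_mem _ hr))
    have h2 : ∀ v, v - σ (ψ v) ∈ L := fun v => by
      rw [← Finset.univ_sum_single v, map_sum, map_sum, ← Finset.sum_sub_distrib]
      refine Submodule.sum_mem _ fun i _ => ?_
      rw [show Pi.single i (v i) = v i • (Pi.single i 1 : Fin k → S) by rw [← Pi.single_smul, smul_eq_mul, mul_one],
        map_smul, map_smul, ← smul_sub]
      exact L.smul_mem _ (Submodule.subset_span (Finset.mem_coe.2 (Finset.mem_union_right _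
        (Finset.mem_image_of_mem e (Finset.mem_univ i)))))
    have h3 := add_mem (h2 (w • x)) (show σ (ψ (w • x)) ∈ L by rw [map_smul]; exact h1)
    rwa [sub_add_cancel] at h3

end Cover

section Transfer

variable {S C : Type u} [CommRing S] [CommRing C] [Algebra S C] {G : Type u} [AddCommGroup G] [Module C G]
  [Module S G] [IsScalarTower S C G] {U : Set (Ideal S)}

/-- Uniform finite presentation passes to base changes. -/
theorem baseChange {N : Type u} [AddCommGroup N] [Module S N] [Module.Finite S N] (f : N →ₗ[S] G)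
    (hf : IsBaseChange C f) (UC : Set (Ideal C)) (hUC : ∀ z ∈ UC, z.IsPrime ∧ z.comap (algebraMap S C) ∈ U)
    (h : FPOn U N) : FPOn UC G := by
  obtain ⟨M, _, _, _, φ, hφ, hkill⟩ := exists_cover h
  let Φ : C ⊗[S] M →ₗ[C] G := hf.equiv.toLinearMap.comp (φ.baseChange C)
  refine of_cover Φ (hf.equiv.surjective.comp (LinearMap.lTensor_surjective C hφ)) fun m hm z hz => ?_
  have h0 : φ.lTensor C m = 0 := hf.equiv.injective (hm.trans (map_zero _).symm)
  obtain ⟨ζ, rfl⟩ := (lTensor_exact C (LinearMap.exact_subtype_ker_map φ) hφ m).1 h0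
  clear hm h0
  have hzp := (hUC z hz).1
  induction ζ using TensorProduct.induction_on with
  | zero => exact ⟨1, fun h => hzp.ne_top ((Ideal.eq_top_iff_one z).2 h), by simp⟩
  | tmul c y =>
    obtain ⟨w, hw, hwy⟩ := hkill y.1 y.2 _ (hUC z hz).2
    refine ⟨algebraMap S C w, hw, ?_⟩
    rw [algebraMap_smul, LinearMap.lTensor_tmul, ← TensorProduct.tmul_smul]
    show c ⊗ₜ[S] (w • y.1) = 0
    rw [hwy, TensorProduct.tmul_zero]
  | add a b ha hb =>
    obtain ⟨u, hu, hu'⟩ := ha
    obtain ⟨v, hv, hv'⟩ := hb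
    refine ⟨u * v, fun h => (hzp.mem_or_mem h).elim hu hv, ?_⟩
    rw [map_add, smul_add, show (u * v) • LinearMap.lTensor C (LinearMap.ker φ).subtype b = 0 by rw [mul_smul, hv', smul_zero], add_zero, mul_comm, mul_smul, hu', smul_zero]

/-- Uniform finite presentation passes down finite maps of finite presentation. -/
theorem finite_down [Module.FinitePresentation S C] [Module.Finite C G] (UC : Set (Ideal C))
    (hU : ∀ Q ∈ U, Q.IsPrime) (hUC : ∀ Q ∈ U, ∀ z : Ideal C, z.IsPrime → z.comap (algebraMap S C) = Q → z ∈ UC)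
    (h : FPOn UC G) : FPOn U G := by
  obtain ⟨M, _, _, _, φ, hφ, hkill⟩ := exists_cover h
  letI : Module S M := Module.compHom M (algebraMap S C)
  haveI : IsScalarTower S C M := IsScalarTower.of_algebraMap_smul fun _ _ => rfl
  haveI : Module.FinitePresentation S M := Module.FinitePresentation.trans S M C
  haveI : Algebra.IsIntegral S C := Algebra.IsIntegral.of_finite _ _
  refine of_cover (φ.restrictScalars S) hφ fun m hm Q hQ => ?_
  haveI := hU Q hQ
  obtain ⟨w, hw, hwI⟩ := exists_notMem_algebraMap_mem Q ((Submodule.span C {m}).annihilator) fun z hz hzQ hle => by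
    obtain ⟨c, hc, hcm⟩ := hkill m hm z (hUC Q hQ z hz hzQ)
    exact hc (hle ((Submodule.mem_annihilator_span_singleton _ _).2 hcm))
  rw [Submodule.mem_annihilator_span_singleton, algebraMap_smul] at hwI
  exact ⟨w, hw, hwI⟩

end Transfer

section Local

variable {S : Type u} [CommRing S] {N : Type u} [AddCommGroup N] [Module S N] [Module.Finite S N]

theorem fpOn_singleton_iff (q : Ideal S) : FPOn {q} N ↔ FPAt q N := by
  constructor
  · intro h k π hπ
    obtain ⟨T, hT, hgen⟩ := h k π hπ
    exact ⟨T, hT, fun x hx => hgen x hx q rfl⟩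
  · intro h k π hπ
    obtain ⟨T, hT, hgen⟩ := h k π hπ
    exact ⟨T, hT, fun x hx Q hQ => by rw [Set.mem_singleton_iff.1 hQ]; exact hgen x hx⟩

theorem fpOn_singleton_iff_local (q : Ideal S) [q.IsPrime] :
    FPOn {q} N ↔ Module.FinitePresentation (Localization.AtPrime q) (LocalizedModule q.primeCompl N) :=
  (fpOn_singleton_iff q).trans ⟨finitePresentation_of_fpAt q, fun h => fpAt_of_finitePresentation q⟩

/-- Finite presentation of a localization gives relations generating up to denominators. -/
theorem exists_gens (W : Submonoid S)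
    [Module.FinitePresentation (Localization W) (LocalizedModule W N)] (k : ℕ) (π : (Fin k → S) →ₗ[S] N)
    (hπ : Function.Surjective π) : ∃ T : Finset (Fin k → S), (∀ t ∈ T, π t = 0) ∧
      ∀ x, π x = 0 → ∃ w ∈ W, w • x ∈ Submodule.span S (T : Set (Fin k → S)) := by
  classical
  let A := Localization W
  let πq : LocalizedModule W (Fin k → S) →ₗ[A] LocalizedModule W N := LocalizedModule.map W π
  haveI : Module.Finite A (LocalizedModule W (Fin k → S)) := inferInstance
  obtain ⟨T₀, hT₀⟩ := Module.FinitePresentation.fg_ker πq (LocalizedModule.map_surjective _ _ hπ)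
  have hlift : ∀ z ∈ T₀, ∃ t : Fin k → S, π t = 0 ∧ ∃ u : A, z = u • LocalizedModule.mkLinearMap W (Fin k → S) t := by
    intro z hz
    have hz0 : πq z = 0 := LinearMap.mem_ker.1 (hT₀ ▸ Submodule.subset_span hz)
    induction z using LocalizedModule.induction_on with
    | h x s =>
      change LocalizedModule.map W π (LocalizedModule.mk x s) = 0 at hz0
      rw [LocalizedModule.map_mk, ← LocalizedModule.zero_mk s, LocalizedModule.mk_eq] at hz0
      obtain ⟨c, hc⟩ := hz0
      simp only [smul_zero] at hc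
      refine ⟨((c : S) * (s : S)) • x, by rw [map_smul, mul_smul]; exact hc, Localization.mk 1 (c * s * s), ?_⟩
      rw [LocalizedModule.mkLinearMap_apply, LocalizedModule.mk_smul_mk, LocalizedModule.mk_eq]
      exact ⟨1, by simp [Submonoid.smul_def, smul_smul]; ring_nf⟩
  choose g hg u hu using hlift
  refine ⟨T₀.attach.image (fun z => g z.1 z.2), fun t ht => ?_, fun x hx => ?_⟩
  · obtain ⟨z, -, rfl⟩ := Finset.mem_image.1 ht
    exact hg _ _
  · let L := Submodule.span S ((T₀.attach.image (fun z => g z.1 z.2) : Finset (Fin k → S)) : Set (Fin k → S))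
    have hmem : LocalizedModule.mkLinearMap W (Fin k → S) x ∈
        Submodule.span A (T₀ : Set (LocalizedModule W (Fin k → S))) := by
      rw [hT₀, LinearMap.mem_ker]
      show LocalizedModule.map W π (LocalizedModule.mk x 1) = 0
      rw [LocalizedModule.map_mk, hx, LocalizedModule.zero_mk]
    have hle : Submodule.span A (T₀ : Set (LocalizedModule W (Fin k → S))) ≤
        L.localized' A W (LocalizedModule.mkLinearMap W (Fin k → S)) := by
      rw [Submodule.span_le]
      intro z hz
      rw [hu z hz]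
      refine Submodule.smul_mem _ _ ?_
      rw [← IsLocalizedModule.mk'_one W]
      exact ⟨g z hz, Submodule.subset_span (Finset.mem_coe.2 (Finset.mem_image.2 ⟨⟨z, hz⟩, Finset.mem_attach _ _, rfl⟩)), 1, rfl⟩
    obtain ⟨t, ht, s, hts⟩ := hle hmem
    rw [← IsLocalizedModule.mk'_one W, IsLocalizedModule.mk'_eq_mk'_iff] at hts
    obtain ⟨c, hc⟩ := hts
    refine ⟨c * s, W.mul_mem c.2 s.2, ?_⟩
    rw [mul_smul]
    simp only [one_smul, Submonoid.smul_def] at hc
    first
      | (rw [hc]; exact L.smul_mem _ ht)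
      | (rw [← hc]; exact L.smul_mem _ ht)

theorem fpOn_basicOpen_iff_away (g : S) :
    FPOn {Q : Ideal S | Q.IsPrime ∧ g ∉ Q} N ↔
      Module.FinitePresentation (Localization.Away g) (LocalizedModule (Submonoid.powers g) N) := by
  constructor
  · intro h
    exact NearApply.fp_model (SA := S) _ h LinearMap.id (IsBaseChange.of_equiv (TensorProduct.lid S N) fun x => by simp) g
      fun Q hQ hgQ => by rw [Algebra.algebraMap_self, Ideal.comap_id]; exact ⟨hQ, hgQ⟩
  · intro h k π hπ
    obtain ⟨T, hT, hgen⟩ := exists_gens (Submonoid.powers g) k π hπ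
    refine ⟨T, hT, fun x hx Q hQ => ?_⟩
    obtain ⟨_, ⟨n, rfl⟩, hwx⟩ := hgen x hx
    exact ⟨g ^ n, fun h => hQ.2 (hQ.1.mem_of_pow_mem n h), hwx⟩

end Local

end Groth.Agent.Lib.RG.FPTransfer
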