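import Groth.Agent.Lib.RG.GeomComp
import Groth.Agent.H46.SectOpenSmooth
import Groth.Agent.Lib.Flat55.EtaleSlice
import Groth.Agent.H56.EtaleNbhd
import Groth.Agent.Lib.EtSite.FieldExt

/-!
# Étale neighbourhoods with geometrically integral fibres

If `u` is a point of a smooth `X → S` whose residue field is geometrically connected over that of
its image, then after an elementary étale neighbourhood of the image some affine open neighbourhood
of the point has geometrically integral fibres.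
-/

set_option autoImplicit false
set_option linter.style.haveILetI false

universe u

open CategoryTheory CategoryTheory.Limits AlgebraicGeometry

namespace Groth.Agent.Lib.RG.GeomNhd

theorem apply_congr {X Y : Scheme.{u}} {a b : X ⟶ Y} (h : a = b) (x : X) : a x = b x := by rw [h]

/-- Geometric connectedness of a residue field extension, transported along a commutative square
inducing isomorphisms of residue fields. -/
theorem gc_residueFieldMap {X X₀ S S₀ : Scheme.{u}} (p : X₀ ⟶ X) (f₀ : X₀ ⟶ S₀) (f : X ⟶ S)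
    (e₀ : S₀ ⟶ S) (h : p ≫ f = f₀ ≫ e₀) (x₀ : X₀) (hp : Function.Bijective (p.residueFieldMap x₀))
    (he : Function.Bijective (e₀.residueFieldMap (f₀ x₀)))
    [hf : GeometricallyConnected (Spec.map (f.residueFieldMap (p x₀)))] :
    GeometricallyConnected (Spec.map (f₀.residueFieldMap x₀)) := by
  haveI : IsIso (p.residueFieldMap x₀) := (ConcreteCategory.isIso_iff_bijective _).2 hp
  haveI : IsIso (e₀.residueFieldMap (f₀ x₀)) := (ConcreteCategory.isIso_iff_bijective _).2 he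
  have h4 : GeometricallyConnected (Spec.map (f.residueFieldMap (p x₀) ≫ p.residueFieldMap x₀)) := by
    rw [Spec.map_comp]
    exact (MorphismProperty.cancel_left_of_respectsIso @GeometricallyConnected _ _).2 hf
  have key : ∀ g, g = p ≫ f → GeometricallyConnected (Spec.map (g.residueFieldMap x₀)) := by
    rintro g rfl
    rw [Scheme.residueFieldMap_comp]
    exact h4
  have h6 : GeometricallyConnected (Spec.map (e₀.residueFieldMap (f₀ x₀) ≫ f₀.residueFieldMap x₀)) := by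
    have := key _ h.symm
    rwa [Scheme.residueFieldMap_comp] at this
  rw [Spec.map_comp] at h6
  exact (MorphismProperty.cancel_right_of_respectsIso @GeometricallyConnected _ _).1 h6

set_option maxHeartbeats 1000000 in
theorem exists_geomIntegral_nhd {X S : Scheme.{u}} [IsAffine X] [IsAffine S] (f : X ⟶ S) [Smooth f] (x : X)
    [GeometricallyConnected (Spec.map (f.residueFieldMap x))]
    (hx : ∃ c : X, x ⤳ c ∧ f c = f x ∧
      @Algebra.IsSeparable (S.residueField (f c)) (X.residueField c) _ _ (f.residueFieldMap c).hom.toAlgebra) :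
    ∃ (S' : Scheme.{u}) (e : S' ⟶ S) (s' : S'), IsAffine S' ∧ Hens2.IsEtaleNbhd e s' (f x) ∧
      ∃ (V : (pullback f e).Opens) (x' : ↑(pullback f e)), IsAffineOpen V ∧ x' ∈ V ∧
        pullback.fst f e x' = x ∧ pullback.snd f e x' = s' ∧
        Function.Bijective ((pullback.fst f e).residueFieldMap x') ∧
        GeometricallyIntegral (V.ι ≫ pullback.snd f e) := by
  classical
  obtain ⟨c, hxc, hfc, hsep⟩ := hx
  -- an étale multisection through `c`, made finite
  obtain ⟨Z, i, z, hi, het, hiz, -⟩ := Flat55.EtaleSlice.exists_slice f c hsep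
  haveI := hi; haveI := het
  obtain ⟨S₀, e₀, s₀, hs₀, hS₀, T, v, hvT, hfin, hv, huniq, hvz, -⟩ :=
    H56.EtaleNbhd.exists_isEtaleNbhd_finite_part (i ≫ f) z (haveI := EtSite.FieldExt.locallyQuasiFinite_of_etale (i ≫ f); (i ≫ f).quasiFiniteAt z)
  haveI := hS₀
  haveI := hs₀.etale
  haveI := hfin
  have hs₀x : e₀ s₀ = f x := by rw [← hfc, hs₀.base_eq, ← hiz, Scheme.Hom.comp_apply]
  let π : (T : Scheme.{u}) ⟶ S₀ := T.ι ≫ pullback.snd (i ≫ f) e₀
  haveI : IsFinite π := hfin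
  haveI : Etale π := inferInstanceAs (Etale (T.ι ≫ pullback.snd (i ≫ f) e₀))
  let X₀ := pullback f e₀
  let f₀ : X₀ ⟶ S₀ := pullback.snd f e₀
  haveI : Smooth f₀ := inferInstanceAs (Smooth (pullback.snd f e₀))
  obtain ⟨x₀, hx₀, hx₀s⟩ := Scheme.Pullback.exists_preimage_pullback (f := f) (g := e₀) x s₀ hs₀x.symm
  obtain ⟨hinjfib, hresfib⟩ := H56.EtaleNbhd.fst_eq_imp_eq_and_residue f e₀ s₀ hs₀.residue_bijective
  let τ : (T : Scheme.{u}) ⟶ X₀ :=
    pullback.lift (T.ι ≫ pullback.fst (i ≫ f) e₀ ≫ i) π (by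
      simp only [π, Category.assoc]
      rw [← pullback.condition (f := i ≫ f) (g := e₀)])
  have hτ : τ ≫ f₀ = π := pullback.lift_snd _ _ _
  let v₀ : (T : Scheme.{u}) := ⟨v, hvT⟩
  have hπv : π v₀ = s₀ := by
    show (T.ι ≫ pullback.snd (i ≫ f) e₀) v₀ = s₀
    rw [Scheme.Hom.comp_apply]; exact hv
  have hπ1 : ∀ t : (T : Scheme.{u}), π t = s₀ → t = v₀ := fun t ht => by
    rw [show π t = pullback.snd (i ≫ f) e₀ (T.ι t) from Scheme.Hom.comp_apply _ _ t] at ht
    exact Subtype.ext (huniq _ t.2 ht)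
  have hτv : pullback.fst f e₀ (τ v₀) = c := by
    rw [← Scheme.Hom.comp_apply, show τ ≫ pullback.fst f e₀ = _ from pullback.lift_fst _ _ _,
      Scheme.Hom.comp_apply, Scheme.Hom.comp_apply]
    exact (congrArg i hvz).trans hiz
  have hτs : f₀ (τ v₀) = s₀ := by rw [← Scheme.Hom.comp_apply, hτ, hπv]
  -- geometric connectedness of the residue field of `x₀`
  haveI hgc : GeometricallyConnected (Spec.map (f₀.residueFieldMap x₀)) := by
    subst hx₀
    exact gc_residueFieldMap (pullback.fst f e₀) f₀ f e₀ pullback.condition x₀ (hresfib x₀ hx₀s)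
      (by rw [hx₀s]; exact hs₀.residue_bijective)
  -- `τ v₀` lies in the component of `x₀`
  have hcomp : τ v₀ ∈ connectedComponentIn (f₀ ⁻¹' {f₀ x₀}) x₀ := by
    let F := (pullback.fst f e₀) '' (f₀ ⁻¹' {s₀})
    have hinj : Set.InjOn (pullback.fst f e₀) (f₀ ⁻¹' {s₀}) := fun a ha b hb hab => hinjfib a b ha hb hab
    -- transport the specialization through the embedding of the fibre
    have hsp : x₀ ⤳ τ v₀ := by
      let j := S₀.fromSpecResidueField s₀
      haveI : IsIso (e₀.residueFieldMap s₀) := (ConcreteCategory.isIso_iff_bijective _).2 hs₀.residue_bijective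
      haveI : IsPreimmersion (j ≫ e₀) := by
        rw [← e₀.SpecMap_residueFieldMap_fromSpecResidueField]
        infer_instance
      let q : pullback f (j ≫ e₀) ⟶ X₀ :=
        pullback.lift (pullback.fst _ _) (pullback.snd _ _ ≫ j) (by rw [pullback.condition, Category.assoc])
      have hq : q ≫ pullback.fst f e₀ = pullback.fst f (j ≫ e₀) := pullback.lift_fst _ _ _
      haveI : IsPreimmersion (pullback.fst f (j ≫ e₀)) :=
        MorphismProperty.of_isPullback (IsPullback.of_hasPullback f (j ≫ e₀)).flip ‹_›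
      have hpb : IsPullback q (pullback.snd f (j ≫ e₀)) f₀ j := by
        refine IsPullback.of_right ?_ (pullback.lift_snd _ _ _) (IsPullback.of_hasPullback f e₀)
        rw [hq]
        exact IsPullback.of_hasPullback f (j ≫ e₀)
      have hmem : ∀ w : X₀, f₀ w = s₀ → ∃ a, q a = w := by
        intro w hw
        obtain ⟨pt⟩ : Nonempty ↑(Spec (S₀.residueField s₀)) := inferInstance
        obtain ⟨a, ha, -⟩ := Scheme.Pullback.exists_preimage_pullback (f := f₀) (g := j)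
          w pt (by rw [hw, Scheme.fromSpecResidueField_apply])
        exact ⟨hpb.isoPullback.inv a, by rw [← Scheme.Hom.comp_apply, hpb.isoPullback_inv_fst, ha]⟩
      obtain ⟨a, ha⟩ := hmem x₀ hx₀s
      obtain ⟨b, hb⟩ := hmem (τ v₀) hτs
      have hab : a ⤳ b := by
        refine (pullback.fst f (j ≫ e₀)).isEmbedding.isInducing.specializes_iff.1 ?_
        rwa [← hq, Scheme.Hom.comp_apply, Scheme.Hom.comp_apply, ha, hb, hx₀, hτv]
      rw [← ha, ← hb]
      exact hab.map q.continuous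
    refine (isPreconnected_singleton.subset_closure (s := {x₀}) (t := {x₀, τ v₀}) (by simp) ?_).subset_connectedComponentIn
      (Set.mem_insert _ _) ?_ (Set.mem_insert_of_mem _ rfl)
    · rintro a (rfl | rfl)
      · exact subset_closure rfl
      · exact hsp.mem_closure
    · rintro a (rfl | rfl)
      · rfl
      · show f₀ (τ v₀) = f₀ x₀
        rw [hτs, hx₀s]
  -- section components
  haveI : IsAffine (T : Scheme.{u}) := isAffine_of_isAffineHom π
  haveI : IsAffine X₀ := inferInstanceAs (IsAffine (pullback f e₀))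
  let XT := pullback f₀ π
  haveI : IsAffine XT := inferInstanceAs (IsAffine (pullback f₀ π))
  let fT : XT ⟶ T := pullback.snd f₀ π
  haveI : Smooth fT := inferInstanceAs (Smooth (pullback.snd f₀ π))
  let σ : (T : Scheme.{u}) ⟶ XT := pullback.lift τ (𝟙 _) (by rw [Category.id_comp, hτ])
  have hσ : σ ≫ fT = 𝟙 _ := pullback.lift_snd _ _ _
  let W : Set XT := MoreMor.sectionComponents fT σ
  have hWo : IsOpen W := H46.SectOpenSmooth.isOpen fT hσ
  -- the comparison over `T ×_{S₀} T`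
  let T₂ := pullback π π
  let q₁ : T₂ ⟶ T := pullback.fst π π
  let q₂ : T₂ ⟶ T := pullback.snd π π
  let π₂ : T₂ ⟶ S₀ := q₁ ≫ π
  have hπ₂ : q₂ ≫ π = π₂ := pullback.condition.symm
  let X₂ := pullback f₀ π₂
  let f₂ : X₂ ⟶ T₂ := pullback.snd f₀ π₂
  let g₁ : X₂ ⟶ XT := pullback.lift (pullback.fst f₀ π₂) (f₂ ≫ q₁) (by rw [pullback.condition, Category.assoc])
  let g₂ : X₂ ⟶ XT := pullback.lift (pullback.fst f₀ π₂) (f₂ ≫ q₂) (by rw [pullback.condition, Category.assoc, hπ₂])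
  let σ₁ : T₂ ⟶ X₂ := pullback.lift (q₁ ≫ τ) (𝟙 _) (by rw [Category.assoc, hτ, Category.id_comp])
  let σ₂ : T₂ ⟶ X₂ := pullback.lift (q₂ ≫ τ) (𝟙 _) (by rw [Category.assoc, hτ, Category.id_comp, hπ₂])
  have hσ₁ : σ₁ ≫ f₂ = 𝟙 _ := pullback.lift_snd _ _ _
  have hσ₂ : σ₂ ≫ f₂ = 𝟙 _ := pullback.lift_snd _ _ _
  have hsq : ∀ (q : T₂ ⟶ T) (hq : q ≫ π = π₂) (g : X₂ ⟶ XT), g ≫ pullback.fst f₀ π = pullback.fst f₀ π₂ →
      g ≫ fT = f₂ ≫ q → IsPullback g f₂ fT q := by
    intro q hq g h1 h2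
    refine IsPullback.of_right ?_ h2 (IsPullback.of_hasPullback f₀ π)
    rw [h1, hq]
    exact IsPullback.of_hasPullback f₀ π₂
  have hσf : σ ≫ pullback.fst f₀ π = τ := pullback.lift_fst _ _ _
  have hσ₁f : σ₁ ≫ pullback.fst f₀ π₂ = q₁ ≫ τ := pullback.lift_fst _ _ _
  have hσ₂f : σ₂ ≫ pullback.fst f₀ π₂ = q₂ ≫ τ := pullback.lift_fst _ _ _
  have hg₁f : g₁ ≫ pullback.fst f₀ π = pullback.fst f₀ π₂ := pullback.lift_fst _ _ _
  have hg₂f : g₂ ≫ pullback.fst f₀ π = pullback.fst f₀ π₂ := pullback.lift_fst _ _ _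
  have hg₁s : g₁ ≫ fT = f₂ ≫ q₁ := pullback.lift_snd _ _ _
  have hg₂s : g₂ ≫ fT = f₂ ≫ q₂ := pullback.lift_snd _ _ _
  have hW₁ : MoreMor.sectionComponents f₂ σ₁ = g₁ ⁻¹' W :=
    H54.SectionComp.result fT σ hσ f₂ g₁ q₁ (hsq q₁ rfl g₁ (pullback.lift_fst _ _ _) (pullback.lift_snd _ _ _)) σ₁ hσ₁ (by
      apply pullback.hom_ext
      · rw [Category.assoc, Category.assoc, hg₁f, hσ₁f, hσf]
      · show (σ₁ ≫ g₁) ≫ fT = (q₁ ≫ σ) ≫ fT
        rw [Category.assoc, Category.assoc, hg₁s, hσ, ← Category.assoc, hσ₁, Category.id_comp, Category.comp_id])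
  have hW₂ : MoreMor.sectionComponents f₂ σ₂ = g₂ ⁻¹' W :=
    H54.SectionComp.result fT σ hσ f₂ g₂ q₂ (hsq q₂ hπ₂ g₂ (pullback.lift_fst _ _ _) (pullback.lift_snd _ _ _)) σ₂ hσ₂ (by
      apply pullback.hom_ext
      · rw [Category.assoc, Category.assoc, hg₂f, hσ₂f, hσf]
      · show (σ₂ ≫ g₂) ≫ fT = (q₂ ≫ σ) ≫ fT
        rw [Category.assoc, Category.assoc, hg₂s, hσ, ← Category.assoc, hσ₂, Category.id_comp, Category.comp_id])
  let bad : Set T₂ := (σ₂ ⁻¹' MoreMor.sectionComponents f₂ σ₁)ᶜ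
  have hbadc : IsClosed bad := by
    refine IsOpen.isClosed_compl ?_
    rw [hW₁]
    exact (hWo.preimage g₁.continuous).preimage σ₂.continuous
  haveI : IsFinite π₂ := inferInstanceAs (IsFinite (q₁ ≫ π))
  have hbads : s₀ ∉ π₂ '' bad := by
    rintro ⟨t, ht, hts⟩
    refine ht ?_
    show σ₂ t ∈ connectedComponentIn (f₂ ⁻¹' {f₂ (σ₂ t)}) (σ₁ (f₂ (σ₂ t)))
    rw [show f₂ (σ₂ t) = t by rw [← Scheme.Hom.comp_apply, hσ₂]; rfl]
    have hfst : ∀ (q : T₂ ⟶ T), q ≫ π = π₂ → ∀ s : T₂ ⟶ X₂, s ≫ pullback.fst f₀ π₂ = q ≫ τ →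
        pullback.fst f₀ π₂ (s t) ∈ connectedComponentIn (f₀ ⁻¹' {f₀ x₀}) x₀ := by
      intro q hq s hs
      rw [← Scheme.Hom.comp_apply, hs, Scheme.Hom.comp_apply]
      rw [show q t = v₀ from hπ1 _ (by rw [← Scheme.Hom.comp_apply, hq, hts])]
      exact hcomp
    exact GeomComp.mem_component_of_base_change f₀ x₀ π₂ t (hts.trans hx₀s.symm) (σ₁ t) (σ₂ t)
      (by rw [← Scheme.Hom.comp_apply, hσ₁]; rfl) (by rw [← Scheme.Hom.comp_apply, hσ₂]; rfl)
      (hfst q₁ rfl σ₁ (pullback.lift_fst _ _ _)) (hfst q₂ hπ₂ σ₂ (pullback.lift_fst _ _ _))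
  -- the open set `V₁` of `X₀`
  let O : S₀.Opens := ⟨(π₂ '' bad)ᶜ, (π₂.isClosedMap _ hbadc).isOpen_compl⟩
  let h : XT ⟶ X₀ := pullback.fst f₀ π
  haveI : Etale h := inferInstanceAs (Etale (pullback.fst f₀ π))
  let V₁ : X₀.Opens := ⟨h '' W ∩ f₀ ⁻¹' (O : Set S₀), (h.isOpenMap _ hWo).inter (O.2.preimage f₀.continuous)⟩
  have hinv : ∀ a b : XT, a ∈ W → h a = h b → f₀ (h a) ∈ O → b ∈ W := by
    intro a b ha hab hO
    obtain ⟨w, hwa, hwb⟩ : ∃ w : X₂, g₁ w = a ∧ g₂ w = b := by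
      have hsqf : fT ≫ π = h ≫ f₀ := pullback.condition.symm
      let n : pullback h h ⟶ T₂ :=
        pullback.lift (pullback.fst h h ≫ fT) (pullback.snd h h ≫ fT) (by
          rw [Category.assoc, Category.assoc, hsqf]
          exact pullback.condition_assoc f₀)
      have hn1 : n ≫ q₁ = pullback.fst h h ≫ fT := pullback.lift_fst _ _ _
      have hn2 : n ≫ q₂ = pullback.snd h h ≫ fT := pullback.lift_snd _ _ _
      let m : pullback h h ⟶ X₂ :=
        pullback.lift (pullback.fst h h ≫ h) n (by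
          show _ = n ≫ q₁ ≫ π
          rw [← Category.assoc n, hn1, Category.assoc, Category.assoc, hsqf])
      have hm1' : m ≫ pullback.fst f₀ π₂ = pullback.fst h h ≫ h := pullback.lift_fst _ _ _
      have hm2' : m ≫ f₂ = n := pullback.lift_snd _ _ _
      obtain ⟨w, hw1, hw2⟩ := Scheme.Pullback.exists_preimage_pullback (f := h) (g := h) a b hab
      refine ⟨m w, ?_, ?_⟩
      · rw [← Scheme.Hom.comp_apply, show m ≫ g₁ = pullback.fst h h from ?_, hw1]
        apply pullback.hom_ext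
        · rw [Category.assoc, hg₁f, hm1']
        · show (m ≫ g₁) ≫ fT = _ ≫ fT
          rw [Category.assoc, hg₁s, ← Category.assoc, hm2', hn1]
      · rw [← Scheme.Hom.comp_apply, show m ≫ g₂ = pullback.snd h h from ?_, hw2]
        apply pullback.hom_ext
        · rw [Category.assoc, hg₂f, hm1']
          exact pullback.condition
        · show (m ≫ g₂) ≫ fT = _ ≫ fT
          rw [Category.assoc, hg₂s, ← Category.assoc, hm2', hn2]
    have hgood : f₂ w ∉ bad := by
      intro hbad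
      refine hO ⟨f₂ w, hbad, ?_⟩
      have e1 : g₁ ≫ h = pullback.fst f₀ π₂ := pullback.lift_fst _ _ _
      rw [← hwa, ← Scheme.Hom.comp_apply g₁ h, e1, ← Scheme.Hom.comp_apply _ f₀, pullback.condition,
        Scheme.Hom.comp_apply]
      rfl
    have h1 : w ∈ MoreMor.sectionComponents f₂ σ₁ := by rw [hW₁, Set.mem_preimage, hwa]; exact ha
    have h2 : σ₂ (f₂ w) ∈ MoreMor.sectionComponents f₂ σ₁ := not_not.1 hgood
    have h2' : σ₂ (f₂ w) ∈ connectedComponentIn (f₂ ⁻¹' {f₂ w}) (σ₁ (f₂ w)) := by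
      have h3 : f₂ (σ₂ (f₂ w)) = f₂ w := by rw [← Scheme.Hom.comp_apply, hσ₂]; rfl
      have h4 : σ₂ (f₂ w) ∈ connectedComponentIn (f₂ ⁻¹' {f₂ (σ₂ (f₂ w))}) (σ₁ (f₂ (σ₂ (f₂ w)))) := h2
      rwa [h3] at h4
    have h5 : w ∈ MoreMor.sectionComponents f₂ σ₂ := by
      show w ∈ connectedComponentIn (f₂ ⁻¹' {f₂ w}) (σ₂ (f₂ w))
      rw [← connectedComponentIn_eq h2']
      exact h1
    rw [hW₂, Set.mem_preimage, hwb] at h5
    exact h5
  -- `x₀ ∈ V₁`
  have hx₀V : x₀ ∈ V₁ := by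
    refine ⟨?_, show f₀ x₀ ∈ (O : Set S₀) by rw [hx₀s]; exact hbads⟩
    obtain ⟨a, ha1, ha2⟩ := Scheme.Pullback.exists_preimage_pullback (f := f₀) (g := π) x₀ v₀ (hx₀s.trans hπv.symm)
    refine ⟨a, ?_, ha1⟩
    show a ∈ connectedComponentIn (fT ⁻¹' {fT a}) (σ (fT a))
    rw [show fT a = v₀ from ha2]
    refine GeomComp.mem_component_of_base_change f₀ x₀ π v₀ (hπv.trans hx₀s.symm) (σ v₀) a
      (by rw [← Scheme.Hom.comp_apply, show σ ≫ pullback.snd f₀ π = 𝟙 _ from hσ]; rfl) ha2 ?_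
      (by rw [ha1]; exact mem_connectedComponentIn rfl)
    rw [← Scheme.Hom.comp_apply, show σ ≫ pullback.fst f₀ π = τ from pullback.lift_fst _ _ _]
    exact hcomp
  -- shrink to basic opens
  obtain ⟨d, hdV, hxd⟩ : ∃ d : Γ(X₀, ⊤), X₀.basicOpen d ≤ V₁ ∧ x₀ ∈ X₀.basicOpen d := by
    obtain ⟨_, ⟨_, ⟨d, rfl⟩, rfl⟩, hd1, hd2⟩ :=
      (isBasis_basicOpen X₀).exists_subset_of_mem_open hx₀V V₁.2
    exact ⟨d, hd2, hd1⟩
  let O₁ : S₀.Opens := ⟨(O : Set S₀) ∩ Set.range π ∩ f₀ '' (X₀.basicOpen d : Set X₀),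
    (O.2.inter π.isOpenMap.isOpen_range).inter (f₀.isOpenMap _ (X₀.basicOpen d).2)⟩
  obtain ⟨r, hrO, hsr⟩ : ∃ r : Γ(S₀, ⊤), S₀.basicOpen r ≤ O₁ ∧ s₀ ∈ S₀.basicOpen r := by
    obtain ⟨_, ⟨_, ⟨r, rfl⟩, rfl⟩, h1, h2⟩ := (isBasis_basicOpen S₀).exists_subset_of_mem_open
      (show s₀ ∈ O₁ from ⟨⟨hbads, ⟨v₀, hπv⟩⟩, ⟨x₀, hxd, hx₀s⟩⟩) O₁.2
    exact ⟨r, h2, h1⟩
  haveI : IsAffine ((S₀.basicOpen r : S₀.Opens) : Scheme.{u}) := (isAffineOpen_top S₀).basicOpen r
  let S' : Scheme.{u} := (S₀.basicOpen r : S₀.Opens)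
  let ι₀ : S' ⟶ S₀ := (S₀.basicOpen r).ι
  let e : S' ⟶ S := ι₀ ≫ e₀
  let s' : S' := ⟨s₀, hsr⟩
  have hres : Function.Bijective (e.residueFieldMap s') := by
    rw [show e.residueFieldMap s' = e₀.residueFieldMap (ι₀ s') ≫ ι₀.residueFieldMap s' from
      Scheme.residueFieldMap_comp _ _ _]
    haveI : IsIso (e₀.residueFieldMap (ι₀ s')) := (ConcreteCategory.isIso_iff_bijective _).2 hs₀.residue_bijective
    exact (ConcreteCategory.isIso_iff_bijective _).1
      (IsIso.comp_isIso' ‹IsIso (e₀.residueFieldMap (ι₀ s'))› inferInstance)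
  let X' := pullback f e
  let m : X' ⟶ X₀ := pullback.lift (pullback.fst f e) (pullback.snd f e ≫ ι₀) (by rw [pullback.condition, Category.assoc])
  have hm1 : m ≫ pullback.fst f e₀ = pullback.fst f e := pullback.lift_fst _ _ _
  have hm2 : m ≫ f₀ = pullback.snd f e ≫ ι₀ := pullback.lift_snd _ _ _
  let V : X'.Opens := m ⁻¹ᵁ X₀.basicOpen d
  obtain ⟨x', hx'1, hx'2⟩ := Scheme.Pullback.exists_preimage_pullback (f := f) (g := e) x s'
    (show f x = e s' by rw [Scheme.Hom.comp_apply]; exact hs₀x.symm)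
  have hmx' : m x' = x₀ := by
    refine hinjfib _ _ ?_ hx₀s ?_
    · show f₀ (m x') = s₀
      rw [← Scheme.Hom.comp_apply, hm2, Scheme.Hom.comp_apply, hx'2]; rfl
    · rw [← Scheme.Hom.comp_apply, hm1, hx'1, hx₀]
  have hVaff : IsAffineOpen V := ((isAffineOpen_top X₀).basicOpen d).preimage m
  refine ⟨S', e, s', inferInstance, ⟨inferInstance, by
      rw [Scheme.Hom.comp_apply]; exact hs₀x, hres⟩, V, x', hVaff, show m x' ∈ X₀.basicOpen d from hmx'.symm ▸ hxd,
    hx'1, hx'2, (H56.EtaleNbhd.fst_eq_imp_eq_and_residue f e s' hres).2 x' hx'2, ?_⟩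
  -- geometric integrality
  refine ⟨fun K _ y Z' fst snd hZ => ?_⟩
  haveI : Smooth snd := MorphismProperty.of_isPullback hZ (inferInstance : Smooth (V.ι ≫ pullback.snd f e))
  obtain ⟨pt⟩ : Nonempty ↥(Spec (CommRingCat.of K)) := inferInstance
  have hyO : ι₀ (y pt) ∈ O₁ := hrO (y pt).2
  -- lift the point to `T` over an extension
  obtain ⟨t, htπ⟩ := hyO.1.2
  obtain ⟨w, hw1, hw2⟩ := Scheme.Pullback.exists_preimage_pullback (f := y ≫ ι₀) (g := π) pt t
    (by rw [Scheme.Hom.comp_apply, htπ])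
  let K₁ := (pullback (y ≫ ι₀) π).residueField w
  let yK : Spec K₁ ⟶ Spec (CommRingCat.of K) := (pullback (y ≫ ι₀) π).fromSpecResidueField w ≫ pullback.fst _ _
  let yT : Spec K₁ ⟶ T := (pullback (y ≫ ι₀) π).fromSpecResidueField w ≫ pullback.snd _ _
  have hy : yK ≫ y ≫ ι₀ = yT ≫ π := by simp [yK, yT, pullback.condition]
  -- the component of the section over `K₁`
  let P := pullback fT yT
  let fP : P ⟶ Spec K₁ := pullback.snd fT yT
  let σP : Spec K₁ ⟶ P := pullback.lift (yT ≫ σ) (𝟙 _) (by rw [Category.assoc, hσ, Category.comp_id, Category.id_comp])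
  have hWP : MoreMor.sectionComponents fP σP = pullback.fst fT yT ⁻¹' W :=
    H54.SectionComp.result fT σ hσ fP (pullback.fst fT yT) yT (IsPullback.of_hasPullback fT yT) σP
      (pullback.lift_snd _ _ _) (pullback.lift_fst _ _ _)
  haveI : Subsingleton ↥(Spec K₁) := inferInstanceAs (Subsingleton (PrimeSpectrum K₁))
  obtain ⟨pt₁⟩ : Nonempty ↥(Spec K₁) := inferInstance
  have hWP' : pullback.fst fT yT ⁻¹' W = connectedComponent (σP pt₁) := by
    rw [← hWP]
    ext b
    show b ∈ connectedComponentIn (fP ⁻¹' {fP b}) (σP (fP b)) ↔ _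
    rw [show fP ⁻¹' {fP b} = Set.univ from Set.eq_univ_of_forall fun _ => Subsingleton.elim _ _,
      connectedComponentIn_univ, Subsingleton.elim (fP b) pt₁]
  let WP : P.Opens := ⟨pullback.fst fT yT ⁻¹' W, hWo.preimage (pullback.fst fT yT).continuous⟩
  haveI : ConnectedSpace (WP : Scheme.{u}) :=
    isConnected_iff_connectedSpace.1 (show _root_.IsConnected (pullback.fst fT yT ⁻¹' W) from
      hWP' ▸ isConnected_connectedComponent)
  haveI hfP : Smooth fP := inferInstanceAs (Smooth (pullback.snd fT yT))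
  have hsm : Smooth (WP.ι ≫ fP) := MorphismProperty.comp_mem @Smooth _ _ inferInstance hfP
  haveI hWPint : IsIntegral (WP : Scheme.{u}) :=
    @GeomComp.isIntegral_of_smooth_connected K₁ inferInstance _ (WP.ι ≫ fP) hsm inferInstance
  -- the open piece over `V`
  let Qo : P.Opens := (pullback.fst fT yT ≫ h) ⁻¹ᵁ X₀.basicOpen d
  have hQW : (Qo : Set P) ⊆ WP := by
    intro b hb
    obtain ⟨⟨a, ha, hab⟩, hO⟩ := hdV (show h (pullback.fst fT yT b) ∈ X₀.basicOpen d from hb)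
    exact hinv a _ ha hab (show f₀ (h a) ∈ O by rw [hab]; exact hO)
  haveI : PreirreducibleSpace (Qo : Scheme.{u}) := by
    have hW' : IsPreirreducible (WP : Set P) := by
      have := (PreirreducibleSpace.isPreirreducible_univ (X := (WP : Scheme.{u}))).image WP.ι
        WP.ι.continuous.continuousOn
      rwa [Set.image_univ, Scheme.Opens.range_ι] at this
    exact Subtype.preirreducibleSpace (hW'.open_subset Qo.2 hQW)
  haveI : Nonempty (Qo : Scheme.{u}) := by
    obtain ⟨p₀, hp₀, hp₀y⟩ := hyO.2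
    obtain ⟨b, hb1, hb2⟩ := Scheme.Pullback.exists_preimage_pullback (f := f₀) (g := π) p₀ t (hp₀y.trans htπ.symm)
    have hyT : yT pt₁ = t := by
      rw [Scheme.Hom.comp_apply, Scheme.fromSpecResidueField_apply]; exact hw2
    obtain ⟨p, hp1, -⟩ := Scheme.Pullback.exists_preimage_pullback (f := fT) (g := yT) b pt₁ (hb2.trans hyT.symm)
    refine ⟨⟨p, ?_⟩⟩
    show h (pullback.fst fT yT p) ∈ X₀.basicOpen d
    rw [hp1]
    exact hb1.symm ▸ hp₀
  have hsqT : h ≫ f₀ = fT ≫ π := pullback.condition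
  have hP : pullback.fst fT yT ≫ fT = fP ≫ yT := pullback.condition
  let α : (Qo : Scheme.{u}) ⟶ X₀ := Qo.ι ≫ pullback.fst fT yT ≫ h
  let β : (Qo : Scheme.{u}) ⟶ S' := Qo.ι ≫ fP ≫ yK ≫ y
  have hαβ : α ≫ f₀ = β ≫ ι₀ := by
    simp only [α, β, Category.assoc, hsqT]
    rw [← Category.assoc (pullback.fst fT yT) fT π, hP, Category.assoc, hy]
  let a' : (Qo : Scheme.{u}) ⟶ X' := pullback.lift (α ≫ pullback.fst f e₀) β (by
    rw [Category.assoc, pullback.condition, ← Category.assoc, hαβ, Category.assoc])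
  have ha'1 : a' ≫ pullback.fst f e = α ≫ pullback.fst f e₀ := pullback.lift_fst _ _ _
  have ha'2 : a' ≫ pullback.snd f e = β := pullback.lift_snd _ _ _
  have ha'm : a' ≫ m = α := by
    apply pullback.hom_ext
    · rw [Category.assoc, hm1, ha'1]
    · show (a' ≫ m) ≫ f₀ = α ≫ f₀
      rw [Category.assoc, hm2, ← Category.assoc, ha'2, hαβ]
  have hrange : Set.range a' ⊆ Set.range V.ι := by
    rw [Scheme.Opens.range_ι]
    rintro _ ⟨q, rfl⟩
    show m (a' q) ∈ X₀.basicOpen d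
    rw [← Scheme.Hom.comp_apply, ha'm]
    exact q.2
  let a'' : (Qo : Scheme.{u}) ⟶ V := IsOpenImmersion.lift V.ι a' hrange
  have ha'' : a'' ≫ V.ι = a' := IsOpenImmersion.lift_fac _ _ _
  let θZ : (Qo : Scheme.{u}) ⟶ Z' := hZ.lift a'' (Qo.ι ≫ fP ≫ yK) (by
    rw [← Category.assoc, ha'', ha'2]; simp only [β, Category.assoc])
  have hθ1 : θZ ≫ fst = a'' := hZ.lift_fst _ _ _
  have hθ2 : θZ ≫ snd = Qo.ι ≫ fP ≫ yK := hZ.lift_snd _ _ _
  let θ : (Qo : Scheme.{u}) ⟶ pullback snd yK :=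
    pullback.lift θZ (Qo.ι ≫ fP) (by rw [hθ2, Category.assoc])
  let χ₀ : pullback snd yK ⟶ P :=
    pullback.lift (pullback.lift (pullback.fst snd yK ≫ fst ≫ V.ι ≫ m) (pullback.snd snd yK ≫ yT) (by
      simp only [Category.assoc, hm2, reassoc_of% hZ.w, pullback.condition_assoc, hy]))
      (pullback.snd snd yK) (pullback.lift_snd _ _ _)
  have hχ1 : χ₀ ≫ pullback.fst fT yT ≫ h = pullback.fst snd yK ≫ fst ≫ V.ι ≫ m := by
    rw [← Category.assoc, show χ₀ ≫ pullback.fst fT yT = _ from pullback.lift_fst _ _ _]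
    exact pullback.lift_fst _ _ _
  have hχ2 : χ₀ ≫ fP = pullback.snd snd yK := pullback.lift_snd _ _ _
  have hrangeχ : Set.range χ₀ ⊆ Set.range Qo.ι := by
    rw [Scheme.Opens.range_ι]
    rintro _ ⟨q, rfl⟩
    show (pullback.fst fT yT ≫ h) (χ₀ q) ∈ X₀.basicOpen d
    rw [← Scheme.Hom.comp_apply, hχ1, Scheme.Hom.comp_apply, Scheme.Hom.comp_apply, Scheme.Hom.comp_apply]
    exact (fst (pullback.fst snd yK q)).2
  let χ : pullback snd yK ⟶ Qo := IsOpenImmersion.lift Qo.ι χ₀ hrangeχ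
  have hχ : χ ≫ Qo.ι = χ₀ := IsOpenImmersion.lift_fac _ _ _
  have hinvθ : χ ≫ θ = 𝟙 _ := by
    apply pullback.hom_ext
    · rw [Category.assoc, show θ ≫ pullback.fst snd yK = θZ from pullback.lift_fst _ _ _, Category.id_comp]
      apply hZ.hom_ext
      · rw [Category.assoc, hθ1, ← cancel_mono V.ι, Category.assoc, ha'']
        apply pullback.hom_ext
        · rw [Category.assoc, ha'1]
          simp only [α, Category.assoc]
          rw [← Category.assoc, hχ, reassoc_of% hχ1, hm1]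
        · rw [Category.assoc, ha'2]
          simp only [β, Category.assoc]
          rw [reassoc_of% hχ, reassoc_of% hχ2, hZ.w, pullback.condition_assoc]
      · rw [Category.assoc, hθ2, reassoc_of% hχ, reassoc_of% hχ2, pullback.condition]
    · rw [Category.assoc, show θ ≫ pullback.snd snd yK = Qo.ι ≫ fP from pullback.lift_snd _ _ _, Category.id_comp,
        reassoc_of% hχ, hχ2]
  haveI : Subsingleton ↥(Spec (CommRingCat.of K)) := inferInstanceAs (Subsingleton (PrimeSpectrum K))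
  haveI : Surjective yK := ⟨fun q => ⟨pt₁, Subsingleton.elim _ _⟩⟩
  have hsurj : Function.Surjective (θ ≫ pullback.fst snd yK) := by
    intro z
    obtain ⟨q, rfl⟩ := (pullback.fst snd yK).surjective z
    exact ⟨χ q, by rw [← Scheme.Hom.comp_apply, reassoc_of% hinvθ]⟩
  haveI : ConnectedSpace (Qo : Scheme.{u}) :=
    { toPreconnectedSpace := inferInstance, toNonempty := inferInstance }
  haveI : ConnectedSpace Z' := hsurj.connectedSpace (θ ≫ pullback.fst snd yK).continuous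
  exact GeomComp.isIntegral_of_smooth_connected snd

end Groth.Agent.Lib.RG.GeomNhd
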