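import Groth.Agent.Lib.RG.GeomNhd
import Groth.Agent.Lib.RG.PureTrans

/-!
# Étale neighbourhoods with geometrically integral fibres, in ring form
-/

set_option autoImplicit false
set_option linter.style.haveILetI false

universe u

open CategoryTheory CategoryTheory.Limits AlgebraicGeometry
open scoped TensorProduct

namespace Groth.Agent.Lib.RG.GeomRing

variable {R A : Type u} [CommRing R] [CommRing A] [Algebra R A]

theorem bijective_mapₐ_iff (x : PrimeSpectrum A) (p : Ideal R) [p.IsPrime] [x.asIdeal.LiesOver p] :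
    Function.Bijective (Ideal.ResidueField.mapₐ p x.asIdeal (Algebra.ofId R A) (x.asIdeal.over_def p)) ↔
      Function.Bijective ((Spec.map (CommRingCat.ofHom (algebraMap R A))).residueFieldMap x) := by
  obtain rfl : p = x.asIdeal.under R := x.asIdeal.over_def p
  have h := PureTrans.residueFieldMap_eq x (x.asIdeal.under R) rfl
  let φ := CommRingCat.ofHom (Ideal.ResidueField.mapₐ (x.asIdeal.under R) x.asIdeal (Algebra.ofId R A)
    (x.asIdeal.over_def _)).toRingHom
  let rf := (Spec.map (CommRingCat.ofHom (algebraMap R A))).residueFieldMap x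
  let i1 := Scheme.Spec.residueFieldIso (CommRingCat.of R) ((Spec.map (CommRingCat.ofHom (algebraMap R A))) x)
  let i2 := Scheme.Spec.residueFieldIso (CommRingCat.of A) x
  have h' : i1.inv ≫ rf = φ ≫ i2.inv := h
  show Function.Bijective φ ↔ Function.Bijective rf
  rw [← ConcreteCategory.isIso_iff_bijective φ, ← ConcreteCategory.isIso_iff_bijective rf]
  constructor
  · intro hφ
    haveI : IsIso (i1.inv ≫ rf) := by rw [h']; exact IsIso.comp_isIso' hφ inferInstance
    exact IsIso.of_isIso_comp_left i1.inv rf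
  · intro hrf
    haveI : IsIso (φ ≫ i2.inv) := by rw [← h']; exact IsIso.comp_isIso' inferInstance hrf
    exact IsIso.of_isIso_comp_right φ i2.inv

/-- Purely transcendental residue extensions transported along bijections of residue fields. -/
theorem transfer {k K k' K' : Type u} [Field k] [Field K] [Field k'] [Field K'] [Algebra k K] [Algebra k' K']
    (e : k →+* k') (he : Function.Surjective e) (f : K →+* K') (hf : Function.Surjective f)
    (hc : f.comp (algebraMap k K) = (algebraMap k' K').comp e) {ι : Type u} (t : ι → K)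
    (hind : AlgebraicIndependent k t) (hgen : IntermediateField.adjoin k (Set.range t) = ⊤) :
    AlgebraicIndependent k' (f ∘ t) ∧ IntermediateField.adjoin k' (Set.range (f ∘ t)) = ⊤ := by
  refine ⟨?_, top_le_iff.1 fun z _ => ?_⟩
  · rw [algebraicIndependent_iff]
    intro F hF
    obtain ⟨G, rfl⟩ := MvPolynomial.map_surjective e he F
    have h1 : MvPolynomial.aeval (f ∘ t) (MvPolynomial.map e G) = f (MvPolynomial.aeval t G) := by
      rw [MvPolynomial.aeval_def, MvPolynomial.eval₂_map, MvPolynomial.aeval_def,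
        MvPolynomial.eval₂_comp_left f, hc]
    rw [h1, ← map_zero f] at hF
    rw [hind.eq_zero_of_aeval_eq_zero G (f.injective hF), map_zero]
  · obtain ⟨w, rfl⟩ := hf z
    have hw : w ∈ IntermediateField.adjoin k (Set.range t) := by rw [hgen]; trivial
    induction hw using IntermediateField.adjoin_induction with
    | mem a ha =>
      obtain ⟨i, rfl⟩ := ha
      exact IntermediateField.subset_adjoin _ _ ⟨i, rfl⟩
    | algebraMap a =>
      rw [show f (algebraMap k K a) = algebraMap k' K' (e a) from congrFun (congrArg DFunLike.coe hc) a]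
      exact IntermediateField.algebraMap_mem _ _
    | add a b _ _ ha hb => rw [map_add]; exact add_mem (ha trivial) (hb trivial)
    | inv a _ ha => rw [map_inv₀]; exact inv_mem (ha trivial)
    | mul a b _ _ ha hb => rw [map_mul]; exact mul_mem (ha trivial) (hb trivial)

theorem exists_nhd_open [Algebra.Smooth R A] (p : Ideal R) [p.IsPrime] (x : PrimeSpectrum A) [x.asIdeal.LiesOver p]
    {ι : Type u} (t : ι → x.asIdeal.ResidueField)
    (halg : letI := (Ideal.ResidueField.mapₐ p x.asIdeal (Algebra.ofId R A) (x.asIdeal.over_def p)).toRingHom.toAlgebra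
      AlgebraicIndependent p.ResidueField t ∧ IntermediateField.adjoin p.ResidueField (Set.range t) = ⊤) :
    ∃ (R' D : Type u) (_ : CommRing R') (_ : CommRing D) (_ : Algebra R R') (_ : Algebra A D) (_ : Algebra R' D)
      (_ : Algebra R D) (_ : IsScalarTower R R' D) (_ : IsScalarTower R A D)
      (p' : Ideal R') (y : Ideal D) (_ : p'.IsPrime) (_ : y.IsPrime) (_ : p'.LiesOver p) (_ : y.LiesOver x.asIdeal)
      (_ : y.LiesOver p'),
      _root_.FlatCA.IsEtaleNhd R R' p p' ∧ Algebra.Etale A D ∧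
      Function.Bijective (Ideal.ResidueField.mapₐ x.asIdeal y (Algebra.ofId A D) (y.over_def x.asIdeal)) ∧
      _root_.FlatCA.GeomIntegralFibres R' D ∧
      (∀ n : ℕ, _root_.FlatCA.SmoothRelDim n R A → _root_.FlatCA.SmoothRelDim n R' D) ∧
      ∃ ψ : A ⊗[R] R' →+* D, (∀ a, ψ (a ⊗ₜ[R] 1) = algebraMap A D a) ∧ (∀ r, ψ (1 ⊗ₜ[R] r) = algebraMap R' D r) ∧
        IsOpenImmersion (Spec.map (CommRingCat.ofHom ψ)) := by
  let f := Spec.map (CommRingCat.ofHom (algebraMap R A))
  haveI : Smooth f := by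
    rw [HasRingHomProperty.Spec_iff (P := @Smooth)]
    exact RingHom.smooth_algebraMap.2 inferInstance
  obtain ⟨hgc, c, hxc, hfc, hsep⟩ := PureTrans.gc_and_separable p x t halg
  haveI := hgc
  obtain ⟨S', e, s', hS', he, V, x', hV, hx'V, hfst, hsnd, hres, hgeo⟩ :=
    GeomNhd.exists_geomIntegral_nhd f x ⟨c, hxc, hfc, hsep⟩
  haveI := he.etale
  let e' : Spec Γ(S', ⊤) ⟶ Spec (CommRingCat.of R) := S'.isoSpec.inv ≫ e
  obtain ⟨φ, hφ⟩ := Spec.map_surjective e'
  let u : Spec Γ(pullback f e, V) ⟶ Spec Γ(S', ⊤) := hV.fromSpec ≫ pullback.snd f e ≫ S'.isoSpec.hom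
  let v : Spec Γ(pullback f e, V) ⟶ Spec (CommRingCat.of A) := hV.fromSpec ≫ pullback.fst f e
  obtain ⟨φD, hφD⟩ := Spec.map_surjective u
  obtain ⟨φA, hφA⟩ := Spec.map_surjective v
  letI aR : Algebra R Γ(S', ⊤) := φ.hom.toAlgebra
  letI aD : Algebra Γ(S', ⊤) Γ(pullback f e, V) := φD.hom.toAlgebra
  letI aA : Algebra A Γ(pullback f e, V) := φA.hom.toAlgebra
  letI aRD : Algebra R Γ(pullback f e, V) := (φ ≫ φD).hom.toAlgebra
  haveI : IsScalarTower R Γ(S', ⊤) Γ(pullback f e, V) := IsScalarTower.of_algebraMap_eq' rfl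
  have hcomm : CommRingCat.ofHom (algebraMap R A) ≫ φA = φ ≫ φD := by
    apply Spec.map_injective
    rw [Spec.map_comp, Spec.map_comp, hφ, hφD, hφA]
    simp only [u, v, e', Category.assoc, Iso.hom_inv_id_assoc]
    rw [show pullback.fst f e ≫ f = pullback.snd f e ≫ e from pullback.condition]
  haveI : IsScalarTower R A Γ(pullback f e, V) :=
    IsScalarTower.of_algebraMap_eq' (congrArg CommRingCat.Hom.hom hcomm).symm
  haveI : IsAffine (V : Scheme.{u}) := hV
  let p'pt : PrimeSpectrum Γ(S', ⊤) := S'.isoSpec.hom s'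
  let ypt : PrimeSpectrum Γ(pullback f e, V) := hV.isoSpec.hom ⟨x', hx'V⟩
  have hyfrom : hV.fromSpec ypt = x' := by
    rw [IsAffineOpen.fromSpec, Scheme.Hom.comp_apply]
    have : hV.isoSpec.inv ypt = (⟨x', hx'V⟩ : V) := by
      rw [← Scheme.Hom.comp_apply, hV.isoSpec.hom_inv_id]; rfl
    rw [this]; rfl
  have hu : u ypt = p'pt := by
    rw [Scheme.Hom.comp_apply, hyfrom, Scheme.Hom.comp_apply, hsnd]
  have hv : v ypt = x := by rw [Scheme.Hom.comp_apply, hyfrom, hfst]
  have he's : e' p'pt = f x := by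
    rw [Scheme.Hom.comp_apply, ← Scheme.Hom.comp_apply S'.isoSpec.hom, S'.isoSpec.hom_inv_id]
    exact he.base_eq
  have hxp : (f x : PrimeSpectrum R).asIdeal = p := (x.asIdeal.over_def p).symm
  haveI hp'p : p'pt.asIdeal.LiesOver p := ⟨by
    rw [← hxp, ← he's, ← hφ]; rfl⟩
  haveI hyx : ypt.asIdeal.LiesOver x.asIdeal := ⟨by rw [← hv, ← hφA]; rfl⟩
  haveI hyp' : ypt.asIdeal.LiesOver p'pt.asIdeal := ⟨by rw [← hu, ← hφD]; rfl⟩
  have hfe' : Spec.map (CommRingCat.ofHom (algebraMap R Γ(S', ⊤))) = e' := hφ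
  have hfv : Spec.map (CommRingCat.ofHom (algebraMap A Γ(pullback f e, V))) = v := hφA
  have hfu : Spec.map (CommRingCat.ofHom (algebraMap Γ(S', ⊤) Γ(pullback f e, V))) = u := hφD
  refine ⟨Γ(S', ⊤), Γ(pullback f e, V), inferInstance, inferInstance, aR, aA, aD, aRD, inferInstance,
    inferInstance, p'pt.asIdeal, ypt.asIdeal, p'pt.isPrime, ypt.isPrime, hp'p, hyx, hyp',
    ⟨?_, hp'p, ?_⟩, ?_, ?_, ?_, fun n hn => ?_, ?_⟩
  · haveI : Etale (Spec.map (CommRingCat.ofHom (algebraMap R Γ(S', ⊤)))) := by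
      rw [hfe']; infer_instance
    exact RingHom.etale_algebraMap.1 ((HasRingHomProperty.Spec_iff (P := @Etale)).1 ‹_›)
  · refine (bijective_mapₐ_iff p'pt p).2 ?_
    have key : Function.Bijective (e'.residueFieldMap p'pt) := by
      rw [Scheme.residueFieldMap_comp]
      have h1 : S'.isoSpec.inv p'pt = s' := by
        rw [← Scheme.Hom.comp_apply, S'.isoSpec.hom_inv_id]; rfl
      haveI : IsIso (e.residueFieldMap (S'.isoSpec.inv p'pt)) :=
        (ConcreteCategory.isIso_iff_bijective _).2 (by rw [h1]; exact he.residue_bijective)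
      exact (ConcreteCategory.isIso_iff_bijective _).1 (IsIso.comp_isIso' ‹_› inferInstance)
    exact hfe' ▸ key
  · haveI : Etale (Spec.map (CommRingCat.ofHom (algebraMap A Γ(pullback f e, V)))) := by
      rw [hfv]
      exact MorphismProperty.comp_mem @Etale _ _ inferInstance inferInstance
    exact RingHom.etale_algebraMap.1 ((HasRingHomProperty.Spec_iff (P := @Etale)).1 ‹_›)
  · refine (bijective_mapₐ_iff ypt x.asIdeal).2 ?_
    have key : Function.Bijective (v.residueFieldMap ypt) := by
      rw [Scheme.residueFieldMap_comp]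
      haveI : IsIso ((pullback.fst f e).residueFieldMap (hV.fromSpec ypt)) :=
        (ConcreteCategory.isIso_iff_bijective _).2 (by rw [hyfrom]; exact hres)
      exact (ConcreteCategory.isIso_iff_bijective _).1 (IsIso.comp_isIso' ‹_› inferInstance)
    exact hfv ▸ key
  · show GeometricallyIntegral (Spec.map (CommRingCat.ofHom (algebraMap Γ(S', ⊤) Γ(pullback f e, V))))
    rw [hfu, show u = hV.isoSpec.inv ≫ (V.ι ≫ pullback.snd f e) ≫ S'.isoSpec.hom from by
      simp only [u, IsAffineOpen.fromSpec, Category.assoc]]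
    exact (MorphismProperty.cancel_left_of_respectsIso @GeometricallyIntegral _ _).2
      ((MorphismProperty.cancel_right_of_respectsIso @GeometricallyIntegral _ _).2 hgeo)
  · haveI : SmoothOfRelativeDimension n f := hn
    haveI := smoothOfRelativeDimension_isStableUnderBaseChange n
    haveI : SmoothOfRelativeDimension n (pullback.snd f e) :=
      MorphismProperty.pullback_snd (P := @SmoothOfRelativeDimension n) f e ‹_›
    show SmoothOfRelativeDimension n (Spec.map (CommRingCat.ofHom (algebraMap Γ(S', ⊤) Γ(pullback f e, V))))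
    rw [hfu]
    have h2 : SmoothOfRelativeDimension (0 + (n + 0)) u :=
      smoothOfRelativeDimension_comp 0 (n + 0) hV.fromSpec (pullback.snd f e ≫ S'.isoSpec.hom)
        (hg := smoothOfRelativeDimension_comp n 0 (pullback.snd f e) S'.isoSpec.hom)
    simpa using h2
  · let ψ : A ⊗[R] Γ(S', ⊤) →ₐ[R] Γ(pullback f e, V) := Algebra.TensorProduct.lift
      (IsScalarTower.toAlgHom R A Γ(pullback f e, V)) (IsScalarTower.toAlgHom R Γ(S', ⊤) Γ(pullback f e, V))
      fun _ _ => Commute.all _ _
    have hψa : ∀ a, ψ (a ⊗ₜ[R] 1) = algebraMap A Γ(pullback f e, V) a := fun a => by simp [ψ]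
    have hψr : ∀ r, ψ (1 ⊗ₜ[R] r) = algebraMap Γ(S', ⊤) Γ(pullback f e, V) r := fun r => by simp [ψ]
    refine ⟨ψ.toRingHom, hψa, hψr, ?_⟩
    let w : pullback f e ⟶ Spec (CommRingCat.of (A ⊗[R] Γ(S', ⊤))) :=
      pullback.map f e (Spec.map (CommRingCat.ofHom (algebraMap R A)))
        (Spec.map (CommRingCat.ofHom (algebraMap R Γ(S', ⊤)))) (𝟙 _) S'.isoSpec.hom (𝟙 _)
        (by simp [f]) (by rw [hfe', Category.comp_id]; simp [e']) ≫ (pullbackSpecIso R A Γ(S', ⊤)).hom
    haveI : IsIso w := inferInstance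
    have hw : Spec.map (CommRingCat.ofHom ψ.toRingHom) = hV.fromSpec ≫ w := by
      rw [← cancel_mono (pullbackSpecIso R A Γ(S', ⊤)).inv]
      simp only [w, Category.assoc, Iso.hom_inv_id, Category.comp_id]
      apply pullback.hom_ext
      · simp only [Category.assoc, pullbackSpecIso_inv_fst, pullback.lift_fst, Category.comp_id]
        rw [← Spec.map_comp, ← show _ = hV.fromSpec ≫ pullback.fst f e from hfv]
        congr 1
        ext a
        exact hψa a
      · simp only [Category.assoc, pullbackSpecIso_inv_snd, pullback.lift_snd]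
        rw [← Spec.map_comp, ← show _ = hV.fromSpec ≫ pullback.snd f e ≫ S'.isoSpec.hom from hfu]
        congr 1
        ext r
        exact hψr r
    rw [hw]
    infer_instance

theorem exists_nhd [Algebra.Smooth R A] (p : Ideal R) [p.IsPrime] (x : PrimeSpectrum A) [x.asIdeal.LiesOver p]
    {ι : Type u} (t : ι → x.asIdeal.ResidueField)
    (halg : letI := (Ideal.ResidueField.mapₐ p x.asIdeal (Algebra.ofId R A) (x.asIdeal.over_def p)).toRingHom.toAlgebra
      AlgebraicIndependent p.ResidueField t ∧ IntermediateField.adjoin p.ResidueField (Set.range t) = ⊤) :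
    ∃ (R' D : Type u) (_ : CommRing R') (_ : CommRing D) (_ : Algebra R R') (_ : Algebra A D) (_ : Algebra R' D)
      (_ : Algebra R D) (_ : IsScalarTower R R' D) (_ : IsScalarTower R A D)
      (p' : Ideal R') (y : Ideal D) (_ : p'.IsPrime) (_ : y.IsPrime) (_ : p'.LiesOver p) (_ : y.LiesOver x.asIdeal)
      (_ : y.LiesOver p'),
      _root_.FlatCA.IsEtaleNhd R R' p p' ∧ Algebra.Etale A D ∧
      Function.Bijective (Ideal.ResidueField.mapₐ x.asIdeal y (Algebra.ofId A D) (y.over_def x.asIdeal)) ∧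
      _root_.FlatCA.GeomIntegralFibres R' D ∧
      ∀ n : ℕ, _root_.FlatCA.SmoothRelDim n R A → _root_.FlatCA.SmoothRelDim n R' D := by
  obtain ⟨R', D, i1, i2, i3, i4, i5, i6, i7, i8, p', y, j1, j2, j3, j4, j5, h1, h2, h3, h4, h5, -⟩ :=
    exists_nhd_open p x t halg
  exact ⟨R', D, i1, i2, i3, i4, i5, i6, i7, i8, p', y, j1, j2, j3, j4, j5, h1, h2, h3, h4, h5⟩

end Groth.Agent.Lib.RG.GeomRing
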