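import Groth.Agent.Lib.RG.OpenMain
import Groth.Agent.Lib.RG.NearApply
import Groth.Agent.Lib.Pure.Decomp
import Mathlib.RingTheory.Etale.Pi
import Mathlib.LinearAlgebra.TensorProduct.Pi

/-!
# Freeness on charts over local rings of étale neighbourhoods
-/

set_option autoImplicit false
set_option linter.style.haveILetI false

universe u

open scoped TensorProduct

attribute [local instance] Algebra.TensorProduct.rightAlgebra

namespace Groth.Agent.Lib.RG.OpenApply

open NhdPoint OpenProj OpenSteps

section Points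

variable {R S : Type u} [CommRing R] [CommRing S] [Algebra R S] {A : Type u} [CommRing A] [Algebra R A]
  (p : Ideal R) [p.IsPrime] (q : Ideal S) [q.IsPrime] [q.LiesOver p]

/-- The residue map at the point. -/
theorem exists_psiS (p' : Ideal A) [p'.IsPrime] (hnhd : _root_.FlatCA.IsEtaleNhd R A p p') :
    ∃ ψ : S ⊗[R] A →ₐ[S] q.ResidueField, ∀ a, ψ (inR a) = 0 ↔ a ∈ p' := by
  obtain ⟨ψ, hS, hR, -⟩ := exists_psi p p' q hnhd
  exact ⟨AlgHom.mk ψ.toRingHom hS, hR⟩

omit [q.LiesOver p] in
theorem ker_point {p' : Ideal A} (ψ : S ⊗[R] A →ₐ[S] q.ResidueField) (hψ : ∀ a, ψ (inR a) = 0 ↔ a ∈ p') :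
    (RingHom.ker ψ.toRingHom).IsPrime ∧ (RingHom.ker ψ.toRingHom).comap (algebraMap S (S ⊗[R] A)) = q ∧
      (RingHom.ker ψ.toRingHom).comap inR = p' := by
  refine ⟨RingHom.ker_isPrime _, Ideal.ext fun s => ?_, Ideal.ext hψ⟩
  show ψ (algebraMap S _ s) = 0 ↔ _
  rw [ψ.commutes]
  exact Ideal.algebraMap_residueField_eq_zero

variable {A' : Type u} [CommRing A'] [Algebra R A'] [Algebra A A'] [IsScalarTower R A A']

/-- The residue map at the point extends to the local ring of the neighbourhood. -/
theorem exists_psiA (p' : Ideal A) [p'.IsPrime] [IsLocalization.AtPrime A' p'] [IsLocalRing A']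
    (hnhd : _root_.FlatCA.IsEtaleNhd R A p p') :
    ∃ ψ : S ⊗[R] A' →ₐ[S] q.ResidueField, ∀ a, ψ (inR a) = 0 ↔ a ∈ IsLocalRing.maximalIdeal A' := by
  obtain ⟨ψ, hψ⟩ := exists_psiS p q p' hnhd
  let c : A →ₐ[R] q.ResidueField :=
    (ψ.restrictScalars R).comp (Algebra.TensorProduct.includeRight : A →ₐ[R] S ⊗[R] A)
  have hc : ∀ a, c a = 0 ↔ a ∈ p' := hψ
  have hunit : ∀ y : p'.primeCompl, IsUnit (c y) := fun y => isUnit_iff_ne_zero.2 fun h => y.2 ((hc y).1 h)
  let c' : A' →ₐ[R] q.ResidueField := IsLocalization.liftAlgHom (M := p'.primeCompl) (S := A') (f := c) hunit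
  refine ⟨Algebra.TensorProduct.lift (Algebra.ofId S q.ResidueField) c' fun _ _ => Commute.all _ _, fun x => ?_⟩
  show Algebra.TensorProduct.lift (Algebra.ofId S q.ResidueField) c' _ ((1 : S) ⊗ₜ[R] x) = 0 ↔ _
  rw [Algebra.TensorProduct.lift_tmul, map_one, one_mul]
  obtain ⟨a, y, rfl⟩ := IsLocalization.exists_mk'_eq p'.primeCompl x
  rw [IsLocalization.AtPrime.mk'_mem_maximal_iff A' p' a y, ← hc]
  show IsLocalization.lift (M := p'.primeCompl) (g := c.toRingHom) hunit (IsLocalization.mk' A' a y) = 0 ↔ c a = 0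
  rw [IsLocalization.lift_mk']
  exact Units.mul_left_eq_zero _

/-- The map of residue fields at a point with values in the residue field of the image is bijective. -/
theorem point_residue {C : Type u} [CommRing C] [Algebra S C] (ψ : C →ₐ[S] q.ResidueField)
    [(RingHom.ker ψ.toRingHom).IsPrime] :
    ∃ hx : (RingHom.ker ψ.toRingHom).LiesOver q,
      Function.Bijective (Ideal.ResidueField.mapₐ q (RingHom.ker ψ.toRingHom) (Algebra.ofId S C) hx.over) := by
  have hx : (RingHom.ker ψ.toRingHom).LiesOver q := ⟨Ideal.ext fun s => by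
    show s ∈ q ↔ ψ (algebraMap S C s) = 0
    rw [ψ.commutes]
    exact Ideal.algebraMap_residueField_eq_zero.symm⟩
  refine ⟨hx, RingHom.injective _, ?_⟩
  let back : (RingHom.ker ψ.toRingHom).ResidueField →ₐ[S] q.ResidueField :=
    Ideal.ResidueField.liftₐ _ ψ le_rfl fun c hc => isUnit_iff_ne_zero.2 hc
  have hcomp : back.comp (Ideal.ResidueField.mapₐ q (RingHom.ker ψ.toRingHom) (Algebra.ofId S C) hx.over) =
      AlgHom.id S q.ResidueField :=
    Ideal.ResidueField.algHom_ext (AlgHom.ext fun s => by
      show back.comp (Ideal.ResidueField.mapₐ q (RingHom.ker ψ.toRingHom) (Algebra.ofId S C) hx.over)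
        (algebraMap S q.ResidueField s) = algebraMap S q.ResidueField s
      exact AlgHom.commutes _ s)
  intro y
  exact ⟨back y, back.toRingHom.injective (AlgHom.congr_fun hcomp (back y))⟩

/-- The residue map extends to a basic open containing the point. -/
theorem exists_psiC (ψ : S ⊗[R] A →ₐ[S] q.ResidueField) (v : S ⊗[R] A) (hv : ψ v ≠ 0) :
    ∃ ψC : Localization.Away v →ₐ[S] q.ResidueField,
      ∀ x, ψC (algebraMap (S ⊗[R] A) (Localization.Away v) x) = ψ x := by
  have hu : IsUnit (ψ.toRingHom v) := isUnit_iff_ne_zero.2 hv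
  refine ⟨AlgHom.mk (IsLocalization.Away.lift v hu) fun s => ?_, fun x => IsLocalization.Away.lift_eq v hu x⟩
  show IsLocalization.Away.lift v hu (algebraMap S (Localization.Away v) s) = algebraMap S q.ResidueField s
  rw [IsScalarTower.algebraMap_apply S (S ⊗[R] A) (Localization.Away v), IsLocalization.Away.lift_eq]
  exact ψ.commutes s

end Points

section Modules

/-- A module as a restriction of scalars. -/
noncomputable def rsEquiv (A C M : Type u) [CommRing A] [CommRing C] [Algebra A C] [AddCommGroup M] [Module C M]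
    [Module A M] [IsScalarTower A C M] : M ≃ₗ[A] RestrictScalars A C M :=
  { (RestrictScalars.addEquiv A C M).symm with
    map_smul' := fun a m => by
      show (RestrictScalars.addEquiv A C M).symm (a • m) = a • (RestrictScalars.addEquiv A C M).symm m
      rw [← algebraMap_smul C a m]
      rfl }

/-- Tensoring with a base change over the algebra. -/
noncomputable def transport {S SA C N NA : Type u} [CommRing S] [CommRing SA] [CommRing C] [Algebra S SA]
    [Algebra SA C] [Algebra S C] [IsScalarTower S SA C] [AddCommGroup N] [Module S N] [AddCommGroup NA]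
    [Module SA NA] [Module S NA] [IsScalarTower S SA NA] {f : N →ₗ[S] NA} (hf : IsBaseChange SA f) :
    C ⊗[SA] NA ≃ₗ[C] C ⊗[S] N :=
  (TensorProduct.AlgebraTensorModule.congr (LinearEquiv.refl C C) hf.equiv.symm).trans
    (TensorProduct.AlgebraTensorModule.cancelBaseChange S SA C C N)

variable {S : Type u} [CommRing S] {ι : Type u} [Fintype ι] (C : ι → Type u) [∀ i, CommRing (C i)]
  [∀ i, Algebra S (C i)] (N : Type u) [AddCommGroup N] [Module S N]

/-- Tensoring a finite product of algebras. -/
theorem exists_piEquiv :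
    ∃ E : (∀ i, C i) ⊗[S] N ≃+ ∀ i, C i ⊗[S] N,
      ∀ (c : ∀ i, C i) z i, E (c • z) i = c i • E z i := by
  classical
  refine ⟨(TensorProduct.piLeft S N C).toAddEquiv, fun c z i => ?_⟩
  induction z using TensorProduct.induction_on with
  | zero => simp
  | tmul f n =>
    rw [TensorProduct.smul_tmul']
    simp [TensorProduct.smul_tmul']
  | add a b ha hb =>
    simp only [smul_add, map_add, Pi.add_apply] at ha hb ⊢
    rw [ha, hb]

/-- Over a base, tensoring a finite product of algebras gives the product. -/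
theorem exists_piEquiv_base (A : Type u) [CommRing A] [∀ i, Algebra A (C i)] :
    Nonempty ((∀ i, C i) ⊗[S] N ≃ₗ[A] ∀ i, C i ⊗[S] N) := by
  obtain ⟨E, hE⟩ := exists_piEquiv (S := S) C N
  exact ⟨{ E with
    map_smul' := fun a z => funext fun i => by
      show E (a • z) i = a • E z i
      rw [← algebraMap_smul (∀ i, C i) a z, hE, Pi.algebraMap_apply, algebraMap_smul] }⟩

theorem finitePresentation_prod (M : ι → Type u) [∀ i, AddCommGroup (M i)] [∀ i, Module (C i) (M i)]
    [∀ i, Module.FinitePresentation (C i) (M i)] {L : Type u} [AddCommGroup L] [Module (∀ i, C i) L]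
    (E : L ≃+ ∀ i, M i) (hE : ∀ (c : ∀ i, C i) z i, E (c • z) i = c i • E z i) :
    Module.FinitePresentation (∀ i, C i) L := by
  classical
  letI : ∀ i, Algebra (∀ j, C j) (C i) := fun i => (Pi.evalRingHom C i).toAlgebra
  letI : ∀ i, Module (∀ j, C j) (M i) := fun i => Module.compHom _ (Pi.evalRingHom C i)
  haveI : ∀ i, IsScalarTower (∀ j, C j) (C i) (M i) := fun i =>
    IsScalarTower.of_algebraMap_smul fun _ _ => rfl
  haveI : ∀ i, Module.FinitePresentation (∀ j, C j) (C i) := fun i => by
    haveI : Module.Finite (∀ j, C j) (C i) := Module.Finite.of_surjective (Algebra.linearMap (∀ j, C j) (C i))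
      (fun x => ⟨Pi.single i x, Pi.single_eq_same i x⟩)
    haveI : Module.Projective (∀ j, C j) (C i) := by
      refine Module.Projective.of_split (P := C i) (M := ∀ j, C j)
        { toFun := fun x => Pi.single i x
          map_add' := fun x y => Pi.single_add (f := C) i x y
          map_smul' := fun b x => ?_ }
        { toFun := fun b => b i
          map_add' := fun _ _ => rfl
          map_smul' := fun b x => rfl } (LinearMap.ext fun x => Pi.single_eq_same i x)
      funext k
      rcases eq_or_ne k i with rfl | hk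
      · simp [Algebra.smul_def, RingHom.algebraMap_toAlgebra]
      · simp [hk]
    exact Module.finitePresentation_of_projective _ _
  haveI : ∀ i, Module.FinitePresentation (∀ j, C j) (M i) := fun i => by
    exact Module.FinitePresentation.trans (∀ j, C j) _ (C i)
  letI mPi : Module (∀ i, C i) (∀ i, M i) := Pi.module ι M (∀ i, C i)
  haveI : Module.FinitePresentation (∀ i, C i) (∀ i, M i) := Module.FinitePresentation.pi M
  let E' : L ≃ₗ[∀ i, C i] ∀ i, M i :=
    { E with map_smul' := fun c z => funext fun i => hE c z i }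
  exact Module.FinitePresentation.of_equiv E'.symm

theorem finitePresentation_pi (h : ∀ i, Module.FinitePresentation (C i) (C i ⊗[S] N)) :
    Module.FinitePresentation (∀ i, C i) ((∀ i, C i) ⊗[S] N) := by
  obtain ⟨E, hE⟩ := exists_piEquiv (S := S) C N
  exact finitePresentation_prod C (fun i => C i ⊗[S] N) E hE

end Modules

section Local

variable {R : Type u} [CommRing R] {P : Type u} [CommRing P] [Algebra R P] (N : Type u) [AddCommGroup N] [Module P N]
  {R' : Type u} [CommRing R'] [Algebra R R']

/-- The map of base changes along a map of bases. -/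
noncomputable abbrev push {A : Type u} [CommRing A] [Algebra R A] (g : R' →ₐ[R] A) : P ⊗[R] R' →ₐ[R] P ⊗[R] A :=
  Algebra.TensorProduct.map (AlgHom.id R P) g

theorem push_push {A B : Type u} [CommRing A] [Algebra R A] [CommRing B] [Algebra R B] (g : A →ₐ[R] B)
    (h : R' →ₐ[R] A) (x : P ⊗[R] R') : push g (push h x) = push (g.comp h) x := by
  induction x using TensorProduct.induction_on with
  | zero => simp
  | tmul s r => rfl
  | add a b ha hb => simp only [map_add, ha, hb]

/-- Free on the basic open over all local rings at or below the point of the base. -/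
def LocalFree (p' : Ideal R') (u : P ⊗[R] R') : Prop :=
  ∀ (A : Type u) [CommRing A] [Algebra R A] [IsLocalRing A] (g : R' →ₐ[R] A),
    (IsLocalRing.maximalIdeal A).comap g.toRingHom ≤ p' → Module.Free A (Model N (push g u))

/-- Finitely presented on the basic open over all local rings at or below the point of the base. -/
def LocalFP (p' : Ideal R') (u : P ⊗[R] R') : Prop :=
  ∀ (A : Type u) [CommRing A] [Algebra R A] [IsLocalRing A] (g : R' →ₐ[R] A),
    (IsLocalRing.maximalIdeal A).comap g.toRingHom ≤ p' →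
      Module.FinitePresentation (Localization.Away (push g u)) (Model N (push g u))

variable [Module R N] [IsScalarTower R P N] [Module.Finite P N] [Algebra.FinitePresentation R P]

set_option maxHeartbeats 1600000 in
/-- A finite module flat at a point is free on a chart over the local ring of an étale neighbourhood. -/
theorem exists_local (p : Ideal R) [p.IsPrime] (q : Ideal P) [q.IsPrime] [q.LiesOver p]
    (h : Module.Flat R (LocalizedModule q.primeCompl N)) :
    ∃ (R' : Type u) (_ : CommRing R') (_ : Algebra R R') (p' : Ideal R') (_ : p'.IsPrime),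
      _root_.FlatCA.IsEtaleNhd R R' p p' ∧ ∃ u : P ⊗[R] R',
        (∀ X : Ideal (P ⊗[R] R'), X.IsPrime → X.comap (algebraMap P _) = q → X.comap inR = p' → u ∉ X) ∧
        LocalFree N p' u ∧ LocalFP N p' u := by
  classical
  obtain ⟨R₁, cR₁, aR₁, p₁, hp₁, hn₁, h₁, hh₁, -, hfpon⟩ := Near.near_of_flat (N := N) p q h
  obtain ⟨k, π, hπ⟩ := Module.Finite.exists_fin' P N
  obtain ⟨T, hT, hgen⟩ := hfpon k π hπ
  let L := Submodule.span P (T : Set (Fin k → P))
  let M := (Fin k → P) ⧸ L
  haveI : Module.FinitePresentation P M :=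
    Module.finitePresentation_of_surjective L.mkQ (Submodule.mkQ_surjective _) (by rw [Submodule.ker_mkQ]; exact ⟨T, rfl⟩)
  let φ : M →ₗ[P] N := Submodule.liftQ L π (Submodule.span_le.2 fun t ht => hT t ht)
  have hφ : Function.Surjective φ := fun n => by
    obtain ⟨v, rfl⟩ := hπ n
    exact ⟨Submodule.Quotient.mk v, rfl⟩
  have hkill : ∀ m, φ m = 0 → ∀ Q ∈ Near.shadow p₁ h₁, ∃ w, w ∉ Q ∧ w • m = 0 := fun m hm Q hQ => by
    obtain ⟨v, rfl⟩ := Submodule.Quotient.mk_surjective L m
    obtain ⟨w, hw, hwv⟩ := hgen v hm Q hQ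
    exact ⟨w, hw, by rw [← Submodule.Quotient.mk_smul, Submodule.Quotient.mk_eq_zero]; exact hwv⟩
  have hqs : q ∈ Near.shadow p₁ h₁ := by
    obtain ⟨X, hX, hXS, hXR⟩ := exists_point p p₁ q hn₁
    exact ⟨X, hX, hh₁ X hX hXS hXR, hXR.le, hXS⟩
  have hM : Module.Flat R (LocalizedModule q.primeCompl M) := by
    have hbij : Function.Bijective (LocalizedModule.map q.primeCompl φ) :=
      ⟨Induct.injective_map_of_killed q φ fun m hm => hkill m hm q hqs,
        LocalizedModule.map_surjective _ _ hφ⟩
    haveI := h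
    exact Module.Flat.of_linearEquiv ((LinearEquiv.ofBijective _ hbij).restrictScalars R)
  obtain ⟨R₂, cR₂, aR₂, p₂, hp₂, hn₂, u₂, hgood₂⟩ := OpenMain.exists_chart p q hM
  haveI := hn₂.2.choose
  obtain ⟨X₃, hX₃, hX₃S, hX₃R⟩ := exists_point (S := R₂) p p₁ p₂ hn₁
  haveI := hX₃
  let R₃ := R₂ ⊗[R] R₁
  have hn23 : _root_.FlatCA.IsEtaleNhd R₂ R₃ p₂ X₃ := NhdPoint.isEtaleNhd p p₁ p₂ hn₁ X₃ hX₃S hX₃R
  have hn3 := NhdPoint.trans hn₂ hn23
  let g₁ : R₁ →ₐ[R] R₃ := Algebra.TensorProduct.includeRight
  have hgood₃ := good_push M p p₂ X₃ q hn₂ hn23 hgood₂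
  obtain ⟨R₄, cR₄, aR₄, a34, t34, p₄, hp₄, hn34, -, hgood₄⟩ :=
    exists_shrink M p X₃ q hn3 hgood₃ (push g₁ h₁) (fun X hX hXS hXR hm => by
      refine hh₁ (X.comap (push (P := P) g₁).toRingHom) (hX.comap _) ?_ ?_ hm
      · rw [← hXS, Ideal.comap_comap]
        exact congrArg (Ideal.comap · X) (RingHom.ext fun s => NearApply.map_algebraMap g₁ s)
      · rw [← hX₃R, ← hXR, Ideal.comap_comap, Ideal.comap_comap]
        exact congrArg (Ideal.comap · X) (RingHom.ext fun r => NearApply.map_inR g₁ r))
      1 fun h1 => hX₃.ne_top ((Ideal.eq_top_iff_one _).2 h1)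
  haveI := hn34.2.choose
  let w : P ⊗[R] R₄ := sig (R' := R₃) (R'' := R₄) (sig (R' := R₂) (R'' := R₃) u₂ * push g₁ h₁)
  have key : ∀ (A : Type u) [CommRing A] [Algebra R A] [IsLocalRing A] (g : R₄ →ₐ[R] A),
      (IsLocalRing.maximalIdeal A).comap g.toRingHom ≤ p₄ →
      Module.Free A (Model N (push g w)) ∧
        Module.FinitePresentation (Localization.Away (push g w)) (Model N (push g w)) := by
    intro A _ _ _ g hg
    letI : Algebra R₄ A := g.toRingHom.toAlgebra
    haveI : IsScalarTower R R₄ A := IsScalarTower.of_algebraMap_eq fun r => (g.commutes r).symm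
    have hsig : (sig (R' := R₄) (R'' := A) : P ⊗[R] R₄ →ₐ[R] P ⊗[R] A) = push g := rfl
    haveI hprA : Module.Projective A (Model M (push g w)) := by
      haveI : Module.Projective R₄ (Model M w) := hgood₄.2.1
      rw [← hsig]
      exact projective_push M w
    let v := push g w
    let C := Localization.Away v
    let gA : R₁ →ₐ[R] A := (g.comp (IsScalarTower.toAlgHom R R₃ R₄)).comp g₁
    let τ : P ⊗[R] R₁ →+* C := (algebraMap (P ⊗[R] A) C).comp (push gA).toRingHom
    have hτu : IsUnit (τ h₁) := by
      have h0 : IsUnit (algebraMap (P ⊗[R] A) C v) := IsLocalization.Away.algebraMap_isUnit v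
      have hv : v = push g (sig (R' := R₃) (R'' := R₄) (sig (R' := R₂) (R'' := R₃) u₂)) *
          push g (sig (R' := R₃) (R'' := R₄) (push g₁ h₁)) := by
        rw [← map_mul, ← map_mul]
      have hh : push g (sig (R' := R₃) (R'' := R₄) (push g₁ h₁)) = push gA h₁ :=
        (push_push _ _ _).trans (push_push _ _ h₁)
      rw [hh] at hv
      have h1 := (congrArg (algebraMap (P ⊗[R] A) C) hv).trans (map_mul _ _ _)
      rw [h1] at h0
      exact (IsUnit.mul_iff.1 h0).2
    let Φ : Model M v →ₗ[C] Model N v := TensorProduct.AlgebraTensorModule.lTensor C C φ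
    have hΦ : ∀ z, Φ z = φ.lTensor C z := fun z => by
      induction z using TensorProduct.induction_on with
      | zero => simp
      | tmul c m => rfl
      | add a b ha hb => rw [map_add, map_add, ha, hb]
    have hone : ∀ m, φ m = 0 → (1 : C) ⊗ₜ[P] m = 0 := fun m hm => by
      by_contra hne
      have hI : (Submodule.span C {(1 : C) ⊗ₜ[P] m}).annihilator ≠ ⊤ := fun ht =>
        hne (Submodule.span_singleton_eq_bot.1 (Submodule.annihilator_eq_top_iff.1 ht))
      obtain ⟨Q, hQ, hle⟩ := Ideal.exists_le_maximal _ hI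
      haveI := hQ.isPrime
      have hmem : Q.comap (algebraMap P C) ∈ Near.shadow p₁ h₁ := by
        refine ⟨Q.comap τ, Ideal.IsPrime.comap _, fun hc => hQ.ne_top (Ideal.eq_top_of_isUnit_mem _ hc hτu),
          fun r hr => ?_, Ideal.ext fun s => ?_⟩
        · have h1 : gA r ∈ Q.comap ((algebraMap (P ⊗[R] A) C).comp inR) := by
            show algebraMap (P ⊗[R] A) C (inR (gA r)) ∈ Q
            rw [← NearApply.map_inR gA r]
            exact hr
          have h2 : g (algebraMap R₃ R₄ (g₁ r)) ∈ IsLocalRing.maximalIdeal A :=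
            IsLocalRing.le_maximalIdeal (Ideal.IsPrime.ne_top (Ideal.IsPrime.comap _)) h1
          have h3 : algebraMap R₃ R₄ (g₁ r) ∈ p₄ := hg h2
          have h4 : g₁ r ∈ X₃ := by rw [p₄.over_def X₃]; exact h3
          rw [← hX₃R]
          exact h4
        · show algebraMap (P ⊗[R] A) C (push gA (algebraMap P _ s)) ∈ Q ↔ _
          rw [show push gA (algebraMap P (P ⊗[R] R₁) s) = algebraMap P (P ⊗[R] A) s from
            NearApply.map_algebraMap gA s, ← IsScalarTower.algebraMap_apply P (P ⊗[R] A) C]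
          rfl
      obtain ⟨d, hd, hdm⟩ := hkill m hm _ hmem
      refine hd (hle ((Submodule.mem_annihilator_span_singleton _ _).2 ?_))
      rw [algebraMap_smul, ← TensorProduct.tmul_smul, hdm, TensorProduct.tmul_zero]
    have hbij : Function.Bijective Φ := by
      refine ⟨(injective_iff_map_eq_zero _).2 fun z hz => ?_, fun y => ?_⟩
      · rw [hΦ] at hz
        obtain ⟨ζ, rfl⟩ := (lTensor_exact C (LinearMap.exact_subtype_ker_map φ) hφ z).1 hz
        clear hz
        induction ζ using TensorProduct.induction_on with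
        | zero => exact map_zero _
        | tmul c y =>
          rw [LinearMap.lTensor_tmul, show c ⊗ₜ[P] (LinearMap.ker φ).subtype y = c • ((1 : C) ⊗ₜ[P] y.1) by
            rw [TensorProduct.smul_tmul', smul_eq_mul, mul_one]; rfl, hone y.1 y.2, smul_zero]
        | add a b ha hb => rw [map_add, ha, hb, add_zero]
      · obtain ⟨z, rfl⟩ := LinearMap.lTensor_surjective C hφ y
        exact ⟨z, hΦ z⟩
    let E := LinearEquiv.ofBijective Φ hbij
    haveI : Module.Free A (Model M v) := Pure.Decomp.free_of_local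
    exact ⟨Module.Free.of_equiv (E.restrictScalars A), Module.FinitePresentation.of_equiv E⟩
  exact ⟨R₄, cR₄, inferInstance, p₄, hp₄, NhdPoint.trans hn3 hn34, w, hgood₄.1,
    fun A _ _ _ g hg => (key A g hg).1, fun A _ _ _ g hg => (key A g hg).2⟩

end Local

section FiniteType

variable {R : Type u} [CommRing R] {S : Type u} [CommRing S] [Algebra R S] [Algebra.FiniteType R S]
  (N : Type u) [AddCommGroup N] [Module S N] [Module R N] [IsScalarTower R S N] [Module.Finite S N]

/-- The same for algebras of finite type, without finite presentation. -/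
theorem exists_localFree (p : Ideal R) [p.IsPrime] (q : Ideal S) [q.IsPrime] [q.LiesOver p]
    (h : Module.Flat R (LocalizedModule q.primeCompl N)) :
    ∃ (R' : Type u) (_ : CommRing R') (_ : Algebra R R') (p' : Ideal R') (_ : p'.IsPrime),
      _root_.FlatCA.IsEtaleNhd R R' p p' ∧ ∃ u : S ⊗[R] R',
        (∀ X : Ideal (S ⊗[R] R'), X.IsPrime → X.comap (algebraMap S _) = q → X.comap inR = p' → u ∉ X) ∧
        LocalFree N p' u := by
  obtain ⟨n, π, hπ⟩ := Algebra.FiniteType.iff_quotient_mvPolynomial''.1 (inferInstance : Algebra.FiniteType R S)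
  let P := MvPolynomial (Fin n) R
  letI : Algebra P S := π.toRingHom.toAlgebra
  haveI : IsScalarTower R P S := IsScalarTower.of_algebraMap_eq fun r => (π.commutes r).symm
  letI : Module P N := Module.compHom N (algebraMap P S)
  haveI : IsScalarTower P S N := IsScalarTower.of_algebraMap_smul fun _ _ => rfl
  haveI : IsScalarTower R P N := IsScalarTower.of_algebraMap_smul fun r m => by
    show algebraMap P S (algebraMap R P r) • m = r • m
    rw [← IsScalarTower.algebraMap_apply, algebraMap_smul]
  haveI : Module.Finite P S := Module.Finite.of_surjective (Algebra.linearMap P S) hπ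
  haveI : Module.Finite P N := Module.Finite.trans S N
  let q₀ := q.comap (algebraMap P S)
  haveI : q₀.LiesOver p := ⟨by
    rw [Ideal.under_def, Ideal.comap_comap, ← IsScalarTower.algebraMap_eq]
    exact q.over_def p⟩
  have h₀ : Module.Flat R (LocalizedModule q₀.primeCompl N) := by
    refine (H19.FlatLocus.flat_iff_killed q₀.primeCompl (LocalizedModule.mkLinearMap q₀.primeCompl N)).2
      fun J y hy => ?_
    obtain ⟨s, hs, hsy⟩ := (H19.FlatLocus.flat_iff_killed q.primeCompl
      (LocalizedModule.mkLinearMap q.primeCompl N)).1 h J y hy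
    obtain ⟨t, rfl⟩ := hπ s
    refine ⟨t, hs, ?_⟩
    rw [← algebraMap_smul S t y]
    exact hsy
  obtain ⟨R', cR', aR', p', hp', hnhd, u₀, hu₀, hfree, -⟩ := exists_local N p q₀ h₀
  refine ⟨R', cR', aR', p', hp', hnhd, del u₀, fun X hX hXS hXR hm => ?_, fun A _ _ _ g hg => ?_⟩
  · exact hu₀ _ (hX.comap _) (del_point (q₁ := q) rfl X hXS hXR).1 (del_point (q₁ := q) rfl X hXS hXR).2 hm
  · haveI := hfree A g hg
    have hcomm : ∀ w, push g (del (S₀ := P) (S₁ := S) w) = del (S₀ := P) (S₁ := S) (push g w) := fun w => by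
      induction w using TensorProduct.induction_on with
      | zero => simp
      | tmul s r => rfl
      | add a b ha hb => simp only [map_add, ha, hb]
    suffices H : ∀ w, w = del (S₀ := P) (S₁ := S) (push g u₀) → Module.Free A (Model N w) from H _ (hcomm u₀)
    rintro w rfl
    obtain ⟨E, -⟩ := exists_modelEquiv (G := N) (S₁ := S) (push g u₀)
    exact Module.Free.of_equiv E.symm

end FiniteType

section Fibre

variable {R : Type u} [CommRing R] {S : Type u} [CommRing S] [Algebra R S]

/-- Charts at all points of a fibre: one neighbourhood and finitely many charts. -/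
theorem exists_fibre_charts (p : Ideal R) [p.IsPrime]
    (Pr : ∀ (T : Type u) [CommRing T] [Algebra R T], Ideal T → S ⊗[R] T → Prop)
    (h : ∀ (q : Ideal S) [q.IsPrime], q.LiesOver p →
      ∃ (T : Type u) (_ : CommRing T) (_ : Algebra R T) (t : Ideal T) (_ : t.IsPrime),
        _root_.FlatCA.IsEtaleNhd R T p t ∧ ∃ u : S ⊗[R] T,
          (∀ X : Ideal (S ⊗[R] T), X.IsPrime → X.comap (algebraMap S _) = q → X.comap inR = t → u ∉ X) ∧ Pr T t u) :
    ∃ (R' : Type u) (_ : CommRing R') (_ : Algebra R R') (p' : Ideal R') (_ : p'.IsPrime),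
      _root_.FlatCA.IsEtaleNhd R R' p p' ∧
      ∃ (ι : Type u) (_ : Fintype ι) (T : ι → Type u) (_ : ∀ i, CommRing (T i)) (_ : ∀ i, Algebra R (T i))
        (t : ∀ i, Ideal (T i)) (g : ∀ i, T i →ₐ[R] R') (u : ∀ i, S ⊗[R] T i),
        (∀ i, p'.comap (g i).toRingHom = t i) ∧ (∀ i, Pr (T i) (t i) (u i)) ∧
        ∀ (X : Ideal (S ⊗[R] R')), X.IsPrime → X.comap inR = p' → ∃ i, push (g i) (u i) ∉ X := by
  classical
  let i : PrimeSpectrum (p.Fiber S) → Ideal S := fun x => x.asIdeal.comap (FlatCA.Impurity.incl p)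
  have hover : ∀ x : PrimeSpectrum (p.Fiber S), (i x).LiesOver p := fun x => ⟨by
    ext r
    show r ∈ p ↔ FlatCA.Impurity.incl p (algebraMap R S r) ∈ x.asIdeal
    rw [show FlatCA.Impurity.incl p (algebraMap R S r) = algebraMap R (p.Fiber S) r from
      AlgHom.commutes (Algebra.TensorProduct.includeRight : S →ₐ[R] p.Fiber S) r]
    refine ⟨fun h => ?_, fun h => ?_⟩
    · rw [IsScalarTower.algebraMap_apply R p.ResidueField (p.Fiber S), Ideal.algebraMap_residueField_eq_zero.2 h,
        map_zero]
      exact x.asIdeal.zero_mem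
    · by_contra hr
      exact x.2.ne_top (Ideal.eq_top_of_isUnit_mem _ h (FlatCA.WeakAss.isUnit_algebraMap_fiber p hr))⟩
  have h' := fun x : PrimeSpectrum (p.Fiber S) => h (i x) (hover x)
  choose T cT aT t ht hnhd u hu hPr using h'
  choose χ hχS hχR using fun x => NearApply.exists_fibreHom (S := S) p (t x) (hnhd x)
  have hcov : (Set.univ : Set (PrimeSpectrum (p.Fiber S))) ⊆
      ⋃ x, (PrimeSpectrum.basicOpen (χ x (u x)) : Set (PrimeSpectrum (p.Fiber S))) := fun x _ => by
    refine Set.mem_iUnion.2 ⟨x, hu x (x.asIdeal.comap (χ x)) (Ideal.IsPrime.comap _) (Ideal.ext fun s => ?_) (hχR x x)⟩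
    show χ x (algebraMap S _ s) ∈ x.asIdeal ↔ _
    rw [hχS]
    rfl
  obtain ⟨s, hs⟩ := isCompact_univ.elim_finite_subcover _ (fun x => (PrimeSpectrum.basicOpen _).isOpen) hcov
  obtain ⟨R', cR', aR', p', hp', hR', hg⟩ := NearApply.exists_common s p T t hnhd
  choose g hgp using hg
  refine ⟨R', cR', aR', p', hp', hR', {x // x ∈ s}, inferInstance, fun x => T x, fun x => cT x, fun x => aT x,
    fun x => t x, fun x => g x x.2, fun x => u x, fun x => hgp x x.2, fun x => hPr x, fun X hX hXR => ?_⟩
  haveI := hX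
  haveI := hR'.2.choose
  let q := X.comap (algebraMap S (S ⊗[R] R'))
  haveI : q.LiesOver p := ⟨by
    show p = q.comap (algebraMap R S)
    rw [← comap_inR_under, hXR]
    exact p'.over_def p⟩
  obtain ⟨hx, hxq⟩ := FlatCA.WeakAss.fiberIdeal_prime p q
  obtain ⟨x, hxs, hxh⟩ := Set.mem_iUnion₂.1 (hs (Set.mem_univ (⟨_, hx⟩ : PrimeSpectrum (p.Fiber S))))
  refine ⟨⟨x, hxs⟩, fun hmem => hxh ?_⟩
  let X₁ := X.comap (push (P := S) (g x hxs)).toRingHom
  let X₂ := (_root_.FlatCA.fiberIdeal p q).comap (χ x)
  haveI : X₁.IsPrime := Ideal.IsPrime.comap _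
  haveI : X₂.IsPrime := Ideal.IsPrime.comap _
  have h12 : X₁ = X₂ := by
    refine point_unique p (t x) q (hnhd x) X₁ X₂ (Ideal.ext fun a => ?_) (Ideal.ext fun r => ?_) (Ideal.ext fun a => ?_)
      (hχR x ⟨_, hx⟩)
    · show push (g x hxs) (algebraMap S _ a) ∈ X ↔ _
      rw [NearApply.map_algebraMap]
      rfl
    · show push (g x hxs) (inR r) ∈ X ↔ _
      rw [NearApply.map_inR, ← hgp x hxs]
      show _ ↔ g x hxs r ∈ p'
      rw [← hXR]
      rfl
    · show χ x (algebraMap S _ a) ∈ _root_.FlatCA.fiberIdeal p q ↔ _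
      rw [hχS]
      exact SetLike.ext_iff.1 hxq a
  show u x ∈ X₂
  rw [← h12]
  exact hmem

end Fibre

section Models

variable {R S : Type u} [CommRing R] [CommRing S] [Algebra R S] {A : Type u} [CommRing A] [Algebra R A]
  {SA : Type u} [CommRing SA] [Algebra R SA] [Algebra S SA] [Algebra A SA] [IsScalarTower R S SA]
  [IsScalarTower R A SA] [Algebra.IsPushout R S A SA]

theorem equiv_symm_base (a : A) : (Algebra.IsPushout.equiv R S A SA).symm (algebraMap A SA a) = inR a :=
  Algebra.IsPushout.equiv_symm_algebraMap_right R S A SA a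

/-- An algebra over the canonical base change becomes one over any model. -/
noncomputable abbrev modelAlgebra (C : Type u) [CommRing C] [Algebra (S ⊗[R] A) C] : Algebra SA C :=
  ((algebraMap (S ⊗[R] A) C).comp (Algebra.IsPushout.equiv R S A SA).symm.toAlgHom.toRingHom).toAlgebra

theorem modelTower_left (C : Type u) [CommRing C] [Algebra (S ⊗[R] A) C] [Algebra S C]
    [IsScalarTower S (S ⊗[R] A) C] :
    letI := modelAlgebra (R := R) (S := S) (A := A) (SA := SA) C
    IsScalarTower S SA C := by
  letI := modelAlgebra (R := R) (S := S) (A := A) (SA := SA) C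
  refine IsScalarTower.of_algebraMap_eq fun s => ?_
  show _ = algebraMap (S ⊗[R] A) C ((Algebra.IsPushout.equiv R S A SA).symm (algebraMap S SA s))
  rw [AlgEquiv.commutes, ← IsScalarTower.algebraMap_apply]

theorem modelTower_right (C : Type u) [CommRing C] [Algebra (S ⊗[R] A) C] [Algebra A C]
    [IsScalarTower A (S ⊗[R] A) C] :
    letI := modelAlgebra (R := R) (S := S) (A := A) (SA := SA) C
    IsScalarTower A SA C := by
  letI := modelAlgebra (R := R) (S := S) (A := A) (SA := SA) C
  refine IsScalarTower.of_algebraMap_eq fun a => ?_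
  show _ = algebraMap (S ⊗[R] A) C ((Algebra.IsPushout.equiv R S A SA).symm (algebraMap A SA a))
  rw [equiv_symm_base]
  exact IsScalarTower.algebraMap_apply A (S ⊗[R] A) C a

theorem modelAway (v : S ⊗[R] A) :
    letI := modelAlgebra (R := R) (S := S) (A := A) (SA := SA) (Localization.Away v)
    IsLocalization.Away (Algebra.IsPushout.equiv R S A SA v) (Localization.Away v) := by
  letI := modelAlgebra (R := R) (S := S) (A := A) (SA := SA) (Localization.Away v)
  have := IsLocalization.isLocalization_of_base_ringEquiv (Submonoid.powers v) (Localization.Away v)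
    (Algebra.IsPushout.equiv R S A SA).toRingEquiv
  rw [Submonoid.map_powers] at this
  exact this

end Models

end Groth.Agent.Lib.RG.OpenApply
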