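import Groth.Agent.Lib.RG.GoodMain
import Groth.Agent.Lib.RG.OpenApply

/-!
# Covering a fibre by complete dévissages
-/

set_option autoImplicit false
set_option linter.style.haveILetI false

universe u

open scoped TensorProduct

attribute [local instance] Algebra.TensorProduct.rightAlgebra

namespace Groth.Agent.Lib.RG.GoodDev

/-- The complete dévissage of the zero module. -/
theorem nonempty_zero {R S : Type u} [CommRing R] [CommRing S] [Algebra R S] (N : Type u) [AddCommGroup N] [Module S N]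
    [Subsingleton N] (p : Ideal R) [hp : p.IsPrime] : Nonempty (_root_.FlatCA.CompleteDevissage R S N p) := by
  let Z : Type u := S ⧸ (⊤ : Ideal S)
  haveI : Subsingleton Z := Ideal.Quotient.subsingleton_iff.2 rfl
  haveI hP : (p.map (algebraMap R R)).IsPrime := by rw [Algebra.algebraMap_self, Ideal.map_id]; exact hp
  letI : Algebra R Z := Ideal.Quotient.algebra R
  haveI : Algebra.FinitePresentation S Z :=
    Algebra.FinitePresentation.quotient ⟨{1}, by rw [Finset.coe_singleton, Ideal.span_singleton_one]⟩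
  haveI hgi : _root_.FlatCA.GeomIrredFibres R R := by
    show AlgebraicGeometry.GeometricallyIrreducible _
    refine ⟨fun K _ y W fst snd hW => ?_⟩
    rw [Algebra.algebraMap_self, CommRingCat.ofHom_id, AlgebraicGeometry.Spec.map_id] at hW
    haveI : CategoryTheory.IsIso snd := hW.isIso_snd_of_isIso
    exact (AlgebraicGeometry.Scheme.Hom.homeomorph snd).irreducibleSpace_iff.2 inferInstance
  exact ⟨{
    n := 1, pos := one_pos, A := fun _ => Z, B := fun _ => R, M := fun _ => PUnit, r := fun _ => 0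
    aBA' := fun _ => Ideal.Quotient.algebra R, tRBA' := fun _ => inferInstance
    hp := fun _ => hP
    α := fun _ => 0
    surjSA := Ideal.Quotient.mk_surjective
    fpSA := inferInstance
    surjBA' := fun i hi => absurd hi (by omega)
    fpBA' := fun i hi => absurd hi (by omega)
    finiteBA := fun _ _ => inferInstance
    smooth := fun _ _ => inferInstance
    geomIrred := fun _ _ => hgi
    finiteM := fun _ _ => inferInstance
    isoN := LinearEquiv.ofSubsingleton _ _
    isoCoker := fun i hi => absurd hi (by omega)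
    fibreIso := fun _ _ => ⟨fun a b _ => Subsingleton.elim a b, fun b => ⟨0, Subsingleton.elim _ b⟩⟩
    cokerLast := fun b => ⟨0, Subsingleton.elim _ b⟩ }⟩

/-- A chart: an étale algebra covering the basic open, on which the module has a dévissage or vanishes. -/
def Chart {R S : Type u} [CommRing R] [CommRing S] [Algebra R S] (N : Type u) [AddCommGroup N] [Module S N]
    (T : Type u) [CommRing T] [Algebra R T] (t : Ideal T) (v : S ⊗[R] T) : Prop :=
  ∃ (_ : t.IsPrime) (C : Type u) (_ : CommRing C) (_ : Algebra (S ⊗[R] T) C) (_ : Algebra S C) (_ : Algebra T C)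
    (_ : IsScalarTower S (S ⊗[R] T) C) (_ : IsScalarTower T (S ⊗[R] T) C),
    Algebra.Etale S C ∧
    (∀ X : Ideal (S ⊗[R] T), X.IsPrime → v ∉ X → ∃ Q : Ideal C, Q.IsPrime ∧ Q.comap (algebraMap (S ⊗[R] T) C) = X) ∧
    ∀ (N' : Type u) [AddCommGroup N'] [Module C N'] [Module S N'] [IsScalarTower S C N'] (f : N →ₗ[S] N'),
      IsBaseChange C f → Subsingleton N' ∨ ∃ (k : ℕ) (Q : Ideal C) (_ : Q.IsPrime), Good k T C N' t Q

set_option maxHeartbeats 1600000 in
theorem exists_chart {R S : Type u} [CommRing R] [CommRing S] [Algebra R S] [Algebra.FiniteType R S] (N : Type u)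
    [AddCommGroup N] [Module S N] [Module R N] [IsScalarTower R S N] [Module.Finite S N] (p : Ideal R) [p.IsPrime]
    (q : Ideal S) [q.IsPrime] [q.LiesOver p] :
    ∃ (T : Type u) (_ : CommRing T) (_ : Algebra R T) (t : Ideal T) (_ : t.IsPrime),
      _root_.FlatCA.IsEtaleNhd R T p t ∧ ∃ v : S ⊗[R] T,
        (∀ X : Ideal (S ⊗[R] T), X.IsPrime → X.comap (algebraMap S _) = q → X.comap NhdPoint.inR = t → v ∉ X) ∧
        Chart N T t v := by
  obtain ⟨T, C, _, _, _, _, _, _, _, _, t, Q, _, _, hT, hC, hQt, hN⟩ :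
      ∃ (T C : Type u) (_ : CommRing T) (_ : CommRing C) (_ : Algebra R T) (_ : Algebra S C) (_ : Algebra T C)
        (_ : Algebra R C) (_ : IsScalarTower R T C) (_ : IsScalarTower R S C)
        (t : Ideal T) (Q : Ideal C) (_ : t.IsPrime) (_ : Q.IsPrime),
        _root_.FlatCA.IsEtaleNhd R T p t ∧ _root_.FlatCA.IsEtaleNhd S C q Q ∧ Q.LiesOver t ∧
        ∀ (N' : Type u) [AddCommGroup N'] [Module C N'] [Module S N'] [IsScalarTower S C N'] (f : N →ₗ[S] N'),
          IsBaseChange C f → Subsingleton N' ∨ ∃ (k : ℕ) (Q : Ideal C) (_ : Q.IsPrime), Good k T C N' t Q := by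
    by_cases hq : (⟨q, inferInstance⟩ : PrimeSpectrum S) ∈ Module.support S N
    · obtain ⟨T, C, i1, i2, i3, i4, i5, i6, i7, i8, t, Q, j1, j2, h1, h2, h3, h4⟩ :=
        exists_devissage N p q (exists_mem_support_fibre p q hq)
      exact ⟨T, C, i1, i2, i3, i4, i5, i6, i7, i8, t, Q, j1, j2, h1, h2, h3,
        fun N' _ _ _ _ f hf => Or.inr (let ⟨k, hk⟩ := h4 N' f hf; ⟨k, Q, j2, hk⟩)⟩
    · obtain ⟨C, i1, i2, i3, i4, Q, j1, h1, h2, h3⟩ := exists_killing_nhd p q hq
      exact ⟨R, C, inferInstance, i1, inferInstance, i2, i3, i3, inferInstance, i4, p, Q, inferInstance, j1,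
        NhdPoint.refl p, h1, h2, fun N' _ _ _ _ f hf => Or.inl (haveI := h3; hf.equiv.symm.toEquiv.subsingleton)⟩
  haveI := hT.1
  haveI := hC.1
  haveI := hC.2.choose
  haveI := hQt
  let φ : S ⊗[R] T →ₐ[S] C :=
    Algebra.TensorProduct.lift (Algebra.ofId S C) (IsScalarTower.toAlgHom R T C) fun _ _ => Commute.all _ _
  letI : Algebra (S ⊗[R] T) C := φ.toRingHom.toAlgebra
  haveI : IsScalarTower S (S ⊗[R] T) C := .of_algebraMap_eq fun x => (φ.commutes x).symm
  haveI : IsScalarTower T (S ⊗[R] T) C := IsScalarTower.of_algebraMap_eq (R := T) (S := S ⊗[R] T) (A := C) fun x => by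
    show _ = φ ((1 : S) ⊗ₜ[R] x)
    rw [Algebra.TensorProduct.lift_tmul, map_one, one_mul]
    rfl
  haveI : Algebra.Etale (S ⊗[R] T) C := Algebra.Etale.of_restrictScalars S (S ⊗[R] T) C
  let X₀ := Q.comap (algebraMap (S ⊗[R] T) C)
  haveI : X₀.IsPrime := Ideal.IsPrime.comap _
  have hX1 : X₀.comap (algebraMap S (S ⊗[R] T)) = q := by
    rw [Ideal.comap_comap, ← IsScalarTower.algebraMap_eq]
    exact (Q.over_def q).symm
  have hX2 : X₀.comap NhdPoint.inR = t := by
    ext x
    show algebraMap (S ⊗[R] T) C (algebraMap T (S ⊗[R] T) x) ∈ Q ↔ x ∈ t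
    rw [← IsScalarTower.algebraMap_apply T (S ⊗[R] T) C]
    exact ((SetLike.ext_iff.1 hQt.over) x).symm
  have hopen := PrimeSpectrum.isOpenMap_comap_of_hasGoingDown_of_finitePresentation (R := S ⊗[R] T) (S := C) _
    isOpen_univ
  rw [Set.image_univ] at hopen
  obtain ⟨_, ⟨v, rfl⟩, hv, hsub⟩ :=
    PrimeSpectrum.isTopologicalBasis_basic_opens.exists_subset_of_mem_open
      (show (⟨X₀, inferInstance⟩ : PrimeSpectrum (S ⊗[R] T)) ∈ Set.range (PrimeSpectrum.comap (algebraMap _ C)) from
        ⟨⟨Q, inferInstance⟩, rfl⟩) hopen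
  refine ⟨T, inferInstance, inferInstance, t, inferInstance, hT, v, fun X hX hXq hXt => ?_, inferInstance, C,
    inferInstance, inferInstance, inferInstance, inferInstance, inferInstance, inferInstance, hC.1,
    fun X hX hvX => ?_, hN⟩
  · rw [show X = X₀ from NhdPoint.point_unique p t q hT X X₀ hXq hXt hX1 hX2]
    exact hv
  · obtain ⟨Q', hQ'⟩ := hsub (show (⟨X, hX⟩ : PrimeSpectrum (S ⊗[R] T)) ∈ _ from hvX)
    exact ⟨Q'.asIdeal, Q'.isPrime, congrArg PrimeSpectrum.asIdeal hQ'⟩

theorem bijective_of_comp_bijective {A B C : Type u} [CommRing A] [CommRing B] [CommRing C] [Algebra A B] [Algebra B C]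
    [Algebra A C] [IsScalarTower A B C] (a : Ideal A) [a.IsPrime] (b : Ideal B) [b.IsPrime] (c : Ideal C) [c.IsPrime]
    [b.LiesOver a] [c.LiesOver b] [c.LiesOver a]
    (hac : Function.Bijective (Ideal.ResidueField.mapₐ a c (Algebra.ofId A C) (c.over_def a))) :
    Function.Bijective (Ideal.ResidueField.mapₐ b c (Algebra.ofId B C) (c.over_def b)) := by
  rw [Localize.mapₐ_comp a b c] at hac
  exact ⟨RingHom.injective _, hac.2.of_comp⟩

set_option maxHeartbeats 3200000 in
/-- One chart transported to a common neighbourhood and to a model of the base change. -/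
theorem transport_chart {R S : Type u} [CommRing R] [CommRing S] [Algebra R S] {N : Type u} [AddCommGroup N]
    [Module S N] (p : Ideal R) [p.IsPrime] (R' : Type u) [CommRing R'] [Algebra R R'] (p' : Ideal R') [p'.IsPrime]
    (hR' : _root_.FlatCA.IsEtaleNhd R R' p p') {T : Type u} [CommRing T] [Algebra R T] (t : Ideal T) [t.IsPrime]
    [Algebra.Etale R T] (g : T →ₐ[R] R') (hg : p'.comap g.toRingHom = t) (v : S ⊗[R] T) (hc : Chart N T t v)
    (BA NA : Type u) [CommRing BA] [Algebra S BA] [Algebra R' BA] [Algebra R BA] [IsScalarTower R S BA]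
    [IsScalarTower R R' BA] [Algebra.IsPushout R S R' BA]
    [AddCommGroup NA] [Module BA NA] [Module S NA] [IsScalarTower S BA NA] (fA : N →ₗ[S] NA)
    (hfA : IsBaseChange BA fA) :
    ∃ (C' : Type u) (_ : CommRing C') (_ : Algebra BA C') (_ : Algebra R' C') (_ : IsScalarTower R' BA C')
      (Nc : Type u) (_ : AddCommGroup Nc) (_ : Module C' Nc) (_ : Module BA Nc) (_ : IsScalarTower BA C' Nc)
      (gc : NA →ₗ[BA] Nc),
      Algebra.Etale BA C' ∧ IsBaseChange C' gc ∧ Nonempty (_root_.FlatCA.CompleteDevissage R' C' Nc p') ∧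
      ∀ (X : Ideal (S ⊗[R] R')), X.IsPrime → X.comap NhdPoint.inR = p' → OpenApply.push g v ∉ X →
        ∃ Q' : Ideal C', Q'.IsPrime ∧
          Q'.comap (algebraMap BA C') = X.comap (Algebra.IsPushout.equiv R S R' BA).symm.toAlgHom.toRingHom := by
  obtain ⟨_, C, _, _, _, _, _, _, hCet, hcov, hN⟩ := hc
  obtain ⟨hR'et, hp'p, hR'b⟩ := hR'
  haveI := hR'et
  haveI := hp'p
  haveI := hCet
  letI : Algebra T R' := g.toRingHom.toAlgebra
  haveI : IsScalarTower R T R' := .of_algebraMap_eq fun r => (g.commutes r).symm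
  haveI : Algebra.Etale T R' := Algebra.Etale.of_restrictScalars R T R'
  haveI : p'.LiesOver t := ⟨hg.symm⟩
  haveI : t.LiesOver p := ⟨by
    rw [p'.over_def p, ← hg, Ideal.under_def, Ideal.under_def, Ideal.comap_comap]
    congr 1
    exact RingHom.ext fun r => (g.commutes r).symm⟩
  have hnhdT : _root_.FlatCA.IsEtaleNhd T R' t p' :=
    ⟨inferInstance, inferInstance, bijective_of_comp_bijective p t p' hR'b⟩
  letI : Algebra R C := ((algebraMap S C).comp (algebraMap R S)).toAlgebra
  haveI : IsScalarTower R S C := IsScalarTower.of_algebraMap_eq' rfl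
  haveI : IsScalarTower R T C := IsScalarTower.of_algebraMap_eq (R := R) (S := T) (A := C) fun r => by
    show algebraMap S C (algebraMap R S r) = _
    rw [IsScalarTower.algebraMap_apply S (S ⊗[R] T) C,
      show algebraMap S (S ⊗[R] T) (algebraMap R S r) = algebraMap T (S ⊗[R] T) (algebraMap R T r) from
        (NhdPoint.inR_algebraMap r).symm, ← IsScalarTower.algebraMap_apply T (S ⊗[R] T) C]
  let C' := C ⊗[T] R'
  haveI : IsScalarTower T R' C' := IsScalarTower.of_algebraMap_eq (R := T) (S := R') (A := C') fun r =>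
    ((Algebra.TensorProduct.includeRight (R := T) (A := C) (B := R')).commutes r).symm
  haveI : IsScalarTower R R' C' := IsScalarTower.of_algebraMap_eq (R := R) (S := R') (A := C') fun r => by
    rw [IsScalarTower.algebraMap_apply R T R', ← IsScalarTower.algebraMap_apply T R' C',
      IsScalarTower.algebraMap_apply T C C', ← IsScalarTower.algebraMap_apply R T C,
      ← IsScalarTower.algebraMap_apply R C C']
  haveI : IsScalarTower R S C' := IsScalarTower.of_algebraMap_eq (R := R) (S := S) (A := C') fun r => by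
    rw [IsScalarTower.algebraMap_apply S C C', ← IsScalarTower.algebraMap_apply R S C,
      ← IsScalarTower.algebraMap_apply R C C']
  let φ : S ⊗[R] R' →ₐ[S] C' :=
    Algebra.TensorProduct.lift (Algebra.ofId S C') (IsScalarTower.toAlgHom R R' C') fun _ _ => Commute.all _ _
  letI : Algebra (S ⊗[R] R') C' := φ.toRingHom.toAlgebra
  haveI : IsScalarTower S (S ⊗[R] R') C' := .of_algebraMap_eq fun x => (φ.commutes x).symm
  haveI : IsScalarTower R' (S ⊗[R] R') C' := IsScalarTower.of_algebraMap_eq (R := R') (S := S ⊗[R] R') (A := C') fun x => by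
    show _ = φ ((1 : S) ⊗ₜ[R] x)
    rw [Algebra.TensorProduct.lift_tmul, map_one, one_mul]
    rfl
  letI : Algebra BA C' := OpenApply.modelAlgebra (R := R) (S := S) (A := R') (SA := BA) C'
  haveI : IsScalarTower S BA C' := OpenApply.modelTower_left (R := R) (S := S) (A := R') (SA := BA) C'
  haveI : IsScalarTower R' BA C' := OpenApply.modelTower_right (R := R) (S := S) (A := R') (SA := BA) C'
  haveI : Algebra.Etale C C' := inferInstance
  haveI : Algebra.Etale S C' := Algebra.Etale.comp S C C'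
  haveI : Algebra.Etale S BA := Algebra.Etale.of_equiv (Algebra.IsPushout.equiv R S R' BA)
  haveI hetBC : Algebra.Etale BA C' := Algebra.Etale.of_restrictScalars S BA C'
  let Nc := C' ⊗[BA] NA
  let gc : NA →ₗ[BA] Nc := TensorProduct.mk BA C' NA 1
  have hgc : IsBaseChange C' gc := TensorProduct.isBaseChange BA NA C'
  have hcompA := IsBaseChange.comp hfA hgc
  let M₁ := C ⊗[S] N
  let M₂ := C' ⊗[C] M₁
  let f₂ : M₁ →ₗ[C] M₂ := TensorProduct.mk C C' M₁ 1
  have hf₂ : IsBaseChange C' f₂ := TensorProduct.isBaseChange C M₁ C'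
  have hcomp₂ := IsBaseChange.comp (TensorProduct.isBaseChange S N C) hf₂
  let e : M₂ ≃ₗ[C'] Nc := hcomp₂.equiv.symm.trans hcompA.equiv
  have hdev : Nonempty (_root_.FlatCA.CompleteDevissage R' C' Nc p') := by
    rcases hN M₁ (TensorProduct.mk S C N 1) (TensorProduct.isBaseChange S N C) with hz | ⟨k, Q, hQ, hgood⟩
    · haveI := hz
      haveI : Subsingleton Nc := e.symm.toEquiv.subsingleton
      exact nonempty_zero Nc p'
    · haveI := hQ
      haveI : Algebra.IsPushout T R' C C' := TensorProduct.isPushout'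
      obtain ⟨Q', hQ', -, -, hgood'⟩ := baseChange k hgood R' p' hnhdT C' M₂ f₂ hf₂
      haveI := hQ'
      obtain ⟨D, -⟩ := (hgood'.congr e).complete
      exact ⟨D⟩
  refine ⟨C', inferInstance, inferInstance, inferInstance, inferInstance, Nc, inferInstance, inferInstance,
    inferInstance, inferInstance, gc, hetBC, hgc, hdev, fun X hX hXR hvX => ?_⟩
  haveI := hX
  let XT := X.comap (OpenApply.push (P := S) g).toRingHom
  haveI : XT.IsPrime := Ideal.IsPrime.comap _
  obtain ⟨Q₀, hQ₀, hQ₀X⟩ := hcov XT inferInstance hvX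
  haveI := hQ₀
  haveI hQ₀t : Q₀.LiesOver t := ⟨by
    rw [Ideal.under_def, IsScalarTower.algebraMap_eq T (S ⊗[R] T) C, ← Ideal.comap_comap, hQ₀X]
    ext r
    show r ∈ t ↔ OpenApply.push g (NhdPoint.inR r) ∈ X
    rw [NearApply.map_inR, ← hg]
    show g r ∈ p' ↔ _
    rw [← hXR]
    rfl⟩
  obtain ⟨Q', hQ', hQ'C, hQ'R⟩ := NhdPoint.exists_point (R := T) (R' := R') (S := C) t p' Q₀ hnhdT
  haveI := hQ'
  let Y := Q'.comap (algebraMap (S ⊗[R] R') C')
  haveI : Y.IsPrime := Ideal.IsPrime.comap _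
  let q := X.comap (algebraMap S (S ⊗[R] R'))
  haveI : q.LiesOver p := ⟨by
    show p = q.comap (algebraMap R S)
    rw [← NhdPoint.comap_inR_under, hXR]
    exact p'.over_def p⟩
  have hYX : Y = X := by
    refine NhdPoint.point_unique p p' q ⟨hR'et, hp'p, hR'b⟩ Y X ?_ ?_ rfl hXR
    · rw [Ideal.comap_comap, ← IsScalarTower.algebraMap_eq, IsScalarTower.algebraMap_eq S C C', ← Ideal.comap_comap,
        hQ'C, IsScalarTower.algebraMap_eq S (S ⊗[R] T) C, ← Ideal.comap_comap, hQ₀X]
      ext a
      show OpenApply.push g (algebraMap S _ a) ∈ X ↔ _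
      rw [NearApply.map_algebraMap]
      rfl
    · ext r
      show algebraMap (S ⊗[R] R') C' (algebraMap R' (S ⊗[R] R') r) ∈ Q' ↔ r ∈ p'
      rw [← IsScalarTower.algebraMap_apply R' (S ⊗[R] R') C']
      exact SetLike.ext_iff.1 hQ'R r
  refine ⟨Q', hQ', ?_⟩
  rw [← hYX, Ideal.comap_comap]
  rfl

end Groth.Agent.Lib.RG.GoodDev
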