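import Groth.Agent.Lib.RG.Induct
import Mathlib.RingTheory.Support
import Mathlib.Algebra.Module.FinitePresentation

/-!
# Residual bijectivity, and universal injectivity on a basic open of the base
-/

set_option autoImplicit false
set_option linter.style.haveILetI false

universe u

open scoped TensorProduct

namespace Groth.Agent.Lib.RG.StepLemmas

open Engine StepModel

section Residue

variable {D : Type u} [CommRing D] (P : Ideal D) [P.IsPrime] {N : Type u} [AddCommGroup N] [Module D N]

theorem exists_bijective_residue [Module.Finite D N] :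
    ∃ (r : ℕ) (α : (Fin r → D) →ₗ[D] N), Function.Bijective (α.baseChange P.ResidueField) := by
  classical
  let κ := P.ResidueField
  let t : Set (κ ⊗[D] N) := Set.range fun g : N => (1 : κ) ⊗ₜ[D] g
  have hspan : Submodule.span κ t = ⊤ := by
    rw [eq_top_iff]
    rintro v -
    induction v using TensorProduct.induction_on with
    | zero => exact zero_mem _
    | add a b ha hb => exact add_mem ha hb
    | tmul c g =>
      rw [show c ⊗ₜ[D] g = c • ((1 : κ) ⊗ₜ[D] g) from by rw [TensorProduct.smul_tmul', smul_eq_mul, mul_one]]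
      exact Submodule.smul_mem _ _ (Submodule.subset_span ⟨g, rfl⟩)
  obtain ⟨b, hbt, hbspan, hbli⟩ := exists_linearIndependent κ t
  let B : Module.Basis b κ (κ ⊗[D] N) := Module.Basis.mk hbli (by rw [Subtype.range_coe, hbspan, hspan])
  haveI : Fintype b := FiniteDimensional.fintypeBasisIndex B
  let ε : Fin (Fintype.card b) ≃ b := (Fintype.equivFin b).symm
  choose gb hgb using fun i : Fin (Fintype.card b) => hbt (ε i).2
  refine ⟨Fintype.card b, Fintype.linearCombination D gb, ?_⟩
  let e₁ : κ ⊗[D] (Fin (Fintype.card b) → D) ≃ₗ[κ] (Fin (Fintype.card b) → κ) :=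
    TensorProduct.piScalarRight D κ κ _
  let B' := B.reindex ε.symm
  have h : (Fintype.linearCombination D gb).baseChange κ = B'.equivFun.symm.toLinearMap.comp e₁.toLinearMap := by
    apply TensorProduct.AlgebraTensorModule.ext
    intro c v
    rw [LinearMap.baseChange_tmul, LinearMap.comp_apply, LinearEquiv.coe_coe, LinearEquiv.coe_coe,
      Module.Basis.equivFun_symm_apply]
    simp only [Fintype.linearCombination_apply, TensorProduct.tmul_sum, e₁, TensorProduct.piScalarRight_apply,
      TensorProduct.piScalarRightHom_tmul]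
    refine Finset.sum_congr rfl fun i _ => ?_
    rw [show B' i = (1 : κ) ⊗ₜ[D] gb i from by
      rw [Module.Basis.reindex_apply, Equiv.symm_symm, Module.Basis.mk_apply]; exact (hgb i).symm,
      TensorProduct.smul_tmul', smul_eq_mul, mul_one, ← TensorProduct.smul_tmul]
  rw [h]
  exact B'.equivFun.symm.bijective.comp e₁.bijective

variable {r : ℕ} (α : (Fin r → D) →ₗ[D] N)

theorem killed_of_residue [Module.Finite D N] (h : Function.Surjective (α.baseChange P.ResidueField)) (g : N) :
    ∃ d, d ∉ P ∧ d • g ∈ LinearMap.range α := by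
  let C := N ⧸ LinearMap.range α
  have hC : (⟨P, inferInstance⟩ : PrimeSpectrum D) ∉ Module.support D C := by
    rw [Module.mem_support_iff_nontrivial_residueField_tensorProduct, not_nontrivial_iff_subsingleton]
    show Subsingleton (P.ResidueField ⊗[D] C)
    refine subsingleton_of_forall_eq 0 fun z => ?_
    obtain ⟨w, rfl⟩ := LinearMap.lTensor_surjective P.ResidueField (LinearMap.range α).mkQ_surjective z
    obtain ⟨y, rfl⟩ := h w
    rw [LinearMap.baseChange_eq_ltensor, ← LinearMap.comp_apply, ← LinearMap.lTensor_comp,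
      show (LinearMap.range α).mkQ.comp α = 0 from LinearMap.range_mkQ_comp α, LinearMap.lTensor_zero,
      LinearMap.zero_apply]
  rw [Module.notMem_support_iff'] at hC
  obtain ⟨t, ht, h0⟩ := hC (Submodule.Quotient.mk g)
  exact ⟨t, ht, by rwa [← Submodule.Quotient.mk_smul, Submodule.Quotient.mk_eq_zero] at h0⟩

theorem surjective_residue_of_killed (h : ∀ g, ∃ d, d ∉ P ∧ d • g ∈ LinearMap.range α) :
    Function.Surjective (α.baseChange P.ResidueField) := by
  intro z
  induction z using TensorProduct.induction_on with
  | zero => exact ⟨0, map_zero _⟩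
  | add a b ha hb =>
    obtain ⟨a', rfl⟩ := ha
    obtain ⟨b', rfl⟩ := hb
    exact ⟨a' + b', map_add _ _ _⟩
  | tmul c g =>
    obtain ⟨d, hd, v, hv⟩ := h g
    have hd' : algebraMap D P.ResidueField d ≠ 0 := fun h0 => hd (Ideal.algebraMap_residueField_eq_zero.1 h0)
    refine ⟨(c * (algebraMap D P.ResidueField d)⁻¹) ⊗ₜ[D] v, ?_⟩
    rw [LinearMap.baseChange_tmul, hv, ← TensorProduct.smul_tmul, Algebra.smul_def, mul_comm c, ← mul_assoc,
      mul_inv_cancel₀ hd', one_mul]

end Residue

section Flat

variable {R D : Type u} [CommRing R] [CommRing D] [Algebra R D] [Algebra.FinitePresentation R D] [Module.Flat R D]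
  (hD : GIF R D) (p : Ideal R) [p.IsPrime] (P : Ideal D) [P.IsPrime] [P.LiesOver p]
  (hP : ∀ Q : Ideal D, ∀ _ : Q.IsPrime, Q.LiesOver p → P ≤ Q)
  {N : Type u} [AddCommGroup N] [Module D N] [Module R N] [IsScalarTower R D N] [Module.Finite D N]

include hD hP

/-- At a flat generic point, residual bijectivity is bijectivity. -/
theorem bijAt_of_residue (hflat : Module.Flat R (LocalizedModule P.primeCompl N)) {r : ℕ}
    (α : (Fin r → D) →ₗ[D] N) (h : Function.Bijective (α.baseChange P.ResidueField)) : BijAt P α := by
  obtain ⟨r₀, α₀, hα₀⟩ := exists_bijAt p hD P hP hflat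
  have hsurj := killed_of_residue P α h.2
  have hr : r = r₀ := by
    let L := Localization P.primeCompl
    let e₀ := LinearEquiv.ofBijective (LocalizedModule.map P.primeCompl α₀)
      ⟨Induct.injective_map_of_killed P α₀ hα₀.2, Induct.surjective_map_of_killed P α₀ hα₀.1⟩
    have free : ∀ k, LocalizedModule P.primeCompl (Fin k → D) ≃ₗ[L] (Fin k → L) := fun k => by
      haveI : IsLocalizedModule P.primeCompl
          (LinearMap.pi fun i : Fin k => (Algebra.linearMap D L).comp (LinearMap.proj i)) :=
        IsLocalizedModule.pi P.primeCompl (fun _ : Fin k => Algebra.linearMap D L)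
      exact LinearEquiv.extendScalarsOfIsLocalization P.primeCompl L
        (IsLocalizedModule.iso P.primeCompl (LinearMap.pi fun i : Fin k => (Algebra.linearMap D L).comp (LinearMap.proj i)))
    apply le_antisymm
    · let κ := P.ResidueField
      let eκ : κ ⊗[D] N ≃ₗ[κ] (Fin r → κ) :=
        (LinearEquiv.ofBijective _ h).symm.trans (TensorProduct.piScalarRight D κ κ (Fin r))
      have hs : Function.Surjective ((eκ.toLinearMap.comp (α₀.baseChange κ)).comp
          (TensorProduct.piScalarRight D κ κ (Fin r₀)).symm.toLinearMap) :=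
        (eκ.surjective.comp (surjective_residue_of_killed P α₀ hα₀.1)).comp
          (TensorProduct.piScalarRight D κ κ (Fin r₀)).symm.surjective
      exact le_of_fin_surjective κ _ hs
    · have hs : Function.Surjective ((((free r₀).toLinearMap.comp e₀.symm.toLinearMap).comp
          (LocalizedModule.map P.primeCompl α)).comp (free r).symm.toLinearMap) :=
        (((free r₀).surjective.comp e₀.symm.surjective).comp (Induct.surjective_map_of_killed P α hsurj)).comp
          (free r).symm.surjective
      exact le_of_fin_surjective L _ hs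
  subst hr
  exact Induct.bijAt_of_surjective P α₀ α hα₀ hsurj

omit [Module.Finite D N] in
theorem ui_localized {r : ℕ} (α : (Fin r → D) →ₗ[D] N) (hα : BijAt P α) :
    _root_.FlatCA.UnivInj R
      ((LocalizedModule.map (Algebra.algebraMapSubmonoid D p.primeCompl) α).restrictScalars R) :=
  FlatStep.univInj_localized α _ fun Q _ _ z hz => ui_of_bijAt p hD P hP α hα Q z hz

variable [Module.FinitePresentation D N]

omit [Module.Finite D N] in
set_option maxHeartbeats 800000 in
/-- Universal injectivity holds on a basic open of the base when the target is finitely presented. -/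
theorem exists_ui_away {r : ℕ} (α : (Fin r → D) →ₗ[D] N) (hα : BijAt P α) :
    ∃ f : R, f ∉ p ∧
      _root_.FlatCA.UnivInj R ((LocalizedModule.map (Submonoid.powers (algebraMap R D f)) α).restrictScalars R) := by
  classical
  -- an element making the map bijective
  obtain ⟨h, hhP, hbij⟩ := Module.FinitePresentation.exists_notMem_bijective α P
    (LocalizedModule.mkLinearMap P.primeCompl (Fin r → D)) (LocalizedModule.mkLinearMap P.primeCompl N)
    (LinearEquiv.ofBijective (LocalizedModule.map P.primeCompl α)
      ⟨Induct.injective_map_of_killed P α hα.2, Induct.surjective_map_of_killed P α hα.1⟩).bijective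
  -- a basic open of the base on which the element is nonzero in every fibre
  haveI : Algebra.HasGoingDown R D := inferInstance
  have hopen := PrimeSpectrum.isOpenMap_comap_of_hasGoingDown_of_finitePresentation (R := R) (S := D) _
    (PrimeSpectrum.isOpen_basicOpen (a := h))
  have hpmem : (⟨p, inferInstance⟩ : PrimeSpectrum R) ∈
      PrimeSpectrum.comap (algebraMap R D) '' (PrimeSpectrum.basicOpen h : Set (PrimeSpectrum D)) :=
    ⟨⟨P, inferInstance⟩, hhP, PrimeSpectrum.ext (P.over_def p).symm⟩
  obtain ⟨_, ⟨f, rfl⟩, hpf, hfsub⟩ :=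
    PrimeSpectrum.isTopologicalBasis_basic_opens.exists_subset_of_mem_open hpmem hopen
  refine ⟨f, hpf, FlatStep.univInj_localized α _ fun Q _ _ z hz => ?_⟩
  let fD := algebraMap R D f
  let Df := Localization.Away fD
  haveI : Algebra.FinitePresentation D Df := IsLocalization.Away.finitePresentation fD
  haveI : Algebra.FinitePresentation R Df := Algebra.FinitePresentation.trans R D Df
  haveI : Module.Flat R Df := Module.Flat.trans R D Df
  -- the kernel is killed by the element
  obtain ⟨k, hk⟩ : ∃ k : ℕ, h ^ k • z = 0 := by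
    let W := Submonoid.powers h
    haveI hF := IsLocalizedModule.rTensor W (R := R) (A := D) (N := Q) (LocalizedModule.mkLinearMap W (Fin r → D))
    let gF := TensorProduct.AlgebraTensorModule.rTensor R Q (LocalizedModule.mkLinearMap W (Fin r → D))
    let gN := TensorProduct.AlgebraTensorModule.rTensor R Q (LocalizedModule.mkLinearMap W N)
    let e : LocalizedModule W (Fin r → D) ≃ₗ[D] LocalizedModule W N :=
      (LinearEquiv.ofBijective (LocalizedModule.map W α) hbij).restrictScalars D
    have hcomm : ∀ w, TensorProduct.AlgebraTensorModule.congr e (LinearEquiv.refl R Q) (gF w) =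
        gN ((α.restrictScalars R).rTensor Q w) := by
      intro w
      induction w with
      | zero => simp
      | add a b ha hb => simp only [map_add, ha, hb]
      | tmul a b =>
        simp only [gF, gN, e, TensorProduct.AlgebraTensorModule.rTensor_tmul, LinearMap.rTensor_tmul,
          LinearMap.coe_restrictScalars, LocalizedModule.mkLinearMap_apply,
          TensorProduct.AlgebraTensorModule.congr_tmul, LinearEquiv.refl_apply, LinearEquiv.restrictScalars_apply,
          LinearEquiv.ofBijective_apply, LocalizedModule.map_mk]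
    have h1 : gF z = 0 := (TensorProduct.AlgebraTensorModule.congr e (LinearEquiv.refl R Q)).injective
      (by rw [hcomm, hz, map_zero, map_zero])
    obtain ⟨⟨_, k, rfl⟩, hk⟩ := (IsLocalizedModule.eq_zero_iff W gF).1 h1
    exact ⟨k, hk⟩
  -- multiplication by it is injective on the basic open
  have hreg : ∀ w : D ⊗[R] Q, h ^ k • w = 0 → ∃ s ∈ Submonoid.powers fD, s • w = 0 := by
    intro w hw
    let l : D →ₗ[D] Df := Algebra.linearMap D Df
    haveI := IsLocalizedModule.rTensor (Submonoid.powers fD) (R := R) (A := D) (N := Q) l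
    have h1 : algebraMap D Df (h ^ k) • TensorProduct.AlgebraTensorModule.rTensor R Q l w = 0 := by
      rw [algebraMap_smul, ← map_smul, hw, map_zero]
    have h2 := eq_zero_of_forall_fibre (hD.localization (Submonoid.powers fD) Df) (fun 𝔔 _ h0 => ?_) h1
    · obtain ⟨⟨s, hs⟩, hsw⟩ := (IsLocalizedModule.eq_zero_iff (Submonoid.powers fD) _).1 h2
      exact ⟨s, hs, hsw⟩
    · let 𝔮 := 𝔔.comap (algebraMap R Df)
      have hf𝔮 : f ∉ 𝔮 := fun hf => Ideal.IsPrime.ne_top (inferInstance : 𝔔.IsPrime)
        (Ideal.eq_top_of_isUnit_mem _ hf (by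
          rw [IsScalarTower.algebraMap_apply R D Df]
          exact IsLocalization.Away.algebraMap_isUnit fD))
      obtain ⟨Q₀, hQ₀, hQ₀q⟩ := hfsub (show (⟨𝔮, inferInstance⟩ : PrimeSpectrum R) ∈ _ from hf𝔮)
      have hfQ : fD ∉ Q₀.asIdeal := fun hf => hf𝔮 (by
        rw [show 𝔮 = Q₀.asIdeal.comap (algebraMap R D) from (congrArg PrimeSpectrum.asIdeal hQ₀q).symm]
        exact hf)
      let Q₁ := Q₀.asIdeal.map (algebraMap D Df)
      have hd := (Ideal.disjoint_powers_iff_notMem_of_isPrime (I := Q₀.asIdeal) fD).2 hfQ
      haveI : Q₁.IsPrime := IsLocalization.isPrime_of_isPrime_disjoint (Submonoid.powers fD) Df _ inferInstance hd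
      have hQ₁ : Q₁.comap (algebraMap D Df) = Q₀.asIdeal :=
        IsLocalization.under_map_of_isPrime_disjoint (Submonoid.powers fD) Df inferInstance hd
      haveI : Q₁.LiesOver 𝔮 := ⟨by
        show 𝔮 = Q₁.comap (algebraMap R Df)
        rw [IsScalarTower.algebraMap_eq R D Df, ← Ideal.comap_comap, hQ₁]
        exact (congrArg PrimeSpectrum.asIdeal hQ₀q).symm⟩
      have h3 := mem_of_tmul_eq_zero 𝔮 Q₁ h0
      exact hQ₀ (Ideal.IsPrime.mem_of_pow_mem inferInstance k (hQ₁ ▸ h3))
  -- coordinatewise
  have h3 : ∀ i, ∃ s ∈ Submonoid.powers fD, s • TensorProduct.AlgebraTensorModule.rTensor R Q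
      (LinearMap.proj (R := D) (φ := fun _ : Fin r => D) i) z = 0 := fun i =>
    hreg _ (by rw [← map_smul, hk, map_zero])
  choose s hs hsz using h3
  refine ⟨∏ i, s i, Submonoid.prod_mem _ fun i _ => hs i, ?_⟩
  have h4 : ∀ w : (Fin r → D) ⊗[R] Q, w = ∑ i, TensorProduct.AlgebraTensorModule.rTensor R Q
      (LinearMap.single D (fun _ : Fin r => D) i)
      (TensorProduct.AlgebraTensorModule.rTensor R Q (LinearMap.proj (R := D) (φ := fun _ : Fin r => D) i) w) := by
    intro w
    induction w with
    | zero => simp
    | add a b ha hb => simp only [map_add, Finset.sum_add_distrib, ← ha, ← hb]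
    | tmul a b =>
      simp only [TensorProduct.AlgebraTensorModule.rTensor_tmul, LinearMap.proj_apply, ← TensorProduct.sum_tmul,
        LinearMap.single_apply, Finset.univ_sum_single]
  rw [h4 z, Finset.smul_sum]
  refine Finset.sum_eq_zero fun i _ => ?_
  rw [← map_smul, ← Finset.prod_erase_mul _ _ (Finset.mem_univ i), mul_smul, hsz, smul_zero, map_zero]

end Flat

end Groth.Agent.Lib.RG.StepLemmas
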