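import Groth.Agent.Lib.FlatCA.WeakAss
import Groth.Agent.Lib.Dim.Integral
import Mathlib.RingTheory.KrullDimension.Module

/-!
# Dimensions of fibre supports along finite maps
-/

set_option autoImplicit false
set_option linter.style.haveILetI false

universe u

open scoped TensorProduct

attribute [local instance] Algebra.TensorProduct.rightAlgebra

namespace Groth.Agent.Lib.RG.SuppDim

variable {R A B : Type u} [CommRing R] [CommRing A] [CommRing B] [Algebra R A] [Algebra R B] [Algebra A B]
  [IsScalarTower R A B] (p : Ideal R) [p.IsPrime]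
  {G : Type u} [AddCommGroup G] [Module B G] [Module A G] [IsScalarTower A B G] [Module R G]
  [IsScalarTower R A G] [IsScalarTower R B G]

/-- The map of fibre rings. -/
noncomputable def fibreMap : p.Fiber A →ₐ[p.ResidueField] p.Fiber B :=
  Algebra.TensorProduct.map (AlgHom.id _ _) (IsScalarTower.toAlgHom R A B)

omit [AddCommGroup G] [Module B G] [Module A G] [IsScalarTower A B G] [Module R G] [IsScalarTower R A G]
  [IsScalarTower R B G] in
theorem fibreMap_incl (a : A) :
    fibreMap (B := B) p (FlatCA.Impurity.incl p a) = FlatCA.Impurity.incl p (algebraMap A B a) := by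
  show fibreMap (B := B) p ((1 : p.ResidueField) ⊗ₜ[R] a) = _
  rw [fibreMap, Algebra.TensorProduct.map_tmul]
  rfl

omit [AddCommGroup G] [Module B G] [Module A G] [IsScalarTower A B G] [Module R G] [IsScalarTower R A G]
  [IsScalarTower R B G] in
theorem fibreMap_algebraMap (s : R) :
    fibreMap (B := B) p (algebraMap R (p.Fiber A) s) = algebraMap R (p.Fiber B) s :=
  ((fibreMap (B := B) p).restrictScalars R).commutes s

omit [Algebra R B] [Algebra A B] [IsScalarTower R A B] [Module B G] [IsScalarTower A B G] [IsScalarTower R B G] in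
/-- Membership in the annihilator of a fibre module, tested after clearing denominators. -/
theorem mem_annihilator_iff (c : p.Fiber A) (s : R) (hs : s ∉ p) (b : A)
    (hb : algebraMap R (p.Fiber A) s * c = FlatCA.Impurity.incl p b) :
    c ∈ Module.annihilator (p.Fiber A) (_root_.FlatCA.fiberMod p A G) ↔
      ∀ ζ : G ⊗[R] p.ResidueField, b • ζ = 0 := by
  let e := FlatCA.FiberMod.fiberModEquiv p A G
  rw [Module.mem_annihilator]
  constructor
  · intro h ζ
    apply e.symm.injective
    rw [map_smul, map_zero, ← FlatCA.Impurity.incl_smul, ← hb, mul_smul, h, smul_zero]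
  · intro h x
    obtain ⟨u, hu⟩ := FlatCA.WeakAss.isUnit_algebraMap_fiber (S := A) p hs
    have h1 : (algebraMap R (p.Fiber A) s * c) • x = 0 := by
      rw [hb, FlatCA.Impurity.incl_smul]
      apply e.injective
      rw [map_smul, map_zero, h]
    rw [mul_smul, ← hu] at h1
    exact (u.isUnit.smul_eq_zero).1 h1

theorem comap_annihilator :
    (Module.annihilator (p.Fiber B) (_root_.FlatCA.fiberMod p B G)).comap (fibreMap (B := B) p).toRingHom =
      Module.annihilator (p.Fiber A) (_root_.FlatCA.fiberMod p A G) := by
  ext c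
  obtain ⟨s, hs, b, hb⟩ := FlatCA.WeakAss.exists_smul_eq_incl p c
  have hb' : algebraMap R (p.Fiber B) s * fibreMap (B := B) p c = FlatCA.Impurity.incl p (algebraMap A B b) := by
    rw [← fibreMap_algebraMap (A := A) p s, ← map_mul, hb, fibreMap_incl]
  rw [Ideal.mem_comap, mem_annihilator_iff p c s hs b hb]
  refine (mem_annihilator_iff (G := G) p (fibreMap (B := B) p c) s hs (algebraMap A B b) hb').trans ?_
  exact forall_congr' fun ζ => by rw [algebraMap_smul]

omit [AddCommGroup G] [Module B G] [Module A G] [IsScalarTower A B G] [Module R G] [IsScalarTower R A G]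
  [IsScalarTower R B G] in
theorem finite_fibreMap [Module.Finite A B] : (fibreMap (A := A) (B := B) p).toRingHom.Finite := by
  classical
  letI : Algebra (p.Fiber A) (p.Fiber B) := (fibreMap (A := A) (B := B) p).toRingHom.toAlgebra
  show Module.Finite (p.Fiber A) (p.Fiber B)
  obtain ⟨T, hT⟩ := Module.Finite.fg_top (R := A) (M := B)
  refine ⟨⟨T.image fun t => FlatCA.Impurity.incl p t, ?_⟩⟩
  rw [eq_top_iff]
  rintro z -
  induction z using TensorProduct.induction_on with
  | zero => exact zero_mem _
  | add a b ha hb => exact add_mem ha hb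
  | tmul c x =>
    have hx : x ∈ Submodule.span A (T : Set B) := hT ▸ trivial
    induction hx using Submodule.span_induction generalizing c with
    | zero => rw [TensorProduct.tmul_zero]; exact zero_mem _
    | add a b _ _ ha hb => rw [TensorProduct.tmul_add]; exact add_mem (ha c) (hb c)
    | mem t ht =>
      have h1 : (c ⊗ₜ[R] t : p.Fiber B) = (c ⊗ₜ[R] (1 : A) : p.Fiber A) • FlatCA.Impurity.incl p t := by
        rw [Algebra.smul_def]
        show _ = fibreMap (B := B) p (c ⊗ₜ[R] (1 : A)) * ((1 : p.ResidueField) ⊗ₜ[R] t)
        rw [fibreMap, Algebra.TensorProduct.map_tmul, map_one, AlgHom.id_apply,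
          Algebra.TensorProduct.tmul_mul_tmul, mul_one, one_mul]
      rw [h1]
      exact Submodule.smul_mem _ _ (Submodule.subset_span (Finset.mem_coe.2 (Finset.mem_image_of_mem _ ht)))
    | smul a b _ ih =>
      have h1 : (c ⊗ₜ[R] (a • b) : p.Fiber B) = FlatCA.Impurity.incl p a • (c ⊗ₜ[R] b : p.Fiber B) := by
        rw [Algebra.smul_def (FlatCA.Impurity.incl p a)]
        show _ = fibreMap (B := B) p (FlatCA.Impurity.incl p a) * _
        rw [fibreMap_incl]
        show _ = ((1 : p.ResidueField) ⊗ₜ[R] algebraMap A B a) * (c ⊗ₜ[R] b)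
        rw [Algebra.TensorProduct.tmul_mul_tmul, one_mul, Algebra.smul_def]
      rw [h1]
      exact Submodule.smul_mem _ _ (ih c)

/-- Restricting scalars along a finite map preserves the dimension of the fibre support. -/
theorem supportDim_fiber_eq [Module.Finite A B] [Module.Finite B G] :
    Module.supportDim (p.Fiber A) (_root_.FlatCA.fiberMod p A G) =
      Module.supportDim (p.Fiber B) (_root_.FlatCA.fiberMod p B G) := by
  haveI : Module.Finite A G := Module.Finite.trans B G
  haveI : Module.Finite (p.Fiber A) (_root_.FlatCA.fiberMod p A G) := Module.Finite.base_change A (p.Fiber A) G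
  haveI : Module.Finite (p.Fiber B) (_root_.FlatCA.fiberMod p B G) := Module.Finite.base_change B (p.Fiber B) G
  rw [Module.supportDim_eq_ringKrullDim_quotient_annihilator, Module.supportDim_eq_ringKrullDim_quotient_annihilator]
  letI : Algebra (p.Fiber A) (p.Fiber B) := (fibreMap (A := A) (B := B) p).toRingHom.toAlgebra
  haveI : Module.Finite (p.Fiber A) (p.Fiber B) := finite_fibreMap p
  haveI : Algebra.IsIntegral (p.Fiber A) (p.Fiber B) := Algebra.IsIntegral.of_finite _ _
  rw [Dim.Integral.ringKrullDim_quotient_eq_under (R := p.Fiber A) (A := p.Fiber B)]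
  exact (ringKrullDim_eq_of_ringEquiv (Ideal.quotEquivOfEq (comap_annihilator (A := A) (B := B) (G := G) p))).symm

end Groth.Agent.Lib.RG.SuppDim
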