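import Groth.Agent.Lib.RG.GoodPull
import Groth.Agent.Lib.RG.ElemData
import Groth.Agent.Lib.RG.SuppDim
import Groth.Agent.Lib.RG.Induct
import Groth.Agent.Lib.RG.StepLemmas

/-!
# The first step from an elementary dévissage
-/

set_option autoImplicit false
set_option linter.style.haveILetI false

universe u

open scoped TensorProduct

attribute [local instance] Algebra.TensorProduct.rightAlgebra

namespace Groth.Agent.Lib.RG.GoodDev

open Engine StepModel Below

theorem le_of_lt_succ (a : WithBot ℕ∞) (j : ℕ) (h : a < ((j + 1 : ℕ) : WithBot ℕ∞)) : a ≤ (j : WithBot ℕ∞) := by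
  induction a with
  | bot => exact bot_le
  | coe k =>
    induction k with
    | top => exact absurd (WithBot.coe_lt_coe.1 h) not_top_lt
    | coe k =>
      have h' : k < j + 1 := by exact_mod_cast h
      exact_mod_cast Nat.le_of_lt_succ h'

theorem supportDim_eq_topologicalKrullDim {F M : Type u} [CommRing F] [AddCommGroup M] [Module F M]
    [Module.Finite F M] : Module.supportDim F M = topologicalKrullDim (Module.support F M) := by
  rw [Module.supportDim_eq_ringKrullDim_quotient_annihilator, ← PrimeSpectrum.topologicalKrullDim_eq_ringKrullDim]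
  have hf := PrimeSpectrum.isClosedEmbedding_comap_of_surjective (F ⧸ Module.annihilator F M)
    (Ideal.Quotient.mk (Module.annihilator F M)) Ideal.Quotient.mk_surjective
  have hr : Set.range (PrimeSpectrum.comap (Ideal.Quotient.mk (Module.annihilator F M))) = Module.support F M := by
    rw [range_comap_of_surjective _ _ Ideal.Quotient.mk_surjective, Ideal.mk_ker, Module.support_eq_zeroLocus]
  exact IsHomeomorph.topologicalKrullDim_eq _
    (hf.isEmbedding.toHomeomorph.trans (Homeomorph.setCongr hr)).isHomeomorph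

section Coker

variable {R D : Type u} [CommRing R] [CommRing D] [Algebra R D] [Module.Flat R D]
  [Algebra.FinitePresentation R D] (p : Ideal R) [p.IsPrime]
  {G : Type u} [AddCommGroup G] [Module D G] [Module R G] [IsScalarTower R D G] [Module.Finite D G]

theorem dimLT_killed (hD : GIF R D) (y : Ideal D) [y.IsPrime] [y.LiesOver p] {m : ℕ}
    (hdim : ringKrullDim (p.Fiber D) ≤ m) (d : D) (hd : d ∉ p.map (algebraMap R D)) (hkill : ∀ g : G, d • g = 0)
    (Q : Ideal D) : DimLT p Q G m := by
  haveI := Induct.isDomain_fiber hD p y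
  refine dimLT_of_killed hdim d (fun h => hd ?_) hkill
  rw [map_eq_genPrime]
  exact h

theorem dimLT_coker' (hD : GIF R D) (y : Ideal D) [y.IsPrime] [y.LiesOver p] {m : ℕ}
    (hdim : ringKrullDim (p.Fiber D) ≤ m) [(p.map (algebraMap R D)).IsPrime] {r : ℕ} (α : (Fin r → D) →ₗ[D] G)
    (hα : Function.Surjective (α.baseChange (p.map (algebraMap R D)).ResidueField)) :
    DimLT p y (G ⧸ LinearMap.range α) m := by
  classical
  obtain ⟨T, hT⟩ := Module.Finite.fg_top (R := D) (M := G)
  choose dT hdT hmem using fun g => StepLemmas.killed_of_residue (p.map (algebraMap R D)) α hα g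
  refine dimLT_killed p hD y hdim (∏ g ∈ T, dT g) (fun h => ?_) (fun n => ?_) y
  · obtain ⟨g, -, hg⟩ := (Ideal.IsPrime.prod_mem_iff (p := p.map (algebraMap R D))).1 h
    exact hdT g hg
  · obtain ⟨g, rfl⟩ := Submodule.Quotient.mk_surjective _ n
    rw [← Submodule.Quotient.mk_smul, Submodule.Quotient.mk_eq_zero]
    have hg : g ∈ Submodule.span D (T : Set G) := hT ▸ trivial
    induction hg using Submodule.span_induction with
    | mem g hg =>
      rw [← Finset.prod_erase_mul _ _ (Finset.mem_coe.1 hg), mul_smul]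
      exact Submodule.smul_mem _ _ (hmem g)
    | zero => rw [smul_zero]; exact zero_mem _
    | add a b _ _ ha hb => rw [smul_add]; exact add_mem ha hb
    | smul c a _ ha => rw [smul_comm]; exact Submodule.smul_mem _ _ ha

end Coker

set_option maxHeartbeats 1600000 in
/-- The step of an elementary dévissage. -/
theorem exists_step {R S : Type u} [CommRing R] [CommRing S] [Algebra R S] (N : Type u) [AddCommGroup N] [Module S N]
    [Module R N] [IsScalarTower R S N] [Module.Finite S N] (p : Ideal R) [p.IsPrime] (q : Ideal S) [q.IsPrime]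
    [q.LiesOver p] {m : ℕ} (ξ : PrimeSpectrum (p.Fiber S)) (hξq : ξ.asIdeal = _root_.FlatCA.fiberIdeal p q)
    (hξ : ξ ∈ Module.support (p.Fiber S) (_root_.FlatCA.fiberMod p S N))
    (hm : FlatMor.localDim (Module.support (p.Fiber S) (_root_.FlatCA.fiberMod p S N)) ⟨ξ, hξ⟩ = m)
    (E : _root_.FlatCA.ElemDevissage R S N p q m) :
    ∃ s : Step E.R' E.S' E.N' E.p' E.q', DimLT E.p' s.qB s.coker m := by
  classical
  haveI := E.finiteDC
  haveI := E.finiteG
  haveI := E.fpC
  haveI := E.etaleR.1
  haveI := E.etaleS.1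
  haveI := E.etaleS.2.choose
  haveI : Module.Finite E.D E.G := Module.Finite.trans E.C E.G
  haveI := Reduce.smooth_of_smoothRelDim E.smooth
  haveI : Module.Flat E.R' E.D := inferInstance
  have hgif := Fibres.gif_of_geomIntegral E.geomInt
  have hdim := Reduce.fibreDim_le E.smooth E.p'
  obtain ⟨hP, -⟩ := map_isPrime E.p' hgif E.y
  haveI := hP
  let P := E.p'.map (algebraMap E.R' E.D)
  obtain ⟨r, α, hα⟩ := StepLemmas.exists_bijective_residue (D := E.D) P (N := E.G)
  have hgeo : _root_.FlatCA.GeomIrredFibres E.R' E.D := by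
    haveI : AlgebraicGeometry.GeometricallyIntegral
      (AlgebraicGeometry.Spec.map (CommRingCat.ofHom (algebraMap E.R' E.D))) := E.geomInt
    show AlgebraicGeometry.GeometricallyIrreducible _
    infer_instance
  have hgen : (⟨P, hP⟩ : PrimeSpectrum E.D) ∈ Module.support E.D E.G := by
    by_contra hn
    rw [Module.mem_support_iff_of_finite, SetLike.not_le_iff_exists] at hn
    obtain ⟨d, hd, hdP⟩ := hn
    rw [Module.mem_annihilator] at hd
    obtain ⟨mSG, mRG, t₁, t₂, t₃, t₄, t₅, f, hf⟩ := ElemData.exists_base E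
    obtain ⟨g, hg, hpt⟩ := FibreEtale.exists_map p E.p' E.etaleR N E.G f hf
    obtain ⟨ξ', hξ', -, hgξ⟩ := hpt q E.q' E.q'Over E.etaleS.2.choose ξ hξ hξq
    have hd' : FlatMor.localDim (Module.support (E.p'.Fiber E.S') (_root_.FlatCA.fiberMod E.p' E.S' E.G))
        ⟨ξ', hξ'⟩ = m := by rw [hg, hgξ, hm]
    haveI : Module.Finite E.S' E.C := Module.Finite.of_surjective (Algebra.linearMap E.S' E.C) E.surjC
    haveI : Module.Finite E.S' E.G := Module.Finite.trans E.C E.G
    have hle : (m : WithBot ℕ∞) ≤ Module.supportDim (E.p'.Fiber E.D) (_root_.FlatCA.fiberMod E.p' E.D E.G) := by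
      rw [SuppDim.supportDim_fiber_eq (B := E.C), ← SuppDim.supportDim_fiber_eq (A := E.S') (B := E.C)]
      haveI : Module.Finite (E.p'.Fiber E.S') (_root_.FlatCA.fiberMod E.p' E.S' E.G) :=
        Module.Finite.base_change E.S' (E.p'.Fiber E.S') E.G
      rw [supportDim_eq_topologicalKrullDim, ← hd']
      exact FibreDim.Basic.localDim_le_topologicalKrullDim _
    haveI : Module.Finite (E.p'.Fiber E.D) (_root_.FlatCA.fiberMod E.p' E.D E.G) :=
      Module.Finite.base_change E.D (E.p'.Fiber E.D) E.G
    rw [supportDim_eq_topologicalKrullDim] at hle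
    have hall : ∀ x : Module.support (E.p'.Fiber E.D) (_root_.FlatCA.fiberMod E.p' E.D E.G),
        FlatMor.localDim _ x < (m : WithBot ℕ∞) := fun x => by
      haveI : (x.1.asIdeal.comap (FlatCA.Impurity.incl E.p')).LiesOver E.p' :=
        ⟨(FibreEtale.comap_incl_over E.p' x.1).symm⟩
      haveI := Ideal.IsPrime.comap (FlatCA.Impurity.incl (B := E.D) E.p') (K := x.1.asIdeal)
      exact dimLT_killed E.p' hgif E.y hdim d hdP hd _ x.1 (FibreEtale.eq_fiberIdeal E.p' _ x.1 rfl) x.2
    cases m with
    | zero =>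
      haveI : IsEmpty (Module.support (E.p'.Fiber E.D) (_root_.FlatCA.fiberMod E.p' E.D E.G)) :=
        ⟨fun x => absurd (hall x) (not_lt.2 (by exact_mod_cast TopDim.Basic.localDim_nonneg _))⟩
      have hb : topologicalKrullDim ↥(Module.support (E.p'.Fiber E.D) (_root_.FlatCA.fiberMod E.p' E.D E.G)) ≤ ⊥ :=
        FibreDim.Basic.topologicalKrullDim_le_of_forall fun x => isEmptyElim x
      replace hle := hle.trans hb
      exact absurd hle (by simp)
    | succ j =>
      have := hle.trans (FibreDim.Basic.topologicalKrullDim_le_of_forall fun x => le_of_lt_succ _ j (hall x))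
      exact absurd this (not_le.2 (by exact_mod_cast Nat.lt_succ_self j))
  exact ⟨{
    A := E.C, B := E.D, M := E.G, r := r, d := m, qA := E.z, qB := E.y, α := α
    surjSA := E.surjC, fpSA := E.fpC, finiteBA := E.finiteDC, finiteM := E.finiteG
    smooth := inferInstance, geomIrred := hgeo, isoN := E.iso, fibreIso := hα
    pureTrans := E.pureTrans, uniq := E.uniq, q0 := (E.z.over_def E.q').symm
    relDim := E.smooth, gen := hgen }, dimLT_coker' E.p' hgif E.y hdim α hα.2⟩

end Groth.Agent.Lib.RG.GoodDev
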