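import Groth.Agent.Lib.RG.GoodShrink
import Groth.Agent.Lib.RG.GoodFirst
import Groth.Agent.Lib.RG.GeomRing
import Groth.Agent.Lib.RG.EtaleQuot
import Groth.Agent.Lib.RG.ElemExist

/-!
# Complete dévissages exist after étale localization
-/

set_option autoImplicit false
set_option linter.style.haveILetI false

universe u

open scoped TensorProduct
open CategoryTheory AlgebraicGeometry

attribute [local instance] Algebra.TensorProduct.rightAlgebra

namespace Groth.Agent.Lib.RG.GoodDev

open Engine StepModel Below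

/-- A base change between two base changes of a module. -/
theorem exists_isBaseChange {B D T C : Type u} [CommRing B] [CommRing D] [CommRing T] [Algebra B D] [Algebra B T]
    [Algebra D T] [IsScalarTower B D T] [AddCommGroup C] [Module B C] :
    ∃ φ : D ⊗[B] C →ₗ[D] T ⊗[B] C, IsBaseChange T φ := by
  refine ⟨(TensorProduct.isBaseChange B C D).lift (TensorProduct.mk B T C 1),
    IsBaseChange.of_comp (TensorProduct.isBaseChange B C D) ?_⟩
  rw [IsBaseChange.lift_comp]
  exact TensorProduct.isBaseChange B C T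

theorem exists_mem_support_fibre {R B C : Type u} [CommRing R] [CommRing B] [Algebra R B] [AddCommGroup C]
    [Module B C] [Module R C] [IsScalarTower R B C] [Module.Finite B C] (p : Ideal R) [p.IsPrime] (y : Ideal B)
    [y.IsPrime] [y.LiesOver p] (hy : (⟨y, inferInstance⟩ : PrimeSpectrum B) ∈ Module.support B C) :
    ∃ x ∈ Module.support (p.Fiber B) (_root_.FlatCA.fiberMod p B C), x.asIdeal = _root_.FlatCA.fiberIdeal p y := by
  obtain ⟨ξ, hξ⟩ := FibreEtale.exists_incl_eq p y (y.over_def p).symm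
  have h : PrimeSpectrum.comap (algebraMap B (p.Fiber B)) ξ ∈ Module.support B C := by
    rw [show PrimeSpectrum.comap (algebraMap B (p.Fiber B)) ξ = (⟨y, inferInstance⟩ : PrimeSpectrum B) from hξ]
    exact hy
  have h2 := (Set.ext_iff.1 (H22.SupportBC.support_baseChange (R' := p.Fiber B) C) ξ).2 h
  exact ⟨ξ, h2, FibreEtale.eq_fiberIdeal p y ξ (congrArg PrimeSpectrum.asIdeal hξ)⟩

theorem exists_killing_nhd {R B C : Type u} [CommRing R] [CommRing B] [Algebra R B] [AddCommGroup C]
    [Module B C] [Module.Finite B C] (p : Ideal R) [p.IsPrime] (y : Ideal B) [y.IsPrime] [y.LiesOver p]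
    (hy : (⟨y, inferInstance⟩ : PrimeSpectrum B) ∉ Module.support B C) :
    ∃ (D₁ : Type u) (_ : CommRing D₁) (_ : Algebra B D₁) (_ : Algebra R D₁) (_ : IsScalarTower R B D₁)
      (y₁ : Ideal D₁) (_ : y₁.IsPrime), _root_.FlatCA.IsEtaleNhd B D₁ y y₁ ∧ y₁.LiesOver p ∧
      Subsingleton (D₁ ⊗[B] C) := by
  rw [Module.mem_support_iff_of_finite, SetLike.not_le_iff_exists] at hy
  obtain ⟨g, hg, hgq⟩ := hy
  rw [Module.mem_annihilator] at hg
  let D₁ := Localization.Away g
  have hdisj : Disjoint (Submonoid.powers g : Set B) (y : Set B) :=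
    Ideal.disjoint_powers_iff_notMem _ (Ideal.IsPrime.isRadical inferInstance) |>.2 hgq
  let y₁ := y.map (algebraMap B D₁)
  haveI : y₁.IsPrime := IsLocalization.isPrime_of_isPrime_disjoint _ D₁ _ inferInstance hdisj
  have hy₁ : y₁.comap (algebraMap B D₁) = y := IsLocalization.under_map_of_isPrime_disjoint _ D₁ inferInstance hdisj
  haveI : y₁.LiesOver y := ⟨hy₁.symm⟩
  refine ⟨D₁, inferInstance, inferInstance, inferInstance, inferInstance, y₁, inferInstance,
    ⟨Algebra.Etale.of_isLocalizationAway g, inferInstance,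
      Localize.bijective_of_localization (Submonoid.powers g) y y₁⟩, ⟨?_⟩, subsingleton_of_forall_eq 0 fun z => ?_⟩
  · rw [Ideal.under_def, IsScalarTower.algebraMap_eq R B D₁, ← Ideal.comap_comap, hy₁]
    exact y.over_def p
  · have hu : IsUnit (algebraMap B D₁ g) := IsLocalization.Away.algebraMap_isUnit g
    refine hu.smul_eq_zero.1 ?_
    rw [algebraMap_smul]
    induction z using TensorProduct.induction_on with
    | zero => rw [smul_zero]
    | add a b ha hb => rw [smul_add, ha, hb, add_zero]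
    | tmul a b => rw [← TensorProduct.tmul_smul, hg, TensorProduct.tmul_zero]

theorem notMem_support_of_zeroAt {R B C : Type u} [CommRing R] [CommRing B] [Algebra R B] [Algebra.FiniteType R B]
    [AddCommGroup C] [Module B C] [Module R C] [IsScalarTower R B C] [Module.Finite B C] (p : Ideal R) [p.IsPrime]
    (y : Ideal B) [y.IsPrime] [y.LiesOver p] (h : FibrePoint.ZeroAt p y C) (x : PrimeSpectrum (p.Fiber B))
    (hx : x.asIdeal = _root_.FlatCA.fiberIdeal p y) :
    x ∉ Module.support (p.Fiber B) (_root_.FlatCA.fiberMod p B C) := by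
  intro hxs
  have h1 : PrimeSpectrum.comap (algebraMap B (p.Fiber B)) x ∈ Module.support B C :=
    (Set.ext_iff.1 (H22.SupportBC.support_baseChange (R' := p.Fiber B) C) x).1 hxs
  rw [show PrimeSpectrum.comap (algebraMap B (p.Fiber B)) x = (⟨y, inferInstance⟩ : PrimeSpectrum B) from
    PrimeSpectrum.ext ((congrArg (Ideal.comap (FlatCA.Impurity.incl p)) hx).trans
      (FlatCA.WeakAss.fiberIdeal_prime p y).2)] at h1
  exact Module.notMem_support_iff'.2 (fun n => FibrePoint.eq_zero_of_zeroAt h n) h1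

set_option maxHeartbeats 3200000 in
/-- The smooth algebra of a step can be localised so that the rest of the chain lives on it. -/
theorem exists_localStep {R S : Type u} [CommRing R] [CommRing S] [Algebra R S] {N : Type u} [AddCommGroup N]
    [Module S N] {p : Ideal R} [p.IsPrime] {q : Ideal S} [q.IsPrime] (s : Step R S N p q)
    {R₁ D₁ : Type u} [CommRing R₁] [CommRing D₁] [Algebra R R₁] [Algebra s.B D₁] [Algebra R₁ D₁] [Algebra R D₁]
    [IsScalarTower R R₁ D₁] [IsScalarTower R s.B D₁] (p₁ : Ideal R₁) [p₁.IsPrime] (y₁ : Ideal D₁) [y₁.IsPrime]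
    (hR₁ : _root_.FlatCA.IsEtaleNhd R R₁ p p₁) (hD₁ : _root_.FlatCA.IsEtaleNhd s.B D₁ s.qB y₁) [y₁.LiesOver p₁]
    (halt : Subsingleton (D₁ ⊗[s.B] s.coker) ∨ ∃ k, Good k R₁ D₁ (D₁ ⊗[s.B] s.coker) p₁ y₁) :
    ∃ (k : ℕ) (R' B' : Type u) (_ : CommRing R') (_ : CommRing B') (_ : Algebra R R') (_ : Algebra s.B B')
      (_ : Algebra R' B') (_ : Algebra R B') (_ : IsScalarTower R R' B') (_ : IsScalarTower R s.B B')
      (p' : Ideal R') (qB' : Ideal B') (_ : p'.IsPrime) (_ : qB'.IsPrime) (_ : qB'.LiesOver p'),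
      _root_.FlatCA.IsEtaleNhd R R' p p' ∧ _root_.FlatCA.IsEtaleNhd s.B B' s.qB qB' ∧
      _root_.FlatCA.GeomIrredFibres R' B' ∧
      (Subsingleton (B' ⊗[s.B] s.coker) ∨ Good k R' B' (B' ⊗[s.B] s.coker) p' qB') := by
  obtain ⟨hR₁et, hp₁p, hR₁b⟩ := hR₁
  obtain ⟨hD₁et, hy₁y, hD₁b⟩ := hD₁
  haveI := hR₁et
  haveI := hp₁p
  haveI := hD₁et
  haveI := hy₁y
  have hsm₁ : _root_.FlatCA.SmoothRelDim s.d R₁ D₁ := Localize.smoothRelDim_localize s.d s.relDim
  haveI : Algebra.Smooth R₁ D₁ := Localize.smooth_of_smoothRelDim s.d hsm₁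
  obtain ⟨ι, t, ht, hgen⟩ := Localize.pure_transfer p s.qB p₁ y₁ hR₁b hD₁b s.pureTrans
  obtain ⟨R'', D'', iR'', iD'', aR₁R'', aD₁D'', aR''D'', aR₁D'', tw1, tw2, p'', y'', hp'', hy'', hp''p₁, hy''y₁,
    hy''p'', hnhd₁, hD''et, hyb, hgi, -, ψ, hψa, hψr, hψo⟩ :=
    GeomRing.exists_nhd_open (R := R₁) (A := D₁) p₁ (⟨y₁, inferInstance⟩ : PrimeSpectrum D₁) t ⟨ht.1, hgen⟩
  haveI := hD''et
  haveI := hnhd₁.1
  haveI : y''.LiesOver y₁ := hy''y₁
  letI aRR'' : Algebra R R'' := ((algebraMap R₁ R'').comp (algebraMap R R₁)).toAlgebra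
  haveI tRR'' : IsScalarTower R R₁ R'' := IsScalarTower.of_algebraMap_eq' rfl
  have hnhd : _root_.FlatCA.IsEtaleNhd R R'' p p'' := NhdPoint.trans ⟨hR₁et, hp₁p, hR₁b⟩ hnhd₁
  haveI : Algebra.Etale R R'' := hnhd.1
  have hgirr : _root_.FlatCA.GeomIrredFibres R'' D'' := by
    show GeometricallyIrreducible (Spec.map (CommRingCat.ofHom (algebraMap R'' D'')))
    haveI : GeometricallyIntegral (Spec.map (CommRingCat.ofHom (algebraMap R'' D''))) := hgi
    infer_instance
  rcases halt with hz | ⟨k, hgood⟩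
  · -- the chain ends
    letI aBD'' : Algebra s.B D'' := ((algebraMap D₁ D'').comp (algebraMap s.B D₁)).toAlgebra
    haveI : IsScalarTower s.B D₁ D'' := IsScalarTower.of_algebraMap_eq' rfl
    letI aRD'' : Algebra R D'' := ((algebraMap s.B D'').comp (algebraMap R s.B)).toAlgebra
    haveI : IsScalarTower R s.B D'' := IsScalarTower.of_algebraMap_eq' rfl
    haveI : IsScalarTower R R'' D'' := IsScalarTower.of_algebraMap_eq (R := R) (S := R'') (A := D'') fun r => by
      show algebraMap D₁ D'' (algebraMap s.B D₁ (algebraMap R s.B r)) =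
        algebraMap R'' D'' (algebraMap R₁ R'' (algebraMap R R₁ r))
      rw [← IsScalarTower.algebraMap_apply R s.B D₁, IsScalarTower.algebraMap_apply R R₁ D₁,
        ← IsScalarTower.algebraMap_apply R₁ D₁ D'', ← IsScalarTower.algebraMap_apply R₁ R'' D'']
    refine ⟨0, R'', D'', iR'', iD'', aRR'', aBD'', aR''D'', aRD'', inferInstance, inferInstance, p'', y'', hp'', hy'',
      hy''p'', hnhd, NhdPoint.trans ⟨hD₁et, hy₁y, hD₁b⟩ ⟨hD''et, hy''y₁, hyb⟩, hgirr, Or.inl ?_⟩
    haveI := hz
    exact (TensorProduct.AlgebraTensorModule.cancelBaseChange s.B D₁ D'' D'' s.coker).symm.toEquiv.subsingleton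
  -- the base change of the chain to the neighbourhood
  let T := D₁ ⊗[R₁] R''
  haveI : IsScalarTower R₁ R'' T := IsScalarTower.of_algebraMap_eq (R := R₁) (S := R'') (A := T) fun r =>
    ((Algebra.TensorProduct.includeRight (R := R₁) (A := D₁) (B := R'')).commutes r).symm
  haveI : Algebra.IsPushout R₁ R'' D₁ T := TensorProduct.isPushout'
  haveI : IsScalarTower s.B D₁ T := inferInstance
  obtain ⟨φT, hφT⟩ := exists_isBaseChange (B := s.B) (D := D₁) (T := T) (C := s.coker)
  obtain ⟨qT, hqTp, hqTp'', ⟨hqTy, hqTb⟩, hgoodT⟩ :=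
    baseChange k hgood R'' p'' hnhd₁ T (T ⊗[s.B] s.coker) φT hφT
  haveI := hqTp
  haveI := hqTp''
  haveI := hqTy
  letI aTD'' : Algebra T D'' := ψ.toAlgebra
  haveI tD₁T : IsScalarTower D₁ T D'' := IsScalarTower.of_algebraMap_eq (R := D₁) (S := T) (A := D'') fun a =>
    (hψa a).symm
  haveI tR''T : IsScalarTower R'' T D'' := IsScalarTower.of_algebraMap_eq (R := R'') (S := T) (A := D'') fun r =>
    (hψr r).symm
  have hyT : y''.comap ψ = qT := by
    refine NhdPoint.point_unique p₁ p'' y₁ hnhd₁ _ qT ?_ ?_ hqTy.over.symm hqTp''.over.symm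
    · ext a
      show ψ (a ⊗ₜ[R₁] 1) ∈ y'' ↔ a ∈ y₁
      rw [hψa]
      exact ((SetLike.ext_iff.1 hy''y₁.over) a).symm
    · ext r
      show ψ ((1 : D₁) ⊗ₜ[R₁] r) ∈ y'' ↔ r ∈ p''
      rw [hψr]
      exact ((SetLike.ext_iff.1 hy''p''.over) r).symm
  have hopen : IsOpen (Set.range (PrimeSpectrum.comap ψ)) :=
    (Spec.map (CommRingCat.ofHom ψ)).isOpenEmbedding.isOpen_range
  obtain ⟨_, ⟨h, rfl⟩, hhq, hsub⟩ :=
    PrimeSpectrum.isTopologicalBasis_basic_opens.exists_subset_of_mem_open
      (show (⟨qT, inferInstance⟩ : PrimeSpectrum T) ∈ Set.range (PrimeSpectrum.comap ψ) from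
        ⟨⟨y'', hy''⟩, PrimeSpectrum.ext hyT⟩) hopen
  obtain ⟨f, g, hf, hg, hhg, hfg, hsh⟩ := shrink k hgoodT h hhq
  -- surjectivity onto the base
  haveI : Algebra.Smooth R'' T := by
    haveI := Algebra.Smooth.baseChange (R := R₁) (A := D₁) (B := R'')
    exact Algebra.Smooth.of_equiv
      (AlgEquiv.ofRingEquiv (f := (Algebra.TensorProduct.comm R₁ R'' D₁).toRingEquiv) fun r => by
        simp [Algebra.TensorProduct.algebraMap_apply]
        rfl)
  have hopenT := PrimeSpectrum.isOpenMap_comap_of_hasGoingDown_of_finitePresentation (R := R'') (S := T) _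
    (PrimeSpectrum.isOpen_basicOpen (a := g))
  have hpmem : (⟨p'', inferInstance⟩ : PrimeSpectrum R'') ∈
      PrimeSpectrum.comap (algebraMap R'' T) '' (PrimeSpectrum.basicOpen g : Set (PrimeSpectrum T)) :=
    ⟨⟨qT, inferInstance⟩, hg, PrimeSpectrum.ext hqTp''.over.symm⟩
  obtain ⟨_, ⟨t, rfl⟩, hpt, htsub⟩ :=
    PrimeSpectrum.isTopologicalBasis_basic_opens.exists_subset_of_mem_open hpmem hopenT
  let R' := Localization.Away (f * t)
  let gT := g * algebraMap R'' T t
  let B' := Localization.Away gT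
  have hft : IsUnit (algebraMap R'' B' (f * t)) := by
    rw [IsScalarTower.algebraMap_apply R'' T B', map_mul (algebraMap R'' T)]
    exact isUnit_of_dvd_unit (map_dvd _ (mul_dvd_mul_right hfg _)) (IsLocalization.Away.algebraMap_isUnit gT)
  letI aR'B' : Algebra R' B' := (IsLocalization.Away.lift (f * t) hft : R' →+* B').toAlgebra
  haveI : IsScalarTower R'' R' B' := IsScalarTower.of_algebraMap_eq (R := R'') (S := R') (A := B') fun r =>
    (IsLocalization.Away.lift_eq (f * t) hft r).symm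
  haveI : Algebra.Etale R'' R' := Algebra.Etale.of_isLocalizationAway (f * t)
  haveI : Algebra.Etale T B' := Algebra.Etale.of_isLocalizationAway gT
  have hftp : f * t ∉ p'' := fun hm => (Ideal.IsPrime.mem_or_mem inferInstance hm).elim hf hpt
  have hdisj : Disjoint (Submonoid.powers (f * t) : Set R'') (p'' : Set R'') :=
    Ideal.disjoint_powers_iff_notMem _ (Ideal.IsPrime.isRadical inferInstance) |>.2 hftp
  let p' := p''.map (algebraMap R'' R')
  haveI : p'.IsPrime := IsLocalization.isPrime_of_isPrime_disjoint _ R' _ inferInstance hdisj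
  haveI : p'.LiesOver p'' := ⟨(IsLocalization.under_map_of_isPrime_disjoint _ R' inferInstance hdisj).symm⟩
  obtain ⟨φ', hφ'⟩ := exists_isBaseChange (B := s.B) (D := T) (T := B') (C := s.coker)
  obtain ⟨qB', hqB'p, hqB'p', ⟨hqB'q, hqB'b⟩, hgood'⟩ :=
    hsh t hpt R' p' B' (B' ⊗[s.B] s.coker) φ' hφ'
  haveI := hqB'p
  haveI := hqB'q
  -- geometric irreducibility
  have hrange : ∀ P : PrimeSpectrum B', PrimeSpectrum.comap (algebraMap T B') P ∈
      Set.range (PrimeSpectrum.comap ψ) := fun P => hsub (show h ∉ P.asIdeal.comap (algebraMap T B') from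
    fun hm => P.2.ne_top (Ideal.eq_top_of_isUnit_mem _ hm (isUnit_of_dvd_unit
      (map_dvd _ (hhg.trans (Dvd.intro _ rfl))) (IsLocalization.Away.algebraMap_isUnit gT))))
  let jT := Spec.map (CommRingCat.ofHom (algebraMap T B'))
  let jψ := Spec.map (CommRingCat.ofHom ψ)
  haveI : IsOpenImmersion jT := IsOpenImmersion.of_isLocalization (S := B') gT
  obtain ⟨φc, hφc⟩ := Spec.map_surjective (IsOpenImmersion.lift jψ jT (by
    rintro _ ⟨P, rfl⟩
    exact hrange P))
  have hfac : Spec.map φc ≫ jψ = jT := by rw [hφc]; exact IsOpenImmersion.lift_fac _ _ _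
  haveI : IsOpenImmersion (Spec.map φc ≫ jψ) := by rw [hfac]; infer_instance
  haveI hopc : IsOpenImmersion (Spec.map φc) := IsOpenImmersion.of_comp _ jψ
  letI aD''B' : Algebra D'' B' := φc.hom.toAlgebra
  have hψφ : ∀ x : T, algebraMap D'' B' (algebraMap T D'' x) = algebraMap T B' x := fun x => by
    have h1 : CommRingCat.ofHom ψ ≫ φc = CommRingCat.ofHom (algebraMap T B') := by
      apply Spec.map_injective
      rw [Spec.map_comp]
      exact hfac
    exact congrFun (congrArg DFunLike.coe (congrArg CommRingCat.Hom.hom h1)) x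
  haveI : IsScalarTower T D'' B' := IsScalarTower.of_algebraMap_eq (R := T) (S := D'') (A := B') fun x => (hψφ x).symm
  haveI : IsScalarTower R'' D'' B' := IsScalarTower.of_algebraMap_eq (R := R'') (S := D'') (A := B') fun r => by
    rw [IsScalarTower.algebraMap_apply R'' T D'', hψφ, ← IsScalarTower.algebraMap_apply R'' T B']
  haveI : IsOpenImmersion (Spec.map (CommRingCat.ofHom (algebraMap D'' B'))) := hopc
  haveI : IsOpenImmersion (Spec.map (CommRingCat.ofHom (algebraMap R'' R'))) :=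
    IsOpenImmersion.of_isLocalization (S := R') (f * t)
  have hfsurj : Function.Surjective (PrimeSpectrum.comap (algebraMap R' B')) := by
    intro P'
    have hP : f * t ∉ (PrimeSpectrum.comap (algebraMap R'' R') P').asIdeal := fun hm =>
      P'.2.ne_top (Ideal.eq_top_of_isUnit_mem _ hm (IsLocalization.Away.algebraMap_isUnit (f * t)))
    obtain ⟨Q, hQg, hQP⟩ := htsub (show t ∉ (PrimeSpectrum.comap (algebraMap R'' R') P').asIdeal from
      fun hm => hP (Ideal.mul_mem_left _ _ hm))
    have hQgT : Q ∈ PrimeSpectrum.basicOpen gT := by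
      intro hm
      refine (Ideal.IsPrime.mem_or_mem inferInstance hm).elim hQg fun hm => hP (Ideal.mul_mem_left _ _ ?_)
      rw [← hQP]
      exact hm
    obtain ⟨Q', rfl⟩ : Q ∈ Set.range (PrimeSpectrum.comap (algebraMap T B')) := by
      rw [PrimeSpectrum.localization_away_comap_range B' gT]
      exact hQgT
    refine ⟨Q', PrimeSpectrum.localization_comap_injective R' (Submonoid.powers (f * t)) ?_⟩
    rw [← hQP]
    apply PrimeSpectrum.ext
    show (Q'.asIdeal.comap (algebraMap R' B')).comap (algebraMap R'' R') =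
      (Q'.asIdeal.comap (algebraMap T B')).comap (algebraMap R'' T)
    rw [Ideal.comap_comap, Ideal.comap_comap, ← IsScalarTower.algebraMap_eq, ← IsScalarTower.algebraMap_eq]
  have hgi' : _root_.FlatCA.GeomIrredFibres R' B' := geomIrred_open hgirr hfsurj
  haveI : IsScalarTower R R'' R' := inferInstance
  haveI : IsScalarTower R R'' T := IsScalarTower.of_algebraMap_eq (R := R) (S := R'') (A := T) fun r => by
    rw [show algebraMap R R'' r = algebraMap R₁ R'' (algebraMap R R₁ r) from rfl,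
      ← IsScalarTower.algebraMap_apply R₁ R'' T, IsScalarTower.algebraMap_apply R₁ D₁ T,
      ← IsScalarTower.algebraMap_apply R R₁ D₁, ← IsScalarTower.algebraMap_apply R D₁ T]
  haveI : IsScalarTower R R' B' := IsScalarTower.of_algebraMap_eq (R := R) (S := R') (A := B') fun r => by
    rw [IsScalarTower.algebraMap_apply R R'' R', ← IsScalarTower.algebraMap_apply R'' R' B',
      IsScalarTower.algebraMap_apply R'' T B', ← IsScalarTower.algebraMap_apply R R'' T,
      ← IsScalarTower.algebraMap_apply R T B']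
  haveI : IsScalarTower R s.B B' := IsScalarTower.of_algebraMap_eq (R := R) (S := s.B) (A := B') fun r => by
    rw [IsScalarTower.algebraMap_apply R R' B']
    rw [IsScalarTower.algebraMap_apply R R'' R', show algebraMap R R'' r = algebraMap R₁ R'' (algebraMap R R₁ r) from rfl]
    rw [← IsScalarTower.algebraMap_apply R'' R' B', IsScalarTower.algebraMap_apply R'' T B',
      ← IsScalarTower.algebraMap_apply R₁ R'' T, IsScalarTower.algebraMap_apply R₁ D₁ T,
      ← IsScalarTower.algebraMap_apply R R₁ D₁, IsScalarTower.algebraMap_apply R s.B D₁,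
      ← IsScalarTower.algebraMap_apply s.B D₁ T, ← IsScalarTower.algebraMap_apply s.B T B']
  exact ⟨k, R', B', inferInstance, inferInstance, inferInstance, inferInstance, aR'B', inferInstance, inferInstance, inferInstance,
    p', qB', inferInstance, hqB'p, hqB'p',
    NhdPoint.trans hnhd ⟨inferInstance, inferInstance,
      Localize.bijective_of_localization (Submonoid.powers (f * t)) p'' p'⟩,
    NhdPoint.trans ⟨hD₁et, hy₁y, hD₁b⟩
      (NhdPoint.trans ⟨inferInstance, hqTy, hqTb⟩ ⟨inferInstance, hqB'q, hqB'b⟩),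
    hgi', Or.inr hgood'⟩

set_option maxHeartbeats 3200000 in
/-- Complete dévissages after étale localization, by induction on the local dimension. -/
theorem exists_good : ∀ (n : ℕ) (R S : Type u) [CommRing R] [CommRing S] [Algebra R S] [Algebra.FiniteType R S]
    (N : Type u) [AddCommGroup N] [Module S N] [Module R N] [IsScalarTower R S N] [Module.Finite S N]
    (p : Ideal R) [p.IsPrime] (q : Ideal S) [q.IsPrime] [q.LiesOver p], DimLT p q N n →
    (∃ x ∈ Module.support (p.Fiber S) (_root_.FlatCA.fiberMod p S N), x.asIdeal = _root_.FlatCA.fiberIdeal p q) →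
    ∃ (R' S' : Type u) (_ : CommRing R') (_ : CommRing S') (_ : Algebra R R') (_ : Algebra S S') (_ : Algebra R' S')
      (_ : Algebra R S') (_ : IsScalarTower R R' S') (_ : IsScalarTower R S S')
      (p' : Ideal R') (q' : Ideal S') (_ : p'.IsPrime) (_ : q'.IsPrime),
      _root_.FlatCA.IsEtaleNhd R R' p p' ∧ _root_.FlatCA.IsEtaleNhd S S' q q' ∧ q'.LiesOver p' ∧
      ∀ (N' : Type u) [AddCommGroup N'] [Module S' N'] [Module S N'] [IsScalarTower S S' N']
        (f : N →ₗ[S] N'), IsBaseChange S' f → ∃ k, Good k R' S' N' p' q' := by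
  intro n
  induction n with
  | zero =>
    intro R S _ _ _ _ N _ _ _ _ _ p _ q _ _ h hsupp
    obtain ⟨x, hx, hxq⟩ := hsupp
    exact absurd (h x hxq hx) (not_lt.2 (by exact_mod_cast TopDim.Basic.localDim_nonneg _))
  | succ n ih =>
    intro R S _ _ _ _ N _ _ _ _ _ p _ q _ _ h hsupp
    obtain ⟨x₀, hx₀, hx₀q⟩ := hsupp
    rcases zeroAt_or_exists_dim h with h0 | ⟨x, hx, m, hxq, hmn, hdimm⟩
    · exact absurd hx₀ (notMem_support_of_zeroAt p q h0 x₀ hx₀q)
    obtain ⟨E⟩ := ElemExist.exists_elemDevissage N p q m x hxq hx hdimm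
    obtain ⟨s, hs⟩ := exists_step N p q x hxq hx hdimm E
    haveI := s.finiteBA
    haveI := s.finiteM
    haveI := s.smooth
    haveI : Module.Finite s.B s.M := Module.Finite.trans s.A s.M
    obtain ⟨R₁, D₁, _, _, _, _, _, _, _, _, p₁, y₁, _, _, hR₁, hD₁, hy₁p, halt⟩ :
        ∃ (R₁ D₁ : Type u) (_ : CommRing R₁) (_ : CommRing D₁) (_ : Algebra E.R' R₁) (_ : Algebra s.B D₁)
          (_ : Algebra R₁ D₁) (_ : Algebra E.R' D₁) (_ : IsScalarTower E.R' R₁ D₁) (_ : IsScalarTower E.R' s.B D₁)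
          (p₁ : Ideal R₁) (y₁ : Ideal D₁) (_ : p₁.IsPrime) (_ : y₁.IsPrime),
          _root_.FlatCA.IsEtaleNhd E.R' R₁ E.p' p₁ ∧ _root_.FlatCA.IsEtaleNhd s.B D₁ s.qB y₁ ∧ y₁.LiesOver p₁ ∧
          (Subsingleton (D₁ ⊗[s.B] s.coker) ∨ ∃ k, Good k R₁ D₁ (D₁ ⊗[s.B] s.coker) p₁ y₁) := by
      by_cases hy : (⟨s.qB, inferInstance⟩ : PrimeSpectrum s.B) ∈ Module.support s.B s.coker
      · have hsupp' := exists_mem_support_fibre (C := s.coker) E.p' s.qB hy
        haveI : Algebra.FiniteType E.R' s.B := inferInstance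
        obtain ⟨R₁, D₁, i1, i2, i3, i4, i5, i6, i7, i8, p₁, y₁, j1, j2, h1, h2, h3, h4⟩ :=
          ih E.R' s.B s.coker E.p' s.qB (hs.mono hmn) hsupp'
        exact ⟨R₁, D₁, i1, i2, i3, i4, i5, i6, i7, i8, p₁, y₁, j1, j2, h1, h2, h3,
          Or.inr (h4 _ (TensorProduct.mk s.B D₁ s.coker 1) (TensorProduct.isBaseChange s.B s.coker D₁))⟩
      · obtain ⟨D₁, i1, i2, i3, i4, y₁, j1, h1, h2, h3⟩ := exists_killing_nhd (C := s.coker) E.p' s.qB hy
        exact ⟨E.R', D₁, inferInstance, i1, inferInstance, i2, i3, i3, inferInstance, i4, E.p', y₁, inferInstance, j1,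
          NhdPoint.refl E.p', h1, h2, Or.inl h3⟩
    obtain ⟨k, R', B', _, _, _, _, _, _, _, _, p', qB', _, _, _, hR', hB', hgi, halt'⟩ :=
      exists_localStep s p₁ y₁ hR₁ hD₁ halt
    obtain ⟨hR'et, hp'p, hR'b⟩ := hR'
    haveI := hR'et
    haveI := hp'p
    haveI := hB'.1
    let A' := s.A ⊗[s.B] B'
    haveI : IsScalarTower s.B B' A' := IsScalarTower.of_algebraMap_eq (R := s.B) (S := B') (A := A') fun d =>
      ((Algebra.TensorProduct.includeRight (R := s.B) (A := s.A) (B := B')).commutes d).symm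
    letI aR'A' : Algebra R' A' := ((algebraMap B' A').comp (algebraMap R' B')).toAlgebra
    haveI : IsScalarTower E.R' R' A' := IsScalarTower.of_algebraMap_eq (R := E.R') (S := R') (A := A') fun r => by
      show _ = algebraMap B' A' (algebraMap R' B' (algebraMap E.R' R' r))
      rw [← IsScalarTower.algebraMap_apply E.R' R' B', IsScalarTower.algebraMap_apply E.R' s.B B',
        ← IsScalarTower.algebraMap_apply s.B B' A', IsScalarTower.algebraMap_apply s.B s.A A',
        ← IsScalarTower.algebraMap_apply E.R' s.B s.A, ← IsScalarTower.algebraMap_apply E.R' s.A A']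
    haveI : IsScalarTower E.R' E.S' A' := IsScalarTower.of_algebraMap_eq (R := E.R') (S := E.S') (A := A') fun r => by
      rw [IsScalarTower.algebraMap_apply E.S' s.A A', ← IsScalarTower.algebraMap_apply E.R' E.S' s.A,
        ← IsScalarTower.algebraMap_apply E.R' s.A A']
    haveI : Algebra.Etale s.A A' := inferInstance
    obtain ⟨S₄, _, _, _, _, _, _, _, _, tR'S₄A', hS₄et, hsurj₄, hpo₄⟩ :=
      EtaleQuot.exists_lift E.R' E.S' s.A R' A' s.surjSA
    haveI := hS₄et
    obtain ⟨hetS, hq'q, hS'b⟩ := E.etaleS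
    haveI := hetS
    haveI := hq'q
    obtain ⟨hetR, hE'p, hEb⟩ := E.etaleR
    haveI := hetR
    haveI := hE'p
    obtain ⟨q₄, hq₄, hq₄p, ⟨hq₄q, hq₄b⟩, hgood₄⟩ :=
      pull s p' ⟨hR'et, hp'p, hR'b⟩ qB' hB' hgi (S' := S₄)
        (fun r => (IsScalarTower.algebraMap_apply R' S₄ A' r).symm.trans rfl) hsurj₄ hpo₄
        (N' := S₄ ⊗[E.S'] E.N') (TensorProduct.mk E.S' S₄ E.N' 1) (TensorProduct.isBaseChange E.S' E.N' S₄) halt'
    letI : Algebra R R' := ((algebraMap E.R' R').comp (algebraMap R E.R')).toAlgebra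
    haveI : IsScalarTower R E.R' R' := IsScalarTower.of_algebraMap_eq' rfl
    letI : Algebra S S₄ := ((algebraMap E.S' S₄).comp (algebraMap S E.S')).toAlgebra
    haveI : IsScalarTower S E.S' S₄ := IsScalarTower.of_algebraMap_eq' rfl
    letI : Algebra R S₄ := ((algebraMap R' S₄).comp (algebraMap R R')).toAlgebra
    haveI : IsScalarTower R R' S₄ := IsScalarTower.of_algebraMap_eq' rfl
    haveI : IsScalarTower R S S₄ := IsScalarTower.of_algebraMap_eq (R := R) (S := S) (A := S₄) fun r => by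
      show algebraMap R' S₄ (algebraMap E.R' R' (algebraMap R E.R' r)) =
        algebraMap E.S' S₄ (algebraMap S E.S' (algebraMap R S r))
      rw [← IsScalarTower.algebraMap_apply E.R' R' S₄, IsScalarTower.algebraMap_apply E.R' E.S' S₄,
        ← IsScalarTower.algebraMap_apply R S E.S', ← IsScalarTower.algebraMap_apply R E.R' E.S']
    refine ⟨R', S₄, inferInstance, inferInstance, inferInstance, inferInstance, inferInstance, inferInstance,
      inferInstance, inferInstance, p', q₄, inferInstance, hq₄,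
      NhdPoint.trans ⟨hetR, hE'p, hEb⟩ ⟨hR'et, hp'p, hR'b⟩,
      NhdPoint.trans ⟨hetS, hq'q, hS'b⟩ ⟨hS₄et, hq₄q, hq₄b⟩, hq₄p, fun N' _ _ _ _ f hf => ?_⟩
    have h2 : IsBaseChange S₄ (((TensorProduct.mk E.S' S₄ E.N' 1).restrictScalars S).comp E.f) :=
      IsBaseChange.comp E.isBaseChange (TensorProduct.isBaseChange E.S' E.N' S₄)
    exact ⟨k + 1, hgood₄.congr (h2.equiv.symm.trans hf.equiv)⟩

/-- Complete dévissages exist after étale localization. -/
theorem exists_devissage {R S : Type u} [CommRing R] [CommRing S] [Algebra R S] [Algebra.FiniteType R S]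
    (N : Type u) [AddCommGroup N] [Module S N] [Module R N] [IsScalarTower R S N] [Module.Finite S N]
    (p : Ideal R) [p.IsPrime] (q : Ideal S) [q.IsPrime] [q.LiesOver p]
    (hsupp : ∃ x ∈ Module.support (p.Fiber S) (_root_.FlatCA.fiberMod p S N),
      x.asIdeal = _root_.FlatCA.fiberIdeal p q) :
    ∃ (R' S' : Type u) (_ : CommRing R') (_ : CommRing S') (_ : Algebra R R') (_ : Algebra S S') (_ : Algebra R' S')
      (_ : Algebra R S') (_ : IsScalarTower R R' S') (_ : IsScalarTower R S S')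
      (p' : Ideal R') (q' : Ideal S') (_ : p'.IsPrime) (_ : q'.IsPrime),
      _root_.FlatCA.IsEtaleNhd R R' p p' ∧ _root_.FlatCA.IsEtaleNhd S S' q q' ∧ q'.LiesOver p' ∧
      ∀ (N' : Type u) [AddCommGroup N'] [Module S' N'] [Module S N'] [IsScalarTower S S' N']
        (f : N →ₗ[S] N'), IsBaseChange S' f → ∃ k, Good k R' S' N' p' q' := by
  obtain ⟨n, hn⟩ := Induct.exists_dimLT (N := N) p q
  exact exists_good n R S N p q hn hsupp

end Groth.Agent.Lib.RG.GoodDev
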