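import Groth.Agent.Lib.RG.GoodPull
import Groth.Agent.Lib.RG.DevTools

/-!
# Base change and shrinking of iterated steps
-/

set_option autoImplicit false
set_option linter.style.haveILetI false

universe u

open scoped TensorProduct
open CategoryTheory CategoryTheory.Limits AlgebraicGeometry

attribute [local instance] Algebra.TensorProduct.rightAlgebra

namespace Groth.Agent.Lib.RG.GoodDev

/-- An open of a geometrically irreducible algebra which surjects onto an open of the base. -/
theorem geomIrred_open {R R' B B' : Type u} [CommRing R] [CommRing R'] [CommRing B] [CommRing B'] [Algebra R R']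
    [Algebra R B] [Algebra B B'] [Algebra R' B'] [Algebra R B'] [IsScalarTower R R' B'] [IsScalarTower R B B']
    [IsOpenImmersion (Spec.map (CommRingCat.ofHom (algebraMap R R')))]
    [IsOpenImmersion (Spec.map (CommRingCat.ofHom (algebraMap B B')))]
    (h : _root_.FlatCA.GeomIrredFibres R B)
    (hs : Function.Surjective (PrimeSpectrum.comap (algebraMap R' B'))) : _root_.FlatCA.GeomIrredFibres R' B' := by
  let a := Spec.map (CommRingCat.ofHom (algebraMap R R'))
  let m := Spec.map (CommRingCat.ofHom (algebraMap R B))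
  let b := Spec.map (CommRingCat.ofHom (algebraMap B B'))
  let c := Spec.map (CommRingCat.ofHom (algebraMap R' B'))
  haveI : GeometricallyIrreducible m := h
  have hw : b ≫ m = c ≫ a := by
    simp only [a, b, c, m, ← Spec.map_comp, ← CommRingCat.ofHom_comp, ← IsScalarTower.algebraMap_eq]
  let j := pullback.lift b c hw
  haveI : IsOpenImmersion (j ≫ pullback.fst m a) := by
    rw [pullback.lift_fst]
    infer_instance
  haveI : IsOpenImmersion j := IsOpenImmersion.of_comp j (pullback.fst m a)
  haveI : Surjective (j ≫ pullback.snd m a) := by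
    rw [pullback.lift_snd]
    exact ⟨hs⟩
  show GeometricallyIrreducible c
  rw [show c = j ≫ pullback.snd m a from (pullback.lift_snd b c hw).symm]
  infer_instance

set_option maxHeartbeats 1600000 in
/-- Base change along an étale neighbourhood of the base. -/
theorem baseChange : ∀ (k : ℕ) {R S : Type u} [CommRing R] [CommRing S] [Algebra R S] {N : Type u} [AddCommGroup N]
    [Module S N] {p : Ideal R} [p.IsPrime] {q : Ideal S} [q.IsPrime], Good k R S N p q →
    ∀ (R' : Type u) [CommRing R'] [Algebra R R'] (p' : Ideal R') [p'.IsPrime],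
      _root_.FlatCA.IsEtaleNhd R R' p p' →
    ∀ (S' : Type u) [CommRing S'] [Algebra S S'] [Algebra R' S'] [Algebra R S'] [IsScalarTower R R' S']
      [IsScalarTower R S S'] [Algebra.IsPushout R R' S S']
      (N' : Type u) [AddCommGroup N'] [Module S' N'] [Module S N'] [IsScalarTower S S' N'] (f : N →ₗ[S] N'),
      IsBaseChange S' f →
      ∃ (q' : Ideal S') (_ : q'.IsPrime), q'.LiesOver p' ∧
        (∃ h : q'.LiesOver q, Function.Bijective (Ideal.ResidueField.mapₐ q q' (Algebra.ofId S S') h.over)) ∧
        Good k R' S' N' p' q' := by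
  intro k
  induction k with
  | zero => intro R S _ _ _ N _ _ p _ q _ h; exact h.elim
  | succ k ih =>
    intro R S _ _ _ N _ _ p _ q _ h R' _ _ p' _ hp S' _ _ _ _ _ _ _ N' _ _ _ _ f hf
    obtain ⟨s, hs⟩ := h
    haveI := hp.1
    let B' := s.B ⊗[R] R'
    haveI : IsScalarTower R R' B' := IsScalarTower.of_algebraMap_eq (R := R) (S := R') (A := B') fun r =>
      ((Algebra.TensorProduct.includeRight (R := R) (A := s.B) (B := R')).commutes r).symm
    haveI hpoB : Algebra.IsPushout R R' s.B B' := TensorProduct.isPushout'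
    obtain ⟨qB', hqB', hB1, hB2⟩ := NhdPoint.exists_point (S := s.B) p p' s.qB hp
    haveI := hqB'
    have hq := NhdPoint.isEtaleNhd p p' s.qB hp qB' hB1 hB2
    haveI : qB'.LiesOver p' := ⟨hB2.symm⟩
    have hgi : _root_.FlatCA.GeomIrredFibres R' B' := by
      haveI := s.geomIrred
      exact MorphismProperty.of_isPullback (P := @GeometricallyIrreducible)
        (H21.Devissage.BaseChange.spec_isPullback R R' s.B B') s.geomIrred
    let A' := s.A ⊗[s.B] B'
    letI aR'A' : Algebra R' A' := ((algebraMap B' A').comp (algebraMap R' B')).toAlgebra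
    haveI : IsScalarTower R' B' A' := IsScalarTower.of_algebraMap_eq' rfl
    haveI tB : IsScalarTower s.B B' A' := IsScalarTower.of_algebraMap_eq (R := s.B) (S := B') (A := A') fun d =>
      ((Algebra.TensorProduct.includeRight (R := s.B) (A := s.A) (B := B')).commutes d).symm
    haveI : IsScalarTower R R' A' := IsScalarTower.of_algebraMap_eq (R := R) (S := R') (A := A') fun r => by
      show _ = algebraMap B' A' (algebraMap R' B' (algebraMap R R' r))
      rw [← IsScalarTower.algebraMap_apply R R' B', IsScalarTower.algebraMap_apply R s.B B',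
        ← IsScalarTower.algebraMap_apply s.B B' A', IsScalarTower.algebraMap_apply s.B s.A A',
        ← IsScalarTower.algebraMap_apply R s.B s.A, ← IsScalarTower.algebraMap_apply R s.A A']
    haveI : IsScalarTower R B' A' := IsScalarTower.of_algebraMap_eq (R := R) (S := B') (A := A') fun r => by
      rw [IsScalarTower.algebraMap_apply R R' B', ← IsScalarTower.algebraMap_apply R' B' A',
        ← IsScalarTower.algebraMap_apply R R' A']
    haveI hpoA : Algebra.IsPushout R R' s.A A' := by
      haveI : Algebra.IsPushout R s.B R' B' := hpoB.symm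
      haveI h1 : Algebra.IsPushout s.B s.A B' A' := Algebra.IsPushout.symm TensorProduct.isPushout'
      exact ((Algebra.IsPushout.comp_iff R s.B R' B' (T := s.A) (T' := A')).2 h1).symm
    let ψ : S →ₐ[R] A' := (IsScalarTower.toAlgHom R s.A A').comp (IsScalarTower.toAlgHom R S s.A)
    let ρ : R' →ₐ[R] A' := IsScalarTower.toAlgHom R R' A'
    haveI : Algebra.IsPushout R S R' S' := Algebra.IsPushout.symm inferInstance
    let φ : S' →ₐ[R] A' := Algebra.pushoutDesc S' ψ ρ fun _ _ => Commute.all _ _
    letI : Algebra S' A' := φ.toRingHom.toAlgebra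
    haveI : IsScalarTower S S' A' := IsScalarTower.of_algebraMap_eq (R := S) (S := S') (A := A') fun x => by
      show _ = φ (algebraMap S S' x)
      rw [Algebra.pushoutDesc_left]
      exact IsScalarTower.algebraMap_apply S s.A A' x
    have hR'S' : ∀ r : R', algebraMap S' A' (algebraMap R' S' r) = (1 : s.A) ⊗ₜ[s.B] algebraMap R' B' r := fun r => by
      show φ (algebraMap R' S' r) = _
      rw [Algebra.pushoutDesc_right]
      rfl
    haveI : IsScalarTower R' S' A' := IsScalarTower.of_algebraMap_eq (R := R') (S := S') (A := A') fun r =>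
      (hR'S' r).symm
    haveI : Algebra.IsPushout R R' S S' := Algebra.IsPushout.symm inferInstance
    have hpo : Algebra.IsPushout S S' s.A A' := H21.Devissage.BaseChange.isPushout R R' S S' s.A A'
    refine pull s p' hp qB' hq hgi hR'S' (H21.Devissage.BaseChange.surjective S S' s.A A' hpo s.surjSA) hpo f hf ?_
    refine hs.imp (fun hsur => subsingleton_of_surjective s hsur B') fun hg => ?_
    obtain ⟨q'', _, hq''p, ⟨hq''q, -⟩, hgood⟩ := ih hg R' p' hp B' (B' ⊗[s.B] s.coker)
      (TensorProduct.mk s.B B' s.coker 1) (TensorProduct.isBaseChange s.B s.coker B')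
    rwa [show qB' = q'' from NhdPoint.point_unique p p' s.qB hp qB' q'' hB1 hB2 hq''q.over.symm hq''p.over.symm]

set_option maxHeartbeats 3200000 in
/-- Shrinking inside a basic open around the point. -/
theorem shrink : ∀ (k : ℕ) {R S : Type u} [CommRing R] [CommRing S] [Algebra R S] {N : Type u} [AddCommGroup N]
    [Module S N] {p : Ideal R} [p.IsPrime] {q : Ideal S} [q.IsPrime], Good k R S N p q → ∀ h : S, h ∉ q →
    ∃ (f : R) (g : S), f ∉ p ∧ g ∉ q ∧ h ∣ g ∧ algebraMap R S f ∣ g ∧ ∀ t : R, t ∉ p →
    ∀ (R' : Type u) [CommRing R'] [Algebra R R'] [IsLocalization.Away (f * t) R'] (p' : Ideal R') [p'.IsPrime]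
      [p'.LiesOver p] (S' : Type u) [CommRing S'] [Algebra S S'] [IsLocalization.Away (g * algebraMap R S t) S']
      [Algebra R' S'] [Algebra R S'] [IsScalarTower R R' S'] [IsScalarTower R S S']
      (N' : Type u) [AddCommGroup N'] [Module S' N'] [Module S N'] [IsScalarTower S S' N'] (φ : N →ₗ[S] N'),
      IsBaseChange S' φ →
      ∃ (q' : Ideal S') (_ : q'.IsPrime), q'.LiesOver p' ∧
        (∃ h : q'.LiesOver q, Function.Bijective (Ideal.ResidueField.mapₐ q q' (Algebra.ofId S S') h.over)) ∧
        Good k R' S' N' p' q' := by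
  intro k
  induction k with
  | zero => intro R S _ _ _ N _ _ p _ q _ h; exact h.elim
  | succ k ih =>
    intro R S _ _ _ N _ _ p _ q _ hgood h hh
    obtain ⟨s, hs⟩ := hgood
    haveI := s.finiteBA
    haveI := s.smooth
    haveI : Algebra.IsIntegral s.B s.A := Algebra.IsIntegral.of_finite _ _
    let hA := algebraMap S s.A h
    obtain ⟨g₀, hg₀, hdvd₀⟩ := DevTools.exists_notMem_algebraMap_mem s.qB (Ideal.span {hA})
      fun z hz hzy hle => hh (by
        rw [← s.q0, ← s.uniq z ⟨hzy.symm⟩]
        exact hle (Ideal.mem_span_singleton_self hA))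
    rw [Ideal.mem_span_singleton] at hdvd₀
    -- the inner shrinking
    obtain ⟨f₁, g₁, hf₁, hg₁, hd₁, hd₁f, hin⟩ : ∃ (f₁ : R) (g₁ : s.B), f₁ ∉ p ∧ g₁ ∉ s.qB ∧ g₀ ∣ g₁ ∧
        algebraMap R s.B f₁ ∣ g₁ ∧ (Function.Surjective s.α ∨ ∀ t : R, t ∉ p →
        ∀ (R' : Type u) [CommRing R'] [Algebra R R'] [IsLocalization.Away (f₁ * t) R'] (p' : Ideal R') [p'.IsPrime]
          [p'.LiesOver p] (S' : Type u) [CommRing S'] [Algebra s.B S']
          [IsLocalization.Away (g₁ * algebraMap R s.B t) S']
          [Algebra R' S'] [Algebra R S'] [IsScalarTower R R' S'] [IsScalarTower R s.B S']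
          (N' : Type u) [AddCommGroup N'] [Module S' N'] [Module s.B N'] [IsScalarTower s.B S' N']
          (φ : s.coker →ₗ[s.B] N'), IsBaseChange S' φ →
          ∃ (q' : Ideal S') (_ : q'.IsPrime), q'.LiesOver p' ∧
            (∃ h : q'.LiesOver s.qB,
              Function.Bijective (Ideal.ResidueField.mapₐ s.qB q' (Algebra.ofId s.B S') h.over)) ∧
            Good k R' S' N' p' q') := by
      rcases hs with hs | hs
      · exact ⟨1, g₀, fun h1 => Ideal.IsPrime.ne_top inferInstance ((Ideal.eq_top_iff_one p).2 h1), hg₀, dvd_rfl,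
          by rw [map_one]; exact one_dvd _, Or.inl hs⟩
      · obtain ⟨f₁, g₁, h1, h2, h3, h4, h5⟩ := ih hs g₀ hg₀
        exact ⟨f₁, g₁, h1, h2, h3, h4, Or.inr h5⟩
    -- the image in the base
    have hopen := PrimeSpectrum.isOpenMap_comap_of_hasGoingDown_of_finitePresentation (R := R) (S := s.B) _
      (PrimeSpectrum.isOpen_basicOpen (a := g₁))
    have hpmem : (⟨p, inferInstance⟩ : PrimeSpectrum R) ∈
        PrimeSpectrum.comap (algebraMap R s.B) '' (PrimeSpectrum.basicOpen g₁ : Set (PrimeSpectrum s.B)) :=
      ⟨⟨s.qB, inferInstance⟩, hg₁, PrimeSpectrum.ext (s.qB.over_def p).symm⟩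
    obtain ⟨_, ⟨f₀, rfl⟩, hpf₀, hfsub⟩ :=
      PrimeSpectrum.isTopologicalBasis_basic_opens.exists_subset_of_mem_open hpmem hopen
    obtain ⟨ghat, hghat⟩ := s.surjSA (algebraMap s.B s.A (g₁ * algebraMap R s.B f₀))
    have hBR : ∀ r, r ∉ p → algebraMap R s.B r ∉ s.qB := fun r hr hm => hr ((s.qB.over_def p).ge hm)
    have hqA : ∀ b, b ∉ s.qB → algebraMap s.B s.A b ∉ s.qA := fun b hb hm => hb ((s.qA.over_def s.qB).ge hm)
    have hqS : ∀ x, algebraMap S s.A x ∉ s.qA → x ∉ q := fun x hx hm => hx (s.q0.ge hm)
    have hghatq : ghat ∉ q := hqS _ (by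
      rw [hghat]
      exact hqA _ fun hm => (Ideal.IsPrime.mem_or_mem inferInstance hm).elim hg₁ (hBR f₀ hpf₀))
    have hfq : algebraMap R S (f₁ * f₀) ∉ q := hqS _ (by
      rw [← IsScalarTower.algebraMap_apply R S s.A, IsScalarTower.algebraMap_apply R s.B s.A]
      exact hqA _ (hBR _ fun hm => (Ideal.IsPrime.mem_or_mem inferInstance hm).elim hf₁ hpf₀))
    refine ⟨f₁ * f₀, h * ghat * algebraMap R S (f₁ * f₀),
      fun hm => (Ideal.IsPrime.mem_or_mem inferInstance hm).elim hf₁ hpf₀,
      fun hm => (Ideal.IsPrime.mem_or_mem inferInstance hm).elim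
        (fun hm => (Ideal.IsPrime.mem_or_mem inferInstance hm).elim hh hghatq) hfq,
      Dvd.intro _ (mul_assoc _ _ _).symm, Dvd.intro_left _ rfl, ?_⟩
    intro t ht R' _ _ _ p' _ _ S' _ _ _ _ _ _ _ N' _ _ _ _ φ hφ
    let gB := g₁ * algebraMap R s.B (f₀ * t)
    let B' := Localization.Away gB
    have hft : IsUnit (algebraMap R B' (f₁ * f₀ * t)) := by
      rw [IsScalarTower.algebraMap_apply R s.B B']
      refine isUnit_of_dvd_unit (map_dvd _ ?_) (IsLocalization.Away.algebraMap_isUnit gB)
      show algebraMap R s.B (f₁ * f₀ * t) ∣ g₁ * algebraMap R s.B (f₀ * t)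
      rw [mul_assoc, map_mul]
      exact mul_dvd_mul_right hd₁f _
    letI aR'B' : Algebra R' B' := (IsLocalization.Away.lift (f₁ * f₀ * t) hft : R' →+* B').toAlgebra
    haveI : IsScalarTower R R' B' := IsScalarTower.of_algebraMap_eq (R := R) (S := R') (A := B') fun r =>
      (IsLocalization.Away.lift_eq (f₁ * f₀ * t) hft r).symm
    haveI : Algebra.Etale R R' := Algebra.Etale.of_isLocalizationAway (f₁ * f₀ * t)
    haveI : Algebra.Etale s.B B' := Algebra.Etale.of_isLocalizationAway gB
    have hgBq : gB ∉ s.qB := fun hm => (Ideal.IsPrime.mem_or_mem inferInstance hm).elim hg₁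
      (hBR _ fun hm => (Ideal.IsPrime.mem_or_mem inferInstance hm).elim hpf₀ ht)
    haveI : IsLocalization (Submonoid.powers gB) B' := inferInstance
    have hdisj : Disjoint (Submonoid.powers gB : Set s.B) (s.qB : Set s.B) :=
      Ideal.disjoint_powers_iff_notMem _ (Ideal.IsPrime.isRadical inferInstance) |>.2 hgBq
    let qB₀ := s.qB.map (algebraMap s.B B')
    haveI : qB₀.IsPrime := IsLocalization.isPrime_of_isPrime_disjoint _ B' _ inferInstance hdisj
    have hfsurj : Function.Surjective (PrimeSpectrum.comap (algebraMap R' B')) := by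
      intro P'
      have hP : f₁ * f₀ * t ∉ (PrimeSpectrum.comap (algebraMap R R') P').asIdeal := fun hm =>
        P'.2.ne_top (Ideal.eq_top_of_isUnit_mem _ hm (IsLocalization.Away.algebraMap_isUnit (f₁ * f₀ * t)))
      obtain ⟨Q, hQg, hQP⟩ := hfsub (show f₀ ∉ (PrimeSpectrum.comap (algebraMap R R') P').asIdeal from
        fun hm => hP (Ideal.mul_mem_right _ _ (Ideal.mul_mem_left _ _ hm)))
      have hQgB : Q ∈ PrimeSpectrum.basicOpen gB := by
        intro hm
        refine (Ideal.IsPrime.mem_or_mem inferInstance hm).elim hQg fun hm => hP ?_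
        have : f₀ * t ∈ (PrimeSpectrum.comap (algebraMap R R') P').asIdeal := by rw [← hQP]; exact hm
        rw [mul_assoc]
        exact Ideal.mul_mem_left _ _ this
      obtain ⟨Q', rfl⟩ : Q ∈ Set.range (PrimeSpectrum.comap (algebraMap s.B B')) := by
        rw [PrimeSpectrum.localization_away_comap_range B' gB]
        exact hQgB
      refine ⟨Q', PrimeSpectrum.localization_comap_injective R' (Submonoid.powers (f₁ * f₀ * t)) ?_⟩
      rw [← hQP]
      apply PrimeSpectrum.ext
      show (Q'.asIdeal.comap (algebraMap R' B')).comap (algebraMap R R') =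
        (Q'.asIdeal.comap (algebraMap s.B B')).comap (algebraMap R s.B)
      rw [Ideal.comap_comap, Ideal.comap_comap, ← IsScalarTower.algebraMap_eq, ← IsScalarTower.algebraMap_eq]
    have hgi : _root_.FlatCA.GeomIrredFibres R' B' := by
      haveI := IsOpenImmersion.of_isLocalization (S := R') (f₁ * f₀ * t)
      haveI := IsOpenImmersion.of_isLocalization (S := B') gB
      exact geomIrred_open s.geomIrred hfsurj
    -- the quotient
    let A' := s.A ⊗[s.B] B'
    haveI tB : IsScalarTower s.B B' A' := IsScalarTower.of_algebraMap_eq (R := s.B) (S := B') (A := A') fun d =>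
      ((Algebra.TensorProduct.includeRight (R := s.B) (A := s.A) (B := B')).commutes d).symm
    haveI hlocA : IsLocalization (Algebra.algebraMapSubmonoid s.A (Submonoid.powers gB)) A' := by
      refine (Algebra.isLocalization_iff_isPushout (R := s.B) (Submonoid.powers gB) B' (T := s.A) (B := A')).2 ?_
      exact Algebra.IsPushout.symm TensorProduct.isPushout'
    haveI hawA : IsLocalization.Away (algebraMap s.B s.A gB) A' := by
      show IsLocalization (Submonoid.powers (algebraMap s.B s.A gB)) A'
      rwa [Algebra.algebraMapSubmonoid, Submonoid.map_powers] at hlocA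
    let gS := h * ghat * algebraMap R S (f₁ * f₀) * algebraMap R S t
    let c : s.A := hA * algebraMap R s.A (f₁ * f₀)
    have hgSA : algebraMap S s.A gS = algebraMap s.B s.A gB * c := by
      simp only [gS, c, hA, gB, map_mul, hghat, IsScalarTower.algebraMap_apply R s.B s.A,
        ← IsScalarTower.algebraMap_apply R S s.A]
      ring
    have hBu : ∀ b : s.B, b ∣ gB → IsUnit (algebraMap s.A A' (algebraMap s.B s.A b)) := fun b hb =>
      isUnit_of_dvd_unit (map_dvd _ (map_dvd _ hb)) (IsLocalization.Away.algebraMap_isUnit (algebraMap s.B s.A gB))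
    have hcu : IsUnit (algebraMap s.A A' c) := by
      simp only [c, map_mul]
      refine IsUnit.mul ?_ (IsUnit.mul ?_ ?_)
      · exact isUnit_of_dvd_unit (map_dvd _ hdvd₀) (hBu g₀ (hd₁.trans (Dvd.intro _ rfl)))
      · rw [IsScalarTower.algebraMap_apply R s.B s.A]
        exact hBu _ (hd₁f.trans (Dvd.intro _ rfl))
      · rw [IsScalarTower.algebraMap_apply R s.B s.A]
        refine hBu _ (Dvd.dvd.mul_left ?_ _)
        rw [map_mul]
        exact Dvd.intro _ rfl
    haveI hawS : IsLocalization.Away (algebraMap S s.A gS) A' := by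
      rw [hgSA]
      haveI : IsLocalization.Away (algebraMap s.A A' c) A' :=
        IsLocalization.away_of_isUnit_of_bijective _ hcu Function.bijective_id
      exact IsLocalization.Away.mul' A' A' _ _
    have hgu : IsUnit (algebraMap S A' gS) := by
      rw [IsScalarTower.algebraMap_apply S s.A A']
      exact IsLocalization.Away.algebraMap_isUnit (algebraMap S s.A gS)
    letI : Algebra S' A' := (IsLocalization.Away.lift gS hgu : S' →+* A').toAlgebra
    haveI : IsScalarTower S S' A' := IsScalarTower.of_algebraMap_eq (R := S) (S := S') (A := A') fun x =>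
      (IsLocalization.Away.lift_eq gS hgu x).symm
    have hpo : Algebra.IsPushout S S' s.A A' := by
      haveI : IsLocalization (Algebra.algebraMapSubmonoid s.A (Submonoid.powers gS)) A' := by
        rw [Algebra.algebraMapSubmonoid, Submonoid.map_powers]
        exact hawS
      exact (Algebra.isPushout_of_isLocalization (Submonoid.powers gS) S' s.A A').symm
    have hR'S' : ∀ r : R', algebraMap S' A' (algebraMap R' S' r) = (1 : s.A) ⊗ₜ[s.B] algebraMap R' B' r := by
      have hring : (algebraMap S' A').comp (algebraMap R' S') = (algebraMap B' A').comp (algebraMap R' B') := by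
        refine IsLocalization.ringHom_ext (Submonoid.powers (f₁ * f₀ * t)) (RingHom.ext fun r => ?_)
        simp only [RingHom.comp_apply]
        rw [← IsScalarTower.algebraMap_apply R R' S', IsScalarTower.algebraMap_apply R S S',
          ← IsScalarTower.algebraMap_apply S S' A', ← IsScalarTower.algebraMap_apply R R' B',
          IsScalarTower.algebraMap_apply R s.B B', ← IsScalarTower.algebraMap_apply s.B B' A',
          IsScalarTower.algebraMap_apply S s.A A', ← IsScalarTower.algebraMap_apply R S s.A,
          IsScalarTower.algebraMap_apply R s.B s.A, ← IsScalarTower.algebraMap_apply s.B s.A A']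
      exact fun r => congrFun (congrArg DFunLike.coe hring) r
    have hsurj := H21.Devissage.BaseChange.surjective S S' s.A A' hpo s.surjSA
    have hp'nhd : _root_.FlatCA.IsEtaleNhd R R' p p' := by
      refine ⟨inferInstance, inferInstance, ?_⟩
      exact Localize.bijective_of_localization (Submonoid.powers (f₁ * f₀ * t)) p p'
    rcases hin with hsur | hin
    · have hqB₀ : qB₀.comap (algebraMap s.B B') = s.qB :=
        IsLocalization.under_map_of_isPrime_disjoint _ B' inferInstance hdisj
      haveI : qB₀.LiesOver s.qB := ⟨hqB₀.symm⟩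
      haveI : qB₀.LiesOver p' := ⟨by
        have h1 : (qB₀.comap (algebraMap R' B')).comap (algebraMap R R') = p'.comap (algebraMap R R') := by
          rw [Ideal.comap_comap, ← IsScalarTower.algebraMap_eq R R' B', IsScalarTower.algebraMap_eq R s.B B',
            ← Ideal.comap_comap, hqB₀]
          exact (s.qB.over_def p).symm.trans (p'.over_def p)
        exact congrArg PrimeSpectrum.asIdeal (PrimeSpectrum.localization_comap_injective R'
          (Submonoid.powers (f₁ * f₀ * t)) (a₁ := ⟨p', inferInstance⟩)
          (a₂ := ⟨qB₀.comap (algebraMap R' B'), Ideal.IsPrime.comap _⟩) (PrimeSpectrum.ext h1.symm))⟩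
      exact pull s p' hp'nhd qB₀ ⟨inferInstance, inferInstance,
        Localize.bijective_of_localization (Submonoid.powers gB) s.qB qB₀⟩ hgi hR'S' hsurj hpo φ hφ
        (Or.inl (subsingleton_of_surjective s hsur B'))
    · haveI : IsLocalization.Away (f₁ * (f₀ * t)) R' := by rw [← mul_assoc]; infer_instance
      obtain ⟨qB', _, hqB'p, ⟨hqB'q, hqB'b⟩, hgood⟩ :=
        hin (f₀ * t) (fun hm => (Ideal.IsPrime.mem_or_mem inferInstance hm).elim hpf₀ ht) R' p' B'
          (B' ⊗[s.B] s.coker) (TensorProduct.mk s.B B' s.coker 1) (TensorProduct.isBaseChange s.B s.coker B')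
      haveI := hqB'p
      exact pull s p' hp'nhd qB' ⟨inferInstance, hqB'q, hqB'b⟩ hgi hR'S' hsurj hpo φ hφ (Or.inr hgood)

end Groth.Agent.Lib.RG.GoodDev
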