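import Groth.Agent.Lib.RG.Induct
import Groth.Agent.Lib.RG.ElemData
import Groth.Agent.Lib.RG.FPOn
import Groth.Agent.Lib.RG.NhdPoint
import Mathlib.LinearAlgebra.TensorProduct.RightExactness
import Mathlib.RingTheory.Spectrum.Prime.Chevalley

/-!
# Flatness and finite presentation near a point after an étale neighbourhood of the base
-/

set_option autoImplicit false
set_option linter.style.haveILetI false

universe u

open scoped TensorProduct

attribute [local instance] Algebra.TensorProduct.rightAlgebra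

namespace Groth.Agent.Lib.RG.Near

open Engine StepModel FibrePoint Below FPOn NhdPoint

section Defs

variable {R S R' : Type u} [CommRing R] [CommRing S] [Algebra R S] [CommRing R'] [Algebra R R']

/-- The image in the spectrum of `S` of a basic open of the base change over the generizations of a point. -/
def shadow (p' : Ideal R') (h : S ⊗[R] R') : Set (Ideal S) :=
  {Q | ∃ P : Ideal (S ⊗[R] R'), P.IsPrime ∧ h ∉ P ∧ P.comap inR ≤ p' ∧ P.comap (algebraMap S (S ⊗[R] R')) = Q}

theorem isPrime_of_mem {p' : Ideal R'} {h : S ⊗[R] R'} {Q : Ideal S} (hQ : Q ∈ shadow p' h) : Q.IsPrime := by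
  obtain ⟨P, hP, -, -, rfl⟩ := hQ
  exact hP.comap _

variable (R)

/-- Flat and uniformly finitely presented on a set of primes. -/
def Good (U : Set (Ideal S)) (N : Type u) [AddCommGroup N] [Module S N] [Module R N] [IsScalarTower R S N] : Prop :=
  (∀ Q : Ideal S, ∀ _ : Q.IsPrime, Q ∈ U → Module.Flat R (LocalizedModule Q.primeCompl N)) ∧ FPOn U N

/-- After an étale neighbourhood of the base the module is good near the point. -/
def Near (R S : Type u) [CommRing R] [CommRing S] [Algebra R S] (N : Type u) [AddCommGroup N] [Module S N]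
    [Module R N] [IsScalarTower R S N] (p : Ideal R) [p.IsPrime] (q : Ideal S) : Prop :=
  ∃ (R' : Type u) (_ : CommRing R') (_ : Algebra R R') (p' : Ideal R') (_ : p'.IsPrime),
    _root_.FlatCA.IsEtaleNhd R R' p p' ∧
      ∃ h : S ⊗[R] R', (∀ P : Ideal (S ⊗[R] R'), P.IsPrime → P.comap (algebraMap S (S ⊗[R] R')) = q →
        P.comap inR = p' → h ∉ P) ∧ Good R (shadow p' h) N

end Defs

section Steps

variable {R : Type u} [CommRing R] {S : Type u} [CommRing S] [Algebra R S]

theorem good_of_coker [Algebra.FinitePresentation R S] [Module.Flat R S] (hD : GIF R S) (p : Ideal R) [p.IsPrime]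
    (y : Ideal S) [y.IsPrime] [y.LiesOver p] {G : Type u} [AddCommGroup G] [Module S G] [Module R G]
    [IsScalarTower R S G] [Module.Finite S G] {r : ℕ} {α : (Fin r → S) →ₗ[S] G}
    (hα : BijAt (genPrime p S) α) (U : Set (Ideal S)) (hUprime : ∀ Q ∈ U, Q.IsPrime)
    (hUp : ∀ Q ∈ U, Q.comap (algebraMap R S) ≤ p) (h : Good R U (G ⧸ LinearMap.range α)) : Good R U G := by
  haveI := (genPrime_isPrime p hD y).1
  haveI := (genPrime_isPrime p hD y).2
  have hinj : ∀ v, α v = 0 → ∀ Q ∈ U, ∃ w, w ∉ Q ∧ w • v = 0 := by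
    intro v hv Q hQ
    obtain ⟨_, ⟨s, hs, rfl⟩, hsv⟩ := ui_of_bijAt p hD (genPrime p S) (fun Q _ _ => genPrime_le p Q) α hα
      R (v ⊗ₜ[R] (1 : R)) (by rw [LinearMap.rTensor_tmul, LinearMap.coe_restrictScalars, hv, TensorProduct.zero_tmul])
    refine ⟨algebraMap R S s, fun h => hs (hUp Q hQ h), ?_⟩
    have h1 := congrArg (TensorProduct.rid R (Fin r → S)) hsv
    rwa [map_zero, TensorProduct.smul_tmul', TensorProduct.rid_tmul, one_smul] at h1
  refine ⟨fun Q _ hQ => ?_, h.2.extension hUprime α hinj⟩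
  haveI := h.1 Q inferInstance hQ
  haveI : Module.Flat R (Fin r → S) := Module.Flat.trans R S (Fin r → S)
  haveI : Module.Flat R (LocalizedModule Q.primeCompl (Fin r → S)) :=
    H19.FlatLocus.Model.flat_localized Q.primeCompl (LocalizedModule.mkLinearMap Q.primeCompl _)
  exact FlatStep.flat_target α Q.primeCompl (Induct.injective_map_of_killed Q α fun v hv => hinj v hv Q hQ)

variable {C : Type u} [CommRing C] [Algebra S C] [Algebra R C] [IsScalarTower R S C]
  {G : Type u} [AddCommGroup G] [Module C G] [Module S G] [IsScalarTower S C G] [Module R G]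
  [IsScalarTower R S G] [IsScalarTower R C G]

theorem good_finite [Module.Finite S C] (U : Set (Ideal S)) (UC : Set (Ideal C))
    (hUC : ∀ z ∈ UC, z.comap (algebraMap S C) ∈ U) (h : Good R U G) : Good R UC G := by
  refine ⟨fun z _ hz => ?_, h.2.of_finite UC hUC⟩
  refine (H19.FlatLocus.flat_iff_killed z.primeCompl (LocalizedModule.mkLinearMap z.primeCompl G)).2 fun J ξ hξ => ?_
  obtain ⟨w, hw, hwξ⟩ := (H19.FlatLocus.flat_iff_killed (z.comap (algebraMap S C)).primeCompl
    (LocalizedModule.mkLinearMap (z.comap (algebraMap S C)).primeCompl G)).1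
    (h.1 _ inferInstance (hUC z hz)) J ξ hξ
  exact ⟨algebraMap S C w, hw, by rw [algebraMap_smul]; exact hwξ⟩

theorem good_surjective (hsurj : Function.Surjective (algebraMap S C)) (hker : (RingHom.ker (algebraMap S C)).FG)
    (U : Set (Ideal S)) (UC : Set (Ideal C)) (hUprime : ∀ Q ∈ U, Q.IsPrime) (hUCprime : ∀ z ∈ UC, z.IsPrime)
    (hUC : ∀ Q ∈ U, RingHom.ker (algebraMap S C) ≤ Q → ∃ z ∈ UC, z.comap (algebraMap S C) = Q)
    (h : Good R UC G) : Good R U G := by
  refine ⟨fun Q _ hQ => ?_, h.2.of_surjective hsurj hker UC hUprime hUC⟩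
  refine (H19.FlatLocus.flat_iff_killed Q.primeCompl (LocalizedModule.mkLinearMap Q.primeCompl G)).2 fun J ξ hξ => ?_
  by_cases hle : RingHom.ker (algebraMap S C) ≤ Q
  · obtain ⟨z, hz, rfl⟩ := hUC Q hQ hle
    haveI := hUCprime z hz
    obtain ⟨c, hc, hcξ⟩ := (H19.FlatLocus.flat_iff_killed z.primeCompl
      (LocalizedModule.mkLinearMap z.primeCompl G)).1 (h.1 z inferInstance hz) J ξ hξ
    obtain ⟨w, rfl⟩ := hsurj c
    exact ⟨w, hc, by rw [algebraMap_smul] at hcξ; exact hcξ⟩
  · obtain ⟨c, hc, hcQ⟩ := SetLike.not_le_iff_exists.1 hle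
    exact ⟨c, hcQ, by rw [← algebraMap_smul C c ξ, RingHom.mem_ker.1 hc, zero_smul]⟩

end Steps

theorem good_descend {R S S' : Type u} [CommRing R] [CommRing S] [Algebra R S] [CommRing S'] [Algebra S S']
    [Algebra R S'] [IsScalarTower R S S'] [Module.Flat S S']
    {N : Type u} [AddCommGroup N] [Module S N] [Module R N] [IsScalarTower R S N]
    {G : Type u} [AddCommGroup G] [Module S' G] [Module S G] [IsScalarTower S S' G] [Module R G]
    [IsScalarTower R S' G] [IsScalarTower R S G] (f : N →ₗ[S] G) (hf : IsBaseChange S' f)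
    (U : Set (Ideal S)) (U' : Set (Ideal S'))
    (hU : ∀ Q ∈ U, ∃ Q' ∈ U', Q'.IsPrime ∧ Q'.comap (algebraMap S S') = Q) (h : Good R U' G) : Good R U N := by
  refine ⟨fun Q _ hQ => ?_, h.2.descend U' hU f hf⟩
  obtain ⟨Q', hQ', hQp, hc⟩ := hU Q hQ
  haveI := hQp
  exact flatAt_down f hf Q Q' hc (h.1 Q' inferInstance hQ')

theorem near_of_zeroAt {R S : Type u} [CommRing R] [CommRing S] [Algebra R S] [Algebra.FiniteType R S]
    (N : Type u) [AddCommGroup N] [Module S N] [Module R N] [IsScalarTower R S N] [Module.Finite S N]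
    (p : Ideal R) [p.IsPrime] (q : Ideal S) [q.IsPrime] [q.LiesOver p] (h : ZeroAt p q N) : Near R S N p q := by
  classical
  obtain ⟨k₀, π₀, hπ₀⟩ := Module.Finite.exists_fin' S N
  choose w hw hwn using fun i : Fin k₀ => eq_zero_of_zeroAt h (π₀ (Pi.single i 1))
  let f := ∏ i, w i
  have hfq : f ∉ q := fun hp => by
    obtain ⟨i, -, hi⟩ := (Ideal.IsPrime.prod_mem_iff (p := q)).1 hp
    exact hw i hi
  have hfN : ∀ n : N, f • n = 0 := fun n => by
    obtain ⟨x, rfl⟩ := hπ₀ n
    rw [← Finset.univ_sum_single x, map_sum, Finset.smul_sum]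
    refine Finset.sum_eq_zero fun i _ => ?_
    rw [show (Pi.single i (x i) : Fin k₀ → S) = x i • Pi.single i 1 by
      rw [← Pi.single_smul, smul_eq_mul, mul_one], map_smul, smul_comm,
      show f = (∏ j ∈ Finset.univ.erase i, w j) * w i from (Finset.prod_erase_mul _ _ (Finset.mem_univ i)).symm,
      mul_smul, hwn, smul_zero, smul_zero]
  refine ⟨R, inferInstance, inferInstance, p, inferInstance, NhdPoint.refl p, algebraMap S _ f,
    fun P _ hP _ hf => hfq (hP ▸ hf), ?_⟩
  have hU : ∀ Q ∈ shadow p (algebraMap S (S ⊗[R] R) f), f ∉ Q := by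
    rintro Q ⟨P, -, hfP, -, rfl⟩
    exact hfP
  refine ⟨fun Q _ hQ => ?_, fun k π _ => ?_⟩
  · refine (H19.FlatLocus.flat_iff_killed Q.primeCompl (LocalizedModule.mkLinearMap Q.primeCompl N)).2
      fun J ξ hξ => ⟨f, hU Q hQ, ?_⟩
    clear hξ
    induction ξ with
    | zero => exact smul_zero _
    | tmul a b => rw [TensorProduct.smul_tmul', hfN, TensorProduct.zero_tmul]
    | add a b ha hb => rw [smul_add, ha, hb, add_zero]
  · refine ⟨Finset.univ.image fun i => f • Pi.single i (1 : S), fun t ht => ?_, fun x _ Q hQ => ⟨f, hU Q hQ, ?_⟩⟩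
    · obtain ⟨i, -, rfl⟩ := Finset.mem_image.1 ht
      rw [map_smul, hfN]
    · rw [← Finset.univ_sum_single x, Finset.smul_sum]
      refine Submodule.sum_mem _ fun i _ => ?_
      rw [show (Pi.single i (x i) : Fin k → S) = x i • Pi.single i 1 by
        rw [← Pi.single_smul, smul_eq_mul, mul_one], smul_comm]
      exact Submodule.smul_mem _ _ (Submodule.subset_span (Finset.mem_coe.2
        (Finset.mem_image.2 ⟨i, Finset.mem_univ i, rfl⟩)))

set_option maxHeartbeats 1600000 in
theorem near_aux (n : ℕ) : ∀ (R S : Type u) [CommRing R] [CommRing S] [Algebra R S] [Algebra.FiniteType R S]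
    (N : Type u) [AddCommGroup N] [Module S N] [Module R N] [IsScalarTower R S N] [Module.Finite S N]
    (p : Ideal R) [p.IsPrime] (q : Ideal S) [q.IsPrime] [q.LiesOver p], DimLT p q N n →
    Module.Flat R (LocalizedModule q.primeCompl N) → Near R S N p q := by
  induction n with
  | zero =>
    intro R S _ _ _ _ N _ _ _ _ _ p _ q _ _ h _
    exact near_of_zeroAt N p q (zeroAt_of_dimLT_zero h)
  | succ n ih =>
    intro R S _ _ _ _ N _ _ _ _ _ p _ q _ _ h hflat
    rcases zeroAt_or_exists_dim h with h0 | ⟨x, hx, m, hxq, hmn, hdimm⟩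
    · exact near_of_zeroAt N p q h0
    obtain ⟨E⟩ := ElemExist.exists_elemDevissage N p q m x hxq hx hdimm
    have hetR := E.etaleR
    have hetS := E.etaleS
    haveI := hetR.1
    haveI := hetR.2.choose
    haveI := hetS.1
    haveI := hetS.2.choose
    haveI := E.finiteDC
    haveI := E.finiteG
    haveI := E.fpC
    haveI := Reduce.smooth_of_smoothRelDim E.smooth
    haveI : Module.Flat R E.R' := inferInstance
    haveI : Module.Flat S E.S' := inferInstance
    obtain ⟨mSG, mRG, t₁, t₂, t₃, t₄, t₅, f, hf⟩ := ElemData.exists_base E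
    haveI : Module.Finite E.D E.G := Module.Finite.trans E.C E.G
    haveI : Algebra.IsIntegral E.D E.C := Algebra.IsIntegral.of_finite _ _
    have hq : E.q'.comap (algebraMap S E.S') = q := (E.q'.over_def q).symm
    have hzy : E.z.comap (algebraMap E.D E.C) = E.y := (E.z.over_def E.y).symm
    have hzq : E.z.comap (algebraMap E.S' E.C) = E.q' := (E.z.over_def E.q').symm
    have hu : ∀ z₁ : Ideal E.C, z₁.IsPrime → z₁.comap (algebraMap E.D E.C) = E.y → z₁ = E.z := fun z₁ hz₁ h =>
      E.uniq z₁ ⟨h.symm⟩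
    -- flatness at the point of the smooth algebra
    have hy : Module.Flat E.R' (LocalizedModule E.y.primeCompl E.G) := by
      haveI : IsScalarTower R E.R' (LocalizedModule E.q'.primeCompl E.G) :=
        IsScalarTower.of_algebraMap_smul fun r x => by
          rw [← algebraMap_smul E.S' (algebraMap R E.R' r) x, ← IsScalarTower.algebraMap_apply, algebraMap_smul]
      haveI := flatAt_up f hf q E.q' hq hflat
      have h1 : Module.Flat E.R' (LocalizedModule E.q'.primeCompl E.G) :=
        Algebra.FormallyUnramified.flat_of_restrictScalars (R := R) (S := E.R') _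
      refine DevTools.flatAt_of_forall_over (R := E.R') (C := E.C) E.y fun z₁ hz₁ h => ?_
      obtain rfl := hu z₁ hz₁ h
      refine (H19.FlatLocus.flat_iff_killed E.z.primeCompl (LocalizedModule.mkLinearMap E.z.primeCompl E.G)).2
        fun J ξ hξ => ?_
      obtain ⟨w, hw, hwξ⟩ := (H19.FlatLocus.flat_iff_killed E.q'.primeCompl
        (LocalizedModule.mkLinearMap E.q'.primeCompl E.G)).1 h1 J ξ hξ
      exact ⟨algebraMap E.S' E.C w, fun h => hw (hzq.le h), by rw [algebraMap_smul]; exact hwξ⟩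
    have hgif := Fibres.gif_of_geomIntegral E.geomInt
    obtain ⟨r, α, hα⟩ := Induct.exists_step_map hgif E.p' E.y hy
    obtain ⟨R₂, cR₂, aR₂, p₂, hp₂, hnhd₂, hD, hhD, hgood⟩ := ih E.R' E.D (E.G ⧸ LinearMap.range α) E.p' E.y
      ((Induct.dimLT_coker hgif E.p' E.y (Reduce.fibreDim_le E.smooth E.p') hα).mono hmn)
      (Induct.flat_coker hgif E.p' E.y hα E.y hy)
    letI aRR₂ : Algebra R R₂ := ((algebraMap E.R' R₂).comp (algebraMap R E.R')).toAlgebra
    haveI : IsScalarTower R E.R' R₂ := IsScalarTower.of_algebraMap_eq fun _ => rfl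
    haveI := hnhd₂.1
    haveI : Algebra.Etale R R₂ := Algebra.Etale.comp R E.R' R₂
    haveI := hnhd₂.2.choose
    have hnhd : _root_.FlatCA.IsEtaleNhd R R₂ p p₂ := NhdPoint.trans hetR hnhd₂
    -- goodness over the smooth algebra and the finite algebra
    let UD := shadow p₂ hD
    have hGD : Good E.R' UD E.G := good_of_coker hgif E.p' E.y hα UD (fun Q hQ => isPrime_of_mem hQ)
      (fun Q hQ => by
        obtain ⟨P, -, -, hP, rfl⟩ := hQ
        rw [← comap_inR_under]
        exact (Ideal.comap_mono hP).trans (p₂.over_def E.p').ge) hgood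
    let UC : Set (Ideal E.C) := {z | z.IsPrime ∧ z.comap (algebraMap E.D E.C) ∈ UD}
    have hGC : Good E.R' UC E.G := good_finite UD UC (fun z hz => hz.2) hGD
    -- the surjection after base change
    let X₁ := E.S' ⊗[E.R'] R₂
    let XC := E.C ⊗[E.R'] R₂
    let σ : X₁ →ₐ[E.R'] XC :=
      Algebra.TensorProduct.map (IsScalarTower.toAlgHom E.R' E.S' E.C) (AlgHom.id E.R' R₂)
    let δ : E.D ⊗[E.R'] R₂ →ₐ[E.R'] XC :=
      Algebra.TensorProduct.map (IsScalarTower.toAlgHom E.R' E.D E.C) (AlgHom.id E.R' R₂)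
    have hσs : ∀ s, σ (algebraMap E.S' X₁ s) = algebraMap E.C XC (algebraMap E.S' E.C s) := fun s => by
      simp [σ, X₁, XC]
    have hσr : ∀ r, σ (inR r) = inR r := fun r => by simp [σ, inR, X₁, XC]
    have hδs : ∀ s, δ (algebraMap E.D _ s) = algebraMap E.C XC (algebraMap E.D E.C s) := fun s => by
      simp [δ, XC]
    have hδr : ∀ r, δ (inR r) = inR r := fun r => by simp [δ, inR, XC]
    have hσ : Function.Surjective σ := fun c => by
      induction c using TensorProduct.induction_on with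
      | zero => exact ⟨0, map_zero _⟩
      | tmul a b =>
        obtain ⟨a, rfl⟩ := E.surjC a
        exact ⟨a ⊗ₜ b, rfl⟩
      | add a b ha hb =>
        obtain ⟨a, rfl⟩ := ha
        obtain ⟨b, rfl⟩ := hb
        exact ⟨a + b, map_add _ _ _⟩
    obtain ⟨h₁, hh₁⟩ := hσ (δ hD)
    let U₁ := shadow p₂ h₁
    have hU₁ : ∀ Q ∈ U₁, RingHom.ker (algebraMap E.S' E.C) ≤ Q →
        ∃ z ∈ UC, z.comap (algebraMap E.S' E.C) = Q := by
      rintro Q ⟨P, hP, hhP, hPp, rfl⟩ hle
      have hkerP : RingHom.ker σ.toRingHom ≤ P := by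
        refine le_of_eq_of_le (Algebra.TensorProduct.rTensor_ker (C := R₂)
          (IsScalarTower.toAlgHom E.R' E.S' E.C) E.surjC) (Ideal.map_le_iff_le_comap.2 ?_)
        exact hle
      let P' := P.map σ.toRingHom
      haveI := hP
      haveI : P'.IsPrime := Ideal.map_isPrime_of_surjective (f := σ.toRingHom) hσ hkerP
      have hP' : P'.comap σ.toRingHom = P := by
        rw [Ideal.comap_map_of_surjective' σ.toRingHom hσ, sup_of_le_left hkerP]
      have hmem : ∀ a, σ a ∈ P' ↔ a ∈ P := fun a => by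
        show a ∈ P'.comap σ.toRingHom ↔ _
        rw [hP']
      refine ⟨P'.comap (algebraMap E.C XC), ⟨Ideal.IsPrime.comap _, P'.comap δ.toRingHom, Ideal.IsPrime.comap _,
        fun hh => hhP ((hmem h₁).1 (by rw [hh₁]; exact hh)), fun r hr => hPp ?_, Ideal.ext fun d => ?_⟩,
        Ideal.ext fun s => ?_⟩
      · exact (hmem _).1 (by rw [hσr, ← hδr]; exact hr)
      · show δ (algebraMap E.D _ d) ∈ P' ↔ _
        rw [hδs]
        rfl
      · show algebraMap E.C XC (algebraMap E.S' E.C s) ∈ P' ↔ _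
        rw [← hσs, hmem]
        rfl
    have hG₁ : Good E.R' U₁ E.G := good_surjective E.surjC
      (Algebra.FinitePresentation.ker_fG_of_surjective (Algebra.ofId E.S' E.C) E.surjC) U₁ UC
      (fun Q hQ => isPrime_of_mem hQ) (fun z hz => hz.1) hU₁ hGC
    have hG₁' : Good R U₁ E.G := ⟨fun Q _ hQ => by
      haveI : IsScalarTower R E.R' (LocalizedModule Q.primeCompl E.G) :=
        IsScalarTower.of_algebraMap_smul fun r x => by
          rw [← algebraMap_smul E.S' (algebraMap R E.R' r) x, ← IsScalarTower.algebraMap_apply, algebraMap_smul]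
      haveI := hG₁.1 Q inferInstance hQ
      exact Module.Flat.trans R E.R' (LocalizedModule Q.primeCompl E.G), hG₁.2⟩
    -- the open map between the base changes
    let X := S ⊗[R] R₂
    let τ : X →ₐ[R] X₁ := Algebra.TensorProduct.lift
      ((IsScalarTower.toAlgHom R E.S' X₁).comp (IsScalarTower.toAlgHom R S E.S'))
      ((Algebra.TensorProduct.includeRight : R₂ →ₐ[E.R'] X₁).restrictScalars R) fun _ _ => Commute.all _ _
    letI : Algebra X X₁ := τ.toRingHom.toAlgebra
    have hτs : ∀ s, algebraMap X X₁ (algebraMap S X s) = algebraMap E.S' X₁ (algebraMap S E.S' s) := fun s => by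
      show τ (s ⊗ₜ[R] (1 : R₂)) = _
      rw [Algebra.TensorProduct.lift_tmul, map_one, mul_one]
      rfl
    have hτr : ∀ r, algebraMap X X₁ (inR r) = inR r := fun r => by
      show τ ((1 : S) ⊗ₜ[R] r) = _
      rw [Algebra.TensorProduct.lift_tmul, map_one, one_mul]
      rfl
    haveI : IsScalarTower S X X₁ := IsScalarTower.of_algebraMap_eq fun s => (hτs s).symm
    haveI : Algebra.Etale S X₁ := Algebra.Etale.comp S E.S' X₁
    haveI : Algebra.Etale X X₁ := Algebra.Etale.of_restrictScalars S X X₁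
    have hopen := PrimeSpectrum.isOpenMap_comap_of_hasGoingDown_of_finitePresentation (R := X) (S := X₁)
    -- the point
    haveI : E.z.LiesOver E.p' := Ideal.LiesOver.trans E.z E.y E.p'
    obtain ⟨z₂, hz₂, hz₂C, hz₂R⟩ := exists_point E.p' p₂ E.z (hnhd := hnhd₂)
    haveI := hz₂
    let P₁ := z₂.comap σ.toRingHom
    haveI : P₁.IsPrime := Ideal.IsPrime.comap _
    have hh₁P : h₁ ∉ P₁ := fun hh => by
      refine hhD (z₂.comap δ.toRingHom) (Ideal.IsPrime.comap _) (Ideal.ext fun d => ?_) (Ideal.ext fun r => ?_) ?_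
      · show δ (algebraMap E.D _ d) ∈ z₂ ↔ _
        rw [hδs, ← hzy, ← hz₂C]
        rfl
      · show δ (inR r) ∈ z₂ ↔ _
        rw [hδr, ← hz₂R]
        rfl
      · show δ hD ∈ z₂
        rw [← hh₁]
        exact hh
    let P₀ := P₁.comap (algebraMap X X₁)
    have hP₀S : P₀.comap (algebraMap S X) = q := Ideal.ext fun s => by
      show σ (algebraMap X X₁ (algebraMap S X s)) ∈ z₂ ↔ _
      rw [hτs, hσs]
      have e1 : ∀ c, algebraMap E.C XC c ∈ z₂ ↔ c ∈ E.z := fun c => SetLike.ext_iff.1 hz₂C c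
      have e2 : ∀ w, algebraMap E.S' E.C w ∈ E.z ↔ w ∈ E.q' := fun w => SetLike.ext_iff.1 hzq w
      have e3 : algebraMap S E.S' s ∈ E.q' ↔ s ∈ q := SetLike.ext_iff.1 hq s
      exact (e1 _).trans ((e2 _).trans e3)
    have hP₀R : P₀.comap inR = p₂ := Ideal.ext fun r => by
      show σ (algebraMap X X₁ (inR r)) ∈ z₂ ↔ _
      rw [hτr, hσr, ← hz₂R]
      rfl
    obtain ⟨_, ⟨h₀, rfl⟩, hh₀P, hsub⟩ := PrimeSpectrum.isTopologicalBasis_basic_opens.exists_subset_of_mem_open
      (show (⟨P₀, inferInstance⟩ : PrimeSpectrum X) ∈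
        PrimeSpectrum.comap (algebraMap X X₁) '' (PrimeSpectrum.basicOpen h₁ : Set (PrimeSpectrum X₁)) from
        ⟨⟨P₁, inferInstance⟩, hh₁P, rfl⟩)
      (hopen _ (PrimeSpectrum.basicOpen h₁).isOpen)
    refine ⟨R₂, inferInstance, inferInstance, p₂, inferInstance, hnhd, h₀, fun P hP hPS hPR => ?_,
      good_descend f hf (shadow p₂ h₀) U₁ ?_ hG₁'⟩
    · haveI := hP
      rw [point_unique p p₂ q hnhd P P₀ hPS hPR hP₀S hP₀R]
      exact hh₀P
    · rintro Q ⟨P, hP, hhP, hPp, rfl⟩
      obtain ⟨x₁, hx₁, hx₁P⟩ := hsub (show (⟨P, hP⟩ : PrimeSpectrum X) ∈ _ from hhP)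
      have hP₁ : x₁.asIdeal.comap (algebraMap X X₁) = P := congrArg PrimeSpectrum.asIdeal hx₁P
      refine ⟨x₁.asIdeal.comap (algebraMap E.S' X₁), ⟨x₁.asIdeal, x₁.2, hx₁, fun r hr => hPp ?_, rfl⟩,
        Ideal.IsPrime.comap _, Ideal.ext fun s => ?_⟩
      · rw [← hP₁]
        show algebraMap X X₁ (inR r) ∈ x₁.asIdeal
        rw [hτr]
        exact hr
      · rw [← hP₁]
        show algebraMap E.S' X₁ (algebraMap S E.S' s) ∈ x₁.asIdeal ↔ algebraMap X X₁ (algebraMap S X s) ∈ x₁.asIdeal
        rw [hτs]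

/-- Flatness at a point spreads, with finite presentation, after an étale neighbourhood of the base. -/
theorem near_of_flat {R S : Type u} [CommRing R] [CommRing S] [Algebra R S] [Algebra.FiniteType R S]
    {N : Type u} [AddCommGroup N] [Module S N] [Module R N] [IsScalarTower R S N] [Module.Finite S N]
    (p : Ideal R) [p.IsPrime] (q : Ideal S) [q.IsPrime] [q.LiesOver p]
    (h : Module.Flat R (LocalizedModule q.primeCompl N)) : Near R S N p q := by
  obtain ⟨n, hn⟩ := Induct.exists_dimLT (N := N) p q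
  exact near_aux n R S N p q hn h

end Groth.Agent.Lib.RG.Near
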