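import Groth.Agent.S1192
import Groth.Agent.Lib.RG.FibrePoint
import Mathlib.RingTheory.Localization.BaseChange

/-!
# Weakly associated primes, elementwise
-/

set_option autoImplicit false
set_option linter.style.haveILetI false

universe u

open scoped TensorProduct

attribute [local instance] Algebra.TensorProduct.rightAlgebra

namespace Groth.Agent.Lib.RG.WA

variable {S : Type u} [CommRing S]

/-- Some element survives at the prime and is killed there by powers of every element of the prime. -/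
def WA (q : Ideal S) (X : Type u) [AddCommGroup X] [Module S X] : Prop :=
  ∃ z : X, (∀ w ∉ q, w • z ≠ 0) ∧ ∀ c ∈ q, ∃ n : ℕ, ∃ w ∉ q, (w * c ^ n) • z = 0

theorem wa_iff_mem (q : Ideal S) [q.IsPrime] {X : Type u} [AddCommGroup X] [Module S X] :
    WA q X ↔ q ∈ _root_.FlatCA.weakAss S X := by
  refine ⟨?_, ?_⟩
  · rintro ⟨z, hz, hnil⟩
    have hle : (Submodule.span S {z}).annihilator ≤ q := fun a ha => by
      by_contra hq
      exact hz a hq ((Submodule.mem_annihilator_span_singleton _ _).1 ha)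
    refine ⟨z, ⟨inferInstance, hle⟩, fun P hP hPq c hc => ?_⟩
    obtain ⟨n, w, hw, hwz⟩ := hnil c hc
    refine hP.1.mem_of_pow_mem n ((hP.1.mem_or_mem ?_).resolve_left fun h => hw (hPq h))
    exact hP.2 ((Submodule.mem_annihilator_span_singleton _ _).2 hwz)
  · rintro ⟨z, hz⟩
    exact ⟨z, FlatCA.WeakAssBC.nil_of_minimal q z hz⟩

section Restrict

variable {S' : Type u} [CommRing S'] [Algebra S S'] {q : Ideal S} [q.IsPrime] {q' : Ideal S'} [q'.IsPrime]

theorem fraction_notMem (hc : q'.comap (algebraMap S S') = q) {s a : S} (hs : s ∉ q) {c : S'}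
    (h : algebraMap S S' s * c = algebraMap S S' a) : a ∈ q ↔ c ∈ q' := by
  rw [← hc, Ideal.mem_comap, ← h]
  refine ⟨fun h1 => (Ideal.IsPrime.mem_or_mem inferInstance h1).resolve_left ?_, fun h1 => Ideal.mul_mem_left _ _ h1⟩
  intro h2
  exact hs (by rw [← hc]; exact h2)

/-- Weak association is not changed by an algebra of fractions at the prime. -/
theorem wa_iff_restrict (hfr : ∀ c : S', ∃ s ∉ q, ∃ a, algebraMap S S' s * c = algebraMap S S' a)
    (hc : q'.comap (algebraMap S S') = q) (X : Type u) [AddCommGroup X] [Module S X] [Module S' X]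
    [IsScalarTower S S' X] : WA q X ↔ WA q' X := by
  refine ⟨?_, ?_⟩
  · rintro ⟨z, hz, hnil⟩
    refine ⟨z, fun w hw h0 => ?_, fun c hcq => ?_⟩
    · obtain ⟨s, hs, a, ha⟩ := hfr w
      refine hz a (fun h => hw ((fraction_notMem hc hs ha).1 h)) ?_
      rw [← algebraMap_smul S' a z, ← ha, mul_smul, h0, smul_zero]
    · obtain ⟨s, hs, a, ha⟩ := hfr c
      obtain ⟨n, w, hw, hwz⟩ := hnil a ((fraction_notMem hc hs ha).2 hcq)
      refine ⟨n, algebraMap S S' (w * s ^ n), fun h => ?_, ?_⟩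
      · have h1 : w * s ^ n ∈ q := by rw [← hc]; exact h
        rcases Ideal.IsPrime.mem_or_mem inferInstance h1 with h2 | h2
        exacts [hw h2, hs (Ideal.IsPrime.mem_of_pow_mem inferInstance n h2)]
      · rw [map_mul, map_pow, mul_assoc, ← mul_pow, ha, ← map_pow, ← map_mul, algebraMap_smul]
        exact hwz
  · rintro ⟨z, hz, hnil⟩
    refine ⟨z, fun w hw h0 => hz (algebraMap S S' w) (fun h => hw (by rw [← hc]; exact h))
      (by rw [algebraMap_smul]; exact h0), fun c hcq => ?_⟩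
    obtain ⟨n, w, hw, hwz⟩ := hnil (algebraMap S S' c) (by rw [← hc] at hcq; exact hcq)
    obtain ⟨s, hs, a, ha⟩ := hfr w
    refine ⟨n, a, fun h => hw ((fraction_notMem hc hs ha).1 h), ?_⟩
    rw [← algebraMap_smul S', map_mul, map_pow, ← ha, mul_assoc, mul_smul, hwz, smul_zero]

end Restrict

/-- Weak association is not changed by a map which is bijective at the prime. -/
theorem wa_iff_of_map {q : Ideal S} [q.IsPrime] {X Y : Type u} [AddCommGroup X] [Module S X] [AddCommGroup Y]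
    [Module S Y] (f : X →ₗ[S] Y) (hinj : ∀ x, f x = 0 → ∃ w ∉ q, w • x = 0)
    (hsurj : ∀ y, ∃ w ∉ q, ∃ x, f x = w • y) : WA q X ↔ WA q Y := by
  have hmul : ∀ {a b : S}, a ∉ q → b ∉ q → a * b ∉ q := fun ha hb h =>
    (Ideal.IsPrime.mem_or_mem inferInstance h).elim ha hb
  refine ⟨?_, ?_⟩
  · rintro ⟨z, hz, hnil⟩
    refine ⟨f z, fun w hw h0 => ?_, fun c hc => ?_⟩
    · obtain ⟨v, hv, hvz⟩ := hinj (w • z) (by rw [map_smul, h0])
      exact hz (v * w) (hmul hv hw) (by rwa [mul_smul])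
    · obtain ⟨n, w, hw, hwz⟩ := hnil c hc
      exact ⟨n, w, hw, by rw [← map_smul, hwz, map_zero]⟩
  · rintro ⟨y, hy, hnil⟩
    obtain ⟨u, hu, x, hx⟩ := hsurj y
    refine ⟨x, fun w hw h0 => hy (w * u) (hmul hw hu) ?_, fun c hc => ?_⟩
    · rw [mul_smul, ← hx, ← map_smul, h0, map_zero]
    · obtain ⟨n, w, hw, hwy⟩ := hnil c hc
      obtain ⟨v, hv, hvx⟩ := hinj ((w * c ^ n) • x) (by rw [map_smul, hx, smul_comm, hwy, smul_zero])
      exact ⟨n, v * w, hmul hv hw, by rwa [mul_assoc, mul_smul]⟩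

section Tensor

variable {R : Type u} [CommRing R] [Algebra R S] {q : Ideal S} [q.IsPrime]
  {X Y : Type u} [AddCommGroup X] [Module S X] [Module R X] [IsScalarTower R S X]
  [AddCommGroup Y] [Module S Y] [Module R Y] [IsScalarTower R S Y] (M : Type u) [AddCommGroup M] [Module R M]

omit [Module R M] in
theorem killed_tensor [Module R M] (h : ∀ x : X, ∃ w ∉ q, w • x = 0) (ζ : X ⊗[R] M) : ∃ w ∉ q, w • ζ = 0 := by
  induction ζ with
  | zero => exact ⟨1, fun h1 => Ideal.IsPrime.ne_top inferInstance ((Ideal.eq_top_iff_one q).2 h1), smul_zero _⟩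
  | tmul a b =>
    obtain ⟨v, hv, hva⟩ := h a
    exact ⟨v, hv, by rw [TensorProduct.smul_tmul', hva, TensorProduct.zero_tmul]⟩
  | add a b ha hb =>
    obtain ⟨va, hva, ha'⟩ := ha
    obtain ⟨vb, hvb, hb'⟩ := hb
    exact ⟨va * vb, fun h => (Ideal.IsPrime.mem_or_mem inferInstance h).elim hva hvb, by
      rw [smul_add, mul_smul, mul_smul va vb b, hb', smul_zero, add_zero, smul_comm, ha', smul_zero]⟩

/-- Tensoring a surjection with kernel killed at the prime. -/
theorem wa_tensor_of_surjective (φ : X →ₗ[S] Y) (hφ : Function.Surjective φ)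
    (hk : ∀ x, φ x = 0 → ∃ w ∉ q, w • x = 0) : WA q (X ⊗[R] M) ↔ WA q (Y ⊗[R] M) := by
  refine wa_iff_of_map (TensorProduct.AlgebraTensorModule.rTensor R M φ) (fun z hz => ?_) fun y => ?_
  · have hex : Function.Exact ((LinearMap.ker φ).subtype.restrictScalars R) (φ.restrictScalars R) :=
      LinearMap.exact_subtype_ker_map φ
    obtain ⟨ζ, hζ⟩ := (rTensor_exact M hex hφ z).1 hz
    obtain ⟨v, hv, hvζ⟩ := killed_tensor (X := LinearMap.ker φ) M (q := q) (fun x => by
      obtain ⟨w, hw, hwx⟩ := hk x.1 x.2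
      exact ⟨w, hw, Subtype.ext hwx⟩) ζ
    refine ⟨v, hv, ?_⟩
    rw [← hζ]
    exact ((TensorProduct.AlgebraTensorModule.rTensor R M (LinearMap.ker φ).subtype).map_smul v ζ).symm.trans
      (by rw [hvζ, map_zero])
  · obtain ⟨x, hx⟩ := LinearMap.rTensor_surjective M (g := φ.restrictScalars R) hφ y
    exact ⟨1, fun h1 => Ideal.IsPrime.ne_top inferInstance ((Ideal.eq_top_iff_one q).2 h1), x, by rw [one_smul]; exact hx⟩

/-- Tensoring a localization at elements outside the prime. -/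
theorem wa_tensor_of_localized (W : Submonoid S) (hW : ∀ w ∈ W, w ∉ q) (l : X →ₗ[S] Y) [IsLocalizedModule W l] :
    WA q (X ⊗[R] M) ↔ WA q (Y ⊗[R] M) := by
  let lM := TensorProduct.AlgebraTensorModule.rTensor R M l
  haveI : IsLocalizedModule W lM := IsLocalizedModule.rTensor W (R := R) (A := S) (N := M) l
  refine wa_iff_of_map lM (fun z hz => ?_) fun y => ?_
  · obtain ⟨⟨w, hw⟩, h⟩ := (IsLocalizedModule.eq_zero_iff W lM).1 hz
    exact ⟨w, hW w hw, h⟩
  · obtain ⟨⟨x, ⟨s, hs⟩⟩, h⟩ := IsLocalizedModule.surj W lM y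
    exact ⟨s, hW s hs, x, h.symm⟩

end Tensor

/-- Associated points of the fibre, elementwise. -/
theorem wa_fibre_iff {R : Type u} [CommRing R] [Algebra R S] [Algebra.FiniteType R S] (p : Ideal R) [p.IsPrime]
    (q : Ideal S) [q.IsPrime] [q.LiesOver p] (N : Type u) [AddCommGroup N] [Module S N] [Module R N]
    [IsScalarTower R S N] [Module.Finite S N] :
    WA q (N ⊗[R] p.ResidueField) ↔
      _root_.FlatCA.fiberIdeal p q ∈ associatedPrimes (p.Fiber S) (_root_.FlatCA.fiberMod p S N) := by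
  refine ⟨?_, fun hass => ?_⟩
  · rintro ⟨ξ, hne, hnil⟩
    by_contra hnot
    obtain ⟨g, hg, hreg⟩ := FibrePoint.nzdAt_of_not_assoc hnot
    obtain ⟨n, w, hw, hwz⟩ := hnil g hg
    induction n generalizing w with
    | zero => exact hne w hw (by simpa using hwz)
    | succ n ih =>
      rw [pow_succ, ← mul_assoc, mul_comm, mul_smul] at hwz
      obtain ⟨v, hv, hvz⟩ := hreg _ hwz
      refine ih (v * w) (fun h => (Ideal.IsPrime.mem_or_mem inferInstance h).elim hv hw) ?_
      rwa [mul_assoc, mul_smul]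
  · haveI : IsNoetherianRing (p.Fiber S) := Algebra.FiniteType.isNoetherianRing p.ResidueField _
    obtain ⟨hP, hcomap⟩ := FlatCA.WeakAss.fiberIdeal_prime p q
    haveI := hP
    haveI : Module.Finite (p.Fiber S) (_root_.FlatCA.fiberMod p S N) := Module.Finite.base_change S (p.Fiber S) N
    let e := FlatCA.FiberMod.fiberModEquiv p S N
    obtain ⟨-, x, hx⟩ := hass
    have hmin : _root_.FlatCA.fiberIdeal p q ∈
        (Submodule.colon (⊥ : Submodule (p.Fiber S) (_root_.FlatCA.fiberMod p S N)) {x}).minimalPrimes :=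
      ⟨⟨inferInstance, hx ▸ Ideal.le_radical⟩, fun P hP _ => hx ▸ hP.1.radical_le_iff.2 hP.2⟩
    obtain ⟨y, hy⟩ := Submodule.exists_eq_colon_of_mem_minimalPrimes hmin
    have hiff : ∀ d : S, d • y = 0 ↔ d ∈ q := fun d => by
      conv_rhs => rw [← hcomap, Ideal.mem_comap, hy, Submodule.mem_colon_singleton, Submodule.mem_bot,
        FlatCA.Impurity.incl_smul]
    refine ⟨e y, fun w hw h0 => hw ((hiff w).1 (e.injective (by rw [map_smul, map_zero]; exact h0))),
      fun c hc => ⟨1, 1, fun h1 => Ideal.IsPrime.ne_top inferInstance ((Ideal.eq_top_iff_one q).2 h1), ?_⟩⟩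
    rw [pow_one, one_mul, ← map_smul, (hiff c).2 hc, map_zero]

end Groth.Agent.Lib.RG.WA
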