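import Groth.Agent.Lib.RG.Induct
import Groth.Agent.Lib.RG.OpenFlat
import Groth.Agent.Lib.RG.WA

/-!
# Finite modules near a prime of flatness; rings with finitely many weakly associated primes
-/

set_option autoImplicit false
set_option linter.style.haveILetI false

universe u

open scoped TensorProduct

attribute [local instance] Algebra.TensorProduct.rightAlgebra

namespace Groth.Agent.Lib.RG.NearFlat

section Restrict

variable {R S S' : Type u} [CommRing R] [CommRing S] [CommRing S'] [Algebra R S] [Algebra R S'] [Algebra S S']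
  [IsScalarTower R S S'] (Y : Type u) [AddCommGroup Y] [Module R Y] [Module S Y] [Module S' Y]
  [IsScalarTower R S Y] [IsScalarTower R S' Y] [IsScalarTower S S' Y] {q : Ideal S} [q.IsPrime]
  {q' : Ideal S'} [q'.IsPrime]

/-- Flatness at a prime is not changed by an algebra of fractions at the prime. -/
theorem flatAt_restrict (hfr : ∀ c : S', ∃ s ∉ q, ∃ a, algebraMap S S' s * c = algebraMap S S' a)
    (hc : q'.comap (algebraMap S S') = q) :
    Module.Flat R (LocalizedModule q.primeCompl Y) ↔ Module.Flat R (LocalizedModule q'.primeCompl Y) := by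
  rw [H19.FlatLocus.flat_iff_killed q.primeCompl (LocalizedModule.mkLinearMap q.primeCompl Y),
    H19.FlatLocus.flat_iff_killed q'.primeCompl (LocalizedModule.mkLinearMap q'.primeCompl Y)]
  refine forall_congr' fun J => forall_congr' fun y => forall_congr' fun _ => ⟨?_, ?_⟩
  · rintro ⟨w, hw, hwy⟩
    exact ⟨algebraMap S S' w, fun h => hw (by rw [← hc]; exact h), by rwa [algebraMap_smul]⟩
  · rintro ⟨w, hw, hwy⟩
    obtain ⟨s, hs, a, ha⟩ := hfr w
    refine ⟨a, fun h => hw ((WA.fraction_notMem hc hs ha).1 h), ?_⟩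
    rw [← algebraMap_smul S' a y, ← ha, mul_smul, hwy, smul_zero]

end Restrict

section Generators

variable {S : Type u} [CommRing S] (W : Submonoid S) {F X : Type u} [AddCommGroup F] [Module S F]
  [AddCommGroup X] [Module S X]

/-- The kernel of a presentation of a module finitely presented on a localization is finitely generated there. -/
theorem exists_gen [Module.Finite S F] (φ : F →ₗ[S] X) (hφ : Function.Surjective φ)
    [Module.FinitePresentation (Localization W) (LocalizedModule W X)] :
    ∃ U : Finset F, (∀ u ∈ U, φ u = 0) ∧ ∀ x, φ x = 0 → ∃ w ∈ W, w • x ∈ Submodule.span S (U : Set F) := by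
  classical
  let φW : LocalizedModule W F →ₗ[Localization W] LocalizedModule W X := LocalizedModule.map W φ
  haveI : Module.Finite (Localization W) (LocalizedModule W F) := inferInstance
  obtain ⟨T₀, hT₀⟩ := Module.FinitePresentation.fg_ker φW (LocalizedModule.map_surjective _ _ hφ)
  have hlift : ∀ z ∈ T₀, ∃ t : F, φ t = 0 ∧ ∃ u : Localization W, z = u • LocalizedModule.mkLinearMap W F t := by
    intro z hz
    have hz0 : φW z = 0 := LinearMap.mem_ker.1 (hT₀ ▸ Submodule.subset_span hz)
    induction z using LocalizedModule.induction_on with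
    | h x s =>
      change LocalizedModule.map W φ (LocalizedModule.mk x s) = 0 at hz0
      rw [LocalizedModule.map_mk, ← LocalizedModule.zero_mk s, LocalizedModule.mk_eq] at hz0
      obtain ⟨c, hc⟩ := hz0
      simp only [smul_zero] at hc
      refine ⟨((c : S) * (s : S)) • x, by rw [map_smul, mul_smul]; exact hc, Localization.mk 1 (c * s * s), ?_⟩
      rw [LocalizedModule.mkLinearMap_apply, LocalizedModule.mk_smul_mk, LocalizedModule.mk_eq]
      exact ⟨1, by simp [Submonoid.smul_def, smul_smul]; ring_nf⟩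
  choose g hg u hu using hlift
  refine ⟨T₀.attach.image (fun z => g z.1 z.2), fun t ht => ?_, fun x hx => ?_⟩
  · obtain ⟨z, -, rfl⟩ := Finset.mem_image.1 ht
    exact hg _ _
  · let L := Submodule.span S ((T₀.attach.image (fun z => g z.1 z.2) : Finset F) : Set F)
    have hmem : LocalizedModule.mkLinearMap W F x ∈
        Submodule.span (Localization W) (T₀ : Set (LocalizedModule W F)) := by
      rw [hT₀, LinearMap.mem_ker]
      show LocalizedModule.map W φ (LocalizedModule.mk x 1) = 0
      rw [LocalizedModule.map_mk, hx, LocalizedModule.zero_mk]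
    have hle : Submodule.span (Localization W) (T₀ : Set (LocalizedModule W F)) ≤
        L.localized' (Localization W) W (LocalizedModule.mkLinearMap W F) := by
      rw [Submodule.span_le]
      intro z hz
      rw [hu z hz]
      refine Submodule.smul_mem _ _ ?_
      rw [← IsLocalizedModule.mk'_one W]
      exact ⟨g z hz, Submodule.subset_span (Finset.mem_coe.2 (Finset.mem_image.2 ⟨⟨z, hz⟩, Finset.mem_attach _ _, rfl⟩)), 1, rfl⟩
    obtain ⟨t, ht, s, hts⟩ := hle hmem
    rw [← IsLocalizedModule.mk'_one W, IsLocalizedModule.mk'_eq_mk'_iff] at hts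
    obtain ⟨c, hc⟩ := hts
    refine ⟨c * s, W.mul_mem c.2 s.2, ?_⟩
    rw [mul_smul]
    simp only [one_smul, Submonoid.smul_def] at hc
    first
      | (rw [hc]; exact L.smul_mem _ ht)
      | (rw [← hc]; exact L.smul_mem _ ht)

/-- Finite presentation from finitely generated relations near every prime. -/
theorem finitePresentation_of_good [Module.FinitePresentation S F] (φ : F →ₗ[S] X) (hφ : Function.Surjective φ)
    (h : ∀ q : Ideal S, q.IsPrime → ∃ g ∉ q, ∃ T : Finset F, (∀ t ∈ T, φ t = 0) ∧
      ∀ x, φ x = 0 → ∃ n : ℕ, g ^ n • x ∈ Submodule.span S (T : Set F)) :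
    Module.FinitePresentation S X := by
  classical
  let Good : Set S := {g | ∃ T : Finset F, (∀ t ∈ T, φ t = 0) ∧
    ∀ x, φ x = 0 → ∃ n : ℕ, g ^ n • x ∈ Submodule.span S (T : Set F)}
  have htop : Ideal.span Good = ⊤ := by
    by_contra hne
    obtain ⟨m, hm, hle⟩ := Ideal.exists_le_maximal _ hne
    obtain ⟨g, hgm, hg⟩ := h m hm.isPrime
    exact hgm (hle (Ideal.subset_span hg))
  obtain ⟨G, hGsub, hG⟩ := Submodule.mem_span_finite_of_mem_span ((Ideal.eq_top_iff_one _).1 htop)
  choose! Tg hTg hgenT using fun g (hg : g ∈ Good) => hg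
  refine Module.finitePresentation_of_surjective φ hφ
    ⟨G.biUnion Tg, le_antisymm (Submodule.span_le.2 fun t ht => ?_) fun x hx => ?_⟩
  · obtain ⟨g, hgG, htg⟩ := Finset.mem_biUnion.1 (Finset.mem_coe.1 ht)
    exact hTg g (hGsub hgG) t htg
  · let I : Ideal S := (Submodule.span S ((G.biUnion Tg : Finset F) : Set F)).comap
      (LinearMap.toSpanSingleton S _ x)
    suffices hI : (1 : S) ∈ I by
      have := Submodule.mem_comap.1 hI
      rwa [LinearMap.toSpanSingleton_apply, one_smul] at this
    by_contra hne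
    obtain ⟨m, hm, hle⟩ := Ideal.exists_le_maximal I fun h => hne (h ▸ trivial)
    refine hm.ne_top ((Ideal.eq_top_iff_one m).2 ?_)
    refine (Ideal.span_le.2 fun g hg => ?_) hG
    obtain ⟨N, hN⟩ := hgenT g (hGsub hg) x hx
    exact hm.isPrime.mem_of_pow_mem N (hle (Submodule.mem_comap.2
      (Submodule.span_mono (Finset.coe_subset.2 (Finset.subset_biUnion_of_mem Tg hg)) hN)))

end Generators

section Near

variable {R S : Type u} [CommRing R] [CommRing S] [Algebra R S] {N : Type u} [AddCommGroup N] [Module S N]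
  [Module R N] [IsScalarTower R S N] {k : ℕ} (π : (Fin k → S) →ₗ[S] N)

/-- Near a prime of flatness a finite module is a quotient of a flat finitely presented one with the same
germ at the prime. -/
theorem exists_near [Algebra.FinitePresentation R S] (hπ : Function.Surjective π) (q : Ideal S) [q.IsPrime]
    (hflat : Module.Flat R (LocalizedModule q.primeCompl N)) :
    ∃ T : Finset (Fin k → S), (∀ t ∈ T, π t = 0) ∧
      (∀ x, π x = 0 → ∃ w ∉ q, w • x ∈ Submodule.span S (T : Set (Fin k → S))) ∧
      ∃ g ∉ q, Module.Flat R (LocalizedModule (Submonoid.powers g)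
        ((Fin k → S) ⧸ Submodule.span S (T : Set (Fin k → S)))) := by
  classical
  haveI : Module.Finite S N := Module.Finite.of_surjective π hπ
  haveI : q.LiesOver (q.under R) := ⟨rfl⟩
  obtain ⟨T, hT, hgen⟩ := Induct.fpAt_of_flat (q.under R) q hflat k π hπ
  refine ⟨T, hT, hgen, ?_⟩
  let L := Submodule.span S (T : Set (Fin k → S))
  let M' := (Fin k → S) ⧸ L
  have hLK : L ≤ LinearMap.ker π := Submodule.span_le.2 fun t ht => hT t ht
  haveI : Module.FinitePresentation S M' :=
    Module.finitePresentation_of_surjective L.mkQ (Submodule.mkQ_surjective _)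
      (by rw [Submodule.ker_mkQ]; exact ⟨T, rfl⟩)
  let φ : M' →ₗ[S] N := Submodule.liftQ L π hLK
  have hφ : Function.Surjective (φ.restrictScalars R) := fun m => by
    obtain ⟨v, rfl⟩ := hπ m
    exact ⟨Submodule.Quotient.mk v, rfl⟩
  have hflat' : Module.Flat R (LocalizedModule q.primeCompl M') := by
    refine (H19.FlatLocus.flat_iff_killed q.primeCompl (LocalizedModule.mkLinearMap q.primeCompl M')).2
      fun J ξ hξ => ?_
    have h0 : (J.subtype).lTensor N ((φ.restrictScalars R).rTensor J ξ) = 0 := by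
      rw [← LinearMap.comp_apply, LinearMap.lTensor_comp_rTensor, ← LinearMap.rTensor_comp_lTensor,
        LinearMap.comp_apply, hξ, map_zero]
    obtain ⟨w, hw, hwξ⟩ := (H19.FlatLocus.flat_iff_killed q.primeCompl
      (LocalizedModule.mkLinearMap q.primeCompl N)).1 hflat J _ h0
    have h1 : (φ.restrictScalars R).rTensor J (w • ξ) = 0 :=
      ((TensorProduct.AlgebraTensorModule.rTensor R J φ).map_smul w ξ).trans hwξ
    have hex : Function.Exact ((LinearMap.ker φ).subtype.restrictScalars R) (φ.restrictScalars R) :=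
      LinearMap.exact_subtype_ker_map φ
    obtain ⟨ζ, hζ⟩ := (rTensor_exact J hex hφ _).1 h1
    obtain ⟨v, hv, hvζ⟩ := WA.killed_tensor (X := LinearMap.ker φ) (q := q) J (by
      rintro ⟨z, hz⟩
      obtain ⟨x, rfl⟩ := Submodule.Quotient.mk_surjective L z
      obtain ⟨v, hv, hvx⟩ := hgen x hz
      refine ⟨v, hv, Subtype.ext ?_⟩
      show v • (Submodule.Quotient.mk x : M') = 0
      rwa [← Submodule.Quotient.mk_smul, Submodule.Quotient.mk_eq_zero]) ζ
    refine ⟨v * w, fun h => (Ideal.IsPrime.mem_or_mem inferInstance h).elim hv hw, ?_⟩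
    rw [mul_smul, ← hζ]
    refine ((TensorProduct.AlgebraTensorModule.rTensor R J (LinearMap.ker φ).subtype).map_smul v ζ).symm.trans ?_
    rw [hvζ, map_zero]
  exact OpenFlat.exists_flat_away q hflat'

/-- A presentation which is exact near a prime gives finite presentation and flatness there. -/
theorem fp_flat_away [Algebra.FinitePresentation R S] (hπ : Function.Surjective π) (T : Finset (Fin k → S))
    (hT : ∀ t ∈ T, π t = 0) (g g₀ : S) (hg : g₀ ∣ g)
    (hgen : ∀ x, π x = 0 → ∃ n : ℕ, g ^ n • x ∈ Submodule.span S (T : Set (Fin k → S)))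
    (hflat : Module.Flat R (LocalizedModule (Submonoid.powers g₀)
      ((Fin k → S) ⧸ Submodule.span S (T : Set (Fin k → S))))) :
    Module.FinitePresentation (Localization.Away g) (LocalizedModule (Submonoid.powers g) N) ∧
      Module.Flat R (LocalizedModule (Submonoid.powers g) N) := by
  let L := Submodule.span S (T : Set (Fin k → S))
  let M' := (Fin k → S) ⧸ L
  haveI : Module.FinitePresentation S M' :=
    Module.finitePresentation_of_surjective L.mkQ (Submodule.mkQ_surjective _)
      (by rw [Submodule.ker_mkQ]; exact ⟨T, rfl⟩)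
  let φ : M' →ₗ[S] N := Submodule.liftQ L π (Submodule.span_le.2 fun t ht => hT t ht)
  let Φ : LocalizedModule (Submonoid.powers g) M' →ₗ[Localization.Away g] LocalizedModule (Submonoid.powers g) N :=
    LocalizedModule.map (Submonoid.powers g) φ
  have hΦ : Function.Bijective Φ := by
    refine ⟨(injective_iff_map_eq_zero _).2 fun z hz => ?_, LocalizedModule.map_surjective _ _ fun m => ?_⟩
    · induction z using LocalizedModule.induction_on with
      | h z s =>
        change LocalizedModule.map (Submonoid.powers g) φ (LocalizedModule.mk z s) = 0 at hz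
        obtain ⟨x, rfl⟩ := Submodule.Quotient.mk_surjective L z
        rw [LocalizedModule.map_mk, ← LocalizedModule.zero_mk s, LocalizedModule.mk_eq] at hz
        obtain ⟨⟨_, j, rfl⟩, hc⟩ := hz
        simp only [smul_zero, Submonoid.smul_def] at hc
        obtain ⟨m, hm⟩ := hgen ((g ^ j * (s : S)) • x) (by rw [map_smul, mul_smul]; exact hc)
        rw [← LocalizedModule.zero_mk s, LocalizedModule.mk_eq]
        refine ⟨⟨g ^ m * g ^ j, Submonoid.mul_mem _ ⟨m, rfl⟩ ⟨j, rfl⟩⟩, ?_⟩
        simp only [smul_zero, Submonoid.smul_def]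
        rw [← Submodule.Quotient.mk_smul, ← Submodule.Quotient.mk_smul, Submodule.Quotient.mk_eq_zero, smul_smul,
          mul_assoc, ← smul_smul]
        exact hm
    · obtain ⟨v, rfl⟩ := hπ m
      exact ⟨Submodule.Quotient.mk v, rfl⟩
  let e := LinearEquiv.ofBijective Φ hΦ
  refine ⟨Module.FinitePresentation.of_equiv e, ?_⟩
  haveI : Module.Flat R (LocalizedModule (Submonoid.powers g) M') :=
    OpenFlat.flat_away_of_forall g fun P _ hP =>
      OpenFlat.flatAt_of_away g₀ P (fun h => hP (Ideal.mem_of_dvd _ hg h)) hflat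
  exact Module.Flat.of_linearEquiv (e.symm.restrictScalars R)

end Near

section Finite

variable {R A : Type u} [CommRing R] [CommRing A] [Algebra R A] [Algebra.FinitePresentation R A]

/-- A flat finitely presented module over a base with finitely many weakly associated primes has finitely
many weakly associated primes. -/
theorem finite_wa (hR : (_root_.FlatCA.weakAss R R).Finite) (X : Type u) [AddCommGroup X] [Module A X]
    [Module R X] [IsScalarTower R A X] [Module.FinitePresentation A X] [Module.Flat R X] :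
    {Q : Ideal A | Q.IsPrime ∧ WA.WA Q X}.Finite := by
  let F : Ideal R → Set (Ideal A) := fun p => {Q | ∃ (_ : p.IsPrime) (_ : Q.IsPrime), Q.LiesOver p ∧
    _root_.FlatCA.fiberIdeal p Q ∈ associatedPrimes (p.Fiber A) (_root_.FlatCA.fiberMod p A X)}
  refine Set.Finite.subset (hR.biUnion fun p _ => (?_ : (F p).Finite)) ?_
  · by_cases hp : p.IsPrime
    · haveI := hp
      haveI : IsNoetherianRing (p.Fiber A) := Algebra.FiniteType.isNoetherianRing p.ResidueField _
      haveI : Module.Finite (p.Fiber A) (_root_.FlatCA.fiberMod p A X) := Module.Finite.base_change A (p.Fiber A) X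
      refine ((associatedPrimes.finite (p.Fiber A) (_root_.FlatCA.fiberMod p A X)).image
        (Ideal.comap (FlatCA.Impurity.incl p))).subset ?_
      rintro Q ⟨_, hQ, hover, hass⟩
      haveI := hQ
      haveI := hover
      exact ⟨_, hass, (FlatCA.WeakAss.fiberIdeal_prime p Q).2⟩
    · exact Set.Finite.subset Set.finite_empty fun Q ⟨h, _⟩ => absurd h hp
  · rintro Q ⟨hQ, hwa⟩
    haveI := hQ
    haveI : Q.LiesOver (Q.under R) := ⟨rfl⟩
    have h1 : WA.WA Q (X ⊗[R] R) :=
      (WA.wa_iff_of_map (TensorProduct.AlgebraTensorModule.rid R A X).toLinearMap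
        (fun x hx => ⟨1, fun h => hQ.ne_top ((Ideal.eq_top_iff_one Q).2 h), by
          rw [one_smul]; exact (LinearEquiv.map_eq_zero_iff _).1 hx⟩)
        fun y => ⟨1, fun h => hQ.ne_top ((Ideal.eq_top_iff_one Q).2 h), _, by
          rw [one_smul]; exact (TensorProduct.AlgebraTensorModule.rid R A X).apply_symm_apply y⟩).2 hwa
    obtain ⟨hp, hass⟩ := (Groth.Agent.S1192.result X R (Q.under R) Q).1 ((WA.wa_iff_mem Q).1 h1)
    exact Set.mem_biUnion hp ⟨inferInstance, hQ, inferInstance, hass⟩

end Finite

/-- Over a base with finitely many weakly associated primes a finite module is flat and finitely presented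
near every prime of flatness. -/
theorem exists_good {R S : Type u} [CommRing R] [CommRing S] [Algebra R S] [Algebra.FinitePresentation R S]
    (hR : (_root_.FlatCA.weakAss R R).Finite) {N : Type u} [AddCommGroup N] [Module S N] [Module R N]
    [IsScalarTower R S N] {k : ℕ} (π : (Fin k → S) →ₗ[S] N) (hπ : Function.Surjective π) (q : Ideal S) [q.IsPrime]
    (hflat : Module.Flat R (LocalizedModule q.primeCompl N)) :
    ∃ g ∉ q, ∃ T : Finset (Fin k → S), (∀ t ∈ T, π t = 0) ∧
      (∀ x, π x = 0 → ∃ n : ℕ, g ^ n • x ∈ Submodule.span S (T : Set (Fin k → S))) ∧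
      Module.FinitePresentation (Localization.Away g) (LocalizedModule (Submonoid.powers g) N) ∧
      Module.Flat R (LocalizedModule (Submonoid.powers g) N) := by
  classical
  obtain ⟨T, hT, hgen, g₀, hg₀, hflat₀⟩ := exists_near π hπ q hflat
  let L := Submodule.span S (T : Set (Fin k → S))
  let M' := (Fin k → S) ⧸ L
  haveI : Module.FinitePresentation S M' :=
    Module.finitePresentation_of_surjective L.mkQ (Submodule.mkQ_surjective _)
      (by rw [Submodule.ker_mkQ]; exact ⟨T, rfl⟩)
  let Sg := Localization.Away g₀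
  let Mg := LocalizedModule (Submonoid.powers g₀) M'
  haveI : Algebra.FinitePresentation R Sg := Algebra.FinitePresentation.trans R S Sg
  haveI : Module.FinitePresentation Sg Mg := inferInstance
  haveI : Module.Flat R Mg := hflat₀
  have hbad : {Q : Ideal S | Q.IsPrime ∧ g₀ ∉ Q ∧ WA.WA Q M'}.Finite := by
    refine ((finite_wa hR (A := Sg) Mg).image (Ideal.comap (algebraMap S Sg))).subset ?_
    rintro Q ⟨hQ, hgQ, hwa⟩
    haveI := hQ
    have hd : Disjoint (Submonoid.powers g₀ : Set S) (Q : Set S) :=
      Set.disjoint_left.2 fun c ⟨n, hn⟩ hc => hgQ (hQ.mem_of_pow_mem n (by simp only at hn; rw [hn]; exact hc))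
    have hW : ∀ w ∈ Submonoid.powers g₀, w ∉ Q := fun w hw h => Set.disjoint_left.1 hd hw h
    let Q' := Q.map (algebraMap S Sg)
    haveI : Q'.IsPrime := IsLocalization.isPrime_of_isPrime_disjoint (Submonoid.powers g₀) Sg Q hQ hd
    have hc : Q'.comap (algebraMap S Sg) = Q :=
      IsLocalization.under_map_of_isPrime_disjoint (Submonoid.powers g₀) Sg hQ hd
    have h1 : WA.WA Q Mg := by
      refine (WA.wa_iff_of_map (LocalizedModule.mkLinearMap (Submonoid.powers g₀) M') (fun x hx => ?_) fun y => ?_).1 hwa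
      · obtain ⟨⟨w, hw⟩, h⟩ := (IsLocalizedModule.eq_zero_iff (Submonoid.powers g₀) _).1 hx
        exact ⟨w, hW w hw, h⟩
      · obtain ⟨⟨x, ⟨s, hs⟩⟩, h⟩ := IsLocalizedModule.surj (Submonoid.powers g₀)
          (LocalizedModule.mkLinearMap (Submonoid.powers g₀) M') y
        exact ⟨s, hW s hs, x, h.symm⟩
    refine ⟨Q', ⟨inferInstance, (WA.wa_iff_restrict (fun c => ?_) hc Mg).1 h1⟩, hc⟩
    obtain ⟨⟨a, ⟨s, hs⟩⟩, h⟩ := IsLocalization.surj (Submonoid.powers g₀) c
    exact ⟨s, hW s hs, a, by rw [mul_comm]; exact h⟩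
  have hc : ∀ Q ∈ hbad.toFinset, ∃ c : S, c ∉ q ∧ (¬ Q ≤ q → c ∈ Q) := fun Q _ => by
    by_cases hle : Q ≤ q
    · exact ⟨1, fun h => Ideal.IsPrime.ne_top inferInstance ((Ideal.eq_top_iff_one q).2 h), fun h => absurd hle h⟩
    · obtain ⟨c, hc, hcq⟩ := SetLike.not_le_iff_exists.1 hle
      exact ⟨c, hcq, fun _ => hc⟩
  choose! c hcq hcQ using hc
  let g := g₀ * ∏ Q ∈ hbad.toFinset, c Q
  have hgq : g ∉ q := by
    intro h
    rcases Ideal.IsPrime.mem_or_mem inferInstance h with h | h
    · exact hg₀ h
    · obtain ⟨Q, hQ, hQ'⟩ := (Ideal.IsPrime.prod_mem_iff (p := q)).1 h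
      exact hcq Q hQ hQ'
  have hgenG : ∀ x, π x = 0 → ∃ n : ℕ, g ^ n • x ∈ L := fun x hx => by
    by_contra hcon
    push Not at hcon
    let z : M' := Submodule.Quotient.mk x
    obtain ⟨P, hP, hle, hd⟩ := Ideal.exists_le_prime_disjoint (Submodule.span S {z}).annihilator
      (Submonoid.powers g) (Set.disjoint_left.2 fun a ha ha' => by
        obtain ⟨n, rfl⟩ := ha'
        refine hcon n ?_
        have := (Submodule.mem_annihilator_span_singleton _ _).1 ha
        rwa [← Submodule.Quotient.mk_smul, Submodule.Quotient.mk_eq_zero] at this)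
    haveI := hP
    obtain ⟨Q, hQ, hQP⟩ := Ideal.exists_minimalPrimes_le hle
    haveI := hQ.1.1
    have hgQ : g ∉ Q := fun h => Set.disjoint_left.1 hd (hQP h) (Submonoid.mem_powers g)
    have hbadQ : Q ∈ hbad.toFinset := hbad.mem_toFinset.2
      ⟨inferInstance, fun h => hgQ (Ideal.mul_mem_right _ _ h), (WA.wa_iff_mem Q).2 ⟨z, hQ⟩⟩
    have hQq : Q ≤ q := by
      by_contra hle'
      exact hgQ (Ideal.mul_mem_left _ _ (Ideal.mem_of_dvd _ (Finset.dvd_prod_of_mem c hbadQ) (hcQ Q hbadQ hle')))
    obtain ⟨w, hw, hwx⟩ := hgen x hx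
    refine hw (hQq (hQ.1.2 ((Submodule.mem_annihilator_span_singleton _ _).2 ?_)))
    rwa [← Submodule.Quotient.mk_smul, Submodule.Quotient.mk_eq_zero]
  exact ⟨g, hgq, T, hT, hgenG, fp_flat_away π hπ T hT g g₀ (Dvd.intro _ rfl) hgenG hflat₀⟩

end Groth.Agent.Lib.RG.NearFlat
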