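import Groth.Agent.Lib.RG.OpenProj
import Groth.Agent.Lib.RG57.ContentProj
import Groth.Agent.Lib.RG57.DevissageProj
import Mathlib.LinearAlgebra.TensorProduct.Pi

/-!
# Charts for free modules, zero modules and extensions
-/

set_option autoImplicit false
set_option linter.style.haveILetI false

universe u

open scoped TensorProduct

attribute [local instance] Algebra.TensorProduct.rightAlgebra

namespace Groth.Agent.Lib.RG.OpenFree

open NhdPoint OpenProj

variable {R : Type u} [CommRing R]

set_option maxHeartbeats 800000 in
set_option synthInstance.maxHeartbeats 200000 in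
/-- A free module over a flat algebra with integral geometric fibres is a chart. -/
theorem good_free {D : Type u} [CommRing D] [Algebra R D] [Algebra.FinitePresentation R D] [Module.Flat R D]
    (hD : RG57.ContentProj.GID R D) {R' : Type u} [CommRing R'] [Algebra R R'] (p' : Ideal R') [p'.IsPrime]
    (y : Ideal D) (r : ℕ) : Good (Fin r → D) p' y (1 : D ⊗[R] R') := by
  classical
  let X := D ⊗[R] R'
  let B := Localization.Away (1 : X)
  let cX : R' ⊗[R] D ≃ₐ[R'] X := Algebra.TensorProduct.commRight R R' D
  haveI : Algebra.FinitePresentation R' X :=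
    (Algebra.FinitePresentation.baseChange R' (A := D) : Algebra.FinitePresentation R' (R' ⊗[R] D)).equiv cX
  haveI : Module.Flat R' X := Module.Flat.of_linearEquiv cX.symm.toLinearEquiv
  have hX : RG57.ContentProj.GID R' X := fun K _ _ => by
    haveI := RG57.ContentProj.gid_baseChange hD R' K
    exact (Algebra.TensorProduct.congr (AlgEquiv.refl : K ≃ₐ[R'] K) cX).symm.toRingEquiv.toMulEquiv.isDomain
      (K ⊗[R'] (R' ⊗[R] D))
  let at1 : X ≃ₐ[X] B := IsLocalization.atOne X B
  let E : Model (Fin r → D) (1 : X) ≃ₗ[X] (Fin r → X) :=
    ((TensorProduct.piScalarRight D B B (Fin r)).restrictScalars X).trans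
      (LinearEquiv.piCongrRight fun _ => at1.symm.toLinearEquiv)
  haveI : Module.Projective R' X := RG57.ContentProj.projective hX
  refine ⟨fun P hP _ _ h => hP.ne_top ((Ideal.eq_top_iff_one P).2 h), ?_, fun P hP hS hR a ha z hz => ?_⟩
  · haveI : Module.Projective R' (Fin r → X) := RG57.DevissageProj.projective_pi _
    exact Module.Projective.of_equiv (E.restrictScalars R').symm
  · haveI := hP
    haveI : P.LiesOver p' := ⟨hR.symm⟩
    let EQ := TensorProduct.AlgebraTensorModule.congr E (LinearEquiv.refl R' p'.ResidueField)
    suffices EQ z = 0 from EQ.map_eq_zero_iff.1 this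
    rw [algebraMap_smul] at hz
    have hw : a • EQ z = 0 := by rw [← map_smul, hz, map_zero]
    haveI := hX p'.ResidueField
    let c : p'.Fiber X := Algebra.TensorProduct.includeRight a
    have hc : c ≠ 0 := fun h => ha (by
      obtain ⟨hpr, hcomap⟩ := FlatCA.WeakAss.fiberIdeal_prime p' P
      rw [← hcomap, Ideal.mem_comap]
      show c ∈ _root_.FlatCA.fiberIdeal p' P
      rw [h]
      exact zero_mem _)
    have hcomp : ∀ i, (LinearMap.proj i : (Fin r → X) →ₗ[R'] X).rTensor p'.ResidueField (EQ z) = 0 := fun i => by
      let cm := TensorProduct.comm R' X p'.ResidueField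
      have hcm : ∀ t, cm (a • t) = c * cm t := fun t => by
        induction t with
        | zero => simp
        | tmul d k => simp [cm, c, TensorProduct.smul_tmul']
        | add a b ha hb => simp only [smul_add, map_add, ha, hb, mul_add]
      have h1 : a • (LinearMap.proj i : (Fin r → X) →ₗ[R'] X).rTensor p'.ResidueField (EQ z) = 0 := by
        have : ∀ t, (LinearMap.proj i : (Fin r → X) →ₗ[R'] X).rTensor p'.ResidueField (a • t) =
            a • (LinearMap.proj i : (Fin r → X) →ₗ[R'] X).rTensor p'.ResidueField t := fun t => by
          induction t with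
          | zero => simp
          | tmul d k => simp [TensorProduct.smul_tmul']
          | add a b ha hb => simp only [smul_add, map_add, ha, hb]
        rw [← this, hw, map_zero]
      have h2 := congrArg cm h1
      rw [hcm, map_zero] at h2
      exact cm.map_eq_zero_iff.1 ((mul_eq_zero.1 h2).resolve_left hc)
    have hsum : ∀ t : (Fin r → X) ⊗[R'] p'.ResidueField,
        ∑ i, (LinearMap.single R' (fun _ : Fin r => X) i).rTensor p'.ResidueField
          ((LinearMap.proj i : (Fin r → X) →ₗ[R'] X).rTensor p'.ResidueField t) = t := fun t => by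
      induction t with
      | zero => simp
      | tmul v k =>
        simp only [LinearMap.rTensor_tmul, LinearMap.proj_apply, LinearMap.coe_single, ← TensorProduct.sum_tmul,
          Finset.univ_sum_single]
      | add a b ha hb => simp only [map_add, Finset.sum_add_distrib, ha, hb]
    rw [← hsum (EQ z)]
    simp [hcomp]

variable {R' : Type u} [CommRing R'] [Algebra R R'] {S : Type u} [CommRing S] [Algebra R S]

/-- A module killed by an element outside the point is a chart on its basic open. -/
theorem good_zero {N : Type u} [AddCommGroup N] [Module S N] (p : Ideal R) [p.IsPrime] (q : Ideal S) (f : S)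
    (hf : f ∉ q) (hN : ∀ n : N, f • n = 0) : Good N p q (algebraMap S (S ⊗[R] R) f) := by
  haveI : Subsingleton (Model N (algebraMap S (S ⊗[R] R) f)) := by
    refine ⟨fun a b => ?_⟩
    suffices h : ∀ m : Model N (algebraMap S (S ⊗[R] R) f), m = 0 by rw [h a, h b]
    intro m
    induction m using TensorProduct.induction_on with
    | zero => rfl
    | tmul b n =>
      have hu : IsUnit (algebraMap S (Localization.Away (algebraMap S (S ⊗[R] R) f)) f) := by
        rw [IsScalarTower.algebraMap_apply S (S ⊗[R] R)]
        exact IsLocalization.Away.algebraMap_isUnit (algebraMap S (S ⊗[R] R) f)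
      obtain ⟨c, hc⟩ := hu.exists_right_inv
      rw [show b = f • (c * b) by rw [Algebra.smul_def, ← mul_assoc, hc, one_mul], TensorProduct.smul_tmul, hN,
        TensorProduct.tmul_zero]
    | add a b ha hb => rw [ha, hb, add_zero]
  refine ⟨fun P _ hS _ hm => hf (hS ▸ hm), inferInstance, fun P _ _ _ a _ z hz => ?_⟩
  clear hz
  induction z using TensorProduct.induction_on with
  | zero => rfl
  | tmul m x => rw [Subsingleton.elim m 0, TensorProduct.zero_tmul]
  | add a b ha hb => rw [ha, hb, add_zero]

/-- Charts for the kernel and the cokernel of a map injective near the point give one for the target. -/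
theorem good_extension {F G : Type u} [AddCommGroup F] [Module S F] [AddCommGroup G] [Module S G]
    (α : F →ₗ[S] G) [Algebra.Etale R R'] (p' : Ideal R') [p'.IsPrime] (q : Ideal S) (u : S ⊗[R] R') (f : R)
    (hf : IsUnit (algebraMap R R' f)) (hker : ∀ v, α v = 0 → ∃ k : ℕ, algebraMap R S f ^ k • v = 0)
    (hF : Good F p' q u) (hP : Good (G ⧸ LinearMap.range α) p' q u) : Good G p' q u := by
  let B := Localization.Away u
  let αB := α.baseChange B
  let βB := (LinearMap.range α).mkQ.baseChange B
  have hs : Function.Surjective βB := LinearMap.lTensor_surjective B (Submodule.mkQ_surjective _)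
  have hex : Function.Exact αB βB := lTensor_exact B (LinearMap.exact_map_mkQ_range α) (Submodule.mkQ_surjective _)
  haveI : Module.Flat S B := Module.Flat.trans S (S ⊗[R] R') B
  have hinj : Function.Injective αB := by
    rw [injective_iff_map_eq_zero]
    intro w hw
    obtain ⟨x, rfl⟩ := (Module.Flat.lTensor_exact B (LinearMap.exact_subtype_ker_map α) w).1 hw
    clear hw
    induction x using TensorProduct.induction_on with
    | zero => exact map_zero _
    | add a b ha hb => rw [map_add, ha, hb, add_zero]
    | tmul b v =>
      obtain ⟨k, hk⟩ := hker v.1 v.2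
      have hu : IsUnit (algebraMap S B (algebraMap R S f ^ k)) := by
        rw [map_pow, ← IsScalarTower.algebraMap_apply R S B, IsScalarTower.algebraMap_apply R R' B]
        exact (hf.map _).pow k
      obtain ⟨c, hc⟩ := hu.exists_right_inv
      rw [LinearMap.lTensor_tmul, show b = (algebraMap R S f ^ k) • (c * b) by
        rw [Algebra.smul_def, ← mul_assoc, hc, one_mul], TensorProduct.smul_tmul]
      show (c * b) ⊗ₜ[S] ((algebraMap R S f ^ k) • v.1) = 0
      rw [hk, TensorProduct.tmul_zero]
  obtain ⟨hu, hprojP, hregP⟩ := hP
  obtain ⟨-, hprojF, hregF⟩ := hF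
  haveI := hprojF
  haveI := hprojP
  let a' := αB.restrictScalars R'
  let b' := βB.restrictScalars R'
  refine ⟨hu, ?_, fun P hP hS hR c hc z hz => ?_⟩
  · obtain ⟨s, hs'⟩ := Module.projective_lifting_property b' LinearMap.id hs
    let e : (Model F u × Model (G ⧸ LinearMap.range α) u) →ₗ[R'] Model G u := a'.coprod s
    have hb's : ∀ x, b' (s x) = x := fun x => LinearMap.congr_fun hs' x
    have hb'a : ∀ x, b' (a' x) = 0 := fun x => hex.apply_apply_eq_zero x
    have he : Function.Bijective e := by
      refine ⟨(injective_iff_map_eq_zero _).2 fun xy h => ?_, fun g => ?_⟩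
      · obtain ⟨x, y⟩ := xy
        have h1 : a' x + s y = 0 := h
        have hy : y = 0 := by
          have := congrArg b' h1
          rwa [map_add, map_zero, hb'a, hb's, zero_add] at this
        subst hy
        rw [map_zero, add_zero] at h1
        rw [show x = 0 from hinj (h1.trans (map_zero αB).symm)]
        rfl
      · obtain ⟨x, hx⟩ := (hex (g - s (b' g))).1 (by
          show b' (g - s (b' g)) = 0
          rw [map_sub, hb's, sub_self])
        exact ⟨(x, b' g), by show a' x + s (b' g) = g; rw [show a' x = g - s (b' g) from hx, sub_add_cancel]⟩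
    exact Module.Projective.of_equiv (LinearEquiv.ofBijective e he)
  · have hUI : Function.Injective (a'.rTensor p'.ResidueField) :=
      Pure.UI.of_flat_right a' b' hinj hex hs p'.ResidueField
    have hsm : ∀ {X Y : Type u} [AddCommGroup X] [Module B X] [Module R' X] [IsScalarTower R' B X] [AddCommGroup Y]
        [Module B Y] [Module R' Y] [IsScalarTower R' B Y] (g : X →ₗ[B] Y) (b : B) (t : X ⊗[R'] p'.ResidueField),
        (g.restrictScalars R').rTensor p'.ResidueField (b • t) = b • (g.restrictScalars R').rTensor p'.ResidueField t := by
      intro X Y _ _ _ _ _ _ _ _ g b t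
      induction t with
      | zero => simp
      | tmul m x => simp [TensorProduct.smul_tmul']
      | add a b ha hb => simp only [smul_add, map_add, ha, hb]
    have h1 : b'.rTensor p'.ResidueField z = 0 := hregP P hP hS hR c hc _ (by rw [← hsm βB, hz, map_zero])
    obtain ⟨w, rfl⟩ := (rTensor_exact p'.ResidueField (show Function.Exact a' b' from hex) hs z).1 h1
    rw [← hsm αB, ← map_zero (a'.rTensor p'.ResidueField)] at hz
    rw [hregF P hP hS hR c hc w (hUI hz), map_zero]

end Groth.Agent.Lib.RG.OpenFree
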