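import Groth.Agent.Lib.RG.OpenSteps
import Groth.Agent.Lib.RG.OpenFree
import Groth.Agent.Lib.RG.Induct
import Groth.Agent.Lib.RG.ElemData

/-!
# Flat finitely presented modules are projective on a chart after an étale neighbourhood of the base
-/

set_option autoImplicit false
set_option linter.style.haveILetI false

universe u

open scoped TensorProduct

attribute [local instance] Algebra.TensorProduct.rightAlgebra

namespace Groth.Agent.Lib.RG.OpenMain

open Engine StepModel FibrePoint Below NhdPoint OpenProj OpenSteps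

/-- Replacing the base by an étale algebra under the same neighbourhood. -/
theorem exists_good_restrict {R R₁ R' S G : Type u} [CommRing R] [CommRing R₁] [CommRing R'] [CommRing S]
    [Algebra R R₁] [Algebra R₁ R'] [Algebra R R'] [IsScalarTower R R₁ R'] [Algebra R S] [Algebra R₁ S]
    [IsScalarTower R R₁ S] [AddCommGroup G] [Module S G] (p : Ideal R) [p.IsPrime] (p₁ : Ideal R₁) [p₁.IsPrime]
    (p' : Ideal R') [p'.IsPrime] (q : Ideal S) [q.IsPrime] [q.LiesOver p] [q.LiesOver p₁]
    (hp : _root_.FlatCA.IsEtaleNhd R R' p p') (hp₁ : _root_.FlatCA.IsEtaleNhd R₁ R' p₁ p')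
    {u : S ⊗[R₁] R'} (h : Good G p' q u) : ∃ v : S ⊗[R] R', Good G p' q v := by
  let X := S ⊗[R] R'
  let X₁ := S ⊗[R₁] R'
  haveI := hp.1
  haveI := hp₁.1
  let π : X →ₐ[S] X₁ := Algebra.TensorProduct.lift (Algebra.ofId S X₁)
    ((Algebra.TensorProduct.includeRight : R' →ₐ[R₁] X₁).restrictScalars R) fun _ _ => Commute.all _ _
  letI : Algebra X X₁ := π.toRingHom.toAlgebra
  haveI : IsScalarTower S X X₁ := IsScalarTower.of_algebraMap_eq fun s => (π.commutes s).symm
  have hπR : ∀ r : R', algebraMap X X₁ (inR r) = inR r := fun r => by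
    show π ((1 : S) ⊗ₜ[R] r) = _
    rw [Algebra.TensorProduct.lift_tmul, map_one, one_mul]
    rfl
  haveI : IsScalarTower R' X X₁ := IsScalarTower.of_algebraMap_eq fun r => (hπR r).symm
  have hsurj : Function.Surjective (algebraMap X X₁) := fun x => by
    induction x using TensorProduct.induction_on with
    | zero => exact ⟨0, map_zero _⟩
    | tmul s r =>
      refine ⟨algebraMap S X s * inR r, ?_⟩
      rw [map_mul, hπR, ← IsScalarTower.algebraMap_apply S X X₁, ← tmul_eq]
    | add a b ha hb =>
      obtain ⟨a, rfl⟩ := ha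
      obtain ⟨b, rfl⟩ := hb
      exact ⟨a + b, map_add _ _ _⟩
  haveI : Algebra.Etale X X₁ := Algebra.Etale.of_restrictScalars S X X₁
  obtain ⟨e, he, hker⟩ : ∃ e : X, IsIdempotentElem e ∧ RingHom.ker (algebraMap X X₁) = Ideal.span {e} :=
    (Ideal.isIdempotentElem_iff_of_fg _
      (Algebra.FinitePresentation.ker_fG_of_surjective (Algebra.ofId X X₁) hsurj)).mp
      ((Algebra.FormallyEtale.iff_of_surjective hsurj).mp inferInstance)
  haveI haw : IsLocalization.Away (1 - e) X₁ :=
    IsLocalization.away_of_isIdempotentElem he.one_sub (hker.trans (by simp)) hsurj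
  obtain ⟨w, hw⟩ := hsurj u
  let B₁ := Localization.Away u
  haveI : IsScalarTower X X₁ B₁ := inferInstance
  haveI : IsLocalization.Away (algebraMap X X₁ w) B₁ := by rw [hw]; infer_instance
  haveI hB : IsLocalization.Away ((1 - e) * w) B₁ := IsLocalization.Away.mul' X₁ B₁ (1 - e) w
  let v := (1 - e) * w
  let eB : Localization.Away v ≃ₐ[X] B₁ := IsLocalization.algEquiv (Submonoid.powers v) _ _
  let E : Model G v ≃ₗ[X] B₁ ⊗[S] G :=
    TensorProduct.AlgebraTensorModule.congr eB.toLinearEquiv (LinearEquiv.refl S G)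
  obtain ⟨hu, hproj, hreg⟩ := h
  obtain ⟨P₁, hP₁, hS₁, hR₁⟩ := exists_point p₁ p' q hp₁
  haveI := hP₁
  have hcS : (P₁.comap (algebraMap X X₁)).comap (algebraMap S X) = q := by
    rw [Ideal.comap_comap, ← IsScalarTower.algebraMap_eq S X X₁]; exact hS₁
  have hcR : (P₁.comap (algebraMap X X₁)).comap inR = p' := Ideal.ext fun r => by
    rw [← hR₁, Ideal.mem_comap, Ideal.mem_comap, Ideal.mem_comap, hπR]
  have hP : ∀ P : Ideal X, P.IsPrime → P.comap (algebraMap S X) = q → P.comap inR = p' →
      P = P₁.comap (algebraMap X X₁) := fun P hP hS hR => by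
    haveI := hP
    exact point_unique p p' q hp P _ hS hR hcS hcR
  refine ⟨v, fun P hPp hS hR hm => ?_, ?_, fun P hPp hS hR a ha z hz => ?_⟩
  · rw [hP P hPp hS hR, Ideal.mem_comap, map_mul, hw] at hm
    refine (hP₁.mem_or_mem hm).elim (fun h1 => hP₁.ne_top (Ideal.eq_top_of_isUnit_mem _ h1 ?_)) (hu P₁ hP₁ hS₁ hR₁)
    exact IsLocalization.Away.algebraMap_isUnit (1 - e)
  · haveI := hproj
    exact Module.Projective.of_equiv (E.restrictScalars R').symm
  · have ha₁ : algebraMap X X₁ a ∉ P₁ := fun hm => ha (by rw [hP P hPp hS hR]; exact hm)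
    let EQ := TensorProduct.AlgebraTensorModule.congr E (LinearEquiv.refl R' p'.ResidueField)
    rw [algebraMap_smul] at hz
    refine EQ.map_eq_zero_iff.1 (hreg P₁ hP₁ hS₁ hR₁ _ ha₁ (EQ z) ?_)
    have h0 : a • EQ z = 0 := by rw [← map_smul, hz, map_zero]
    rw [← IsScalarTower.algebraMap_apply X X₁ B₁]
    have hsm : ∀ t : (B₁ ⊗[S] G) ⊗[R'] p'.ResidueField, algebraMap X B₁ a • t = a • t := fun t => by
      induction t with
      | zero => simp
      | tmul m x => rw [TensorProduct.smul_tmul', TensorProduct.smul_tmul', algebraMap_smul]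
      | add x y hx hy => simp only [smul_add, hx, hy]
    rw [hsm, h0]

/-- Projectivity on a chart of the module after an étale neighbourhood. -/
def HasChart (R S : Type u) [CommRing R] [CommRing S] [Algebra R S] (N : Type u) [AddCommGroup N] [Module S N]
    (p : Ideal R) [p.IsPrime] (q : Ideal S) : Prop :=
  ∃ (R' : Type u) (_ : CommRing R') (_ : Algebra R R') (p' : Ideal R') (_ : p'.IsPrime),
    _root_.FlatCA.IsEtaleNhd R R' p p' ∧ ∃ u : S ⊗[R] R', Good N p' q u

theorem hasChart_of_zeroAt {R S : Type u} [CommRing R] [CommRing S] [Algebra R S] [Algebra.FiniteType R S]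
    (N : Type u) [AddCommGroup N] [Module S N] [Module R N] [IsScalarTower R S N] [Module.Finite S N]
    (p : Ideal R) [p.IsPrime] (q : Ideal S) [q.IsPrime] [q.LiesOver p] (h : ZeroAt p q N) : HasChart R S N p q := by
  classical
  obtain ⟨T, hT⟩ := Module.Finite.fg_top (R := S) (M := N)
  choose w hw hwn using fun n : N => eq_zero_of_zeroAt h n
  let f := ∏ n ∈ T, w n
  have hfq : f ∉ q := fun hp => by
    obtain ⟨n, -, hn⟩ := (Ideal.IsPrime.prod_mem_iff (p := q)).1 hp
    exact hw n hn
  have hfN : ∀ n : N, f • n = 0 := fun n => by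
    have hn : n ∈ Submodule.span S (T : Set N) := hT ▸ trivial
    induction hn using Submodule.span_induction with
    | mem x hx =>
      rw [show f = (∏ y ∈ T.erase x, w y) * w x from (Finset.prod_erase_mul _ _ (Finset.mem_coe.1 hx)).symm,
        mul_smul, hwn, smul_zero]
    | zero => exact smul_zero _
    | add a b _ _ ha hb => rw [smul_add, ha, hb, add_zero]
    | smul c a _ ha => rw [smul_comm, ha, smul_zero]
  exact ⟨R, inferInstance, inferInstance, p, inferInstance, NhdPoint.refl p, _, OpenFree.good_zero p q f hfq hfN⟩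

set_option maxHeartbeats 3200000 in
set_option synthInstance.maxHeartbeats 200000 in
theorem chart_aux (n : ℕ) : ∀ (R S : Type u) [CommRing R] [CommRing S] [Algebra R S] [Algebra.FinitePresentation R S]
    (N : Type u) [AddCommGroup N] [Module S N] [Module R N] [IsScalarTower R S N] [Module.FinitePresentation S N]
    (p : Ideal R) [p.IsPrime] (q : Ideal S) [q.IsPrime] [q.LiesOver p], DimLT p q N n →
    Module.Flat R (LocalizedModule q.primeCompl N) → HasChart R S N p q := by
  induction n with
  | zero =>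
    intro R S _ _ _ _ N _ _ _ _ _ p _ q _ _ h _
    exact hasChart_of_zeroAt N p q (zeroAt_of_dimLT_zero h)
  | succ n ih =>
    intro R S _ _ _ _ N _ _ _ _ _ p _ q _ _ h hflat
    rcases zeroAt_or_exists_dim h with h0 | ⟨x, hx, m, hxq, hmn, hdimm⟩
    · exact hasChart_of_zeroAt N p q h0
    obtain ⟨E⟩ := ElemExist.exists_elemDevissage N p q m x hxq hx hdimm
    have hetR := E.etaleR
    have hetS := E.etaleS
    haveI := hetR.1
    haveI := hetR.2.choose
    haveI := hetS.1
    haveI := hetS.2.choose
    haveI := E.finiteDC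
    haveI := E.finiteG
    haveI := E.fpC
    haveI := Reduce.smooth_of_smoothRelDim E.smooth
    haveI : Algebra.FinitePresentation E.R' E.D := inferInstance
    haveI : Module.Flat E.R' E.D := inferInstance
    haveI : Module.Flat S E.S' := inferInstance
    obtain ⟨mSG, mRG, t₁, t₂, t₃, t₄, t₅, f, hf⟩ := ElemData.exists_base E
    haveI : Module.Finite E.D E.G := Module.Finite.trans E.C E.G
    haveI : Algebra.FinitePresentation R E.S' := Algebra.FinitePresentation.trans R S E.S'
    haveI : Algebra.FinitePresentation E.R' E.S' :=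
      Algebra.FinitePresentation.of_restrict_scalars_finitePresentation R E.R' E.S'
    haveI : Algebra.FinitePresentation E.R' E.C := Algebra.FinitePresentation.trans E.R' E.S' E.C
    haveI : Module.FinitePresentation E.S' E.G := Module.FinitePresentation.of_equiv hf.equiv
    haveI : Module.FinitePresentation E.C E.G :=
      FlatFPSyzygy.Basic.finitePresentation_of_restrict (P := E.S') E.surjC E.G |> fun h => h
    haveI : Module.FinitePresentation E.D E.G :=
      RG57.DevissageProj.finitePresentation_of_finite (B := E.D) (A := E.C) (M := E.G) E.R'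
    haveI : Algebra.IsIntegral E.D E.C := Algebra.IsIntegral.of_finite _ _
    have hq : E.q'.comap (algebraMap S E.S') = q := (E.q'.over_def q).symm
    have hzy : E.z.comap (algebraMap E.D E.C) = E.y := (E.z.over_def E.y).symm
    have hzq : E.z.comap (algebraMap E.S' E.C) = E.q' := (E.z.over_def E.q').symm
    have hu : ∀ z₁ : Ideal E.C, z₁.IsPrime → z₁.comap (algebraMap E.D E.C) = E.y → z₁ = E.z := fun z₁ hz₁ h =>
      E.uniq z₁ ⟨h.symm⟩
    -- flatness at the point of the smooth algebra
    have hy : Module.Flat E.R' (LocalizedModule E.y.primeCompl E.G) := by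
      haveI : IsScalarTower R E.R' (LocalizedModule E.q'.primeCompl E.G) :=
        IsScalarTower.of_algebraMap_smul fun r x => by
          rw [← algebraMap_smul E.S' (algebraMap R E.R' r) x, ← IsScalarTower.algebraMap_apply, algebraMap_smul]
      haveI := flatAt_up f hf q E.q' hq hflat
      have h1 : Module.Flat E.R' (LocalizedModule E.q'.primeCompl E.G) :=
        Algebra.FormallyUnramified.flat_of_restrictScalars (R := R) (S := E.R') _
      refine DevTools.flatAt_of_forall_over (R := E.R') (C := E.C) E.y fun z₁ hz₁ h => ?_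
      obtain rfl := hu z₁ hz₁ h
      refine (H19.FlatLocus.flat_iff_killed E.z.primeCompl (LocalizedModule.mkLinearMap E.z.primeCompl E.G)).2
        fun J ξ hξ => ?_
      obtain ⟨w, hw, hwξ⟩ := (H19.FlatLocus.flat_iff_killed E.q'.primeCompl
        (LocalizedModule.mkLinearMap E.q'.primeCompl E.G)).1 h1 J ξ hξ
      exact ⟨algebraMap E.S' E.C w, fun h => hw (hzq.le h), by rw [algebraMap_smul]; exact hwξ⟩
    have hgif := Fibres.gif_of_geomIntegral E.geomInt
    obtain ⟨r, α, hα⟩ := Induct.exists_step_map hgif E.p' E.y hy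
    haveI : Module.FinitePresentation E.D (E.G ⧸ LinearMap.range α) :=
      Module.finitePresentation_of_surjective (LinearMap.range α).mkQ (Submodule.mkQ_surjective _)
        (by rw [Submodule.ker_mkQ, ← Submodule.map_top]; exact Module.Finite.fg_top.map α)
    obtain ⟨R₂, cR₂, aR₂, p₂, hp₂, hnhd₂, u₂, hgood₂⟩ := ih E.R' E.D (E.G ⧸ LinearMap.range α) E.p' E.y
      ((Induct.dimLT_coker hgif E.p' E.y (Reduce.fibreDim_le E.smooth E.p') hα).mono hmn)
      (Induct.flat_coker hgif E.p' E.y hα E.y hy)
    haveI := hnhd₂.1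
    haveI := hnhd₂.2.choose
    -- the element of the base making the map injective
    haveI := (genPrime_isPrime E.p' hgif E.y).1
    haveI := (genPrime_isPrime E.p' hgif E.y).2
    obtain ⟨f₁, hf₁, hui⟩ := StepLemmas.exists_ui_away hgif E.p' (genPrime E.p' E.D)
      (fun Q _ _ => genPrime_le E.p' Q) α hα
    have hker : ∀ v, α v = 0 → ∃ k : ℕ, algebraMap E.R' E.D f₁ ^ k • v = 0 := fun v hv => by
      let W := Submonoid.powers (algebraMap E.R' E.D f₁)
      have hinj : Function.Injective ((LocalizedModule.map W α).restrictScalars E.R') :=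
        Pure.UI.injective fun Q _ _ => (LinearMap.lTensor_inj_iff_rTensor_inj _ _).1 (hui Q)
      have h0 : LocalizedModule.mk v (1 : W) = 0 := hinj (by
        rw [LinearMap.coe_restrictScalars, LocalizedModule.map_mk, map_zero, hv, LocalizedModule.zero_mk])
      rw [← LocalizedModule.zero_mk (1 : W), LocalizedModule.mk_eq] at h0
      obtain ⟨⟨_, k, rfl⟩, hc⟩ := h0
      simp only [one_smul, smul_zero, Submonoid.smul_def] at hc
      exact ⟨k, hc⟩
    have hf₁' : algebraMap E.R' R₂ f₁ ∉ p₂ := fun h => hf₁ (by rw [p₂.over_def E.p']; exact h)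
    obtain ⟨R₃, cR₃, aR₃, a23, t23, p₃, hp₃, hnhd₃, hunit, hgoodP₃⟩ :=
      exists_shrink (E.G ⧸ LinearMap.range α) E.p' p₂ E.y hnhd₂ hgood₂ 1
        (fun P hP _ _ h1 => hP.ne_top ((Ideal.eq_top_iff_one P).2 h1)) _ hf₁'
    have hn13 := NhdPoint.trans hnhd₂ hnhd₃
    haveI := hn13.1
    haveI := hn13.2.choose
    -- the free module
    have hgid : RG57.ContentProj.GID E.R' E.D := fun K _ _ => Fibres.isDomain_of_geomIntegral E.geomInt K
    let u₃ := sig (R' := R₂) (R'' := R₃) (u₂ * 1)
    obtain ⟨R₄, cR₄, aR₄, a34, t34, p₄, hp₄, hnhd₄, -, hgoodF₄⟩ :=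
      exists_shrink (Fin r → E.D) E.p' p₃ E.y hn13 (OpenFree.good_free hgid p₃ E.y r) u₃ hgoodP₃.1 1
        (fun h1 => Ideal.IsPrime.ne_top inferInstance ((Ideal.eq_top_iff_one _).2 h1))
    rw [one_mul] at hgoodF₄
    have hn14 := NhdPoint.trans hn13 hnhd₄
    haveI := hn14.1
    haveI := hn14.2.choose
    have hgoodG : Good E.G p₄ E.y (sig (R' := R₃) (R'' := R₄) u₃) := by
      refine OpenFree.good_extension α p₄ E.y _ f₁ ?_ hker hgoodF₄ (good_push _ E.p' p₃ p₄ E.y hn13 hnhd₄ hgoodP₃)
      rw [IsScalarTower.algebraMap_apply E.R' R₃ R₄, IsScalarTower.algebraMap_apply E.R' R₂ R₃]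
      exact hunit.map _
    -- to the finite algebra and the étale algebra
    haveI : E.z.LiesOver E.p' := Ideal.LiesOver.trans E.z E.y E.p'
    have hgoodC := good_up (S₁ := E.C) hzy _
      (fun P hP hS hR a ha => dvd_of_finite E.y E.z hzy hu hn14 P hP hS hR a ha) hgoodG
    have hsurj : Function.Surjective (del (R := E.R') (S₀ := E.S') (S₁ := E.C) (R' := R₄)) := fun c => by
      induction c using TensorProduct.induction_on with
      | zero => exact ⟨0, map_zero _⟩
      | tmul a b =>
        obtain ⟨a, rfl⟩ := E.surjC a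
        exact ⟨a ⊗ₜ b, rfl⟩
      | add a b ha hb =>
        obtain ⟨a, rfl⟩ := ha
        obtain ⟨b, rfl⟩ := hb
        exact ⟨a + b, map_add _ _ _⟩
    obtain ⟨w, hw⟩ := hsurj (del (S₁ := E.C) (sig (R' := R₃) (R'' := R₄) u₃))
    rw [← hw] at hgoodC
    have hgoodS := good_down hzq w E.p' hn14 hgoodC
    -- to the original base and algebra
    letI aRR₄ : Algebra R R₄ := ((algebraMap E.R' R₄).comp (algebraMap R E.R')).toAlgebra
    haveI : IsScalarTower R E.R' R₄ := IsScalarTower.of_algebraMap_eq fun _ => rfl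
    have hn : _root_.FlatCA.IsEtaleNhd R R₄ p p₄ := NhdPoint.trans hetR hn14
    haveI : E.q'.LiesOver p := Ideal.LiesOver.trans E.q' q p
    obtain ⟨v, hgoodv⟩ := exists_good_restrict p E.p' p₄ E.q' hn hn14 hgoodS
    obtain ⟨R₅, cR₅, aR₅, a45, t45, p₅, hp₅, v₅, hnhd₅, hgood₅⟩ :=
      exists_good_descend f hf p p₄ q E.q' hq hn hgoodv
    exact ⟨R₅, cR₅, aR₅, p₅, hp₅, NhdPoint.trans hn hnhd₅, v₅, hgood₅⟩

/-- A finitely presented module flat at a point is projective on a chart. -/
theorem exists_chart {R S : Type u} [CommRing R] [CommRing S] [Algebra R S] [Algebra.FinitePresentation R S]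
    {N : Type u} [AddCommGroup N] [Module S N] [Module R N] [IsScalarTower R S N] [Module.FinitePresentation S N]
    (p : Ideal R) [p.IsPrime] (q : Ideal S) [q.IsPrime] [q.LiesOver p]
    (h : Module.Flat R (LocalizedModule q.primeCompl N)) : HasChart R S N p q := by
  obtain ⟨n, hn⟩ := Induct.exists_dimLT (N := N) p q
  exact chart_aux n R S N p q hn h

end Groth.Agent.Lib.RG.OpenMain
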