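import Groth.Agent.Lib.RG.ProjMod
import Groth.Agent.Lib.RG.NhdPoint
import Groth.Agent.Lib.FlatCA.FiniteCriterion
import Groth.Agent.Lib.FlatCA.Impurity
import Groth.Agent.Lib.FlatCA.CompleteFlattenBC
import Mathlib.RingTheory.Localization.BaseChange

/-!
# Charts on which a module is projective over an étale neighbourhood of the base

`Good N p' q u`: the basic open of `u` in the base change contains the point, the module is
projective on it over the new base, and elements outside the point are regular on its closed fibre.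
-/

set_option autoImplicit false
set_option linter.style.haveILetI false

universe u

open scoped TensorProduct

attribute [local instance] Algebra.TensorProduct.rightAlgebra

namespace Groth.Agent.Lib.RG.OpenProj

open NhdPoint

variable {R S : Type u} [CommRing R] [CommRing S] [Algebra R S] (N : Type u) [AddCommGroup N] [Module S N]
  {R' : Type u} [CommRing R'] [Algebra R R']

/-- The module on a basic open of the base change. -/
abbrev Model (u : S ⊗[R] R') : Type u := Localization.Away u ⊗[S] N

/-- The basic open is a chart at the point. -/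
def Good (p' : Ideal R') [p'.IsPrime] (q : Ideal S) (u : S ⊗[R] R') : Prop :=
  (∀ P : Ideal (S ⊗[R] R'), P.IsPrime → P.comap (algebraMap S (S ⊗[R] R')) = q → P.comap inR = p' → u ∉ P) ∧
  Module.Projective R' (Model N u) ∧
  ∀ P : Ideal (S ⊗[R] R'), P.IsPrime → P.comap (algebraMap S (S ⊗[R] R')) = q → P.comap inR = p' →
    ∀ a, a ∉ P → ∀ z : Model N u ⊗[R'] p'.ResidueField,
      algebraMap (S ⊗[R] R') (Localization.Away u) a • z = 0 → z = 0

section Change

variable {R'' : Type u} [CommRing R''] [Algebra R R''] [Algebra R' R''] [IsScalarTower R R' R'']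

/-- The map of base changes. -/
noncomputable def sig : S ⊗[R] R' →ₐ[R] S ⊗[R] R'' :=
  Algebra.TensorProduct.map (AlgHom.id R S) (IsScalarTower.toAlgHom R R' R'')

theorem sig_left (s : S) :
    (sig : S ⊗[R] R' →ₐ[R] S ⊗[R] R'') (algebraMap S (S ⊗[R] R') s) = algebraMap S (S ⊗[R] R'') s := by
  show Algebra.TensorProduct.map (AlgHom.id R S) (IsScalarTower.toAlgHom R R' R'') (s ⊗ₜ[R] (1 : R')) = s ⊗ₜ[R] (1 : R'')
  rw [Algebra.TensorProduct.map_tmul, map_one]
  rfl

theorem sig_inR (r : R') : (sig : S ⊗[R] R' →ₐ[R] S ⊗[R] R'') (inR r) = inR (algebraMap R' R'' r) := by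
  show Algebra.TensorProduct.map (AlgHom.id R S) (IsScalarTower.toAlgHom R R' R'') ((1 : S) ⊗ₜ[R] r) =
    (1 : S) ⊗ₜ[R] algebraMap R' R'' r
  rw [Algebra.TensorProduct.map_tmul, map_one]
  rfl

theorem point_comap {p' : Ideal R'} {p'' : Ideal R''} [p''.LiesOver p'] {q : Ideal S}
    (P : Ideal (S ⊗[R] R'')) (hS : P.comap (algebraMap S (S ⊗[R] R'')) = q) (hR : P.comap inR = p'') :
    (P.comap (sig (R' := R') (R'' := R'')).toRingHom).comap (algebraMap S (S ⊗[R] R')) = q ∧
      (P.comap (sig (R' := R') (R'' := R'')).toRingHom).comap inR = p' := by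
  refine ⟨?_, ?_⟩
  · rw [← hS, Ideal.comap_comap]
    congr 1
    exact RingHom.ext fun s => sig_left s
  · rw [Ideal.comap_comap, p''.over_def p', Ideal.under_def, ← hR, Ideal.comap_comap]
    congr 1

/-- The module on the new basic open is the base change of the module on the old one. -/
theorem exists_push [Algebra R' (S ⊗[R] R'')] [IsScalarTower R' R'' (S ⊗[R] R'')] (u : S ⊗[R] R') :
    ∃ (β : Localization.Away u →+* Localization.Away (sig (R'' := R'') u))
      (ι : Model N u →ₗ[R'] Model N (sig (R'' := R'') u)),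
      (∀ a, β (algebraMap (S ⊗[R] R') _ a) = algebraMap (S ⊗[R] R'') _ (sig a)) ∧
      (∀ b n, ι (b ⊗ₜ[S] n) = β b ⊗ₜ[S] n) ∧ IsBaseChange R'' ι ∧
      (∀ (b : Localization.Away u) m, ι (b • m) = β b • ι m) := by
  let X := S ⊗[R] R'
  let X'' := S ⊗[R] R''
  let B := Localization.Away u
  let B'' := Localization.Away (sig (R'' := R'') u)
  letI aXX : Algebra X X'' := (sig (R' := R') (R'' := R'')).toRingHom.toAlgebra
  have hu : IsUnit (algebraMap X B'' u) := IsLocalization.Away.algebraMap_isUnit (sig (R'' := R'') u)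
  letI aBB : Algebra B B'' := (IsLocalization.Away.lift u hu).toAlgebra
  haveI : IsScalarTower X B B'' := IsScalarTower.of_algebraMap_eq fun x =>
    (IsLocalization.Away.lift_eq u hu x).symm
  haveI : IsScalarTower S X X'' := IsScalarTower.of_algebraMap_eq fun s => (sig_left s).symm
  haveI : IsScalarTower R' X X'' := IsScalarTower.of_algebraMap_eq fun r => by
    show algebraMap R' X'' r = sig (inR r)
    rw [sig_inR]
    exact IsScalarTower.algebraMap_apply R' R'' X'' r
  haveI : IsScalarTower R X X'' := IsScalarTower.of_algebraMap_eq fun r => (sig.commutes r).symm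
  haveI : IsScalarTower S B B'' := IsScalarTower.of_algebraMap_eq fun s => by
    rw [IsScalarTower.algebraMap_apply S X B, ← IsScalarTower.algebraMap_apply X B B'',
      IsScalarTower.algebraMap_apply X X'' B'', ← IsScalarTower.algebraMap_apply S X X'',
      ← IsScalarTower.algebraMap_apply S X'' B'']
  haveI : IsScalarTower R' X B'' := IsScalarTower.of_algebraMap_eq fun r => by
    rw [IsScalarTower.algebraMap_apply X X'' B'', ← IsScalarTower.algebraMap_apply R' X X'',
      ← IsScalarTower.algebraMap_apply R' X'' B'']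
  haveI : IsScalarTower R' B B'' := IsScalarTower.of_algebraMap_eq fun r => by
    rw [IsScalarTower.algebraMap_apply R' X B, ← IsScalarTower.algebraMap_apply X B B'',
      ← IsScalarTower.algebraMap_apply R' X B'']
  haveI : IsScalarTower R' R'' B'' := IsScalarTower.of_algebraMap_eq fun r => by
    rw [IsScalarTower.algebraMap_apply R' X'' B'', IsScalarTower.algebraMap_apply R'' X'' B'',
      ← IsScalarTower.algebraMap_apply R' R'' X'']
  -- pushouts
  haveI h1 : Algebra.IsPushout R R' S X := inferInstance
  haveI h2 : Algebra.IsPushout R R'' S X'' := inferInstance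
  haveI hX : Algebra.IsPushout R' R'' X X'' :=
    (Algebra.IsPushout.comp_iff (R := R) (S := R') (R' := S) (S' := X) (T := R'') (T' := X'')).1 h2
  haveI hloc : IsLocalization (Algebra.algebraMapSubmonoid X'' (Submonoid.powers u)) B'' := by
    rw [Algebra.algebraMapSubmonoid, Submonoid.map_powers]
    exact inferInstanceAs (IsLocalization.Away (sig (R'' := R'') u) B'')
  haveI hB : Algebra.IsPushout X X'' B B'' := Algebra.isPushout_of_isLocalization (Submonoid.powers u) _ _ _
  haveI : Algebra.IsPushout R' X R'' X'' := hX.symm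
  have hpo : Algebra.IsPushout R' B R'' B'' :=
    (Algebra.IsPushout.comp_iff (R := R') (S := X) (R' := R'') (S' := X'') (T := B) (T' := B'')).2 hB.symm
  let f : Model N u →ₗ[B] Model N (sig (R'' := R'') u) :=
    TensorProduct.AlgebraTensorModule.rTensor S N (Algebra.linearMap B B'')
  have hf : IsBaseChange B'' f := by
    refine IsBaseChange.of_comp (TensorProduct.isBaseChange S N B) ?_
    have : (f.restrictScalars S).comp (TensorProduct.mk S B N 1) = TensorProduct.mk S B'' N 1 :=
      LinearMap.ext fun n => by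
        show algebraMap B B'' 1 ⊗ₜ[S] n = (1 : B'') ⊗ₜ[S] n
        rw [map_one]
    rw [this]
    exact TensorProduct.isBaseChange S N B''
  refine ⟨algebraMap B B'', f.restrictScalars R', fun a => ?_, fun b n => ?_, ?_, fun b m => ?_⟩
  · rw [← IsScalarTower.algebraMap_apply X B B'']
    rfl
  · rfl
  · exact IsBaseChange.of_equiv (FlatCA.Impurity.baseChangeEquiv (A' := R'') (B' := B'') hpo f hf).symm
      (FlatCA.CompleteFlatten.baseChangeEquiv_symm_one_tmul hpo f hf)
  · rw [LinearMap.coe_restrictScalars, map_smul, algebraMap_smul]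

/-- Tensoring with a module over the new base. -/
theorem exists_compare (u : S ⊗[R] R') (Q : Type u) [AddCommGroup Q] [Module R'' Q] [Module R' Q]
    [IsScalarTower R' R'' Q] :
    ∃ (β : Localization.Away u →+* Localization.Away (sig (R'' := R'') u))
      (g : Model N u ⊗[R'] Q ≃+ Model N (sig (R'' := R'') u) ⊗[R''] Q),
      (∀ a, β (algebraMap (S ⊗[R] R') _ a) = algebraMap (S ⊗[R] R'') _ (sig a)) ∧
      (∀ b n x, g ((b ⊗ₜ[S] n) ⊗ₜ x) = (β b ⊗ₜ[S] n) ⊗ₜ x) ∧ ∀ (a : S ⊗[R] R') z,
      g (algebraMap (S ⊗[R] R') (Localization.Away u) a • z) =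
        algebraMap (S ⊗[R] R'') (Localization.Away (sig (R'' := R'') u)) (sig a) • g z := by
  letI : Algebra R' (S ⊗[R] R'') := ((algebraMap R'' (S ⊗[R] R'')).comp (algebraMap R' R'')).toAlgebra
  haveI : IsScalarTower R' R'' (S ⊗[R] R'') := IsScalarTower.of_algebraMap_eq fun _ => rfl
  obtain ⟨β, ι, hβ, hβn, hι, hsmul⟩ := exists_push N (R'' := R'') u
  let g : Model N u ⊗[R'] Q ≃+ Model N (sig (R'' := R'') u) ⊗[R''] Q :=
    ((TensorProduct.comm R' (Model N u) Q).toAddEquiv.trans (hι.tensorEquiv Q).symm.toAddEquiv).trans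
      (TensorProduct.comm R'' Q (Model N (sig (R'' := R'') u))).toAddEquiv
  have hg : ∀ m x, g (m ⊗ₜ x) = ι m ⊗ₜ x := fun m x => by
    simp [g, IsBaseChange.tensorEquiv, IsBaseChange.equiv_tmul]
  refine ⟨β, g, hβ, fun b n x => by rw [hg, hβn], fun a z => ?_⟩
  induction z using TensorProduct.induction_on with
  | zero => simp
  | tmul m x => rw [TensorProduct.smul_tmul', hg, hg, hsmul, hβ, TensorProduct.smul_tmul']
  | add a b ha hb => simp only [smul_add, map_add, ha, hb]

/-- Projectivity passes to the new base. -/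
theorem projective_push (u : S ⊗[R] R') [Module.Projective R' (Model N u)] :
    Module.Projective R'' (Model N (sig (R'' := R'') u)) := by
  letI : Algebra R' (S ⊗[R] R'') := ((algebraMap R'' (S ⊗[R] R'')).comp (algebraMap R' R'')).toAlgebra
  haveI : IsScalarTower R' R'' (S ⊗[R] R'') := IsScalarTower.of_algebraMap_eq fun _ => rfl
  obtain ⟨β, ι, -, -, hι, -⟩ := exists_push N (R'' := R'') u
  exact Module.Projective.of_equiv hι.equiv

/-- Universal regularity passes to the new base. -/
theorem regular_push (u a : S ⊗[R] R')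
    (h : ∀ (Q : Type u) [AddCommGroup Q] [Module R' Q] (z : Model N u ⊗[R'] Q),
      algebraMap (S ⊗[R] R') (Localization.Away u) a • z = 0 → ∃ f : R', IsUnit (algebraMap R' R'' f) ∧ f • z = 0)
    (Q : Type u) [AddCommGroup Q] [Module R'' Q] (z : Model N (sig (R'' := R'') u) ⊗[R''] Q)
    (hz : algebraMap (S ⊗[R] R'') (Localization.Away (sig (R'' := R'') u)) (sig a) • z = 0) : z = 0 := by
  letI : Module R' Q := Module.compHom Q (algebraMap R' R'')
  haveI : IsScalarTower R' R'' Q := IsScalarTower.of_algebraMap_smul fun _ _ => rfl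
  obtain ⟨-, g, -, -, hg⟩ := exists_compare N u (R'' := R'') Q
  obtain ⟨w, rfl⟩ := g.surjective z
  rw [← hg, AddEquiv.map_eq_zero_iff] at hz
  obtain ⟨f, hf, hfw⟩ := h Q w hz
  have hsm : algebraMap (S ⊗[R] R') (Localization.Away u) (inR f) • w = f • w := by
    rw [show (inR f : S ⊗[R] R') = algebraMap R' (S ⊗[R] R') f from rfl, ← IsScalarTower.algebraMap_apply,
      algebraMap_smul]
  have h0 : algebraMap (S ⊗[R] R'') (Localization.Away (sig (R'' := R'') u)) (inR (algebraMap R' R'' f)) • g w = 0 := by
    rw [← sig_inR, ← hg, hsm, hfw, map_zero]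
  rw [show (inR (algebraMap R' R'' f) : S ⊗[R] R'') = algebraMap R'' _ (algebraMap R' R'' f) from rfl,
    ← IsScalarTower.algebraMap_apply, algebraMap_smul] at h0
  exact (hf.smul_eq_zero).1 h0

variable (p : Ideal R) [p.IsPrime] (p' : Ideal R') [p'.IsPrime] (p'' : Ideal R'') [p''.IsPrime] (q : Ideal S)
  [q.IsPrime] [q.LiesOver p]
  (hp : _root_.FlatCA.IsEtaleNhd R R' p p') (hnhd : _root_.FlatCA.IsEtaleNhd R' R'' p' p'')

include hp hnhd in
/-- Charts pass to finer neighbourhoods. -/
theorem good_push {u : S ⊗[R] R'} (h : Good N p' q u) : Good N p'' q (sig (R'' := R'') u) := by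
  obtain ⟨hu, hproj, hreg⟩ := h
  have hcomp := NhdPoint.trans hp hnhd
  obtain ⟨-, hover, hbij⟩ := hnhd
  haveI := hover
  refine ⟨fun P hP hS hR hmem => hu (P.comap (sig (R' := R') (R'' := R'')).toRingHom) (hP.comap _)
    (point_comap (p' := p') P hS hR).1 (point_comap (p' := p') P hS hR).2 hmem, ?_, fun P hP hS hR a ha z hz => ?_⟩
  · haveI := hproj
    exact projective_push N u
  · haveI := hP
    obtain ⟨-, g, -, -, hg⟩ := exists_compare N u (R'' := R'') p''.ResidueField
    obtain ⟨w, rfl⟩ := g.surjective z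
    obtain ⟨P', hP', hS', hR'⟩ : ∃ P' : Ideal (S ⊗[R] R'), P'.IsPrime ∧
        P'.comap (algebraMap S (S ⊗[R] R')) = q ∧ P'.comap inR = p' :=
      ⟨_, hP.comap (sig (R' := R') (R'' := R'')).toRingHom, (point_comap (p' := p') P hS hR).1,
        (point_comap (p' := p') P hS hR).2⟩
    obtain ⟨a₀, b, hb, hab⟩ := exists_fraction_mod p p'' q hcomp a
    have hle : p''.map (inR : R'' →+* S ⊗[R] R'') ≤ P := Ideal.map_le_iff_le_comap.2 hR.ge
    have ha₀ : algebraMap S (S ⊗[R] R'') a₀ ∉ P := fun h0 => by
      have : algebraMap S (S ⊗[R] R'') b * a ∈ P := by simpa using add_mem (hle hab) h0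
      exact ((Ideal.IsPrime.mem_or_mem inferInstance this).resolve_right ha |> fun hbP => hb (hS ▸ hbP))
    let zg := g w
    have hkill : ∀ x ∈ p''.map (inR : R'' →+* S ⊗[R] R''),
        algebraMap (S ⊗[R] R'') (Localization.Away (sig (R'' := R'') u)) x • zg = 0 := by
      intro x hx
      induction hx using Submodule.span_induction with
      | mem x hx =>
        obtain ⟨r, hr, rfl⟩ := hx
        rw [show (inR r : S ⊗[R] R'') = algebraMap R'' _ r from rfl, ← IsScalarTower.algebraMap_apply,
          algebraMap_smul]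
        induction zg using TensorProduct.induction_on with
        | zero => exact smul_zero _
        | tmul m x =>
          rw [← TensorProduct.tmul_smul, ← algebraMap_smul p''.ResidueField r x,
            Ideal.algebraMap_residueField_eq_zero.2 hr, zero_smul, TensorProduct.tmul_zero]
        | add a b ha hb => rw [smul_add, ha, hb, add_zero]
      | zero => rw [map_zero, zero_smul]
      | add a b _ _ ha hb => rw [map_add, add_smul, ha, hb, add_zero]
      | smul c x _ hx => rw [smul_eq_mul, map_mul, mul_smul, hx, smul_zero]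
    have h1 : g (algebraMap (S ⊗[R] R') (Localization.Away u) (algebraMap S (S ⊗[R] R') a₀) • w) = 0 := by
      rw [hg, sig_left]
      have h3 : algebraMap (S ⊗[R] R'') (Localization.Away (sig (R'' := R'') u))
          (algebraMap S (S ⊗[R] R'') b * a) • zg = 0 := by rw [map_mul, mul_smul, hz, smul_zero]
      have h4 := hkill _ hab
      have h5 : algebraMap (S ⊗[R] R'') (Localization.Away (sig (R'' := R'') u))
          (algebraMap S (S ⊗[R] R'') b * a) =
          algebraMap (S ⊗[R] R'') (Localization.Away (sig (R'' := R'') u)) (algebraMap S (S ⊗[R] R'') a₀) +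
          algebraMap (S ⊗[R] R'') (Localization.Away (sig (R'' := R'') u))
            (algebraMap S (S ⊗[R] R'') b * a - algebraMap S (S ⊗[R] R'') a₀) := by
        rw [← map_add, add_sub_cancel]
      rw [h5, add_smul, h4, add_zero] at h3
      exact h3
    rw [AddEquiv.map_eq_zero_iff] at h1
    have ha₀' : algebraMap S (S ⊗[R] R') a₀ ∉ P' := fun h0 => ha₀ (by
      have : a₀ ∈ P'.comap (algebraMap S (S ⊗[R] R')) := h0
      rw [hS', ← hS] at this
      exact this)
    haveI := hP'
    let e : p''.ResidueField ≃ₗ[R'] p'.ResidueField :=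
      (AlgEquiv.ofBijective (Ideal.ResidueField.mapₐ p' p'' (Algebra.ofId R' R'') hover.over) hbij).symm.toLinearEquiv
    have hnat : ∀ (b : Localization.Away u) v,
        e.toLinearMap.lTensor (Model N u) (b • v) = b • e.toLinearMap.lTensor (Model N u) v := by
      intro b v
      induction v with
      | zero => simp
      | tmul m x => simp [TensorProduct.smul_tmul']
      | add a b ha hb => simp only [smul_add, map_add, ha, hb]
    have h2 := hreg P' hP' hS' hR' _ ha₀' (e.toLinearMap.lTensor (Model N u) w) (by rw [← hnat, h1, map_zero])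
    have h3 : w = 0 := (LinearEquiv.lTensor (Model N u) e).map_eq_zero_iff.1 h2
    rw [h3, map_zero]

end Change

theorem regular_pow {X M : Type u} [CommRing X] [AddCommGroup M] [Module X M] (a : X)
    (h : ∀ m : M, a • m = 0 → m = 0) (k : ℕ) (m : M) (hm : a ^ k • m = 0) : m = 0 := by
  induction k generalizing m with
  | zero => rwa [pow_zero, one_smul] at hm
  | succ k ih => exact h m (ih _ (by rwa [smul_smul, ← pow_succ]))

theorem regular_localized {A B M M' Q : Type u} [CommRing A] [CommRing B] [Algebra A B] [AddCommGroup M]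
    [Module B M] [Module A M] [IsScalarTower A B M] [AddCommGroup M'] [Module B M'] [Module A M']
    [IsScalarTower A B M'] [AddCommGroup Q] [Module A Q] (b c : B) (f : M →ₗ[B] M')
    [IsLocalizedModule (Submonoid.powers b) f] (hb : ∀ z : M ⊗[A] Q, b • z = 0 → z = 0)
    (hc : ∀ z : M ⊗[A] Q, c • z = 0 → z = 0) (z : M' ⊗[A] Q) (hz : c • z = 0) : z = 0 := by
  let F := TensorProduct.AlgebraTensorModule.rTensor A Q f
  haveI : IsLocalizedModule (Submonoid.powers b) F :=
    IsLocalizedModule.rTensor (Submonoid.powers b) (R := A) (A := B) (N := Q) f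
  obtain ⟨⟨w, ⟨_, k, rfl⟩⟩, hw⟩ := IsLocalizedModule.surj (Submonoid.powers b) F z
  change b ^ k • z = F w at hw
  have h0 : F (c • w) = 0 := by rw [map_smul, ← hw, smul_comm, hz, smul_zero]
  obtain ⟨⟨_, j, rfl⟩, hj⟩ := (IsLocalizedModule.eq_zero_iff (Submonoid.powers b) F).1 h0
  rw [hc w (regular_pow b hb j _ hj), map_zero] at hw
  exact ((Module.End.isUnit_iff _).1 (IsLocalizedModule.map_units F
    (⟨b ^ k, Submonoid.pow_mem _ (Submonoid.mem_powers b) k⟩ : Submonoid.powers b))).1
    (show b ^ k • z = b ^ k • (0 : M' ⊗[A] Q) by rw [hw, smul_zero])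

variable [Algebra.FinitePresentation R S] [Module.FinitePresentation S N]

set_option maxHeartbeats 1600000 in
/-- A chart shrinks to a smaller basic open after an open neighbourhood of the base. -/
theorem exists_shrink (p : Ideal R) [p.IsPrime] (p' : Ideal R') [p'.IsPrime] (q : Ideal S) [q.IsPrime]
    [q.LiesOver p] (hp : _root_.FlatCA.IsEtaleNhd R R' p p') {u : S ⊗[R] R'} (h : Good N p' q u)
    (a : S ⊗[R] R')
    (ha : ∀ P : Ideal (S ⊗[R] R'), P.IsPrime → P.comap (algebraMap S (S ⊗[R] R')) = q → P.comap inR = p' → a ∉ P)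
    (f₀ : R') (hf₀ : f₀ ∉ p') :
    ∃ (R'' : Type u) (_ : CommRing R'') (_ : Algebra R R'') (_ : Algebra R' R'') (_ : IsScalarTower R R' R'')
      (p'' : Ideal R'') (_ : p''.IsPrime), _root_.FlatCA.IsEtaleNhd R' R'' p' p'' ∧
      IsUnit (algebraMap R' R'' f₀) ∧ Good N p'' q (sig (R'' := R'') (u * a)) := by
  obtain ⟨P, hP, hPS, hPR⟩ := exists_point p p' q hp
  haveI := hP
  haveI := hp.1
  haveI := h.2.1
  haveI : Algebra.FinitePresentation R' (Localization.Away u) := by
    haveI : Algebra.FinitePresentation R' (S ⊗[R] R') :=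
      (Algebra.FinitePresentation.baseChange R' (A := S) : Algebra.FinitePresentation R' (R' ⊗[R] S)).equiv
        (Algebra.TensorProduct.commRight R R' S)
    haveI : Algebra.FinitePresentation (S ⊗[R] R') (Localization.Away u) :=
      IsLocalization.Away.finitePresentation u
    exact Algebra.FinitePresentation.trans R' (S ⊗[R] R') _
  obtain ⟨f, hf, hfa⟩ := ProjMod.exists_regular_away (S := Localization.Away u) (M := Model N u) p'
    (algebraMap _ _ a) (h.2.2 P hP hPS hPR a (ha P hP hPS hPR))
  have hff : f₀ * f ∉ p' := fun h => (Ideal.IsPrime.mem_or_mem inferInstance h).elim hf₀ hf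
  let R'' := Localization.Away (f₀ * f)
  obtain ⟨hpr, hnhd⟩ := FlatCA.FiniteCriterion.isEtaleNhd_away p' hff
  let p'' := p'.map (algebraMap R' R'')
  haveI := hnhd.2.choose
  have hunit : IsUnit (algebraMap R' R'' f₀) ∧ IsUnit (algebraMap R' R'' f) := by
    have := IsLocalization.Away.algebraMap_isUnit (f₀ * f) (S := R'')
    rw [map_mul] at this
    exact IsUnit.mul_iff.1 this
  refine ⟨R'', inferInstance, inferInstance, inferInstance, inferInstance, p'', hpr, hnhd, hunit.1, ?_⟩
  obtain ⟨hu'', hproj'', hreg''⟩ := good_push N p p' p'' q hp hnhd h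
  let X := S ⊗[R] R''
  let u'' : X := sig (R' := R') u
  let a'' : X := sig (R' := R') a
  let B := Localization.Away u''
  have hUI : ∀ (Q : Type u) [AddCommGroup Q] [Module R'' Q] (z : Model N u'' ⊗[R''] Q),
      algebraMap X B a'' • z = 0 → z = 0 := fun Q _ _ z hz =>
    regular_push N u a (fun Q _ _ w hw => by
      obtain ⟨k, hk⟩ := hfa Q w hw
      exact ⟨f ^ k, by rw [map_pow]; exact hunit.2.pow k, hk⟩) Q z hz
  haveI := hproj''
  -- the smaller basic open
  let v : X := sig (R' := R') (R'' := R'') (u * a)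
  have hv : v = u'' * a'' := map_mul _ _ _
  let T₀ := Localization.Away (algebraMap X B a'')
  haveI hT₀ : IsLocalization.Away v T₀ := by rw [hv]; exact IsLocalization.Away.mul' B T₀ u'' a''
  let T := Localization.Away v
  have hu2 : IsUnit (algebraMap X T u'') := by
    have h0 := IsLocalization.Away.algebraMap_isUnit v (S := T)
    have heq : algebraMap X T v = algebraMap X T u'' * algebraMap X T a'' :=
      (congrArg (algebraMap X T) hv).trans (map_mul _ _ _)
    have this : IsUnit (algebraMap X T u'' * algebraMap X T a'') := heq ▸ h0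
    exact (IsUnit.mul_iff.1 this).1
  letI aBT : Algebra B T := (IsLocalization.Away.lift u'' hu2).toAlgebra
  haveI : IsScalarTower X B T := IsScalarTower.of_algebraMap_eq fun x =>
    (IsLocalization.Away.lift_eq u'' hu2 x).symm
  haveI : IsScalarTower S B T := IsScalarTower.of_algebraMap_eq fun x => by
    rw [IsScalarTower.algebraMap_apply S X B, ← IsScalarTower.algebraMap_apply X B T,
      ← IsScalarTower.algebraMap_apply S X T]
  haveI : IsScalarTower R'' B T := IsScalarTower.of_algebraMap_eq fun x => by
    rw [IsScalarTower.algebraMap_apply R'' X B, ← IsScalarTower.algebraMap_apply X B T,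
      ← IsScalarTower.algebraMap_apply R'' X T]
  let eX : T₀ ≃ₐ[X] T := IsLocalization.algEquiv (Submonoid.powers v) _ _
  have heB : eX.toRingHom.comp (algebraMap B T₀) = algebraMap B T :=
    IsLocalization.ringHom_ext (Submonoid.powers u'') (RingHom.ext fun x => by
      show eX (algebraMap B T₀ (algebraMap X B x)) = algebraMap B T (algebraMap X B x)
      rw [← IsScalarTower.algebraMap_apply, ← IsScalarTower.algebraMap_apply, AlgEquiv.commutes])
  haveI : IsLocalization.Away (algebraMap X B a'') T :=
    IsLocalization.isLocalization_of_algEquiv (Submonoid.powers (algebraMap X B a''))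
      (AlgEquiv.ofRingEquiv (f := eX.toRingEquiv) fun b => RingHom.congr_fun heB b)
  let l : Model N u'' →ₗ[B] T ⊗[S] N := TensorProduct.AlgebraTensorModule.rTensor S N (Algebra.linearMap B T)
  haveI hl : IsLocalizedModule (Submonoid.powers (algebraMap X B a'')) l := by
    refine (isLocalizedModule_iff_isBaseChange _ T l).2 (IsBaseChange.of_comp (TensorProduct.isBaseChange S N B) ?_)
    have : (l.restrictScalars S).comp (TensorProduct.mk S B N 1) = TensorProduct.mk S T N 1 :=
      LinearMap.ext fun n => by
        show algebraMap B T 1 ⊗ₜ[S] n = (1 : T) ⊗ₜ[S] n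
        rw [map_one]
    rw [this]
    exact TensorProduct.isBaseChange S N T
  haveI : Algebra.FiniteType R'' B := by
    haveI : Algebra.FiniteType R'' X :=
      (Algebra.FiniteType.baseChange R'' : Algebra.FiniteType R'' (R'' ⊗[R] S)).equiv
        (Algebra.TensorProduct.commRight R R'' S)
    haveI : Algebra.FiniteType X B := IsLocalization.finiteType_of_monoid_fg (Submonoid.powers u'') B
    exact Algebra.FiniteType.trans (inferInstance : Algebra.FiniteType R'' X) inferInstance
  have hsm : ∀ (b : B) (w : (T ⊗[S] N) ⊗[R''] p''.ResidueField), algebraMap B T b • w = b • w := fun b w => by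
    induction w with
    | zero => simp
    | tmul m y => rw [TensorProduct.smul_tmul', TensorProduct.smul_tmul', algebraMap_smul]
    | add a b ha hb => simp only [smul_add, ha, hb]
  refine ⟨fun P hP hS hR => ?_, ?_, fun P hP hS hR c hc z hz => ?_⟩
  · show v ∉ P
    rw [hv]
    exact fun hm => (hP.mem_or_mem hm).elim (hu'' P hP hS hR) (ha _ (hP.comap _) (point_comap (p' := p') P hS hR).1
      (point_comap (p' := p') P hS hR).2)
  · exact ProjMod.projective_localized (M := Model N u'') (M' := T ⊗[S] N) (algebraMap X B a'') hUI l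
  · refine regular_localized (algebraMap X B a'') (algebraMap X B c) l (hUI p''.ResidueField) (hreg'' P hP hS hR c hc) z ?_
    rw [← hsm, ← IsScalarTower.algebraMap_apply X B T]
    exact hz

end Groth.Agent.Lib.RG.OpenProj
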