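import Groth.Agent.Lib.RG.OpenProj
import Groth.Agent.Lib.RG.DevTools
import Mathlib.RingTheory.Spectrum.Prime.Chevalley
import Mathlib.RingTheory.Flat.FaithfullyFlat.Algebra

/-!
# Transfer of charts along finite maps, surjections and étale maps
-/

set_option autoImplicit false
set_option linter.style.haveILetI false

universe u

open scoped TensorProduct

attribute [local instance] Algebra.TensorProduct.rightAlgebra

namespace Groth.Agent.Lib.RG.OpenSteps

open NhdPoint OpenProj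

variable {R : Type u} [CommRing R] {S₀ S₁ : Type u} [CommRing S₀] [CommRing S₁] [Algebra R S₀] [Algebra R S₁]
  [Algebra S₀ S₁] [IsScalarTower R S₀ S₁] {R' : Type u} [CommRing R'] [Algebra R R']

/-- The map of base changes induced by a map of algebras. -/
noncomputable def del : S₀ ⊗[R] R' →ₐ[R] S₁ ⊗[R] R' :=
  Algebra.TensorProduct.map (IsScalarTower.toAlgHom R S₀ S₁) (AlgHom.id R R')

theorem del_left (s : S₀) :
    (del : S₀ ⊗[R] R' →ₐ[R] S₁ ⊗[R] R') (algebraMap S₀ (S₀ ⊗[R] R') s) =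
      algebraMap S₁ (S₁ ⊗[R] R') (algebraMap S₀ S₁ s) := by
  show Algebra.TensorProduct.map (IsScalarTower.toAlgHom R S₀ S₁) (AlgHom.id R R') (s ⊗ₜ[R] (1 : R')) =
    algebraMap S₀ S₁ s ⊗ₜ[R] (1 : R')
  rw [Algebra.TensorProduct.map_tmul]
  rfl

theorem del_inR (r : R') : (del : S₀ ⊗[R] R' →ₐ[R] S₁ ⊗[R] R') (inR r) = inR r := by
  show Algebra.TensorProduct.map (IsScalarTower.toAlgHom R S₀ S₁) (AlgHom.id R R') ((1 : S₀) ⊗ₜ[R] r) =
    (1 : S₁) ⊗ₜ[R] r
  rw [Algebra.TensorProduct.map_tmul, map_one]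
  rfl

theorem del_point {q₀ : Ideal S₀} {q₁ : Ideal S₁} (hq : q₁.comap (algebraMap S₀ S₁) = q₀) {p' : Ideal R'}
    (P : Ideal (S₁ ⊗[R] R')) (hS : P.comap (algebraMap S₁ (S₁ ⊗[R] R')) = q₁) (hR : P.comap inR = p') :
    (P.comap (del (S₀ := S₀)).toRingHom).comap (algebraMap S₀ (S₀ ⊗[R] R')) = q₀ ∧
      (P.comap (del (S₀ := S₀)).toRingHom).comap inR = p' := by
  refine ⟨?_, ?_⟩
  · rw [← hq, ← hS, Ideal.comap_comap, Ideal.comap_comap]
    congr 1
  · rw [← hR, Ideal.comap_comap]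
    congr 1
    exact RingHom.ext fun r => del_inR r

theorem isPushout_del :
    letI : Algebra (S₀ ⊗[R] R') (S₁ ⊗[R] R') := (del (S₀ := S₀)).toRingHom.toAlgebra
    haveI : IsScalarTower S₀ (S₀ ⊗[R] R') (S₁ ⊗[R] R') := IsScalarTower.of_algebraMap_eq fun s => by
      rw [IsScalarTower.algebraMap_apply S₀ S₁ (S₁ ⊗[R] R')]
      exact (del_left s).symm
    Algebra.IsPushout S₀ S₁ (S₀ ⊗[R] R') (S₁ ⊗[R] R') := by
  letI : Algebra (S₀ ⊗[R] R') (S₁ ⊗[R] R') := (del (S₀ := S₀)).toRingHom.toAlgebra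
  haveI : IsScalarTower S₀ (S₀ ⊗[R] R') (S₁ ⊗[R] R') := IsScalarTower.of_algebraMap_eq fun s => by
    rw [IsScalarTower.algebraMap_apply S₀ S₁ (S₁ ⊗[R] R')]
    exact (del_left s).symm
  haveI : IsScalarTower R (S₀ ⊗[R] R') (S₁ ⊗[R] R') := IsScalarTower.of_algebraMap_eq fun r => (del.commutes r).symm
  haveI : IsScalarTower R' (S₀ ⊗[R] R') (S₁ ⊗[R] R') := IsScalarTower.of_algebraMap_eq fun r => (del_inR r).symm
  exact (Algebra.IsPushout.comp_iff (R := R) (S := S₀) (R' := R') (S' := S₀ ⊗[R] R') (T := S₁)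
    (T' := S₁ ⊗[R] R')).1 inferInstance

section SameModule

variable {G : Type u} [AddCommGroup G] [Module S₁ G] [Module S₀ G] [IsScalarTower S₀ S₁ G]

/-- The chart of a module over both algebras. -/
theorem exists_modelEquiv (u₀ : S₀ ⊗[R] R') :
    ∃ E : Model G (del (S₁ := S₁) u₀) ≃ₗ[R'] Model G u₀, ∀ (a : S₀ ⊗[R] R') m,
      E (algebraMap (S₁ ⊗[R] R') (Localization.Away (del (S₁ := S₁) u₀)) (del a) • m) =
        algebraMap (S₀ ⊗[R] R') (Localization.Away u₀) a • E m := by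
  let X₀ := S₀ ⊗[R] R'
  let X₁ := S₁ ⊗[R] R'
  let B₀ := Localization.Away u₀
  let B₁ := Localization.Away (del (S₁ := S₁) u₀)
  letI : Algebra X₀ X₁ := (del (S₀ := S₀)).toRingHom.toAlgebra
  haveI : IsScalarTower S₀ X₀ X₁ := IsScalarTower.of_algebraMap_eq fun s => by
    rw [IsScalarTower.algebraMap_apply S₀ S₁ X₁]
    exact (del_left s).symm
  haveI : IsScalarTower R' X₀ X₁ := IsScalarTower.of_algebraMap_eq fun r => (del_inR r).symm
  haveI hX : Algebra.IsPushout S₀ S₁ X₀ X₁ := isPushout_del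
  haveI : Algebra.IsPushout S₀ X₀ S₁ X₁ := hX.symm
  have hu : IsUnit (algebraMap X₀ B₁ u₀) := IsLocalization.Away.algebraMap_isUnit (del (S₁ := S₁) u₀)
  letI : Algebra B₀ B₁ := (IsLocalization.Away.lift u₀ hu).toAlgebra
  haveI : IsScalarTower X₀ B₀ B₁ := IsScalarTower.of_algebraMap_eq fun x =>
    (IsLocalization.Away.lift_eq u₀ hu x).symm
  haveI : IsScalarTower R' X₀ B₁ := IsScalarTower.of_algebraMap_eq fun r => by
    rw [IsScalarTower.algebraMap_apply X₀ X₁ B₁, ← IsScalarTower.algebraMap_apply R' X₀ X₁,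
      ← IsScalarTower.algebraMap_apply R' X₁ B₁]
  haveI : IsScalarTower R' B₀ B₁ := IsScalarTower.of_algebraMap_eq fun r => by
    rw [IsScalarTower.algebraMap_apply R' X₀ B₀, ← IsScalarTower.algebraMap_apply X₀ B₀ B₁,
      ← IsScalarTower.algebraMap_apply R' X₀ B₁]
  haveI : IsScalarTower S₀ X₀ B₁ := IsScalarTower.of_algebraMap_eq fun r => by
    rw [IsScalarTower.algebraMap_apply X₀ X₁ B₁, ← IsScalarTower.algebraMap_apply S₀ X₀ X₁,
      ← IsScalarTower.algebraMap_apply S₀ X₁ B₁]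
  haveI : IsScalarTower S₀ B₀ B₁ := IsScalarTower.of_algebraMap_eq fun r => by
    rw [IsScalarTower.algebraMap_apply S₀ X₀ B₀, ← IsScalarTower.algebraMap_apply X₀ B₀ B₁,
      ← IsScalarTower.algebraMap_apply S₀ X₀ B₁]
  haveI hloc : IsLocalization (Algebra.algebraMapSubmonoid X₁ (Submonoid.powers u₀)) B₁ := by
    rw [Algebra.algebraMapSubmonoid, Submonoid.map_powers]
    exact inferInstanceAs (IsLocalization.Away (del (S₁ := S₁) u₀) B₁)
  haveI hB : Algebra.IsPushout X₀ X₁ B₀ B₁ := Algebra.isPushout_of_isLocalization (Submonoid.powers u₀) _ _ _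
  haveI : Algebra.IsPushout S₀ B₀ S₁ B₁ :=
    (Algebra.IsPushout.comp_iff (R := S₀) (S := X₀) (R' := S₁) (S' := X₁) (T := B₀) (T' := B₁)).2 hB.symm
  let E := Algebra.IsPushout.cancelBaseChange S₀ B₀ S₁ B₁ G
  refine ⟨E.restrictScalars R', fun a m => ?_⟩
  rw [LinearEquiv.restrictScalars_apply, LinearEquiv.restrictScalars_apply, ← E.map_smul]
  congr 1
  rw [← algebraMap_smul B₁ (algebraMap X₀ B₀ a) m, ← IsScalarTower.algebraMap_apply X₀ B₀ B₁]
  rfl

variable {p' : Ideal R'} [p'.IsPrime] {q₀ : Ideal S₀} {q₁ : Ideal S₁} (hq : q₁.comap (algebraMap S₀ S₁) = q₀)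
  (u₀ : S₀ ⊗[R] R')

include hq

/-- Charts go up a map along which elements outside the point divide elements from below. -/
theorem good_up (hdiv : ∀ P : Ideal (S₁ ⊗[R] R'), P.IsPrime → P.comap (algebraMap S₁ (S₁ ⊗[R] R')) = q₁ →
      P.comap inR = p' → ∀ a, a ∉ P → ∃ a₀ : S₀ ⊗[R] R', del (S₁ := S₁) a₀ ∉ P ∧ del (S₁ := S₁) a₀ ∈ Ideal.span {a})
    (h : Good G p' q₀ u₀) : Good G p' q₁ (del (S₁ := S₁) u₀) := by
  obtain ⟨hu, hproj, hreg⟩ := h
  obtain ⟨E, hE⟩ := exists_modelEquiv (G := G) (S₁ := S₁) u₀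
  refine ⟨fun P hP hS hR hm => hu _ (hP.comap _) (del_point hq P hS hR).1 (del_point hq P hS hR).2 hm, ?_,
    fun P hP hS hR a ha z hz => ?_⟩
  · haveI := hproj
    exact Module.Projective.of_equiv E.symm
  · obtain ⟨a₀, ha₀, hmem⟩ := hdiv P hP hS hR a ha
    obtain ⟨c, hc⟩ := Ideal.mem_span_singleton'.1 hmem
    have h1 : algebraMap (S₁ ⊗[R] R') (Localization.Away (del (S₁ := S₁) u₀)) (del a₀) • z = 0 := by
      rw [← hc, map_mul, mul_smul, hz, smul_zero]
    have hnat : ∀ w, E.toLinearMap.rTensor p'.ResidueField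
        (algebraMap (S₁ ⊗[R] R') (Localization.Away (del (S₁ := S₁) u₀)) (del a₀) • w) =
        algebraMap (S₀ ⊗[R] R') (Localization.Away u₀) a₀ • E.toLinearMap.rTensor p'.ResidueField w := fun w => by
      induction w with
      | zero => simp
      | tmul m x =>
        rw [TensorProduct.smul_tmul', LinearMap.rTensor_tmul, LinearMap.rTensor_tmul, TensorProduct.smul_tmul',
          LinearEquiv.coe_coe, hE]
      | add a b ha hb => simp only [smul_add, map_add, ha, hb]
    have h2 := hreg (P.comap (del (S₀ := S₀)).toRingHom) (hP.comap _) (del_point hq P hS hR).1 (del_point hq P hS hR).2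
      a₀ ha₀ (E.toLinearMap.rTensor p'.ResidueField z) (by rw [← hnat, h1, map_zero])
    exact (LinearEquiv.rTensor p'.ResidueField E).map_eq_zero_iff.1 h2

/-- Charts go down. -/
theorem good_down (p : Ideal R) [p.IsPrime] [q₀.IsPrime] [q₁.IsPrime] [q₀.LiesOver p]
    (hp : _root_.FlatCA.IsEtaleNhd R R' p p') (h : Good G p' q₁ (del (S₁ := S₁) u₀)) : Good G p' q₀ u₀ := by
  obtain ⟨hu, hproj, hreg⟩ := h
  haveI : q₁.LiesOver p := ⟨by
    rw [q₀.over_def p, ← hq, Ideal.under_def, Ideal.under_def, Ideal.comap_comap, ← IsScalarTower.algebraMap_eq]⟩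
  obtain ⟨P₁, hP₁, hS₁, hR₁⟩ := exists_point p p' q₁ hp
  obtain ⟨E, hE⟩ := exists_modelEquiv (G := G) (S₁ := S₁) u₀
  have hP : ∀ P : Ideal (S₀ ⊗[R] R'), P.IsPrime → P.comap (algebraMap S₀ (S₀ ⊗[R] R')) = q₀ →
      P.comap inR = p' → P = P₁.comap (del (S₀ := S₀)).toRingHom := fun P hP hS hR => by
    haveI := hP₁
    haveI := hP
    haveI : (P₁.comap (del (S₀ := S₀)).toRingHom).IsPrime := hP₁.comap _
    exact point_unique p p' q₀ hp P _ hS hR (del_point hq P₁ hS₁ hR₁).1 (del_point hq P₁ hS₁ hR₁).2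
  refine ⟨fun P hPp hS hR hm => hu P₁ hP₁ hS₁ hR₁ (by rw [hP P hPp hS hR] at hm; exact hm), ?_,
    fun P hPp hS hR a ha z hz => ?_⟩
  · haveI := hproj
    exact Module.Projective.of_equiv E
  · have ha₁ : del (S₁ := S₁) a ∉ P₁ := fun hm => ha (by rw [hP P hPp hS hR]; exact hm)
    obtain ⟨w, rfl⟩ := (LinearEquiv.rTensor p'.ResidueField E).surjective z
    have hnat : ∀ w, LinearEquiv.rTensor p'.ResidueField E
        (algebraMap (S₁ ⊗[R] R') (Localization.Away (del (S₁ := S₁) u₀)) (del a) • w) =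
        algebraMap (S₀ ⊗[R] R') (Localization.Away u₀) a • LinearEquiv.rTensor p'.ResidueField E w := fun w => by
      induction w with
      | zero => simp
      | tmul m x =>
        rw [TensorProduct.smul_tmul', LinearEquiv.rTensor_tmul, LinearEquiv.rTensor_tmul, TensorProduct.smul_tmul', hE]
      | add a b ha hb => simp only [smul_add, map_add, ha, hb]
    rw [← hnat, LinearEquiv.map_eq_zero_iff] at hz
    rw [hreg P₁ hP₁ hS₁ hR₁ _ ha₁ w hz, map_zero]

end SameModule

/-- Along a finite map with one prime over the point every element outside the point divides one from below. -/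
theorem dvd_of_finite [Module.Finite S₀ S₁] {p : Ideal R} [p.IsPrime] {p' : Ideal R'} [p'.IsPrime]
    (q₀ : Ideal S₀) (q₁ : Ideal S₁) [q₁.IsPrime] [q₁.LiesOver p] (hq : q₁.comap (algebraMap S₀ S₁) = q₀)
    (huniq : ∀ Q : Ideal S₁, Q.IsPrime → Q.comap (algebraMap S₀ S₁) = q₀ → Q = q₁)
    (hp : _root_.FlatCA.IsEtaleNhd R R' p p') (P : Ideal (S₁ ⊗[R] R')) (hP : P.IsPrime)
    (hS : P.comap (algebraMap S₁ (S₁ ⊗[R] R')) = q₁) (hR : P.comap inR = p') (a : S₁ ⊗[R] R') (ha : a ∉ P) :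
    ∃ a₀ : S₀ ⊗[R] R', del (S₁ := S₁) a₀ ∉ P ∧ del (S₁ := S₁) a₀ ∈ Ideal.span {a} := by
  haveI := hP
  letI : Algebra (S₀ ⊗[R] R') (S₁ ⊗[R] R') := (del (S₀ := S₀)).toRingHom.toAlgebra
  haveI : IsScalarTower S₀ (S₀ ⊗[R] R') (S₁ ⊗[R] R') := IsScalarTower.of_algebraMap_eq fun s => by
    rw [IsScalarTower.algebraMap_apply S₀ S₁ (S₁ ⊗[R] R')]
    exact (del_left s).symm
  haveI hX : Algebra.IsPushout S₀ S₁ (S₀ ⊗[R] R') (S₁ ⊗[R] R') := isPushout_del
  haveI : Algebra.IsPushout S₀ (S₀ ⊗[R] R') S₁ (S₁ ⊗[R] R') := hX.symm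
  haveI : Module.Finite (S₀ ⊗[R] R') (S₁ ⊗[R] R') :=
    Module.Finite.equiv (Algebra.IsPushout.equiv S₀ (S₀ ⊗[R] R') S₁ (S₁ ⊗[R] R')).toLinearEquiv
  haveI : Algebra.IsIntegral (S₀ ⊗[R] R') (S₁ ⊗[R] R') := Algebra.IsIntegral.of_finite _ _
  let P₀ := P.comap (algebraMap (S₀ ⊗[R] R') (S₁ ⊗[R] R'))
  haveI : P₀.IsPrime := hP.comap _
  obtain ⟨d, hd, hda⟩ := DevTools.exists_notMem_algebraMap_mem P₀ (Ideal.span {a}) fun Q hQ h hle => ha (by
    haveI := hQ
    have hQR : Q.comap inR = p' := by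
      rw [← hR]
      ext r
      have := SetLike.ext_iff.1 h (inR r)
      simp only [P₀, Ideal.mem_comap] at this ⊢
      rw [show algebraMap (S₀ ⊗[R] R') (S₁ ⊗[R] R') (inR r) = inR r from del_inR r] at this
      exact this
    have hQS : Q.comap (algebraMap S₁ (S₁ ⊗[R] R')) = q₁ := huniq _ (hQ.comap _) (by
      rw [← hq, ← hS]
      ext s
      have := SetLike.ext_iff.1 h (algebraMap S₀ _ s)
      simp only [P₀, Ideal.mem_comap] at this ⊢
      rw [← IsScalarTower.algebraMap_apply S₀ (S₀ ⊗[R] R') (S₁ ⊗[R] R'),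
        IsScalarTower.algebraMap_apply S₀ S₁ (S₁ ⊗[R] R')] at this
      exact this)
    rw [← point_unique p p' q₁ hp Q P hQS hQR hS hR]
    exact hle (Ideal.mem_span_singleton_self a))
  exact ⟨d, hd, hda⟩

section Iso

variable {N G : Type u} [AddCommGroup N] [Module S₀ N] [AddCommGroup G] [Module S₀ G]

/-- Charts transport along isomorphisms. -/
theorem good_equiv (e : N ≃ₗ[S₀] G) {p' : Ideal R'} [p'.IsPrime] {q₀ : Ideal S₀} {u₀ : S₀ ⊗[R] R'}
    (h : Good N p' q₀ u₀) : Good G p' q₀ u₀ := by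
  obtain ⟨hu, hproj, hreg⟩ := h
  let E := TensorProduct.AlgebraTensorModule.congr (LinearEquiv.refl (Localization.Away u₀) (Localization.Away u₀)) e
  refine ⟨hu, ?_, fun P hP hS hR a ha z hz => ?_⟩
  · haveI := hproj
    exact Module.Projective.of_equiv (E.restrictScalars R')
  · let EQ := TensorProduct.AlgebraTensorModule.congr E (LinearEquiv.refl R' p'.ResidueField)
    obtain ⟨w, rfl⟩ := EQ.surjective z
    rw [← map_smul, LinearEquiv.map_eq_zero_iff] at hz
    rw [hreg P hP hS hR a ha w hz, map_zero]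

end Iso

section Etale

variable {N G : Type u} [AddCommGroup N] [Module S₀ N] [AddCommGroup G] [Module S₁ G] [Module S₀ G]
  [IsScalarTower S₀ S₁ G] (f : N →ₗ[S₀] G) (hf : IsBaseChange S₁ f)

/-- The comparison of a chart downstairs with one upstairs. -/
theorem exists_iota (v : S₀ ⊗[R] R') (w : S₁ ⊗[R] R')
    (hw : IsUnit (algebraMap (S₁ ⊗[R] R') (Localization.Away w) (del v))) :
    ∃ (β : Localization.Away v →+* Localization.Away w) (ι : Model N v →ₗ[R'] Model G w),
      (∀ a, β (algebraMap (S₀ ⊗[R] R') _ a) = algebraMap (S₁ ⊗[R] R') _ (del a)) ∧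
      (∀ b n, ι (b ⊗ₜ[S₀] n) = β b ⊗ₜ[S₁] f n) ∧ (∀ b m, ι (b • m) = β b • ι m) ∧
      (IsBaseChange S₁ f → letI := β.toAlgebra
        ∀ (Q : Type u) [AddCommGroup Q] [Module R' Q] (z : Model N v ⊗[R'] Q),
        Module.FaithfullyFlat (Localization.Away v) (Localization.Away w) → ι.rTensor Q z = 0 → z = 0) := by
  let X₀ := S₀ ⊗[R] R'
  let X₁ := S₁ ⊗[R] R'
  let B₀ := Localization.Away v
  let B₁ := Localization.Away w
  letI : Algebra X₀ X₁ := (del (S₀ := S₀)).toRingHom.toAlgebra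
  haveI : IsScalarTower S₀ X₀ X₁ := IsScalarTower.of_algebraMap_eq fun s => by
    rw [IsScalarTower.algebraMap_apply S₀ S₁ X₁]
    exact (del_left s).symm
  haveI : IsScalarTower R' X₀ X₁ := IsScalarTower.of_algebraMap_eq fun r => (del_inR r).symm
  have hv : IsUnit (algebraMap X₀ B₁ v) := hw
  let β : B₀ →+* B₁ := IsLocalization.Away.lift v hv
  letI : Algebra B₀ B₁ := β.toAlgebra
  haveI : IsScalarTower X₀ B₀ B₁ := IsScalarTower.of_algebraMap_eq fun x =>
    (IsLocalization.Away.lift_eq v hv x).symm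
  haveI : IsScalarTower R' X₀ B₁ := IsScalarTower.of_algebraMap_eq fun r => by
    rw [IsScalarTower.algebraMap_apply X₀ X₁ B₁, ← IsScalarTower.algebraMap_apply R' X₀ X₁,
      ← IsScalarTower.algebraMap_apply R' X₁ B₁]
  haveI : IsScalarTower R' B₀ B₁ := IsScalarTower.of_algebraMap_eq fun r => by
    rw [IsScalarTower.algebraMap_apply R' X₀ B₀, ← IsScalarTower.algebraMap_apply X₀ B₀ B₁,
      ← IsScalarTower.algebraMap_apply R' X₀ B₁]
  haveI : IsScalarTower S₀ X₀ B₁ := IsScalarTower.of_algebraMap_eq fun r => by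
    rw [IsScalarTower.algebraMap_apply X₀ X₁ B₁, ← IsScalarTower.algebraMap_apply S₀ X₀ X₁,
      ← IsScalarTower.algebraMap_apply S₀ X₁ B₁]
  haveI : IsScalarTower S₀ B₀ B₁ := IsScalarTower.of_algebraMap_eq fun r => by
    rw [IsScalarTower.algebraMap_apply S₀ X₀ B₀, ← IsScalarTower.algebraMap_apply X₀ B₀ B₁,
      ← IsScalarTower.algebraMap_apply S₀ X₀ B₁]
  let g : G →ₗ[S₁] Model G w := TensorProduct.mk S₁ B₁ G 1
  let ι₀ : Model N v →ₗ[B₀] Model G w :=
    TensorProduct.AlgebraTensorModule.lift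
      ((LinearMap.lsmul B₁ (N →ₗ[S₀] Model G w)).flip ((g.restrictScalars S₀).comp f) |>.restrictScalars B₀ |>.comp
        (Algebra.linearMap B₀ B₁))
  have hι : ∀ b n, ι₀ (b ⊗ₜ[S₀] n) = β b ⊗ₜ[S₁] f n := fun b n => by
    show algebraMap B₀ B₁ b • ((1 : B₁) ⊗ₜ[S₁] f n) = β b ⊗ₜ[S₁] f n
    rw [TensorProduct.smul_tmul', smul_eq_mul, mul_one]
    rfl
  refine ⟨β, ι₀.restrictScalars R', fun a => IsLocalization.Away.lift_eq v hv a, hι,
    fun b m => by rw [LinearMap.coe_restrictScalars, map_smul]; exact (algebraMap_smul B₁ b (ι₀ m)).symm, ?_⟩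
  intro hf Q _ _ z hff hz
  have hbc : IsBaseChange B₁ ι₀ := by
    refine IsBaseChange.of_comp (TensorProduct.isBaseChange S₀ N B₀) ?_
    have : (ι₀.restrictScalars S₀).comp (TensorProduct.mk S₀ B₀ N 1) = (g.restrictScalars S₀).comp f :=
      LinearMap.ext fun n => by
        show ι₀ ((1 : B₀) ⊗ₜ[S₀] n) = (1 : B₁) ⊗ₜ[S₁] f n
        rw [hι, map_one]
    rw [this]
    exact IsBaseChange.comp hf (TensorProduct.isBaseChange S₁ G B₁)
  haveI := hff
  let e : B₁ ⊗[B₀] (Model N v ⊗[R'] Q) ≃ₗ[B₁] Model G w ⊗[R'] Q :=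
    (TensorProduct.AlgebraTensorModule.assoc R' B₀ B₁ B₁ (Model N v) Q).symm.trans
      (TensorProduct.AlgebraTensorModule.congr hbc.equiv (LinearEquiv.refl R' Q))
  have he : ∀ z, e ((1 : B₁) ⊗ₜ[B₀] z) = (ι₀.restrictScalars R').rTensor Q z := fun z => by
    induction z with
    | zero => simp
    | tmul m x => simp [e, IsBaseChange.equiv_tmul]
    | add a b ha hb => simp only [TensorProduct.tmul_add, map_add, ha, hb]
  refine Module.FaithfullyFlat.tensorProduct_mk_injective (A := B₀) (B := B₁) (Model N v ⊗[R'] Q) ?_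
  show (1 : B₁) ⊗ₜ[B₀] z = (1 : B₁) ⊗ₜ[B₀] (0 : Model N v ⊗[R'] Q)
  rw [TensorProduct.tmul_zero]
  exact e.map_eq_zero_iff.1 (by rw [he]; exact hz)

variable [Algebra.Etale S₀ S₁] [Algebra.FinitePresentation R S₀] [Module.FinitePresentation S₀ N]

include hf in
set_option maxHeartbeats 1600000 in
/-- Charts descend along étale maps. -/
theorem exists_good_descend (p : Ideal R) [p.IsPrime] (p' : Ideal R') [p'.IsPrime] (q₀ : Ideal S₀) [q₀.IsPrime]
    [q₀.LiesOver p] (q₁ : Ideal S₁) [q₁.IsPrime] (hq : q₁.comap (algebraMap S₀ S₁) = q₀)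
    (hp : _root_.FlatCA.IsEtaleNhd R R' p p') {u₁ : S₁ ⊗[R] R'} (h : Good G p' q₁ u₁) :
    ∃ (R'' : Type u) (_ : CommRing R'') (_ : Algebra R R'') (_ : Algebra R' R'') (_ : IsScalarTower R R' R'')
      (p'' : Ideal R'') (_ : p''.IsPrime) (v : S₀ ⊗[R] R''),
      _root_.FlatCA.IsEtaleNhd R' R'' p' p'' ∧ Good N p'' q₀ v := by
  haveI : q₁.LiesOver p := ⟨by
    rw [q₀.over_def p, ← hq, Ideal.under_def, Ideal.under_def, Ideal.comap_comap, ← IsScalarTower.algebraMap_eq]⟩
  haveI := hp.1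
  haveI : Algebra.FinitePresentation R S₁ := Algebra.FinitePresentation.trans R S₀ S₁
  haveI : Module.FinitePresentation S₁ G := Module.FinitePresentation.of_equiv hf.equiv
  let X₀ := S₀ ⊗[R] R'
  let X₁ := S₁ ⊗[R] R'
  letI : Algebra X₀ X₁ := (del (S₀ := S₀)).toRingHom.toAlgebra
  haveI : IsScalarTower S₀ X₀ X₁ := IsScalarTower.of_algebraMap_eq fun s => by
    rw [IsScalarTower.algebraMap_apply S₀ S₁ X₁]
    exact (del_left s).symm
  haveI : Algebra.Etale S₀ X₁ := Algebra.Etale.comp S₀ S₁ X₁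
  haveI : Algebra.Etale X₀ X₁ := Algebra.Etale.of_restrictScalars S₀ X₀ X₁
  obtain ⟨P₁, hP₁, hS₁, hR₁⟩ := exists_point p p' q₁ hp
  haveI := hP₁
  let P₀ := P₁.comap (algebraMap X₀ X₁)
  obtain ⟨_, ⟨v, rfl⟩, hvP, hsub⟩ := PrimeSpectrum.isTopologicalBasis_basic_opens.exists_subset_of_mem_open
    (show (⟨P₀, inferInstance⟩ : PrimeSpectrum X₀) ∈
      PrimeSpectrum.comap (algebraMap X₀ X₁) '' (PrimeSpectrum.basicOpen u₁ : Set (PrimeSpectrum X₁)) from
      ⟨⟨P₁, inferInstance⟩, h.1 P₁ hP₁ hS₁ hR₁, rfl⟩)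
    (PrimeSpectrum.isOpenMap_comap_of_hasGoingDown_of_finitePresentation (R := X₀) (S := X₁) _
      (PrimeSpectrum.basicOpen u₁).isOpen)
  have hvP' : ∀ P : Ideal X₁, P.IsPrime → P.comap (algebraMap S₁ X₁) = q₁ → P.comap inR = p' →
      del (S₁ := S₁) v ∉ P := fun P hP hS hR => by
    haveI := hP
    rw [point_unique p p' q₁ hp P P₁ hS hR hS₁ hR₁]
    exact hvP
  have hvP₀ : ∀ P : Ideal X₀, P.IsPrime → P.comap (algebraMap S₀ X₀) = q₀ → P.comap inR = p' → v ∉ P :=
    fun P hP hS hR => by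
      haveI := hP
      haveI : (P₁.comap (del (S₀ := S₀)).toRingHom).IsPrime := hP₁.comap _
      rw [point_unique p p' q₀ hp P _ hS hR (del_point hq P₁ hS₁ hR₁).1 (del_point hq P₁ hS₁ hR₁).2]
      exact hvP
  obtain ⟨R'', cR'', aR'', aR'R'', tR'', p'', hp'', hnhd, -, hgood⟩ :=
    exists_shrink G p p' q₁ hp h (del (S₁ := S₁) v) hvP' 1 (fun h1 => Ideal.IsPrime.ne_top inferInstance
      ((Ideal.eq_top_iff_one _).2 h1))
  refine ⟨R'', cR'', aR'', aR'R'', tR'', p'', hp'', sig v, hnhd, ?_⟩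
  haveI := hnhd.2.choose
  -- faithful flatness before the last neighbourhood
  let w := u₁ * del (S₁ := S₁) v
  have hw : IsUnit (algebraMap X₁ (Localization.Away w) (del (S₁ := S₁) v)) := by
    have h0 := IsLocalization.Away.algebraMap_isUnit w (S := Localization.Away w)
    have heq : algebraMap X₁ (Localization.Away w) w =
        algebraMap X₁ (Localization.Away w) u₁ * algebraMap X₁ (Localization.Away w) (del v) := map_mul _ _ _
    exact (IsUnit.mul_iff.1 (heq ▸ h0)).2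
  obtain ⟨β, ι, hβ, hιn, hιs, hιinj⟩ := exists_iota f v w hw
  have hff : letI := β.toAlgebra
      Module.FaithfullyFlat (Localization.Away v) (Localization.Away w) := by
    letI := β.toAlgebra
    haveI : IsScalarTower X₀ (Localization.Away v) (Localization.Away w) :=
      IsScalarTower.of_algebraMap_eq fun x => (hβ x).symm
    haveI : Module.Flat X₀ (Localization.Away w) := Module.Flat.trans X₀ X₁ (Localization.Away w)
    haveI : Module.Flat (Localization.Away v) (Localization.Away w) :=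
      (Module.flat_iff_of_isLocalization (Localization.Away v) (Submonoid.powers v) (Localization.Away w)).2 inferInstance
    refine Module.FaithfullyFlat.of_comap_surjective fun Q => ?_
    let Q₀ := PrimeSpectrum.comap (algebraMap X₀ (Localization.Away v)) Q
    have hQv : v ∉ Q₀.asIdeal := fun hm => Q.2.ne_top
      (Ideal.eq_top_of_isUnit_mem _ hm (IsLocalization.Away.algebraMap_isUnit v))
    obtain ⟨x₁, hx₁u, hx₁⟩ := hsub (show Q₀ ∈ _ from hQv)
    have hwx : w ∉ x₁.asIdeal := fun hm => (x₁.2.mem_or_mem hm).elim hx₁u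
      fun hm' => hQv (by rw [← hx₁]; exact hm')
    obtain ⟨y, hy⟩ := (PrimeSpectrum.localization_away_comap_range (Localization.Away w) w).symm ▸
      (show x₁ ∈ (PrimeSpectrum.basicOpen w : Set (PrimeSpectrum X₁)) from hwx)
    refine ⟨y, PrimeSpectrum.localization_comap_injective (Localization.Away v) (Submonoid.powers v) ?_⟩
    show PrimeSpectrum.comap (algebraMap X₀ (Localization.Away v))
      (PrimeSpectrum.comap (algebraMap (Localization.Away v) (Localization.Away w)) y) = Q₀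
    rw [← hx₁, ← hy, ← PrimeSpectrum.comap_comp_apply, ← PrimeSpectrum.comap_comp_apply,
      ← IsScalarTower.algebraMap_eq, ← IsScalarTower.algebraMap_eq]
  -- the comparison after the last neighbourhood
  have hsigdel : ∀ a : X₀, sig (R' := R') (R'' := R'') (del (S₁ := S₁) a) = del (sig (R'' := R'') a) := fun a => by
    induction a using TensorProduct.induction_on with
    | zero => simp
    | tmul s r => simp [sig, del]
    | add a b ha hb => simp only [map_add, ha, hb]
  have hw'' : IsUnit (algebraMap (S₁ ⊗[R] R'') (Localization.Away (sig (R'' := R'') w))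
      (del (sig (R'' := R'') v))) := by
    rw [← hsigdel]
    have h0 := IsLocalization.Away.algebraMap_isUnit (sig (R'' := R'') w)
      (S := Localization.Away (sig (R'' := R'') w))
    have heq : algebraMap (S₁ ⊗[R] R'') (Localization.Away (sig (R'' := R'') w)) (sig w) =
        algebraMap (S₁ ⊗[R] R'') (Localization.Away (sig (R'' := R'') w)) (sig u₁) *
          algebraMap (S₁ ⊗[R] R'') (Localization.Away (sig (R'' := R'') w)) (sig (del v)) := by
      rw [← map_mul, ← map_mul]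
    exact (IsUnit.mul_iff.1 (heq ▸ h0)).2
  obtain ⟨β', ι', hβ', hι'n, hι's, -⟩ := exists_iota f (sig (R'' := R'') v) (sig (R'' := R'') w) hw''
  have hUI : ∀ (Q : Type u) [AddCommGroup Q] [Module R'' Q], Function.Injective (ι'.rTensor Q) := by
    intro Q _ _
    rw [injective_iff_map_eq_zero]
    intro z hz
    letI : Module R' Q := Module.compHom Q (algebraMap R' R'')
    haveI : IsScalarTower R' R'' Q := IsScalarTower.of_algebraMap_smul fun _ _ => rfl
    obtain ⟨γ₀, g₀, hγ₀, hg₀, -⟩ := exists_compare N v (R'' := R'') Q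
    obtain ⟨γ₁, g₁, hγ₁, hg₁, -⟩ := exists_compare G w (R'' := R'') Q
    obtain ⟨z, rfl⟩ := g₀.surjective z
    have hβc : β'.comp γ₀ = γ₁.comp β :=
      IsLocalization.ringHom_ext (Submonoid.powers v) (RingHom.ext fun a => by
        show β' (γ₀ (algebraMap (S₀ ⊗[R] R') _ a)) = γ₁ (β (algebraMap (S₀ ⊗[R] R') _ a))
        rw [hγ₀, hβ', hβ, hγ₁, hsigdel])
    have hnat : ∀ z, ι'.rTensor Q (g₀ z) = g₁ (ι.rTensor Q z) := fun z => by
      induction z with
      | zero => simp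
      | add a b ha hb => simp only [map_add, ha, hb]
      | tmul m x =>
        induction m using TensorProduct.induction_on with
        | zero => simp
        | add a b ha hb => simp only [TensorProduct.add_tmul, map_add, ha, hb]
        | tmul b n =>
          rw [hg₀, LinearMap.rTensor_tmul, LinearMap.rTensor_tmul, hι'n, hιn, hg₁]
          exact congrArg (fun c => (c ⊗ₜ[S₁] f n) ⊗ₜ[R''] x) (RingHom.congr_fun hβc b)
    rw [hnat, AddEquiv.map_eq_zero_iff] at hz
    rw [hιinj hf Q z hff hz, map_zero]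
  obtain ⟨hu'', hproj'', hreg''⟩ := hgood
  have hcomp := NhdPoint.trans hp hnhd
  refine ⟨fun P hP hS hR => hvP₀ _ (hP.comap _) (point_comap (p' := p') P hS hR).1 (point_comap (p' := p') P hS hR).2,
    ?_, fun P hP hS hR a ha z hz => ?_⟩
  · haveI := hproj''
    haveI := hcomp.1
    haveI : Algebra.FiniteType R'' (Localization.Away (sig (R'' := R'') v)) := by
      haveI : Algebra.FiniteType R'' (S₀ ⊗[R] R'') :=
        (Algebra.FiniteType.baseChange R'' : Algebra.FiniteType R'' (R'' ⊗[R] S₀)).equiv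
          (Algebra.TensorProduct.commRight R R'' S₀)
      haveI : Algebra.FiniteType (S₀ ⊗[R] R'') (Localization.Away (sig (R'' := R'') v)) :=
        IsLocalization.finiteType_of_monoid_fg (Submonoid.powers (sig (R'' := R'') v)) _
      exact Algebra.FiniteType.trans (inferInstance : Algebra.FiniteType R'' (S₀ ⊗[R] R'')) inferInstance
    exact ProjMod.projective_of_ui (S := Localization.Away (sig (R'' := R'') v)) ι' hUI
  · obtain ⟨P', hP', hS', hR'⟩ := exists_point p p'' q₁ hcomp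
    haveI := hP'
    haveI := hP
    haveI : (P'.comap (del (S₀ := S₀)).toRingHom).IsPrime := hP'.comap _
    have ha' : del (S₁ := S₁) a ∉ P' := fun hm => ha (by
      rw [point_unique p p'' q₀ hcomp P _ hS hR (del_point hq P' hS' hR').1 (del_point hq P' hS' hR').2]
      exact hm)
    refine hUI p''.ResidueField (?_ : _ = ι'.rTensor p''.ResidueField 0)
    rw [map_zero]
    refine hreg'' P' hP' hS' hR' (del a) ha' _ ?_
    have hnat : ∀ z, ι'.rTensor p''.ResidueField
        (algebraMap (S₀ ⊗[R] R'') (Localization.Away (sig (R'' := R'') v)) a • z) =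
        algebraMap (S₁ ⊗[R] R'') (Localization.Away (sig (R'' := R'') w)) (del a) • ι'.rTensor p''.ResidueField z :=
      fun z => by
        induction z with
        | zero => simp
        | tmul m x => rw [TensorProduct.smul_tmul', LinearMap.rTensor_tmul, hι's, hβ', LinearMap.rTensor_tmul,
            TensorProduct.smul_tmul']
        | add a b ha hb => simp only [smul_add, map_add, ha, hb]
    rw [← hnat, hz, map_zero]

end Etale

end Groth.Agent.Lib.RG.OpenSteps
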