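import Groth.Agent.Lib.RG.Engine
import Mathlib.RingTheory.Flat.Equalizer

/-!
# Residual bijectivity at the prime of the closed fibre
-/

set_option autoImplicit false
set_option linter.style.haveILetI false

universe u

open scoped TensorProduct
open IsLocalRing

namespace Groth.Agent.Lib.RG.Residue

open Engine

section Content

variable {R : Type u} [CommRing R]

theorem _root_.Groth.Agent.Lib.RG.Engine.HasContent.pi {ι : Type} [Finite ι] {M : Type u} [AddCommGroup M] [Module R M]
    (h : HasContent R M) : HasContent R (ι → M) := by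
  classical
  haveI := Fintype.ofFinite ι
  intro x
  choose J hJ hmem hmin using fun i => h (x i)
  refine ⟨⨆ i, J i, Submodule.fg_iSup _ hJ, ?_, fun I hI => iSup_le fun i => hmin i I ?_⟩
  · rw [← Finset.univ_sum_single x]
    refine Submodule.sum_mem _ fun i _ => ?_
    have h1 := Submodule.smul_mono (le_iSup J i) (le_refl (⊤ : Submodule R M)) (hmem i)
    have h2 : x i ∈ (((⨆ j, J j) • (⊤ : Submodule R (ι → M))).comap (LinearMap.single R (fun _ => M) i)) := by
      refine Submodule.smul_induction_on h1 (fun r hr m _ => ?_) (fun a b ha hb => add_mem ha hb)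
      rw [Submodule.mem_comap, map_smul]
      exact Submodule.smul_mem_smul hr trivial
    exact h2
  · refine Submodule.smul_induction_on (p := fun y : ι → M => y i ∈ I • (⊤ : Submodule R M)) hI
      (fun r hr m _ => Submodule.smul_mem_smul hr trivial) (fun a b ha hb => add_mem ha hb)

variable [IsLocalRing R]

/-- A map from a flat module with content ideals to a flat module which is injective modulo the
maximal ideal is injective. -/
theorem injective_of_content {F M : Type u} [AddCommGroup F] [Module R F] [Module.Flat R F]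
    [AddCommGroup M] [Module R M] [Module.Flat R M] (hF : HasContent R F) (v : F →ₗ[R] M)
    (hv : Function.Injective ((v.lTensor (R ⧸ maximalIdeal R)))) : Function.Injective v := by
  classical
  rw [injective_iff_map_eq_zero]
  intro x hx
  obtain ⟨J, hJfg, hxJ, hmin⟩ := hF x
  -- `x` comes from `J ⊗ F`
  let μ : ∀ (N : Type u) [AddCommGroup N] [Module R N] (I : Ideal R), I ⊗[R] N →ₗ[R] N :=
    fun N _ _ I => TensorProduct.lift ((LinearMap.lsmul R N).comp I.subtype)
  have hμ : ∀ ξ : J ⊗[R] F, v (μ F J ξ) = μ M J (v.lTensor J ξ) := by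
    intro ξ
    induction ξ with
    | zero => simp
    | tmul a b => simp [μ]
    | add a b ha hb => simp [map_add, ha, hb]
  have hμinj : Function.Injective (μ M J) := by
    have := Module.Flat.rTensor_preserves_injective_linearMap (M := M) J.subtype J.injective_subtype
    have e : μ M J = (TensorProduct.lid R M).toLinearMap.comp (J.subtype.rTensor M) := by
      refine TensorProduct.ext' fun a b => ?_
      simp [μ]
    rw [e]
    exact (TensorProduct.lid R M).injective.comp this
  obtain ⟨ξ, rfl⟩ : ∃ ξ, μ F J ξ = x := by
    refine Submodule.smul_induction_on hxJ (fun r hr m _ => ⟨⟨r, hr⟩ ⊗ₜ m, by simp [μ]⟩) ?_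
    rintro a b ⟨ξ₁, rfl⟩ ⟨ξ₂, rfl⟩
    exact ⟨ξ₁ + ξ₂, map_add _ _ _⟩
  have hξ : v.lTensor J ξ = 0 := hμinj (by rw [← hμ, hx, map_zero])
  -- push to `(J/mJ) ⊗ F`
  let 𝔪 := maximalIdeal R
  let J₁ : Submodule R J := 𝔪 • ⊤
  let V := J ⧸ J₁
  have hVinj : Function.Injective (v.lTensor V) := by
    let k := R ⧸ 𝔪
    letI : Module k V := Module.IsTorsionBySet.module (fun y r => by
      induction y using Submodule.Quotient.induction_on with
      | H z =>
        rw [← Submodule.Quotient.mk_smul, Submodule.Quotient.mk_eq_zero]
        exact Submodule.smul_mem_smul r.2 trivial)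
    haveI : IsScalarTower R k V := Module.IsTorsionBySet.isScalarTower _
    letI : Field k := Ideal.Quotient.field 𝔪
    let eF := TensorProduct.AlgebraTensorModule.cancelBaseChange R k k V F
    let eM := TensorProduct.AlgebraTensorModule.cancelBaseChange R k k V M
    have hnat : ∀ z : V ⊗[k] (k ⊗[R] F),
        v.lTensor V (eF z) = eM ((v.baseChange k).lTensor V z) := by
      intro z
      induction z with
      | zero => simp
      | add a b ha hb => simp [map_add, ha, hb]
      | tmul a w =>
        induction w with
        | zero => simp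
        | add c d hc hd => simp [TensorProduct.tmul_add, map_add, hc, hd]
        | tmul c d => simp [eF, eM]
    have hinj : Function.Injective ((v.baseChange k).lTensor V) := by
      refine Module.Flat.lTensor_preserves_injective_linearMap _ ?_
      intro a b hab
      exact hv hab
    intro a b hab
    obtain ⟨a, rfl⟩ := eF.surjective a
    obtain ⟨b, rfl⟩ := eF.surjective b
    rw [hnat, hnat] at hab
    exact congrArg eF (hinj (eM.injective hab))
  have hV : (J₁.mkQ).rTensor F ξ = 0 := hVinj (by
    rw [map_zero, ← LinearMap.comp_apply, LinearMap.lTensor_comp_rTensor,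
      ← LinearMap.rTensor_comp_lTensor, LinearMap.comp_apply, hξ, map_zero])
  obtain ⟨η, hη⟩ := (rTensor_exact F (LinearMap.exact_subtype_mkQ J₁) J₁.mkQ_surjective ξ).1 hV
  have hmem : μ F J ξ ∈ (𝔪 * J) • (⊤ : Submodule R F) := by
    rw [← hη]
    clear hη
    induction η with
    | zero => simp
    | add a b ha hb => rw [map_add, map_add]; exact add_mem ha hb
    | tmul a b =>
      simp only [LinearMap.rTensor_tmul, Submodule.coe_subtype, μ, TensorProduct.lift.tmul,
        LinearMap.coe_comp, Function.comp_apply, LinearMap.lsmul_apply]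
      refine Submodule.smul_mem_smul ?_ trivial
      have h1 : ((a : J) : R) ∈ Submodule.map J.subtype J₁ := ⟨a, a.2, rfl⟩
      rw [Submodule.map_smul'', Submodule.map_top, Submodule.range_subtype, smul_eq_mul] at h1
      exact h1
  have hJ0 : J = ⊥ := Submodule.eq_bot_of_le_smul_of_le_jacobson_bot 𝔪 J hJfg
    (by rw [smul_eq_mul]; exact hmin _ hmem) (maximalIdeal_le_jacobson _)
  have : μ F J ξ ∈ J • (⊤ : Submodule R F) := hxJ
  have hbot : J • (⊤ : Submodule R F) = ⊥ := by rw [hJ0, Submodule.bot_smul]
  rw [hbot, Submodule.mem_bot] at this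
  exact this

end Content

variable {R : Type u} [CommRing R] [IsLocalRing R] {D : Type u} [CommRing D] [Algebra R D]
  [((maximalIdeal R).map (algebraMap R D)).IsPrime]
  {N : Type u} [AddCommGroup N] [Module D N] [Module R N] [IsScalarTower R D N]
  {r : ℕ} {α : (Fin r → D) →ₗ[D] N}


variable (hα : Function.Bijective (α.baseChange (Ideal.ResidueField (Ideal.map (algebraMap R D) (maximalIdeal R)))))

include hα

theorem surjective_localized [Module.Finite D N] :
    Function.Surjective (LocalizedModule.map (Ideal.primeCompl (Ideal.map (algebraMap R D) (maximalIdeal R))) α) := by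
  let C := N ⧸ LinearMap.range α
  let k := Ideal.ResidueField (Ideal.map (algebraMap R D) (maximalIdeal R))
  have hC : (⟨(Ideal.map (algebraMap R D) (maximalIdeal R)), inferInstance⟩ : PrimeSpectrum D) ∉ Module.support D C := by
    rw [Module.mem_support_iff_nontrivial_residueField_tensorProduct, not_nontrivial_iff_subsingleton]
    show Subsingleton (k ⊗[D] C)
    refine subsingleton_of_forall_eq 0 fun z => ?_
    obtain ⟨w, rfl⟩ := LinearMap.lTensor_surjective k (LinearMap.range α).mkQ_surjective z
    obtain ⟨y, rfl⟩ := hα.2 w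
    rw [LinearMap.baseChange_eq_ltensor, ← LinearMap.comp_apply, ← LinearMap.lTensor_comp,
      show (LinearMap.range α).mkQ.comp α = 0 from LinearMap.range_mkQ_comp α, LinearMap.lTensor_zero,
      LinearMap.zero_apply]
  intro z
  induction z using LocalizedModule.induction_on with
  | h n s =>
    obtain ⟨t, ht, htn⟩ : ∃ t ∈ Ideal.primeCompl (Ideal.map (algebraMap R D) (maximalIdeal R)), t • n ∈ LinearMap.range α := by
      rw [Module.notMem_support_iff'] at hC
      obtain ⟨t, ht, h0⟩ := hC (Submodule.Quotient.mk n)
      exact ⟨t, ht, by rwa [← Submodule.Quotient.mk_smul, Submodule.Quotient.mk_eq_zero] at h0⟩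
    obtain ⟨f, hf⟩ := htn
    refine ⟨LocalizedModule.mk f (s * ⟨t, ht⟩), ?_⟩
    rw [LocalizedModule.map_mk, hf]
    exact LocalizedModule.mk_eq.2 ⟨1, by
      simp only [one_smul, Submonoid.smul_def, Submonoid.coe_mul, smul_smul]⟩

variable [Algebra.FinitePresentation R D] [Module.Flat R D] (hD : GIF R D)
  [Algebra.IsSmoothAt R (Ideal.map (algebraMap R D) (maximalIdeal R))]

include hD

theorem injective_localized [Module.Flat R (LocalizedModule (Ideal.primeCompl (Ideal.map (algebraMap R D) (maximalIdeal R))) N)] :
    Function.Injective (LocalizedModule.map (Ideal.primeCompl (Ideal.map (algebraMap R D) (maximalIdeal R))) α) := by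
  classical
  let W := Ideal.primeCompl (Ideal.map (algebraMap R D) (maximalIdeal R))
  let L := Localization.AtPrime (Ideal.map (algebraMap R D) (maximalIdeal R))
  let F := Fin r → L
  let g : (Fin r → D) →ₗ[D] F := LinearMap.pi fun i => (Algebra.linearMap D L).comp (LinearMap.proj i)
  haveI : IsLocalizedModule W g := IsLocalizedModule.pi W (fun _ : Fin r => Algebra.linearMap D L)
  haveI : Module.Flat R L := Module.Flat.trans R D L
  haveI : Module.Flat R F := Module.Flat.trans R L F
  let v : F →ₗ[D] LocalizedModule W N := IsLocalizedModule.map W g (LocalizedModule.mkLinearMap W N) α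
  suffices h : Function.Injective v by
    intro a b hab
    let e := IsLocalizedModule.iso W g
    have hve : v.comp e.toLinearMap = (LocalizedModule.map W α).restrictScalars D := by
      refine IsLocalizedModule.linearMap_ext W (LocalizedModule.mkLinearMap W (Fin r → D))
        (LocalizedModule.mkLinearMap W N) (LinearMap.ext fun f => ?_)
      show v (e (LocalizedModule.mk f 1)) = LocalizedModule.map W α (LocalizedModule.mk f 1)
      rw [show e (LocalizedModule.mk f 1) = g f from IsLocalizedModule.iso_mk_one W g f, LocalizedModule.map_mk]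
      show v (g f) = _
      rw [IsLocalizedModule.map_apply, LocalizedModule.mkLinearMap_apply]
    have hv : ∀ z, v (e z) = LocalizedModule.map W α z := fun z => LinearMap.congr_fun hve z
    rw [← hv, ← hv] at hab
    exact e.injective (h hab)
  refine injective_of_content (F := F) ((hasContent_localization hD).pi) (v.restrictScalars R) ?_
  -- injectivity modulo the maximal ideal
  let eF := TensorProduct.quotTensorEquivQuotSMul F (maximalIdeal R)
  let eM := TensorProduct.quotTensorEquivQuotSMul (LocalizedModule W N) (maximalIdeal R)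
  rw [injective_iff_map_eq_zero]
  intro z hz
  obtain ⟨y, hy⟩ := Submodule.mkQ_surjective _ (eF z)
  have hzy : z = (Ideal.Quotient.mk _ 1) ⊗ₜ y := eF.injective (by
    rw [← hy, TensorProduct.quotTensorEquivQuotSMul_mk_tmul, one_smul, Submodule.mkQ_apply])
  subst hzy
  rw [LinearMap.lTensor_tmul] at hz
  have h1 := congrArg eM hz
  rw [TensorProduct.quotTensorEquivQuotSMul_mk_tmul, one_smul, map_zero, Submodule.Quotient.mk_eq_zero] at h1
  suffices hy0 : y ∈ maximalIdeal R • (⊤ : Submodule R F) by
    apply eF.injective
    rw [TensorProduct.quotTensorEquivQuotSMul_mk_tmul, one_smul, map_zero, Submodule.Quotient.mk_eq_zero]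
    exact hy0
  obtain ⟨⟨f, s⟩, hfs⟩ := IsLocalizedModule.surj W g y
  simp only at hfs
  -- `α f` dies at the residue field of `(Ideal.map (algebraMap R D) (maximalIdeal R))`
  have h2 : ∃ t ∈ W, (1 : Ideal.ResidueField (Ideal.map (algebraMap R D) (maximalIdeal R))) ⊗ₜ[D] (t • α f) = 0 := by
    have h3 : v (g f) ∈ maximalIdeal R • (⊤ : Submodule R (LocalizedModule W N)) := by
      rw [← hfs, Submonoid.smul_def, map_smul]
      refine Submodule.smul_induction_on (p := fun w => (s : D) • w ∈ maximalIdeal R • (⊤ : Submodule R (LocalizedModule W N))) h1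
        (fun c hc m _ => ?_) fun a b ha hb => by rw [smul_add]; exact add_mem ha hb
      rw [smul_comm]
      exact Submodule.smul_mem_smul hc trivial
    rw [IsLocalizedModule.map_apply] at h3
    have key : ∀ w ∈ maximalIdeal R • (⊤ : Submodule R (LocalizedModule W N)),
        ∃ (t : W) (n : N), n ∈ maximalIdeal R • (⊤ : Submodule R N) ∧ (t : D) • w = LocalizedModule.mkLinearMap W N n := by
      intro w hw
      refine Submodule.smul_induction_on hw (fun c hc m _ => ?_) ?_
      · obtain ⟨⟨n, t⟩, hnt⟩ := IsLocalizedModule.surj W (LocalizedModule.mkLinearMap W N) m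
        refine ⟨t, c • n, Submodule.smul_mem_smul hc trivial, ?_⟩
        rw [smul_comm, ← Submonoid.smul_def, hnt, LinearMap.map_smul_of_tower]
      · rintro a b ⟨t₁, n₁, hn₁, e₁⟩ ⟨t₂, n₂, hn₂, e₂⟩
        refine ⟨t₁ * t₂, (t₂ : D) • n₁ + (t₁ : D) • n₂, ?_, ?_⟩
        · exact add_mem (Submodule.smul_induction_on hn₁ (fun c hc m _ => by rw [smul_comm]; exact Submodule.smul_mem_smul hc trivial) fun a b ha hb => by rw [smul_add]; exact add_mem ha hb)
            (Submodule.smul_induction_on hn₂ (fun c hc m _ => by rw [smul_comm]; exact Submodule.smul_mem_smul hc trivial) fun a b ha hb => by rw [smul_add]; exact add_mem ha hb)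
        · rw [map_add, map_smul, map_smul, ← e₁, ← e₂, smul_add, Submonoid.coe_mul, smul_smul, smul_smul, mul_comm (t₂ : D)]
    obtain ⟨t, n, hn, htn⟩ := key _ h3
    obtain ⟨t', ht'⟩ := (IsLocalizedModule.eq_iff_exists W (LocalizedModule.mkLinearMap W N)).1
      (show LocalizedModule.mkLinearMap W N ((t : D) • α f) = LocalizedModule.mkLinearMap W N n by rw [map_smul, htn])
    refine ⟨t' * t, (t' * t).2, ?_⟩
    rw [show ((t' : D) * (t : D)) • α f = (t' : D) • n by
      rw [mul_smul]; exact ht', TensorProduct.tmul_smul]
    have : ∀ n ∈ maximalIdeal R • (⊤ : Submodule R N), (1 : Ideal.ResidueField (Ideal.map (algebraMap R D) (maximalIdeal R))) ⊗ₜ[D] n = 0 := fun n hn =>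
      Submodule.smul_induction_on hn (fun c hc m _ => by
        rw [← algebraMap_smul D c m, ← TensorProduct.smul_tmul, Algebra.smul_def, mul_one,
          Ideal.algebraMap_residueField_eq_zero.2 (Ideal.mem_map_of_mem _ hc), TensorProduct.zero_tmul])
        fun a b ha hb => by rw [TensorProduct.tmul_add, ha, hb, add_zero]
    rw [this n hn, smul_zero]
  obtain ⟨t, ht, h3⟩ := h2
  have h4 : (1 : Ideal.ResidueField (Ideal.map (algebraMap R D) (maximalIdeal R))) ⊗ₜ[D] (t • f) = 0 := hα.1 (by
    rw [LinearMap.baseChange_tmul, map_smul, h3, map_zero])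
  have h5 : ∀ i, f i ∈ (Ideal.map (algebraMap R D) (maximalIdeal R)) := by
    intro i
    have h6 := congrArg ((LinearMap.proj i).baseChange (Ideal.ResidueField (Ideal.map (algebraMap R D) (maximalIdeal R)))) h4
    rw [LinearMap.baseChange_tmul, map_zero] at h6
    have h7 := congrArg (TensorProduct.rid D (Ideal.ResidueField (Ideal.map (algebraMap R D) (maximalIdeal R)))) h6
    rw [TensorProduct.rid_tmul, map_zero, Algebra.smul_def, mul_one, LinearMap.proj_apply, Pi.smul_apply,
      smul_eq_mul, Ideal.algebraMap_residueField_eq_zero] at h7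
    exact (Ideal.IsPrime.mem_or_mem ‹(Ideal.map (algebraMap R D) (maximalIdeal R)).IsPrime› h7).resolve_left ht
  -- conclude
  have h8 : g f ∈ maximalIdeal R • (⊤ : Submodule R F) := by
    rw [← Finset.univ_sum_single (g f)]
    refine Submodule.sum_mem _ fun i _ => ?_
    have hfi : f i ∈ maximalIdeal R • (⊤ : Submodule R D) := by
      rw [Ideal.smul_top_eq_map, Submodule.restrictScalars_mem]
      exact h5 i
    have := Submodule.mem_map_of_mem (f := ((LinearMap.single D (fun _ => L) i).comp (Algebra.linearMap D L)).restrictScalars R) hfi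
    rw [Submodule.map_smul''] at this
    exact Submodule.smul_mono le_rfl le_top this
  obtain ⟨u, hu⟩ := IsLocalization.map_units L s
  have : y = (↑u⁻¹ : L) • g f := by
    rw [← hfs, Submonoid.smul_def, ← algebraMap_smul L (s : D) y, ← hu, smul_smul, Units.inv_mul, one_smul]
  rw [this]
  refine Submodule.smul_induction_on (p := fun w => (↑u⁻¹ : L) • w ∈ maximalIdeal R • (⊤ : Submodule R F)) h8
    (fun c hc m _ => ?_) fun a b ha hb => by rw [smul_add]; exact add_mem ha hb
  rw [smul_comm]
  exact Submodule.smul_mem_smul hc trivial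

omit hα hD

end Groth.Agent.Lib.RG.Residue
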