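import Mathlib.AlgebraicGeometry.Limits
import Mathlib.AlgebraicGeometry.Morphisms.ClosedImmersion
import Mathlib.AlgebraicGeometry.Morphisms.FinitePresentation
import Mathlib.AlgebraicGeometry.Morphisms.QuasiSeparated
import Mathlib.AlgebraicGeometry.Morphisms.Separated

/-!
# The scheme of strata of an increasing sequence of ideals
-/

set_option autoImplicit false
set_option linter.style.haveILetI false

universe u

open CategoryTheory CategoryTheory.Limits AlgebraicGeometry

namespace Groth.Agent.Lib.RG.StrataScheme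

variable {A : Type u} [CommRing A]

/-- The condition cut out by the strata of `K`. -/
def Cond (J : ℕ) (K : ℕ → Ideal A) (A' : Type u) [CommRing A'] [Algebra A A'] : Prop :=
  ∀ (t : Ideal A') [t.IsPrime], ∃ j ≤ J, ¬ (K (j + 1)).map (algebraMap A A') ≤ t ∧
    ∀ k ∈ K j, ∃ c, c ∉ t ∧ c * algebraMap A A' k = 0

theorem exists_strata (J : ℕ) (K : ℕ → Ideal A) (hfg : ∀ j, (K j).FG) (hmono : Monotone K) :
    ∃ (Z : Scheme.{u}) (i : Z ⟶ Spec (CommRingCat.of A)),
      Mono i ∧ LocallyOfFinitePresentation i ∧ QuasiCompact i ∧ QuasiSeparated i ∧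
      ∀ (A' : Type u) [CommRing A'] [Algebra A A'], Cond J K A' ↔
        ∃ k : Spec (CommRingCat.of A') ⟶ Z, k ≫ i = Spec.map (CommRingCat.ofHom (algebraMap A A')) := by
  classical
  let q : ∀ j : Fin (J + 1), Spec (CommRingCat.of (A ⧸ K j)) ⟶ Spec (CommRingCat.of A) := fun j =>
    Spec.map (CommRingCat.ofHom (Ideal.Quotient.mk (K j)))
  let U : ∀ j : Fin (J + 1), (Spec (CommRingCat.of (A ⧸ K j))).Opens := fun j =>
    ⟨(PrimeSpectrum.zeroLocus (((K ((j : ℕ) + 1)).map (Ideal.Quotient.mk (K j)) : Ideal (A ⧸ K j)) : Set (A ⧸ K j)))ᶜ,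
      (PrimeSpectrum.isClosed_zeroLocus _).isOpen_compl⟩
  have hU : ∀ (j : Fin (J + 1)) (x : Spec (CommRingCat.of (A ⧸ K j))),
      x ∈ U j ↔ ¬ K ((j : ℕ) + 1) ≤ (x : PrimeSpectrum (A ⧸ K j)).asIdeal.comap (Ideal.Quotient.mk (K j)) := by
    intro j x
    rw [← Ideal.map_le_iff_le_comap]
    exact Iff.rfl
  let P : Fin (J + 1) → Scheme.{u} := fun j => U j
  let p : ∀ j, P j ⟶ Spec (CommRingCat.of A) := fun j => (U j).ι ≫ q j
  have hrange : ∀ j (z : P j), K (j : ℕ) ≤ (p j z : PrimeSpectrum A).asIdeal ∧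
      ¬ K ((j : ℕ) + 1) ≤ (p j z : PrimeSpectrum A).asIdeal := by
    intro j z
    have hz : (p j z : PrimeSpectrum A).asIdeal =
        ((U j).ι z : PrimeSpectrum (A ⧸ K j)).asIdeal.comap (Ideal.Quotient.mk (K j)) := rfl
    rw [hz]
    refine ⟨fun a ha => ?_, (hU j _).1 z.2⟩
    rw [Ideal.mem_comap, Ideal.Quotient.eq_zero_iff_mem.2 ha]
    exact zero_mem _
  have hdis : ∀ j k (y : P j) (z : P k), p j y = p k z → j = k := by
    intro j k y z h
    have h1 := hrange j y
    have h2 := hrange k z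
    rw [← h] at h2
    rcases lt_trichotomy (j : ℕ) (k : ℕ) with hjk | hjk | hjk
    · exact absurd ((hmono (Nat.succ_le_of_lt hjk)).trans h2.1) h1.2
    · exact Fin.ext hjk
    · exact absurd ((hmono (Nat.succ_le_of_lt hjk)).trans h1.1) h2.2
  have hq : ∀ j, IsClosedImmersion (q j) := fun j =>
    IsClosedImmersion.spec_of_surjective _ Ideal.Quotient.mk_surjective
  have hpmono : ∀ j, Mono (p j) := fun j => by
    haveI := hq j
    infer_instance
  let i := Sigma.desc p
  have hi : ∀ j, Sigma.ι P j ≫ i = p j := fun j => Sigma.ι_desc _ _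
  have hcomp : ∀ (z : (∐ P : Scheme.{u})), ∃ j w, Sigma.ι P j w = z := fun z =>
    (sigmaOpenCover P).exists_eq z
  haveI hmonoi : Mono i := by
    refine ⟨fun {T} a b hab => Scheme.hom_ext_of_forall a b fun t => ?_⟩
    obtain ⟨j, y, hy⟩ := hcomp (a t)
    let V : T.Opens := (a ⁻¹ᵁ (Sigma.ι P j).opensRange) ⊓ (b ⁻¹ᵁ (Sigma.ι P j).opensRange)
    have hbt : b t ∈ (Sigma.ι P j).opensRange := by
      obtain ⟨k, z, hz⟩ := hcomp (b t)
      have h1 : i (a t) = i (b t) := by rw [← Scheme.Hom.comp_apply, ← Scheme.Hom.comp_apply, hab]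
      rw [← hy, ← hz, ← Scheme.Hom.comp_apply, ← Scheme.Hom.comp_apply, hi, hi] at h1
      obtain rfl := hdis j k y z h1
      exact ⟨z, hz⟩
    refine ⟨V, ⟨⟨y, hy⟩, hbt⟩, ?_⟩
    have ha : Set.range (V.ι ≫ a) ⊆ Set.range (Sigma.ι P j) := by
      rintro _ ⟨v, rfl⟩
      exact v.2.1
    have hb : Set.range (V.ι ≫ b) ⊆ Set.range (Sigma.ι P j) := by
      rintro _ ⟨v, rfl⟩
      exact v.2.2
    rw [← IsOpenImmersion.lift_fac _ _ ha, ← IsOpenImmersion.lift_fac _ _ hb]
    congr 1
    haveI := hpmono j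
    rw [← cancel_mono (p j), ← hi, IsOpenImmersion.lift_fac_assoc, IsOpenImmersion.lift_fac_assoc, Category.assoc,
      Category.assoc, hab]
  have hlfp : LocallyOfFinitePresentation i := by
    refine IsZariskiLocalAtSource.sigmaDesc fun j => ?_
    haveI : LocallyOfFinitePresentation (q j) :=
      (HasRingHomProperty.Spec_iff (P := @LocallyOfFinitePresentation)).2
        (RingHom.FinitePresentation.of_surjective _ Ideal.Quotient.mk_surjective (by
          show (RingHom.ker (Ideal.Quotient.mk (K j))).FG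
          rw [Ideal.mk_ker]
          exact hfg j))
    show LocallyOfFinitePresentation ((U j).ι ≫ q j)
    infer_instance
  have hqc : QuasiCompact i := by
    rw [quasiCompact_iff_compactSpace]
    haveI : ∀ j, CompactSpace (P j) := fun j => by
      refine isCompact_iff_compactSpace.1 ?_
      obtain ⟨S, hS⟩ := (hfg ((j : ℕ) + 1)).map (Ideal.Quotient.mk (K j))
      have : ((U j).carrier : Set (PrimeSpectrum (A ⧸ K j))) =
          ⋃ f ∈ S, (PrimeSpectrum.basicOpen f : Set (PrimeSpectrum (A ⧸ K j))) := by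
        show (PrimeSpectrum.zeroLocus _)ᶜ = _
        rw [← hS, PrimeSpectrum.zeroLocus_span]
        ext x
        simp [PrimeSpectrum.mem_zeroLocus, Set.subset_def]
      show IsCompact ((U j).carrier : Set (PrimeSpectrum (A ⧸ K j)))
      rw [this]
      exact S.finite_toSet.isCompact_biUnion fun f _ => PrimeSpectrum.isCompact_basicOpen f
    refine ⟨?_⟩
    have hu : (Set.univ : Set (∐ P : Scheme.{u})) = ⋃ j, Set.range (Sigma.ι P j) := by
      ext z
      simpa using hcomp z
    rw [hu]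
    exact isCompact_iUnion fun j => isCompact_range (Sigma.ι P j).continuous
  haveI : IsSeparated i := inferInstance
  refine ⟨∐ P, i, hmonoi, hlfp, hqc, inferInstance, fun A' _ _ => ⟨fun hc => ?_, ?_⟩⟩
  · have hloc : ∀ (t : Ideal A') [t.IsPrime], ∃ (f : A') (j : Fin (J + 1)), f ∉ t ∧
        f ∈ (K ((j : ℕ) + 1)).map (algebraMap A A') ∧ ∀ k ∈ K (j : ℕ), f * algebraMap A A' k = 0 := by
      intro t _
      obtain ⟨j, hjJ, hnle, hk⟩ := hc t
      obtain ⟨x, hx, hxt⟩ := SetLike.not_le_iff_exists.1 hnle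
      obtain ⟨S, hS⟩ := hfg j
      have hkS : ∀ s : S, ∃ c, c ∉ t ∧ c * algebraMap A A' (s : A) = 0 := fun s =>
        hk s (hS ▸ Submodule.subset_span s.2)
      choose c hct hcs using hkS
      refine ⟨x * ∏ s, c s, ⟨j, by omega⟩, fun hm => (Ideal.IsPrime.mem_or_mem inferInstance hm).elim hxt fun hm' => ?_,
        Ideal.mul_mem_right _ _ hx, fun k hkK => ?_⟩
      · obtain ⟨s, -, hs⟩ := Ideal.IsPrime.prod_mem_iff.1 hm'
        exact hct s hs
      · have hk' : k ∈ Ideal.span (S : Set A) := by rw [show Ideal.span (S : Set A) = K j from hS]; exact hkK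
        clear hkK
        induction hk' using Submodule.span_induction with
        | mem s hs =>
          rw [← Finset.prod_erase_mul _ _ (Finset.mem_univ (⟨s, hs⟩ : S)), mul_assoc, mul_assoc, hcs, mul_zero, mul_zero]
        | zero => rw [map_zero, mul_zero]
        | add a b _ _ ha hb => rw [map_add, mul_add, ha, hb, add_zero]
        | smul r a _ ha => rw [smul_eq_mul, map_mul, ← mul_assoc, mul_comm _ (algebraMap A A' r), mul_assoc, ha, mul_zero]
    let I := {fj : A' × Fin (J + 1) //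
      fj.1 ∈ (K ((fj.2 : ℕ) + 1)).map (algebraMap A A') ∧ ∀ k ∈ K (fj.2 : ℕ), fj.1 * algebraMap A A' k = 0}
    let s : I → A' := fun x => x.1.1
    have hs : Ideal.span (Set.range s) = ⊤ := by
      by_contra hne
      obtain ⟨m, hm, hle⟩ := Ideal.exists_le_maximal _ hne
      obtain ⟨f, j, hf, h1, h2⟩ := hloc m
      exact hf (hle (Ideal.subset_span ⟨⟨(f, j), h1, h2⟩, rfl⟩))
    let 𝒰 := (Scheme.affineOpenCoverOfSpanRangeEqTop (R := CommRingCat.of A') s hs).openCover
    have hmap : ∀ x : I, ∃ m : 𝒰.X x ⟶ ∐ P, m ≫ i = 𝒰.f x ≫ Spec.map (CommRingCat.ofHom (algebraMap A A')) := by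
      rintro ⟨⟨f, j⟩, h1, h2⟩
      let L := Localization.Away f
      have hfL : IsUnit (algebraMap A' L f) := IsLocalization.Away.algebraMap_isUnit f
      let χ : A ⧸ K (j : ℕ) →+* L := Ideal.Quotient.lift _ ((algebraMap A' L).comp (algebraMap A A')) fun k hk => by
        rw [RingHom.comp_apply, ← hfL.mul_right_eq_zero, ← map_mul, h2 k hk, map_zero]
      let m₀ : Spec (CommRingCat.of L) ⟶ Spec (CommRingCat.of (A ⧸ K (j : ℕ))) := Spec.map (CommRingCat.ofHom χ)
      have hr : Set.range m₀ ⊆ Set.range (U j).ι := by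
        rw [Scheme.Opens.range_ι]
        rintro _ ⟨y, rfl⟩
        refine (hU j _).2 fun hle => (y : PrimeSpectrum L).isPrime.ne_top (Ideal.eq_top_of_isUnit_mem _ ?_ hfL)
        have h3 : (K ((j : ℕ) + 1)).map ((algebraMap A' L).comp (algebraMap A A')) ≤ (y : PrimeSpectrum L).asIdeal := by
          rw [Ideal.map_le_iff_le_comap]
          exact hle
        rw [← Ideal.map_map] at h3
        exact h3 (Ideal.mem_map_of_mem _ h1)
      refine ⟨IsOpenImmersion.lift (U j).ι m₀ hr ≫ Sigma.ι P j, ?_⟩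
      rw [Category.assoc, hi]
      show IsOpenImmersion.lift (U j).ι m₀ hr ≫ (U j).ι ≫ q j = _
      rw [IsOpenImmersion.lift_fac_assoc]
      show Spec.map _ ≫ Spec.map _ = Spec.map _ ≫ Spec.map _
      rw [← Spec.map_comp, ← Spec.map_comp]
      rfl
    choose m hm using hmap
    refine ⟨𝒰.glueMorphisms m fun x y => ?_, 𝒰.hom_ext _ _ fun x => ?_⟩
    · rw [← cancel_mono i, Category.assoc, Category.assoc, hm, hm, pullback.condition_assoc]
    · rw [Scheme.Cover.ι_glueMorphisms_assoc, hm]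
  · rintro ⟨k, hk⟩ t ht
    let x : Spec (CommRingCat.of A') := (⟨t, ht⟩ : PrimeSpectrum A')
    obtain ⟨j, z, hz⟩ := hcomp (k x)
    have hx : x ∈ k ⁻¹ᵁ (Sigma.ι P j).opensRange := ⟨z, hz⟩
    obtain ⟨_, ⟨f, rfl⟩, hxf, hfV⟩ :=
      PrimeSpectrum.isTopologicalBasis_basic_opens.exists_subset_of_mem_open hx
        (k ⁻¹ᵁ (Sigma.ι P j).opensRange).isOpen
    refine ⟨j, Nat.lt_succ_iff.1 j.2, fun hle => (hrange j z).2 ?_, fun a ha => ?_⟩
    · have h1 : p j z = Spec.map (CommRingCat.ofHom (algebraMap A A')) x := by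
        rw [← hi, Scheme.Hom.comp_apply, hz, ← Scheme.Hom.comp_apply, hk]
      rw [h1]
      exact Ideal.map_le_iff_le_comap.1 hle
    · let L := Localization.Away f
      let e : Spec (CommRingCat.of L) ⟶ Spec (CommRingCat.of A') := Spec.map (CommRingCat.ofHom (algebraMap A' L))
      have hr : Set.range (e ≫ k) ⊆ Set.range (Sigma.ι P j) := by
        rintro _ ⟨y, rfl⟩
        refine hfV ?_
        show f ∉ Ideal.comap (algebraMap A' L) (y : PrimeSpectrum L).asIdeal
        exact fun h => (y : PrimeSpectrum L).isPrime.ne_top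
          (Ideal.eq_top_of_isUnit_mem _ h (IsLocalization.Away.algebraMap_isUnit f))
      obtain ⟨χ, hχ⟩ := Spec.map_surjective (IsOpenImmersion.lift (Sigma.ι P j) (e ≫ k) hr ≫ (U j).ι)
      have h1 : Spec.map (CommRingCat.ofHom (Ideal.Quotient.mk (K (j : ℕ))) ≫ χ) =
          Spec.map (CommRingCat.ofHom (algebraMap A A') ≫ CommRingCat.ofHom (algebraMap A' L)) := by
        rw [Spec.map_comp, Spec.map_comp, hχ, Category.assoc]
        show IsOpenImmersion.lift (Sigma.ι P j) (e ≫ k) hr ≫ p j = _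
        rw [← hi, IsOpenImmersion.lift_fac_assoc, Category.assoc, hk]
      have h2 := RingHom.congr_fun (congrArg CommRingCat.Hom.hom (Spec.map_injective h1)) a
      have h3 : algebraMap A' L (algebraMap A A' a) = 0 := by
        simpa [Ideal.Quotient.eq_zero_iff_mem.2 ha] using h2.symm
      obtain ⟨⟨_, n, rfl⟩, hn⟩ := (IsLocalization.map_eq_zero_iff (Submonoid.powers f) L _).1 h3
      exact ⟨f ^ n, fun h => hxf (ht.mem_of_pow_mem n h), hn⟩

end Groth.Agent.Lib.RG.StrataScheme
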