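import Groth.Agent.Lib.RG.GoodUI
import Groth.Agent.Lib.RG.GoodMain
import Groth.Agent.Lib.RG.Induct
import Groth.Agent.Lib.RG.FibrePoint
import Mathlib.RingTheory.Unramified.Finite
import Mathlib.RingTheory.Unramified.LocalRing

/-!
# Maps into flat modules that are injective on the closed fibre, linear over the source algebra
-/

set_option autoImplicit false
set_option linter.style.haveILetI false

universe u

open scoped TensorProduct

namespace Groth.Agent.Lib.RG.UIMain

open GoodUI GoodDev FibrePoint

section Transfer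

variable {A R : Type u} [CommRing A] [CommRing R] [Algebra A R] (p : Ideal A) [p.IsPrime] (p₁ : Ideal R) [p₁.IsPrime]

/-- At an unramified point the maximal ideal is extended from the base. -/
theorem exists_mul_mem_map [Algebra.Etale A R] [p₁.LiesOver p] {d : R} (hd : d ∈ p₁) :
    ∃ s ∉ p₁, s * d ∈ p.map (algebraMap A R) := by
  letI := Localization.AtPrime.algebraOfLiesOver p p₁
  haveI : Localization.AtPrime.IsLiesOverAlgebra p p₁ := ⟨rfl⟩
  have h := ((Algebra.isUnramifiedAt_iff_map_eq A p p₁).1 inferInstance).2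
  have hd' : algebraMap R (Localization.AtPrime p₁) d ∈
      (p.map (algebraMap A R)).map (algebraMap R (Localization.AtPrime p₁)) := by
    rw [Ideal.map_map, ← IsScalarTower.algebraMap_eq, h, ← Localization.AtPrime.map_eq_maximalIdeal]
    exact Ideal.mem_map_of_mem _ hd
  obtain ⟨s, hs, hsd⟩ := (IsLocalization.algebraMap_mem_map_algebraMap_iff p₁.primeCompl
    (Localization.AtPrime p₁) _ _).1 hd'
  exact ⟨s, hs, hsd⟩

variable {X Y : Type u} [AddCommGroup X] [Module R X] [Module A X] [IsScalarTower A R X]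
  [AddCommGroup Y] [Module R Y] [Module A Y] [IsScalarTower A R Y]

/-- Injectivity on the fibre passes to an étale neighbourhood of the base. -/
theorem residue_transfer [p.IsMaximal] (hnhd : _root_.FlatCA.IsEtaleNhd A R p p₁)
    (hY : ∀ t : R, t ∉ p₁ → Function.Bijective fun m : Y => t • m) (v : X →ₗ[R] Y)
    (hv : Function.Injective ((v.restrictScalars A).rTensor p.ResidueField)) :
    Function.Injective (v.rTensor p₁.ResidueField) := by
  obtain ⟨het, hover, hbij⟩ := hnhd
  haveI := het
  haveI := hover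
  let φ : p.ResidueField ≃ₐ[A] p₁.ResidueField :=
    AlgEquiv.ofBijective (Ideal.ResidueField.mapₐ p p₁ (Algebra.ofId A R) (p₁.over_def p)) hbij
  have hdY : ∀ d ∈ p₁, ∀ (m : Y) (c : p.ResidueField), (d • m) ⊗ₜ[A] c = 0 := by
    intro d hd m c
    obtain ⟨s, hs, hsd⟩ := exists_mul_mem_map p p₁ hd
    obtain ⟨m', rfl⟩ := (hY s hs).2 m
    show (d • s • m') ⊗ₜ[A] c = 0
    rw [smul_smul, mul_comm d s]
    rw [show p.map (algebraMap A R) = Submodule.span R (algebraMap A R '' (p : Set A)) from rfl] at hsd
    generalize s * d = y at hsd ⊢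
    induction hsd using Submodule.span_induction generalizing m' with
    | mem y hy =>
      obtain ⟨a, ha, rfl⟩ := hy
      rw [algebraMap_smul, TensorProduct.smul_tmul, Algebra.smul_def, Ideal.algebraMap_residueField_eq_zero.2 ha,
        zero_mul, TensorProduct.tmul_zero]
    | zero => rw [zero_smul, TensorProduct.zero_tmul]
    | add a b _ _ ha hb => rw [add_smul, TensorProduct.add_tmul, ha, hb, add_zero]
    | smul r y _ hy => rw [smul_eq_mul, mul_comm, mul_smul]; exact hy _
  have hbal : ∀ (r : R) (m : Y) (c₁ : p₁.ResidueField), (r • m) ⊗ₜ[A] φ.symm c₁ = m ⊗ₜ[A] φ.symm (r • c₁) := by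
    intro r m c₁
    obtain ⟨a, ha⟩ : ∃ a : A, algebraMap A p₁.ResidueField a = algebraMap R p₁.ResidueField r := by
      obtain ⟨a, ha⟩ := p.algebraMap_residueField_surjective (φ.symm (algebraMap R p₁.ResidueField r))
      exact ⟨a, by rw [← φ.commutes a, ha, AlgEquiv.apply_symm_apply]⟩
    have hd : r - algebraMap A R a ∈ p₁ := by
      rw [← Ideal.algebraMap_residueField_eq_zero, map_sub, ← IsScalarTower.algebraMap_apply, ha, sub_self]
    have hc : r • c₁ = a • c₁ := by rw [Algebra.smul_def, Algebra.smul_def, ha]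
    rw [hc, map_smul, ← TensorProduct.smul_tmul, ← algebraMap_smul R a m, ← sub_eq_zero, ← TensorProduct.sub_tmul,
      ← sub_smul]
    exact hdY _ hd m _
  let Ψ : Y ⊗[R] p₁.ResidueField →ₗ[R] Y ⊗[A] p.ResidueField :=
    TensorProduct.lift
      { toFun := fun m =>
          { toFun := fun c₁ => m ⊗ₜ[A] φ.symm c₁
            map_add' := fun a b => by rw [map_add, TensorProduct.tmul_add]
            map_smul' := fun r c₁ => by
              rw [RingHom.id_apply, ← hbal, TensorProduct.smul_tmul'] }
        map_add' := fun a b => LinearMap.ext fun c => by simp [TensorProduct.add_tmul]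
        map_smul' := fun r a => LinearMap.ext fun c => by simp [TensorProduct.smul_tmul'] }
  rw [injective_iff_map_eq_zero]
  intro z hz
  let Φ : X ⊗[A] p.ResidueField →ₗ[A] X ⊗[R] p₁.ResidueField :=
    TensorProduct.lift
      { toFun := fun x => ((TensorProduct.mk R X p₁.ResidueField x).restrictScalars A).comp φ.toLinearMap
        map_add' := fun a b => LinearMap.ext fun c => by simp [TensorProduct.add_tmul]
        map_smul' := fun r a => LinearMap.ext fun c => by simp [TensorProduct.smul_tmul'] }
  have hΦ : Function.Surjective Φ := fun w => by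
    induction w using TensorProduct.induction_on with
    | zero => exact ⟨0, map_zero _⟩
    | tmul x c => exact ⟨x ⊗ₜ[A] φ.symm c, by simp [Φ]⟩
    | add a b ha hb =>
      obtain ⟨a', rfl⟩ := ha
      obtain ⟨b', rfl⟩ := hb
      exact ⟨a' + b', map_add _ _ _⟩
  obtain ⟨z', rfl⟩ := hΦ z
  have hc : ∀ w, Ψ (v.rTensor p₁.ResidueField (Φ w)) = (v.restrictScalars A).rTensor p.ResidueField w := by
    intro w
    induction w using TensorProduct.induction_on with
    | zero => simp
    | add a b ha hb => simp only [map_add, ha, hb]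
    | tmul x c => simp [Φ, Ψ]
  have h0 := hc z'
  rw [hz, map_zero] at h0
  rw [hv (h0.symm.trans (map_zero _).symm), map_zero]

end Transfer

section Core

variable {A P S₁ R₁ : Type u} [CommRing A] [IsLocalRing A] [CommRing P] [Algebra A P] [CommRing S₁] [Algebra P S₁]
  [Algebra A S₁] [IsScalarTower A P S₁] [Module.Flat P S₁] [CommRing R₁] [Algebra A R₁] [Algebra R₁ S₁]
  [IsScalarTower A R₁ S₁]
  (q : Ideal P) [q.IsPrime] (q₁ : Ideal S₁) [q₁.IsPrime] (hq₁ : q₁.comap (algebraMap P S₁) = q)
  {N₁ N M G GM : Type u} [AddCommGroup N₁] [Module P N₁] [Module A N₁] [IsScalarTower A P N₁]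
  [AddCommGroup N] [Module P N] [Module A N] [IsScalarTower A P N]
  [AddCommGroup M] [Module P M] [Module A M] [IsScalarTower A P M]
  [AddCommGroup G] [Module S₁ G] [Module P G] [IsScalarTower P S₁ G] [Module A G] [IsScalarTower A S₁ G]
  [IsScalarTower A P G]
  [AddCommGroup GM] [Module S₁ GM] [Module P GM] [IsScalarTower P S₁ GM] [Module A GM] [IsScalarTower A S₁ GM]
  [IsScalarTower A P GM]
  (f : N₁ →ₗ[P] N) [IsLocalizedModule q.primeCompl f] (uP : N →ₗ[P] M)
  (fG : N₁ →ₗ[P] G) (hfG : IsBaseChange S₁ fG) (fM : M →ₗ[P] GM) (hfM : IsBaseChange S₁ fM)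
  (gS : G →ₗ[S₁] GM) (hgS : ∀ n, gS (fG n) = fM (uP (f n)))
  {L L' : Type u} [AddCommGroup L] [Module S₁ L] [Module A L] [IsScalarTower A S₁ L]
  [AddCommGroup L'] [Module S₁ L'] [Module A L'] [IsScalarTower A S₁ L']
  (lG : G →ₗ[S₁] L) [IsLocalizedModule q₁.primeCompl lG] (lM : GM →ₗ[S₁] L') [IsLocalizedModule q₁.primeCompl lM]
  (vS : L →ₗ[S₁] L') (hvmap : ∀ x, vS (lG x) = lM (gS x))

omit [q.IsPrime] [IsLocalRing A] [IsLocalizedModule q.primeCompl f] in
include hgS in
theorem natural (Q : Type u) [AddCommGroup Q] [Module A Q] (w : S₁ ⊗[P] (N₁ ⊗[A] Q)) :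
    (gS.restrictScalars A).rTensor Q ((tensorEquiv fG hfG Q).symm w) = (tensorEquiv fM hfM Q).symm
      ((TensorProduct.AlgebraTensorModule.rTensor A Q (uP.comp f)).lTensor S₁ w) := by
  induction w using TensorProduct.induction_on with
  | zero => simp
  | add a b ha hb => simp only [map_add, ha, hb]
  | tmul c x =>
    induction x using TensorProduct.induction_on with
    | zero => simp
    | add a b ha hb => simp only [TensorProduct.tmul_add, map_add, ha, hb]
    | tmul n x =>
      rw [tensorEquiv_symm_tmul, LinearMap.rTensor_tmul, LinearMap.lTensor_tmul,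
        TensorProduct.AlgebraTensorModule.rTensor_tmul, tensorEquiv_symm_tmul, LinearMap.coe_restrictScalars,
        map_smul, hgS]
      rfl

include hq₁ hfG hfM hgS hvmap in
theorem injective_up (Q : Type u) [AddCommGroup Q] [Module A Q]
    (hu : Function.Injective ((uP.restrictScalars A).rTensor Q)) :
    Function.Injective ((vS.restrictScalars A).rTensor Q) := by
  refine rTensor_injective_localized q₁.primeCompl lG lM gS vS hvmap Q fun z hz => ?_
  obtain ⟨z, rfl⟩ := (tensorEquiv fG hfG Q).symm.surjective z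
  rw [natural f uP fG hfG fM hfM gS hgS Q, LinearEquiv.map_eq_zero_iff] at hz
  obtain ⟨w, hw, hwz⟩ := killed_lTensor q q₁ hq₁ _ (fun x hx => by
    have h1 : (f.restrictScalars A).rTensor Q x = 0 := hu (by
      rw [map_zero, ← LinearMap.comp_apply, ← LinearMap.rTensor_comp]
      exact hx)
    haveI := IsLocalizedModule.rTensor q.primeCompl (R := A) (A := P) (N := Q) f
    obtain ⟨⟨w, hw⟩, hwx⟩ := (IsLocalizedModule.eq_zero_iff q.primeCompl
      (TensorProduct.AlgebraTensorModule.rTensor A Q f)).1 h1
    exact ⟨w, hw, hwx⟩) z hz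
  exact ⟨w, hw, by rw [← map_smul, hwz, map_zero]⟩

include hq₁ hfG hfM hgS hvmap in
theorem injective_down (Q : Type u) [AddCommGroup Q] [Module A Q]
    (hv : Function.Injective ((vS.restrictScalars A).rTensor Q)) :
    Function.Injective ((uP.restrictScalars A).rTensor Q) := by
  rw [injective_iff_map_eq_zero]
  intro y hy0
  haveI := IsLocalizedModule.rTensor q.primeCompl (R := A) (A := P) (N := Q) f
  let fQ := TensorProduct.AlgebraTensorModule.rTensor A Q f
  let uQ : N ⊗[A] Q →ₗ[P] M ⊗[A] Q := TensorProduct.AlgebraTensorModule.rTensor A Q uP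
  obtain ⟨⟨x, s⟩, hxs⟩ := IsLocalizedModule.surj q.primeCompl fQ y
  simp only at hxs
  have h1 : ((uP.comp f).restrictScalars A).rTensor Q x = 0 := by
    show ((uP.restrictScalars A).comp (f.restrictScalars A)).rTensor Q x = 0
    rw [LinearMap.rTensor_comp, LinearMap.comp_apply]
    show uQ (fQ x) = 0
    rw [← hxs, Submonoid.smul_def, map_smul, show uQ y = 0 from hy0, smul_zero]
  let ξ := (tensorEquiv fG hfG Q).symm ((1 : S₁) ⊗ₜ[P] x)
  have hξ : (gS.restrictScalars A).rTensor Q ξ = 0 := by
    show _ = 0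
    rw [natural f uP fG hfG fM hfM gS hgS Q, LinearMap.lTensor_tmul]
    show (tensorEquiv fM hfM Q).symm ((1 : S₁) ⊗ₜ[P] ((uP.comp f).restrictScalars A).rTensor Q x) = 0
    rw [h1, TensorProduct.tmul_zero, map_zero]
  haveI := IsLocalizedModule.rTensor q₁.primeCompl (R := A) (A := S₁) (N := Q) lG
  let lGQ := TensorProduct.AlgebraTensorModule.rTensor A Q lG
  have h2 : lGQ ξ = 0 := hv (by
    rw [map_zero]
    show ((vS.restrictScalars A).rTensor Q) ((lG.restrictScalars A).rTensor Q ξ) = 0
    rw [← LinearMap.comp_apply, ← LinearMap.rTensor_comp,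
      show (vS.restrictScalars A).comp (lG.restrictScalars A) = (lM.restrictScalars A).comp (gS.restrictScalars A)
        from LinearMap.ext hvmap, LinearMap.rTensor_comp, LinearMap.comp_apply, hξ, map_zero])
  obtain ⟨⟨w, hw⟩, hwξ⟩ := (IsLocalizedModule.eq_zero_iff q₁.primeCompl lGQ).1 h2
  have h3 : w • ((1 : S₁) ⊗ₜ[P] x) = 0 := (tensorEquiv fG hfG Q).symm.injective (by
    rw [map_smul, map_zero]; exact hwξ)
  obtain ⟨c, hc, hcx⟩ := kill_descend q q₁ hq₁ x hw h3
  have h4 : fQ x = 0 := (IsLocalizedModule.eq_zero_iff q.primeCompl fQ).2 ⟨⟨c, hc⟩, hcx⟩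
  refine ((Module.End.isUnit_iff _).1 (IsLocalizedModule.map_units fQ s)).1 ?_
  simp only [Module.algebraMap_end_apply, smul_zero]
  exact hxs.trans h4

end Core

/-- A localized module, with its structures over two bases, as an opaque object. -/
theorem exists_loc (A R : Type u) {S : Type u} [CommRing A] [CommRing R] [CommRing S] [Algebra A R] [Algebra R S]
    [Algebra A S] [IsScalarTower A R S] (W : Submonoid S) (G : Type u) [AddCommGroup G] [Module S G] :
    ∃ (L : Type u) (_ : AddCommGroup L) (_ : Module S L) (_ : Module R L) (_ : Module A L) (_ : IsScalarTower R S L)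
      (_ : IsScalarTower A S L) (_ : IsScalarTower A R L) (l : G →ₗ[S] L), IsLocalizedModule W l := by
  let L := LocalizedModule W G
  letI mR : Module R L := Module.compHom L (algebraMap R S)
  letI mA : Module A L := Module.compHom L (algebraMap A S)
  haveI tR : IsScalarTower R S L := IsScalarTower.of_algebraMap_smul fun _ _ => rfl
  haveI tA : IsScalarTower A S L := IsScalarTower.of_algebraMap_smul fun _ _ => rfl
  haveI tAR : IsScalarTower A R L := IsScalarTower.of_algebraMap_smul fun a x => by
    show algebraMap R S (algebraMap A R a) • x = algebraMap A S a • x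
    rw [← IsScalarTower.algebraMap_apply]
  exact ⟨L, inferInstance, inferInstance, mR, mA, tR, tA, tAR, LocalizedModule.mkLinearMap W G, inferInstance⟩

set_option maxHeartbeats 1600000 in
/-- The statement over a finite type algebra, at a point over the closed point. -/
theorem main {A : Type u} [CommRing A] [IsLocalRing A] {P : Type u} [CommRing P] [Algebra A P]
    [Algebra.FiniteType A P] (q : Ideal P) [q.IsPrime] [q.LiesOver (IsLocalRing.maximalIdeal A)]
    {N₁ N : Type u} [AddCommGroup N₁] [Module P N₁] [Module A N₁] [IsScalarTower A P N₁] [Module.Finite P N₁]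
    [AddCommGroup N] [Module P N] [Module A N] [IsScalarTower A P N]
    (f : N₁ →ₗ[P] N) [IsLocalizedModule q.primeCompl f]
    {M : Type u} [AddCommGroup M] [Module P M] [Module A M] [IsScalarTower A P M] [Module.Flat A M]
    (uP : N →ₗ[P] M)
    (hu : Function.Injective ((uP.restrictScalars A).rTensor (IsLocalRing.maximalIdeal A).ResidueField)) :
    RUI A (uP.restrictScalars A) ∧ Module.Flat A N ∧ DevTools.FPAt q N₁ := by
  let p := IsLocalRing.maximalIdeal A
  suffices H : RUI A (uP.restrictScalars A) ∧ Module.Flat A N by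
    haveI := H.2
    refine ⟨H.1, H.2, Induct.fpAt_of_flat p q ?_⟩
    exact Module.Flat.of_linearEquiv ((IsLocalizedModule.iso q.primeCompl f).restrictScalars A)
  by_cases hy : (⟨q, inferInstance⟩ : PrimeSpectrum P) ∈ Module.support P N₁
  swap
  · haveI : Subsingleton N := subsingleton_of_forall_eq 0 fun z => by
      obtain ⟨⟨n, s⟩, hns⟩ := IsLocalizedModule.surj q.primeCompl f z
      obtain ⟨w, hw, hwn⟩ := Module.notMem_support_iff'.1 hy n
      have h0 : f n = 0 := (IsLocalizedModule.eq_zero_iff q.primeCompl f).2 ⟨⟨w, hw⟩, hwn⟩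
      refine ((Module.End.isUnit_iff _).1 (IsLocalizedModule.map_units f s)).1 ?_
      simp only [Module.algebraMap_end_apply, smul_zero]
      exact hns.trans h0
    exact ⟨fun Q _ _ a b _ => Subsingleton.elim a b, inferInstance⟩
  obtain ⟨R₁, S₁, _, _, _, _, _, _, _, _, p₁, q₁, _, _, hR₁, hS₁, hq₁p₁, hgood⟩ :=
    exists_devissage N₁ p q (exists_mem_support_fibre p q hy)
  obtain ⟨hS₁et, hq₁q, -⟩ := id hS₁
  haveI := hS₁et
  haveI := hq₁q
  haveI := hq₁p₁
  haveI := hR₁.1
  haveI := hR₁.2.choose
  let G := S₁ ⊗[P] N₁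
  let GM := S₁ ⊗[P] M
  let fG : N₁ →ₗ[P] G := TensorProduct.mk P S₁ N₁ 1
  have hfG : IsBaseChange S₁ fG := TensorProduct.isBaseChange P N₁ S₁
  let fM : M →ₗ[P] GM := TensorProduct.mk P S₁ M 1
  have hfM : IsBaseChange S₁ fM := TensorProduct.isBaseChange P M S₁
  obtain ⟨k, hk⟩ := hgood G fG hfG
  let gS : G →ₗ[S₁] GM := (uP.comp f).baseChange S₁
  have hgS : ∀ n, gS (fG n) = fM (uP (f n)) := fun n => rfl
  have hq₁ : q₁.comap (algebraMap P S₁) = q := hq₁q.over.symm
  obtain ⟨L, _, _, _, _, _, _, _, lG, hlG⟩ := exists_loc A R₁ q₁.primeCompl G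
  obtain ⟨L', _, _, _, _, _, _, _, lM, hlM⟩ := exists_loc A R₁ q₁.primeCompl GM
  haveI := hlG
  haveI := hlM
  let vS : L →ₗ[S₁] L' := IsLocalizedModule.map q₁.primeCompl lG lM gS
  let v : L →ₗ[R₁] L' := vS.restrictScalars R₁
  have hvmap : ∀ x, vS (lG x) = lM (gS x) := fun x => IsLocalizedModule.map_apply q₁.primeCompl lG lM gS x
  have hloc : ∀ t : R₁, t ∉ p₁ → Function.Bijective fun m : L' => t • m := by
    intro t ht
    convert (Module.End.isUnit_iff _).1 (IsLocalizedModule.map_units lM
      (⟨algebraMap R₁ S₁ t, fun h => ht ((q₁.over_def p₁).ge h)⟩ : q₁.primeCompl)) using 1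
    funext m
    exact (algebraMap_smul S₁ t m).symm
  haveI hflatL'A : Module.Flat A L' := by
    suffices h : Module.Flat A (LocalizedModule q₁.primeCompl GM) by
      haveI := h
      exact Module.Flat.of_linearEquiv ((IsLocalizedModule.iso q₁.primeCompl lM).restrictScalars A).symm
    refine flatAt_up fM hfM q q₁ hq₁ ((H19.FlatLocus.flat_iff_killed q.primeCompl
      (LocalizedModule.mkLinearMap q.primeCompl M)).2 fun J ξ hξ => ⟨1, q.primeCompl.one_mem, ?_⟩)
    rw [one_smul]
    exact Module.Flat.lTensor_preserves_injective_linearMap _ J.injective_subtype (hξ.trans (map_zero _).symm)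
  haveI : Module.Flat R₁ L' := Algebra.FormallyUnramified.flat_of_restrictScalars A R₁ L'
  have hvκ : Function.Injective ((v.restrictScalars A).rTensor p.ResidueField) := by
    show Function.Injective ((vS.restrictScalars A).rTensor p.ResidueField)
    exact injective_up (L := L) (L' := L') q q₁ hq₁ f uP fG hfG fM hfM gS hgS lG lM vS hvmap p.ResidueField hu
  obtain ⟨hui, hflatL⟩ := ui_good k R₁ S₁ G p₁ q₁ hk L lG L' hloc v
    (residue_transfer p p₁ hR₁ hloc v hvκ)
  haveI := hflatL
  haveI hflatLA : Module.Flat A L := Module.Flat.trans A R₁ L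
  have hflat : Module.Flat A N := by
    haveI hL : Module.Flat A (LocalizedModule q₁.primeCompl G) :=
      Module.Flat.of_linearEquiv ((IsLocalizedModule.iso q₁.primeCompl lG).restrictScalars A)
    haveI := flatAt_down fG hfG q q₁ hq₁ hL
    exact Module.Flat.of_linearEquiv ((IsLocalizedModule.iso q.primeCompl f).restrictScalars A).symm
  refine ⟨fun Q _ _ => ?_, hflat⟩
  -- universal injectivity over the base
  have huiA : Function.Injective ((v.restrictScalars A).rTensor Q) := by
    let eL := TensorProduct.AlgebraTensorModule.cancelBaseChange A R₁ R₁ L Q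
    let eM := TensorProduct.AlgebraTensorModule.cancelBaseChange A R₁ R₁ L' Q
    have hc : ∀ z, (v.restrictScalars A).rTensor Q (eL z) = eM (v.rTensor (R₁ ⊗[A] Q) z) := by
      intro z
      induction z using TensorProduct.induction_on with
      | zero => simp
      | add a b ha hb => simp only [map_add, ha, hb]
      | tmul l y =>
        induction y using TensorProduct.induction_on with
        | zero => simp
        | add a b ha hb => simp only [TensorProduct.tmul_add, map_add, ha, hb]
        | tmul r x => simp [eL, eM]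
    intro a b hab
    obtain ⟨a', rfl⟩ := eL.surjective a
    obtain ⟨b', rfl⟩ := eL.surjective b
    rw [hc, hc] at hab
    rw [hui (R₁ ⊗[A] Q) (eM.injective hab)]
  exact injective_down q q₁ hq₁ f uP fG hfG fM hfM gS hgS lG lM vS hvmap Q huiA

end Groth.Agent.Lib.RG.UIMain
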