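import Groth.Agent.Lib.RG.GoodPull
import Groth.Agent.S4848
import Groth.Agent.S0405
import Mathlib.RingTheory.TensorProduct.MvPolynomial
import Mathlib.RingTheory.TensorProduct.IsBaseChangePi
import Mathlib.RingTheory.Flat.TorsionFree
import Mathlib.RingTheory.Valuation.ValuationRing

/-!
# Flattening a finite module along a valuation ring, at a finite stage
-/

set_option autoImplicit false
set_option linter.style.haveILetI false

universe u

open scoped TensorProduct

attribute [local instance] MvPolynomial.algebraMvPolynomial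

namespace Groth.Agent.Lib.RG.ValFlat

variable {n k : ℕ}

/-- Tuples of polynomials. -/
abbrev Vec (n k : ℕ) (T : Type u) [CommRing T] : Type u := Fin k → MvPolynomial (Fin n) T

/-- Change of coefficients of tuples of polynomials. -/
noncomputable def vmap {S T : Type u} [CommRing S] [CommRing T] (f : S →+* T) : Vec n k S →+ Vec n k T where
  toFun v i := MvPolynomial.map f (v i)
  map_zero' := funext fun i => map_zero _
  map_add' a b := funext fun i => map_add _ _ _

theorem vmap_smul {S T : Type u} [CommRing S] [CommRing T] (f : S →+* T) (q : MvPolynomial (Fin n) S) (v : Vec n k S) :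
    vmap f (q • v) = MvPolynomial.map f q • vmap f v :=
  funext fun i => map_mul (MvPolynomial.map f) _ _

theorem vmap_vmap {S T U : Type u} [CommRing S] [CommRing T] [CommRing U] (f : S →+* T) (g : T →+* U) (v : Vec n k S) :
    vmap g (vmap f v) = vmap (g.comp f) v :=
  funext fun i => MvPolynomial.map_map f g (v i)

theorem vmap_id {S : Type u} [CommRing S] (v : Vec n k S) : vmap (RingHom.id S) v = v :=
  funext fun i => MvPolynomial.map_id (v i)

theorem vmap_injective {S T : Type u} [CommRing S] [CommRing T] {f : S →+* T} (hf : Function.Injective f) :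
    Function.Injective (vmap (n := n) (k := k) f) :=
  fun a b h => funext fun i => MvPolynomial.map_injective f hf (congrFun h i)

/-- The submodule spanned after changing coefficients. -/
noncomputable def rspan {S T : Type u} [CommRing S] [CommRing T] (f : S →+* T) (Z : Set (Vec n k S)) :
    Submodule (MvPolynomial (Fin n) T) (Vec n k T) :=
  Submodule.span _ (vmap f '' Z)

theorem vmap_mem_rspan {S T U : Type u} [CommRing S] [CommRing T] [CommRing U] {f : S →+* T} (g : T →+* U)
    {Z : Set (Vec n k S)} {y : Vec n k T} (hy : y ∈ rspan f Z) : vmap g y ∈ rspan (g.comp f) Z := by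
  induction hy using Submodule.span_induction with
  | mem y hy =>
    obtain ⟨z, hz, rfl⟩ := hy
    rw [vmap_vmap]
    exact Submodule.subset_span ⟨z, hz, rfl⟩
  | zero => rw [map_zero]; exact zero_mem _
  | add a b _ _ ha hb => rw [map_add]; exact add_mem ha hb
  | smul q a _ ha => rw [vmap_smul]; exact Submodule.smul_mem _ _ ha

/-- Clearing denominators in polynomials. -/
theorem exists_den_poly {T L : Type u} [CommRing T] [CommRing L] (j : T →+* L) (P : Submonoid T)
    (hden : ∀ z : L, ∃ s ∈ P, ∃ t : T, j s * z = j t) (q : MvPolynomial (Fin n) L) :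
    ∃ s ∈ P, ∃ q' : MvPolynomial (Fin n) T, MvPolynomial.C (j s) * q = MvPolynomial.map j q' := by
  induction q using MvPolynomial.induction_on' with
  | monomial m z =>
    obtain ⟨s, hs, t, ht⟩ := hden z
    exact ⟨s, hs, MvPolynomial.monomial m t, by rw [MvPolynomial.C_mul_monomial, MvPolynomial.map_monomial, ht]⟩
  | add p q hp hq =>
    obtain ⟨s, hs, p', hp'⟩ := hp
    obtain ⟨s', hs', q', hq'⟩ := hq
    refine ⟨s * s', P.mul_mem hs hs', MvPolynomial.C s' * p' + MvPolynomial.C s * q', ?_⟩
    rw [map_add, map_mul (MvPolynomial.map j), map_mul (MvPolynomial.map j), MvPolynomial.map_C, MvPolynomial.map_C,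
      ← hp', ← hq', map_mul j, map_mul]
    ring

/-- Clearing denominators in tuples of polynomials. -/
theorem exists_den_vec {T L : Type u} [CommRing T] [CommRing L] (j : T →+* L) (P : Submonoid T)
    (hden : ∀ z : L, ∃ s ∈ P, ∃ t : T, j s * z = j t) (v : Vec n k L) :
    ∃ s ∈ P, ∃ v' : Vec n k T, (MvPolynomial.C (j s) : MvPolynomial (Fin n) L) • v = vmap j v' := by
  classical
  choose s hs q hq using fun i => exists_den_poly j P hden (v i)
  refine ⟨∏ i, s i, P.prod_mem fun i _ => hs i, fun i => MvPolynomial.C (∏ l ∈ Finset.univ.erase i, s l) * q i,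
    funext fun i => ?_⟩
  show MvPolynomial.C (j (∏ l, s l)) * v i = MvPolynomial.map j (_ * q i)
  rw [map_mul (MvPolynomial.map j), MvPolynomial.map_C, ← hq, ← Finset.prod_erase_mul _ _ (Finset.mem_univ i),
    map_mul j, map_mul, mul_assoc]

/-- Clearing denominators in a span. -/
theorem exists_den_span {S T L : Type u} [CommRing S] [CommRing T] [CommRing L] {f : S →+* T} (j : T →+* L)
    (P : Submonoid T) (hden : ∀ z : L, ∃ s ∈ P, ∃ t : T, j s * z = j t) {Z : Set (Vec n k S)} {y : Vec n k L}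
    (hy : y ∈ rspan (j.comp f) Z) :
    ∃ s ∈ P, ∃ y' ∈ rspan f Z, vmap j y' = (MvPolynomial.C (j s) : MvPolynomial (Fin n) L) • y := by
  induction hy using Submodule.span_induction with
  | mem y hy =>
    obtain ⟨z, hz, rfl⟩ := hy
    exact ⟨1, P.one_mem, vmap f z, Submodule.subset_span ⟨z, hz, rfl⟩, by rw [vmap_vmap, map_one, map_one, one_smul]⟩
  | zero => exact ⟨1, P.one_mem, 0, zero_mem _, by rw [map_zero, smul_zero]⟩
  | add a b _ _ ha hb =>
    obtain ⟨s, hs, a', ha', hae⟩ := ha
    obtain ⟨s', hs', b', hb', hbe⟩ := hb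
    refine ⟨s * s', P.mul_mem hs hs', MvPolynomial.C s' • a' + MvPolynomial.C s • b',
      add_mem (Submodule.smul_mem _ _ ha') (Submodule.smul_mem _ _ hb'), ?_⟩
    rw [map_add, vmap_smul, vmap_smul, MvPolynomial.map_C, MvPolynomial.map_C, hae, hbe, smul_smul, smul_smul, map_mul,
      map_mul, smul_add, mul_comm (MvPolynomial.C (j s'))]
  | smul q a _ ha =>
    obtain ⟨s, hs, a', ha', hae⟩ := ha
    obtain ⟨s', hs', q', hq'⟩ := exists_den_poly j P hden q
    refine ⟨s' * s, P.mul_mem hs' hs, q' • a', Submodule.smul_mem _ _ ha', ?_⟩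
    rw [vmap_smul, hae, ← hq', smul_smul, smul_smul, map_mul, map_mul]
    congr 1
    ring

/-- In a flat quotient membership can be tested over the fraction field. -/
theorem mem_rspan_of_flat {S T L : Type u} [CommRing S] [CommRing T] [IsDomain T] [Field L] {f : S →+* T}
    (j : T →+* L) (hj : Function.Injective j) (hden : ∀ z : L, ∃ s ∈ nonZeroDivisors T, ∃ t : T, j s * z = j t)
    {Z : Set (Vec n k S)} [Module.Flat T (Vec n k T ⧸ rspan f Z)] {v : Vec n k T}
    (hv : vmap j v ∈ rspan (j.comp f) Z) : v ∈ rspan f Z := by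
  obtain ⟨s, hs, y, hy, hye⟩ := exists_den_span j (nonZeroDivisors T) hden hv
  have h1 : y = MvPolynomial.C s • v := vmap_injective hj (by rw [hye, vmap_smul, MvPolynomial.map_C])
  have hr : IsSMulRegular (Vec n k T ⧸ rspan f Z) s := Module.Flat.isSMulRegular_of_nonZeroDivisors hs
  rw [← Submodule.Quotient.mk_eq_zero]
  refine hr (Eq.trans ?_ (smul_zero s).symm)
  show s • Submodule.Quotient.mk v = 0
  rw [← Submodule.Quotient.mk_smul, Submodule.Quotient.mk_eq_zero, ← MvPolynomial.algebraMap_eq] at *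
  rw [algebraMap_smul] at h1
  exact h1 ▸ hy

/-- The finitely presented quotient commutes with a change of coefficients. -/
theorem nonempty_baseChange {S T T' : Type u} [CommRing S] [CommRing T] [CommRing T'] [Algebra T T'] (f : S →+* T)
    {r : ℕ} (W : Fin r → Vec n k S) :
    Nonempty (T' ⊗[T] (Vec n k T ⧸ rspan f (Set.range W)) ≃ₗ[T']
      (Vec n k T' ⧸ rspan ((algebraMap T T').comp f) (Set.range W))) := by
  let B := MvPolynomial (Fin n) T
  let B' := MvPolynomial (Fin n) T'
  haveI : IsScalarTower T B B' := IsScalarTower.of_algebraMap_eq fun t => by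
    show MvPolynomial.C (algebraMap T T' t) = MvPolynomial.map (algebraMap T T') (MvPolynomial.C t)
    rw [MvPolynomial.map_C]
  let g : (Fin k → B) →ₗ[B] (Fin k → B') :=
    LinearMap.pi fun i : Fin k => (Algebra.linearMap B B').comp (LinearMap.proj i)
  have hg : IsBaseChange B' g := IsBaseChange.pi (fun _ : Fin k => Algebra.linearMap B B') fun _ => IsBaseChange.linearMap B B'
  let α : (Fin r → B) →ₗ[B] (Fin k → B) := Fintype.linearCombination B fun l => vmap f (W l)
  let α' : (Fin r → B') →ₗ[B'] (Fin k → B') :=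
    Fintype.linearCombination B' fun l => vmap ((algebraMap T T').comp f) (W l)
  have hα' : ∀ i, α' (Pi.single i 1) = g (α (Pi.single i 1)) := fun i => by
    rw [Fintype.linearCombination_apply_single, Fintype.linearCombination_apply_single, one_smul, one_smul, ← vmap_vmap]
    rfl
  obtain ⟨ec⟩ := GoodDev.nonempty_cokerEquiv g hg α α' hα'
  have h1 : LinearMap.range α = rspan f (Set.range W) := by
    rw [Fintype.range_linearCombination, rspan, ← Set.range_comp]
    rfl
  have h2 : LinearMap.range α' = rspan ((algebraMap T T').comp f) (Set.range W) := by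
    rw [Fintype.range_linearCombination, rspan, ← Set.range_comp]
    rfl
  rw [← h1, ← h2]
  exact ⟨(Algebra.IsPushout.cancelBaseChange T T' B B' ((Fin k → B) ⧸ LinearMap.range α)).symm.trans (ec.restrictScalars T')⟩

/-- Flatness of the finitely presented quotient persists. -/
theorem flat_up {S T T' : Type u} [CommRing S] [CommRing T] [CommRing T'] (g : T →+* T') (f : S →+* T)
    {r : ℕ} (W : Fin r → Vec n k S) (h : Module.Flat T (Vec n k T ⧸ rspan f (Set.range W))) :
    Module.Flat T' (Vec n k T' ⧸ rspan (g.comp f) (Set.range W)) := by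
  letI := g.toAlgebra
  obtain ⟨e⟩ := nonempty_baseChange (T' := T') f W
  haveI := h
  exact Module.Flat.of_linearEquiv e.symm

section Stage

variable {R K : Type u} [CommRing R] [Field K] [Algebra R K]

/-- Flatness over a subalgebra holds at a finitely generated stage. -/
theorem exists_stage {V T₀ : Subalgebra R K} (hT₀ : T₀.FG) (hle : T₀ ≤ V) {r : ℕ} (W : Fin r → Vec n k T₀)
    (hflat : Module.Flat V (Vec n k V ⧸ rspan (Subalgebra.inclusion hle).toRingHom (Set.range W))) :
    ∃ T : Subalgebra R K, T.FG ∧ T ≤ V ∧ ∃ h : T₀ ≤ T,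
      Module.Flat T (Vec n k T ⧸ rspan (Subalgebra.inclusion h).toRingHom (Set.range W)) := by
  let ι := {T : Subalgebra R K // T.FG ∧ T₀ ≤ T ∧ T ≤ V}
  let G : ι → Type u := fun i => ↥i.1
  letI : ∀ i, Algebra T₀ (G i) := fun i => (Subalgebra.inclusion i.2.2.1).toRingHom.toAlgebra
  letI : Algebra T₀ V := (Subalgebra.inclusion hle).toRingHom.toAlgebra
  letI : ∀ i, Algebra (G i) V := fun i => (Subalgebra.inclusion i.2.2.2).toRingHom.toAlgebra
  haveI : ∀ i, IsScalarTower T₀ (G i) V := fun i => IsScalarTower.of_algebraMap_eq fun _ => rfl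
  let g : ∀ i j : ι, i ≤ j → G i →ₐ[T₀] G j := fun i j h =>
    { (Subalgebra.inclusion (h : i.1 ≤ j.1)).toRingHom with commutes' := fun _ => rfl }
  have hcolim : _root_.FlatCA.IsDirectedColimitRing G (fun i j h => (g i j h).toRingHom) V := by
    refine ⟨⟨fun a b => ⟨⟨a.1 ⊔ b.1, a.2.1.sup b.2.1, a.2.2.1.trans le_sup_left, sup_le a.2.2.2 b.2.2.2⟩,
        (le_sup_left : a.1 ≤ a.1 ⊔ b.1), (le_sup_right : b.1 ≤ a.1 ⊔ b.1)⟩⟩, ⟨⟨T₀, hT₀, le_rfl, hle⟩⟩, fun i => rfl, fun _ _ _ _ _ => rfl, fun _ _ _ => rfl,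
      fun a => ?_, fun i x hx => ⟨i, le_rfl, ?_⟩⟩
    · refine ⟨⟨T₀ ⊔ Algebra.adjoin R {(a : K)}, hT₀.sup ⟨{(a : K)}, by rw [Finset.coe_singleton]⟩, le_sup_left,
      sup_le hle (Algebra.adjoin_le (Set.singleton_subset_iff.2 a.2))⟩,
      ⟨a, le_sup_right (a := T₀) (Algebra.self_mem_adjoin_singleton R (a : K))⟩, rfl⟩
    · have h0 : (x : K) = 0 := congrArg (fun z : V => (z : K)) hx
      exact Subtype.ext h0
  have hid : ∀ (T : Type u) [CommRing T] [Algebra T₀ T],
      (algebraMap T₀ T).comp (RingHom.id T₀) = algebraMap T₀ T := fun _ _ _ => RingHom.comp_id _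
  let M₀ := Vec n k T₀ ⧸ rspan (RingHom.id T₀) (Set.range W)
  haveI : Module.FinitePresentation (MvPolynomial (Fin n) T₀) M₀ :=
    Module.finitePresentation_of_surjective (rspan (RingHom.id T₀) (Set.range W)).mkQ (Submodule.mkQ_surjective _)
      (by rw [Submodule.ker_mkQ]; exact Submodule.fg_span ((Set.finite_range W).image _))
  obtain ⟨eV⟩ := nonempty_baseChange (T' := V) (RingHom.id T₀) W
  rw [hid] at eV
  haveI : Module.Flat V (V ⊗[T₀] M₀) := by
    haveI := hflat
    exact Module.Flat.of_linearEquiv eV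
  obtain ⟨i, hi⟩ := (S4848.result G g V hcolim (B₀ := MvPolynomial (Fin n) T₀) M₀).1 inferInstance
  refine ⟨i.1, i.2.1, i.2.2.2, i.2.2.1, ?_⟩
  obtain ⟨ei⟩ := nonempty_baseChange (T' := G i) (RingHom.id T₀) W
  rw [hid] at ei
  haveI := hi
  exact Module.Flat.of_linearEquiv ei.symm

end Stage

theorem exists_lift_vec {R K : Type u} [CommRing R] [Field K] [Algebra R K] (T : Subalgebra R K)
    (v : Vec n k K) (h : ∀ i m, MvPolynomial.coeff m (v i) ∈ T) : ∃ v' : Vec n k T, vmap T.val.toRingHom v' = v := by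
  classical
  refine ⟨fun i => ∑ m ∈ (v i).support, MvPolynomial.monomial m ⟨_, h i m⟩, funext fun i => ?_⟩
  show MvPolynomial.map _ (∑ m ∈ (v i).support, _) = v i
  rw [map_sum]
  simp only [MvPolynomial.map_monomial]
  exact (MvPolynomial.as_sum (v i)).symm

section Module

variable {R K : Type u} [CommRing R] [IsDomain R] [Field K] [Algebra R K] [IsFractionRing R K]
  {N : Type u} [AddCommGroup N] [mP : Module (MvPolynomial (Fin n) R) N] [Module R N]
  [tP : IsScalarTower R (MvPolynomial (Fin n) R) N] [fP : Module.Finite (MvPolynomial (Fin n) R) N]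

omit [IsDomain R] in
theorem den_frac (z : K) : ∃ s ∈ nonZeroDivisors R, ∃ t : R, algebraMap R K s * z = algebraMap R K t := by
  obtain ⟨⟨t, s⟩, hst⟩ := IsLocalization.surj (nonZeroDivisors R) z
  exact ⟨s, s.2, t, by rw [mul_comm]; exact hst⟩

theorem den_sub (T : Subalgebra R K) (z : K) :
    ∃ s ∈ nonZeroDivisors T, ∃ t : T, T.val.toRingHom s * z = T.val.toRingHom t := by
  obtain ⟨s, hs, t, hst⟩ := den_frac (R := R) z
  refine ⟨algebraMap R T s, mem_nonZeroDivisors_of_ne_zero fun h => nonZeroDivisors.ne_zero hs ?_, algebraMap R T t, hst⟩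
  exact IsFractionRing.injective R K ((congrArg Subtype.val h).trans (map_zero _).symm)

variable (K) in
include K in
/-- Some element makes a finite module torsion free. -/
theorem exists_torsion_bound {k : ℕ} (x : Fin k → N) (hx : Submodule.span (MvPolynomial (Fin n) R) (Set.range x) = ⊤) :
    ∃ a : R, a ≠ 0 ∧ ∀ (y : N) (s : R), s ≠ 0 → s • y = 0 → ∃ m : ℕ, a ^ m • y = 0 := by
  classical
  let π := Fintype.linearCombination (MvPolynomial (Fin n) R) x
  let rel : Set (Vec n k R) := {v | π v = 0}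
  obtain ⟨Z, hZ, hZspan⟩ : ∃ Z : Finset (Vec n k R), (∀ z ∈ Z, π z = 0) ∧
      rspan (algebraMap R K) rel ≤ rspan (algebraMap R K) (Z : Set (Vec n k R)) := by
    obtain ⟨G, hG⟩ := IsNoetherian.noetherian (rspan (algebraMap R K) rel)
    have : ∀ g : G, ∃ Z : Finset (Vec n k R), (∀ z ∈ Z, π z = 0) ∧
        (g : Vec n k K) ∈ rspan (algebraMap R K) (Z : Set (Vec n k R)) := fun g => by
      obtain ⟨Z', hZ', hg⟩ := Submodule.mem_span_finite_of_mem_span (hG.le (Submodule.subset_span g.2))
      choose f hf hf' using fun z : Z' => hZ' z.2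
      refine ⟨Finset.univ.image f, fun z hz => ?_, Submodule.span_mono ?_ hg⟩
      · obtain ⟨y, -, rfl⟩ := Finset.mem_image.1 hz
        exact hf y
      · intro z hz
        exact ⟨f ⟨z, hz⟩, Finset.mem_coe.2 (Finset.mem_image_of_mem _ (Finset.mem_univ _)), hf' ⟨z, hz⟩⟩
    choose Z hZ hZg using this
    refine ⟨Finset.univ.biUnion Z, fun z hz => ?_, ?_⟩
    · obtain ⟨g, -, hzg⟩ := Finset.mem_biUnion.1 hz
      exact hZ g z hzg
    · refine hG.ge.trans (Submodule.span_le.2 fun g hg => ?_)
      have hsub : ((Z ⟨g, hg⟩ : Finset (Vec n k R)) : Set (Vec n k R)) ⊆ ↑(Finset.univ.biUnion Z) :=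
        Finset.coe_subset.2 (Finset.subset_biUnion_of_mem Z (Finset.mem_univ _))
      exact Submodule.span_mono (Set.image_mono hsub) (hZg ⟨g, hg⟩)
  let o : R →+* (⊥ : Subalgebra R K) := algebraMap R _
  let W : Fin Z.card → Vec n k (⊥ : Subalgebra R K) := fun l => vmap o (Z.equivFin.symm l : Vec n k R)
  have hZW : ∀ {L : Type u} [CommRing L] (f : (⊥ : Subalgebra R K) →+* L),
      rspan f (Set.range W) = rspan (f.comp o) (Z : Set (Vec n k R)) := fun f => by
    rw [rspan, rspan]
    congr 1
    ext y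
    constructor
    · rintro ⟨_, ⟨l, rfl⟩, rfl⟩
      exact ⟨_, (Z.equivFin.symm l).2, (vmap_vmap o f _).symm⟩
    · rintro ⟨z, hz, rfl⟩
      exact ⟨_, ⟨Z.equivFin ⟨z, hz⟩, rfl⟩, by simp only [W, Equiv.symm_apply_apply, vmap_vmap]⟩
  haveI : Module.Flat (⊤ : Subalgebra R K) (Vec n k (⊤ : Subalgebra R K) ⧸
      rspan (Subalgebra.inclusion (bot_le : (⊥ : Subalgebra R K) ≤ ⊤)).toRingHom (Set.range W)) := by
    let g : K →+* (⊤ : Subalgebra R K) := (Subalgebra.topEquiv (R := R) (A := K)).symm.toAlgHom.toRingHom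
    have he : g.comp (⊥ : Subalgebra R K).val.toRingHom =
        (Subalgebra.inclusion (bot_le : (⊥ : Subalgebra R K) ≤ ⊤)).toRingHom := RingHom.ext fun _ => rfl
    rw [← he]
    exact flat_up g _ W inferInstance
  obtain ⟨T, hT, -, h, hflat⟩ := exists_stage Subalgebra.fg_bot (bot_le : (⊥ : Subalgebra R K) ≤ ⊤) W inferInstance
  obtain ⟨G, hG⟩ := hT
  choose s hs t hst using fun y : G => den_frac (R := R) (y : K)
  let a := ∏ y, s y
  have ha : a ≠ 0 := Finset.prod_ne_zero_iff.2 fun y _ => nonZeroDivisors.ne_zero (hs y)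
  refine ⟨a, ha, fun y c hc hy => ?_⟩
  let L := Localization.Away a
  have haK : IsUnit (algebraMap R K a) :=
    isUnit_iff_ne_zero.2 fun h => ha (IsFractionRing.injective R K (h.trans (map_zero _).symm))
  let ψ : L →ₐ[R] K := IsLocalization.liftAlgHom (M := Submonoid.powers a) (f := Algebra.ofId R K) fun x => by
    obtain ⟨_, m, rfl⟩ := x
    simpa using haK.pow m
  have hψ : ∀ r, ψ (algebraMap R L r) = algebraMap R K r := ψ.commutes
  have hinjR : Function.Injective (algebraMap R L) := fun r r' h =>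
    IsFractionRing.injective R K (by rw [← hψ, ← hψ, h])
  have hψi : Function.Injective ψ := by
    refine (injective_iff_map_eq_zero _).2 fun z hz => ?_
    obtain ⟨⟨r, m⟩, hrm⟩ := IsLocalization.surj (Submonoid.powers a) z
    have h0 : r = 0 := IsFractionRing.injective R K (by rw [← hψ, ← hrm, map_mul, hz, zero_mul, map_zero])
    rw [h0, map_zero] at hrm
    exact (IsLocalization.map_units L m).mul_left_eq_zero.1 hrm
  have hTψ : T ≤ ψ.range := by
    rw [← hG, Algebra.adjoin_le_iff]
    intro z hz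
    refine ⟨IsLocalization.mk' L (t ⟨z, hz⟩ * ∏ w ∈ Finset.univ.erase ⟨z, hz⟩, s w) (⟨a, Submonoid.mem_powers a⟩ : Submonoid.powers a), ?_⟩
    refine haK.mul_right_cancel ?_
    show ψ _ * _ = z * _
    rw [← hψ a, ← map_mul, IsLocalization.mk'_spec, hψ, hψ]
    simp only [a, ← Finset.prod_erase_mul _ _ (Finset.mem_univ (⟨z, hz⟩ : G)), map_mul, ← hst]
    ring
  let φ : T →+* L :=
    ((AlgEquiv.ofInjective ψ hψi).symm.toAlgHom.comp (Subalgebra.inclusion hTψ)).toRingHom
  haveI : IsDomain L := hψi.isDomain (ψ : L →+* K)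
  let fL := φ.comp (Subalgebra.inclusion h).toRingHom
  haveI := flat_up φ _ W hflat
  have hfo : fL.comp o = algebraMap R L := RingHom.ext fun r => hψi (by
    show ψ ((AlgEquiv.ofInjective ψ hψi).symm _) = ψ _
    rw [← AlgEquiv.ofInjective_apply ψ hψi, AlgEquiv.apply_symm_apply, hψ]
    rfl)
  have hden : ∀ z : K, ∃ c ∈ nonZeroDivisors L, ∃ d : L, ψ.toRingHom c * z = ψ.toRingHom d := fun z => by
    obtain ⟨c, hc, d, hcd⟩ := den_frac (R := R) z
    exact ⟨algebraMap R L c, mem_nonZeroDivisors_of_ne_zero fun h0 => nonZeroDivisors.ne_zero hc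
      (hinjR (h0.trans (map_zero _).symm)), algebraMap R L d, by
        show ψ _ * z = ψ _
        rw [hψ, hψ, hcd]⟩
  obtain ⟨v, rfl⟩ := (Submodule.mem_span_range_iff_exists_fun _).1 (hx ▸ Submodule.mem_top : y ∈ _)
  have hmem : vmap (algebraMap R K) v ∈ rspan (algebraMap R K) rel := by
    have h1 : vmap (algebraMap R K) ((MvPolynomial.C c : MvPolynomial (Fin n) R) • v) ∈ rspan (algebraMap R K) rel := by
      refine Submodule.subset_span ⟨_, ?_, rfl⟩
      show π ((MvPolynomial.C c : MvPolynomial (Fin n) R) • v) = 0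
      rw [map_smul, ← MvPolynomial.algebraMap_eq, algebraMap_smul]
      exact hy
    rw [vmap_smul, MvPolynomial.map_C] at h1
    have hu : IsUnit (MvPolynomial.C (σ := Fin n) (algebraMap R K c)) :=
      (isUnit_iff_ne_zero.2 fun h0 => hc (IsFractionRing.injective R K (h0.trans (map_zero _).symm))).map _
    exact (Submodule.smul_mem_iff_of_isUnit _ hu).1 h1
  have hv : vmap (algebraMap R L) v ∈ rspan (algebraMap R L) (Z : Set (Vec n k R)) := by
    rw [← hfo, ← hZW]
    refine mem_rspan_of_flat ψ.toRingHom hψi hden ?_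
    rw [hZW, vmap_vmap, RingHom.comp_assoc, hfo, show ψ.toRingHom.comp (algebraMap R L) = algebraMap R K from RingHom.ext hψ]
    exact hZspan hmem
  obtain ⟨p, hp, v', hv', he⟩ := exists_den_span (f := RingHom.id R) (algebraMap R L) (Submonoid.powers a) (fun z => by
    obtain ⟨⟨r, m⟩, hrm⟩ := IsLocalization.surj (Submonoid.powers a) z
    exact ⟨m, m.2, r, by rw [mul_comm]; exact hrm⟩) (Z := (Z : Set (Vec n k R))) (y := vmap (algebraMap R L) v)
    (by rw [RingHom.comp_id]; exact hv)
  obtain ⟨m, rfl⟩ := hp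
  refine ⟨m, ?_⟩
  have h1 : v' = MvPolynomial.C (a ^ m) • v := vmap_injective hinjR (by rw [he, vmap_smul, MvPolynomial.map_C])
  have h2 : π v' = 0 := by
    have : rspan (RingHom.id R) (Z : Set (Vec n k R)) ≤ LinearMap.ker π := by
      rw [rspan, Submodule.span_le]
      rintro _ ⟨z, hz, rfl⟩
      rw [vmap_id]
      exact hZ z hz
    exact this hv'
  rw [h1, map_smul, ← MvPolynomial.algebraMap_eq, algebraMap_smul] at h2
  exact h2

variable {A : Type u} [CommRing A] [IsDomain A] [ValuationRing A] [Algebra R A] [Algebra A K] [IsScalarTower R A K]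
  [IsFractionRing A K]

variable (K A) in
include mP tP fP in
set_option synthInstance.maxHeartbeats 400000 in
set_option maxHeartbeats 2000000 in
/-- The strict transform of a finite module becomes flat at some stage below the valuation ring. -/
theorem exists_flat_strict :
    ∃ a₀ : R, a₀ ≠ 0 ∧ ∃ T : Subalgebra R K, T.FG ∧ T ≤ (IsScalarTower.toAlgHom R A K).range ∧
      ∀ (a : R), a ≠ 0 → a₀ ∣ a → ∀ (R₁ : Type u) [CommRing R₁] [Algebra R R₁] (j : R₁ →ₐ[R] K),
        Function.Injective j → T ≤ j.range → ∀ (jL : R₁ →ₐ[R] Localization.Away a),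
        (∀ z : R₁, ∃ m : ℕ, ∃ r : R, algebraMap R R₁ (a ^ m) * z = algebraMap R R₁ r) →
        Module.Flat R₁ ((R₁ ⊗[R] N) ⧸ _root_.FlatCA.powTorsion R₁ (algebraMap R R₁ a) (R₁ ⊗[R] N)) := by
  classical
  obtain ⟨k, x, hx⟩ := Module.Finite.exists_fin (R := MvPolynomial (Fin n) R) (M := N)
  obtain ⟨a₀, ha₀, hbd⟩ := exists_torsion_bound K x hx
  let π := Fintype.linearCombination (MvPolynomial (Fin n) R) x
  let rel : Set (Vec n k R) := {v | π v = 0}
  let U := rspan (algebraMap R K) rel
  let V := (IsScalarTower.toAlgHom R A K).range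
  have hAV : Function.Injective (IsScalarTower.toAlgHom R A K) := IsFractionRing.injective A K
  let eV : A ≃ₐ[R] V := AlgEquiv.ofInjective _ hAV
  haveI : IsBezout V := Function.Surjective.isBezout eV.toRingEquiv.toRingHom eV.surjective
  let UV : Submodule (MvPolynomial (Fin n) V) (Vec n k V) :=
    { carrier := {v | vmap V.val.toRingHom v ∈ U}
      zero_mem' := by simp only [Set.mem_setOf_eq, map_zero]; exact zero_mem _
      add_mem' := fun {a b} ha hb => by simp only [Set.mem_setOf_eq, map_add] at *; exact add_mem ha hb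
      smul_mem' := fun q v hv => by simp only [Set.mem_setOf_eq, vmap_smul] at *; exact Submodule.smul_mem _ _ hv }
  haveI : Module.Flat V (Vec n k V ⧸ UV) := by
    rw [Module.Flat.flat_iff_torsion_eq_bot_of_isBezout, eq_bot_iff]
    intro q hq
    obtain ⟨⟨c, hc⟩, hcq⟩ := (Submodule.mem_torsion_iff q).1 hq
    obtain ⟨v, rfl⟩ := Submodule.Quotient.mk_surjective _ q
    rw [Submonoid.smul_def] at hcq
    rw [← Submodule.Quotient.mk_smul, Submodule.Quotient.mk_eq_zero] at hcq
    rw [Submodule.mem_bot, Submodule.Quotient.mk_eq_zero]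
    have hcq' : vmap V.val.toRingHom (c • v) ∈ U := hcq
    rw [← algebraMap_smul (MvPolynomial (Fin n) V) c v, MvPolynomial.algebraMap_eq, vmap_smul, MvPolynomial.map_C] at hcq'
    have hu : IsUnit (MvPolynomial.C (σ := Fin n) (V.val.toRingHom c)) :=
      (isUnit_iff_ne_zero.2 fun h0 => nonZeroDivisors.ne_zero hc (Subtype.ext h0)).map _
    exact (Submodule.smul_mem_iff_of_isUnit _ hu).1 hcq'
  haveI : Module.FinitePresentation (MvPolynomial (Fin n) V) (Vec n k V ⧸ UV) :=
    S0405.result (R := V) (S := MvPolynomial (Fin n) V)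
  have hUV : UV.FG := by
    have := Module.FinitePresentation.fg_ker UV.mkQ (Submodule.mkQ_surjective _)
    rwa [Submodule.ker_mkQ] at this
  obtain ⟨G, hG⟩ := hUV
  let coeffs : Finset K := G.biUnion fun v => Finset.univ.biUnion fun i => (v i).support.image fun m => ((MvPolynomial.coeff m (v i) : V) : K)
  let T₀ := Algebra.adjoin R (coeffs : Set K)
  have hT₀V : T₀ ≤ V := Algebra.adjoin_le fun z hz => by
    obtain ⟨v, -, hz⟩ := Finset.mem_biUnion.1 (Finset.mem_coe.1 hz)
    obtain ⟨i, -, hz⟩ := Finset.mem_biUnion.1 hz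
    obtain ⟨m, -, rfl⟩ := Finset.mem_image.1 hz
    exact SetLike.coe_mem _
  have hlift : ∀ v : G, ∃ v' : Vec n k T₀, vmap T₀.val.toRingHom v' = vmap V.val.toRingHom (v : Vec n k V) := fun v =>
    exists_lift_vec T₀ _ fun i m => by
      show MvPolynomial.coeff m (MvPolynomial.map V.val.toRingHom _) ∈ T₀
      rw [MvPolynomial.coeff_map]
      by_cases hm : m ∈ ((v : Vec n k V) i).support
      · exact Algebra.subset_adjoin (Finset.mem_coe.2 (Finset.mem_biUnion.2
          ⟨v, v.2, Finset.mem_biUnion.2 ⟨i, Finset.mem_univ i, Finset.mem_image_of_mem _ hm⟩⟩))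
      · rw [MvPolynomial.notMem_support_iff.1 hm, map_zero]
        exact zero_mem _
  choose lift hliftv using hlift
  let W : Fin G.card → Vec n k T₀ := fun l => lift (G.equivFin.symm l)
  let i₀ := (Subalgebra.inclusion hT₀V).toRingHom
  have hWG : vmap i₀ '' Set.range W = (G : Set (Vec n k V)) := by
    have h1 : ∀ v : G, vmap i₀ (lift v) = v := fun v => vmap_injective (f := V.val.toRingHom) Subtype.val_injective (by
      rw [vmap_vmap]
      exact (congrArg (fun f => vmap f (lift v)) (RingHom.ext fun _ => rfl)).trans (hliftv v))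
    ext y
    constructor
    · rintro ⟨_, ⟨l, rfl⟩, rfl⟩
      rw [h1]
      exact (G.equivFin.symm l).2
    · intro hy
      exact ⟨_, ⟨G.equivFin ⟨y, hy⟩, rfl⟩, by simp only [W, Equiv.symm_apply_apply, h1]⟩
  have hspan : rspan i₀ (Set.range W) = UV := by
    rw [rspan, hWG]
    exact hG
  obtain ⟨T, hT, hTV, h, hflat⟩ := exists_stage (Subalgebra.fg_adjoin_finset coeffs) hT₀V W (by rw [hspan]; infer_instance)
  refine ⟨a₀, ha₀, T, hT, hTV, fun a hz0 hdiv R₁ _ _ j hj hTj jL hden₁ => ?_⟩
  have hUW : U = rspan T₀.val.toRingHom (Set.range W) := by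
    refine le_antisymm (Submodule.span_le.2 ?_) (Submodule.span_le.2 ?_)
    · rintro _ ⟨z, hz, rfl⟩
      have h1 : vmap (algebraMap R V) z ∈ UV := by
        show vmap V.val.toRingHom (vmap (algebraMap R V) z) ∈ U
        rw [vmap_vmap]
        exact Submodule.subset_span ⟨z, hz, rfl⟩
      rw [← hspan] at h1
      have h2 := vmap_mem_rspan V.val.toRingHom h1
      rw [vmap_vmap] at h2
      exact h2
    · rintro _ ⟨w, hw, rfl⟩
      have h1 : vmap i₀ w ∈ UV := hspan.le (Submodule.subset_span ⟨w, hw, rfl⟩)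
      have h2 : vmap V.val.toRingHom (vmap i₀ w) ∈ U := h1
      rw [vmap_vmap] at h2
      exact h2
  haveI : IsDomain R₁ := hj.isDomain (j : R₁ →+* K)
  let φ : T →+* R₁ := ((AlgEquiv.ofInjective j hj).symm.toAlgHom.comp (Subalgebra.inclusion hTj)).toRingHom
  let f₁ := φ.comp (Subalgebra.inclusion h).toRingHom
  haveI := flat_up φ _ W hflat
  have hjf : j.toRingHom.comp f₁ = T₀.val.toRingHom := RingHom.ext fun z => by
    show j ((AlgEquiv.ofInjective j hj).symm _) = _
    rw [← AlgEquiv.ofInjective_apply j hj, AlgEquiv.apply_symm_apply]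
    rfl
  have hjK : ∀ r, j (algebraMap R R₁ r) = algebraMap R K r := j.commutes
  have hjc : j.toRingHom.comp (algebraMap R R₁) = algebraMap R K := RingHom.ext hjK
  have hden : ∀ z : K, ∃ c ∈ nonZeroDivisors R₁, ∃ d : R₁, j.toRingHom c * z = j.toRingHom d := fun z => by
    obtain ⟨c, hc, d, hcd⟩ := den_frac (R := R) z
    refine ⟨algebraMap R R₁ c, mem_nonZeroDivisors_of_ne_zero fun h0 => nonZeroDivisors.ne_zero hc
      (IsFractionRing.injective R K ?_), algebraMap R R₁ d, ?_⟩
    · rw [← hjK, h0, map_zero, map_zero]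
    · show j _ * z = j _
      rw [hjK, hjK, hcd]
  -- the presentation of the base change
  let b := MvPolynomial.basisMonomials (Fin n) R₁
  let cp : Fin k → (MvPolynomial (Fin n) R₁ →ₗ[R₁] R₁ ⊗[R] N) := fun i =>
    b.constr R₁ fun m => (1 : R₁) ⊗ₜ[R] (MvPolynomial.monomial m (1 : R) • x i)
  have hcp : ∀ i (p : MvPolynomial (Fin n) R), cp i (MvPolynomial.map (algebraMap R R₁) p) = (1 : R₁) ⊗ₜ[R] (p • x i) := by
    intro i p
    induction p using MvPolynomial.induction_on' with
    | monomial m c =>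
      have h1 : MvPolynomial.monomial m (algebraMap R R₁ c) = algebraMap R R₁ c • b m := by
        simp only [b, MvPolynomial.coe_basisMonomials, MvPolynomial.smul_monomial, smul_eq_mul, mul_one]
      rw [MvPolynomial.map_monomial, h1, map_smul, Module.Basis.constr_basis, algebraMap_smul,
        ← TensorProduct.tmul_smul, ← smul_assoc, MvPolynomial.smul_monomial, smul_eq_mul, mul_one]
    | add p q hp hq => rw [map_add, map_add, hp, hq, add_smul, TensorProduct.tmul_add]
  let Φ : Vec n k R₁ →ₗ[R₁] R₁ ⊗[R] N := ∑ i, (cp i).comp (LinearMap.proj i)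
  have hΦ : ∀ v : Vec n k R, Φ (vmap (algebraMap R R₁) v) = (1 : R₁) ⊗ₜ[R] π v := fun v => by
    simp only [Φ, LinearMap.sum_apply, LinearMap.comp_apply, LinearMap.proj_apply, π,
      Fintype.linearCombination_apply, TensorProduct.tmul_sum]
    exact Finset.sum_congr rfl fun i _ => hcp i (v i)
  let Tor := _root_.FlatCA.powTorsion R₁ (algebraMap R R₁ a) (R₁ ⊗[R] N)
  have hsurj : Function.Surjective (Tor.mkQ.comp Φ) := by
    refine (Submodule.mkQ_surjective _).comp fun z => ?_
    induction z with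
    | zero => exact ⟨0, map_zero _⟩
    | add p q hp hq =>
      obtain ⟨p', rfl⟩ := hp
      obtain ⟨q', rfl⟩ := hq
      exact ⟨p' + q', map_add _ _ _⟩
    | tmul c y =>
      obtain ⟨v, rfl⟩ := (Submodule.mem_span_range_iff_exists_fun _).1 (hx ▸ Submodule.mem_top : y ∈ _)
      refine ⟨c • vmap (algebraMap R R₁) v, ?_⟩
      rw [map_smul, hΦ, TensorProduct.smul_tmul', smul_eq_mul, mul_one]
      rfl
  have hmemTor : ∀ z, z ∈ Tor ↔ ∃ i : ℕ, algebraMap R R₁ a ^ i • z = 0 := fun z => by
    show z ∈ (⨆ i : ℕ, Submodule.torsionBy R₁ (R₁ ⊗[R] N) (algebraMap R R₁ a ^ i)) ↔ _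
    rw [Submodule.mem_iSup_of_directed _ (Monotone.directed_le fun m m' hmm z hz => by
      rw [Submodule.mem_torsionBy_iff] at hz ⊢
      rw [← Nat.sub_add_cancel hmm, pow_add, mul_smul, hz, smul_zero])]
    simp only [Submodule.mem_torsionBy_iff]
  have hTorR : ∀ v₀ : Vec n k R, (1 : R₁) ⊗ₜ[R] π v₀ ∈ Tor ↔ vmap (algebraMap R K) v₀ ∈ U := by
    intro v₀
    constructor
    · intro hz
      obtain ⟨i, hi⟩ := (hmemTor _).1 hz
      have h1 : (1 : R₁) ⊗ₜ[R] (a ^ i • π v₀) = 0 := by
        rw [TensorProduct.tmul_smul, ← algebraMap_smul R₁, map_pow]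
        exact hi
      have h2 := congrArg (TensorProduct.map jL.toLinearMap (LinearMap.id : N →ₗ[R] N)) h1
      rw [TensorProduct.map_tmul, map_zero, AlgHom.toLinearMap_apply, map_one, LinearMap.id_apply] at h2
      haveI : IsLocalizedModule (Submonoid.powers a) (TensorProduct.mk R (Localization.Away a) N 1) :=
        (isLocalizedModule_iff_isBaseChange (Submonoid.powers a) (Localization.Away a) _).2
          (TensorProduct.isBaseChange R N (Localization.Away a))
      obtain ⟨⟨_, l, rfl⟩, hl⟩ :=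
        (IsLocalizedModule.eq_zero_iff (Submonoid.powers a) (TensorProduct.mk R (Localization.Away a) N 1)).1 h2
      rw [Submonoid.smul_def] at hl
      have h3 : π ((MvPolynomial.C (a ^ l * a ^ i) : MvPolynomial (Fin n) R) • v₀) = 0 := by
        rw [map_smul, ← MvPolynomial.algebraMap_eq, algebraMap_smul, mul_smul]
        exact hl
      have h4 : vmap (algebraMap R K) ((MvPolynomial.C (a ^ l * a ^ i) : MvPolynomial (Fin n) R) • v₀) ∈ U := Submodule.subset_span ⟨_, h3, rfl⟩
      rw [vmap_smul, MvPolynomial.map_C] at h4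
      have hu : IsUnit (MvPolynomial.C (σ := Fin n) (algebraMap R K (a ^ l * a ^ i))) := by
        refine IsUnit.map _ (isUnit_iff_ne_zero.2 fun h0 => ?_)
        exact mul_ne_zero (pow_ne_zero l hz0) (pow_ne_zero i hz0) (IsFractionRing.injective R K (h0.trans (map_zero _).symm))
      exact (Submodule.smul_mem_iff_of_isUnit _ hu).1 h4
    · intro hv
      obtain ⟨c, hc, y, hy, hye⟩ := exists_den_span (f := RingHom.id R) (algebraMap R K) (nonZeroDivisors R)
        (den_frac (R := R)) (Z := rel) (y := vmap (algebraMap R K) v₀) (by rw [RingHom.comp_id]; exact hv)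
      have h1 : y = MvPolynomial.C c • v₀ :=
        vmap_injective (IsFractionRing.injective R K) (by rw [hye, vmap_smul, MvPolynomial.map_C])
      have h2 : π y = 0 := by
        have : rspan (RingHom.id R) rel ≤ LinearMap.ker π := by
          rw [rspan, Submodule.span_le]
          rintro _ ⟨z, hz, rfl⟩
          rw [vmap_id]
          exact hz
        exact this hy
      rw [h1, map_smul, ← MvPolynomial.algebraMap_eq, algebraMap_smul] at h2
      obtain ⟨m, hm⟩ := hbd _ c (nonZeroDivisors.ne_zero hc) h2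
      refine (hmemTor _).2 ⟨m, ?_⟩
      obtain ⟨d, rfl⟩ := hdiv
      rw [← map_pow, algebraMap_smul, ← TensorProduct.tmul_smul, mul_pow, mul_comm, mul_smul, hm, smul_zero,
        TensorProduct.tmul_zero]
  have hker : LinearMap.ker (Tor.mkQ.comp Φ) = (rspan f₁ (Set.range W)).restrictScalars R₁ := by
    ext v
    rw [LinearMap.mem_ker, LinearMap.comp_apply, Submodule.mkQ_apply, Submodule.Quotient.mk_eq_zero,
      Submodule.restrictScalars_mem]
    obtain ⟨p, hp, v₀, hv₀⟩ := exists_den_vec (algebraMap R R₁) (Submonoid.powers a) (fun z => by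
      obtain ⟨m, r, hr⟩ := hden₁ z
      exact ⟨a ^ m, ⟨m, rfl⟩, r, hr⟩) v
    obtain ⟨m, rfl⟩ := hp
    have h1 : Φ v ∈ Tor ↔ vmap (algebraMap R K) v₀ ∈ U := by
      rw [← hTorR, ← hΦ, ← hv₀, ← MvPolynomial.algebraMap_eq, algebraMap_smul, map_smul, map_pow]
      refine ⟨fun hz => Submodule.smul_mem _ _ hz, fun hz => ?_⟩
      obtain ⟨i, hi⟩ := (hmemTor _).1 hz
      exact (hmemTor _).2 ⟨i + m, by rw [pow_add, mul_smul]; exact hi⟩
    have h2 : vmap (algebraMap R K) v₀ ∈ U ↔ vmap j.toRingHom v ∈ U := by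
      have : vmap (algebraMap R K) v₀ = (MvPolynomial.C (algebraMap R K (a ^ m)) : MvPolynomial (Fin n) K) • vmap j.toRingHom v := by
        rw [← hjc, ← vmap_vmap, ← hv₀, vmap_smul, MvPolynomial.map_C]
        rfl
      rw [this]
      refine Submodule.smul_mem_iff_of_isUnit _ (IsUnit.map _ (isUnit_iff_ne_zero.2 fun h0 => ?_))
      exact pow_ne_zero m hz0 (IsFractionRing.injective R K (h0.trans (map_zero _).symm))
    rw [h1, h2, hUW, ← hjf]
    exact ⟨fun hv => mem_rspan_of_flat j.toRingHom hj hden hv, fun hv => vmap_mem_rspan _ hv⟩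
  let e := ((Submodule.quotEquivOfEq _ _ hker).symm.trans (LinearMap.quotKerEquivOfSurjective _ hsurj)).symm.trans
    (Submodule.Quotient.restrictScalarsEquiv R₁ (rspan f₁ (Set.range W)))
  exact Module.Flat.of_linearEquiv e

end Module

end Groth.Agent.Lib.RG.ValFlat
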